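import Cfsg.Agent.Lib.Helper28.S1683.Model

set_option autoImplicit false
set_option maxRecDepth 100000
set_option linter.all false

namespace Cfsg.Agent.Helper28.S1683

open Cfsg.Agent.Helper28
open Cfsg.Spor.He (Gen)

noncomputable section

abbrev cl_at : Gen × Bool := (Gen.a, true)
abbrev cl_af : Gen × Bool := (Gen.a, false)
abbrev cl_bt : Gen × Bool := (Gen.b, true)
abbrev cl_bf : Gen × Bool := (Gen.b, false)
abbrev cl_ct : Gen × Bool := (Gen.c, true)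
abbrev cl_cf : Gen × Bool := (Gen.c, false)
abbrev cl_dt : Gen × Bool := (Gen.d, true)
abbrev cl_df : Gen × Bool := (Gen.d, false)
abbrev cl_et : Gen × Bool := (Gen.e, true)
abbrev cl_ef : Gen × Bool := (Gen.e, false)
abbrev cl_ft : Gen × Bool := (Gen.f, true)
abbrev cl_ff : Gen × Bool := (Gen.f, false)
abbrev cl_gt : Gen × Bool := (Gen.g, true)
abbrev cl_gf : Gen × Bool := (Gen.g, false)
theorem relmem_0 : FreeGroup.mk relW_0 ∈ rels :=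
  Or.inl ⟨Gen.a, by decide, Gen.a, by decide, rfl⟩
theorem relone_0 : wG rels relW_0 = 1 := wG_one_of_mem rels _ relmem_0
theorem relmem_1 : FreeGroup.mk relW_1 ∈ rels :=
  Or.inl ⟨Gen.a, by decide, Gen.b, by decide, rfl⟩
theorem relone_1 : wG rels relW_1 = 1 := wG_one_of_mem rels _ relmem_1
theorem relmem_2 : FreeGroup.mk relW_2 ∈ rels :=
  Or.inl ⟨Gen.a, by decide, Gen.c, by decide, rfl⟩
theorem relone_2 : wG rels relW_2 = 1 := wG_one_of_mem rels _ relmem_2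
theorem relmem_3 : FreeGroup.mk relW_3 ∈ rels :=
  Or.inl ⟨Gen.a, by decide, Gen.d, by decide, rfl⟩
theorem relone_3 : wG rels relW_3 = 1 := wG_one_of_mem rels _ relmem_3
theorem relmem_4 : FreeGroup.mk relW_4 ∈ rels :=
  Or.inl ⟨Gen.a, by decide, Gen.e, by decide, rfl⟩
theorem relone_4 : wG rels relW_4 = 1 := wG_one_of_mem rels _ relmem_4
theorem relmem_5 : FreeGroup.mk relW_5 ∈ rels :=
  Or.inl ⟨Gen.a, by decide, Gen.f, by decide, rfl⟩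
theorem relone_5 : wG rels relW_5 = 1 := wG_one_of_mem rels _ relmem_5
theorem relmem_6 : FreeGroup.mk relW_6 ∈ rels :=
  Or.inl ⟨Gen.a, by decide, Gen.g, by decide, rfl⟩
theorem relone_6 : wG rels relW_6 = 1 := wG_one_of_mem rels _ relmem_6
theorem relmem_7 : FreeGroup.mk relW_7 ∈ rels :=
  Or.inl ⟨Gen.b, by decide, Gen.b, by decide, rfl⟩
theorem relone_7 : wG rels relW_7 = 1 := wG_one_of_mem rels _ relmem_7
theorem relmem_8 : FreeGroup.mk relW_8 ∈ rels :=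
  Or.inl ⟨Gen.b, by decide, Gen.c, by decide, rfl⟩
theorem relone_8 : wG rels relW_8 = 1 := wG_one_of_mem rels _ relmem_8
theorem relmem_9 : FreeGroup.mk relW_9 ∈ rels :=
  Or.inl ⟨Gen.b, by decide, Gen.d, by decide, rfl⟩
theorem relone_9 : wG rels relW_9 = 1 := wG_one_of_mem rels _ relmem_9
theorem relmem_10 : FreeGroup.mk relW_10 ∈ rels :=
  Or.inl ⟨Gen.b, by decide, Gen.e, by decide, rfl⟩
theorem relone_10 : wG rels relW_10 = 1 := wG_one_of_mem rels _ relmem_10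
theorem relmem_11 : FreeGroup.mk relW_11 ∈ rels :=
  Or.inl ⟨Gen.b, by decide, Gen.f, by decide, rfl⟩
theorem relone_11 : wG rels relW_11 = 1 := wG_one_of_mem rels _ relmem_11
theorem relmem_12 : FreeGroup.mk relW_12 ∈ rels :=
  Or.inl ⟨Gen.b, by decide, Gen.g, by decide, rfl⟩
theorem relone_12 : wG rels relW_12 = 1 := wG_one_of_mem rels _ relmem_12
theorem relmem_13 : FreeGroup.mk relW_13 ∈ rels :=
  Or.inl ⟨Gen.c, by decide, Gen.c, by decide, rfl⟩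
theorem relone_13 : wG rels relW_13 = 1 := wG_one_of_mem rels _ relmem_13
theorem relmem_14 : FreeGroup.mk relW_14 ∈ rels :=
  Or.inl ⟨Gen.c, by decide, Gen.d, by decide, rfl⟩
theorem relone_14 : wG rels relW_14 = 1 := wG_one_of_mem rels _ relmem_14
theorem relmem_15 : FreeGroup.mk relW_15 ∈ rels :=
  Or.inl ⟨Gen.c, by decide, Gen.e, by decide, rfl⟩
theorem relone_15 : wG rels relW_15 = 1 := wG_one_of_mem rels _ relmem_15
theorem relmem_16 : FreeGroup.mk relW_16 ∈ rels :=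
  Or.inl ⟨Gen.c, by decide, Gen.f, by decide, rfl⟩
theorem relone_16 : wG rels relW_16 = 1 := wG_one_of_mem rels _ relmem_16
theorem relmem_17 : FreeGroup.mk relW_17 ∈ rels :=
  Or.inl ⟨Gen.c, by decide, Gen.g, by decide, rfl⟩
theorem relone_17 : wG rels relW_17 = 1 := wG_one_of_mem rels _ relmem_17
theorem relmem_18 : FreeGroup.mk relW_18 ∈ rels :=
  Or.inl ⟨Gen.d, by decide, Gen.d, by decide, rfl⟩
theorem relone_18 : wG rels relW_18 = 1 := wG_one_of_mem rels _ relmem_18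
theorem relmem_19 : FreeGroup.mk relW_19 ∈ rels :=
  Or.inl ⟨Gen.d, by decide, Gen.e, by decide, rfl⟩
theorem relone_19 : wG rels relW_19 = 1 := wG_one_of_mem rels _ relmem_19
theorem relmem_20 : FreeGroup.mk relW_20 ∈ rels :=
  Or.inl ⟨Gen.d, by decide, Gen.f, by decide, rfl⟩
theorem relone_20 : wG rels relW_20 = 1 := wG_one_of_mem rels _ relmem_20
theorem relmem_21 : FreeGroup.mk relW_21 ∈ rels :=
  Or.inl ⟨Gen.d, by decide, Gen.g, by decide, rfl⟩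
theorem relone_21 : wG rels relW_21 = 1 := wG_one_of_mem rels _ relmem_21
theorem relmem_22 : FreeGroup.mk relW_22 ∈ rels :=
  Or.inl ⟨Gen.e, by decide, Gen.e, by decide, rfl⟩
theorem relone_22 : wG rels relW_22 = 1 := wG_one_of_mem rels _ relmem_22
theorem relmem_23 : FreeGroup.mk relW_23 ∈ rels :=
  Or.inl ⟨Gen.e, by decide, Gen.f, by decide, rfl⟩
theorem relone_23 : wG rels relW_23 = 1 := wG_one_of_mem rels _ relmem_23
theorem relmem_24 : FreeGroup.mk relW_24 ∈ rels :=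
  Or.inl ⟨Gen.e, by decide, Gen.g, by decide, rfl⟩
theorem relone_24 : wG rels relW_24 = 1 := wG_one_of_mem rels _ relmem_24
theorem relmem_25 : FreeGroup.mk relW_25 ∈ rels :=
  Or.inl ⟨Gen.f, by decide, Gen.f, by decide, rfl⟩
theorem relone_25 : wG rels relW_25 = 1 := wG_one_of_mem rels _ relmem_25
theorem relmem_26 : FreeGroup.mk relW_26 ∈ rels :=
  Or.inl ⟨Gen.f, by decide, Gen.g, by decide, rfl⟩
theorem relone_26 : wG rels relW_26 = 1 := wG_one_of_mem rels _ relmem_26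
theorem relmem_27 : FreeGroup.mk relW_27 ∈ rels :=
  Or.inl ⟨Gen.g, by decide, Gen.g, by decide, rfl⟩
theorem relone_27 : wG rels relW_27 = 1 := wG_one_of_mem rels _ relmem_27
theorem relmem_28 : FreeGroup.mk relW_28 ∈ rels :=
  Or.inr (show FreeGroup.mk relW_28 ∈ Cfsg.Spor.He.extra from List.Mem.head _)
theorem relone_28 : wG rels relW_28 = 1 := wG_one_of_mem rels _ relmem_28
theorem relmem_29 : FreeGroup.mk relW_29 ∈ rels :=
  Or.inr (show FreeGroup.mk relW_29 ∈ Cfsg.Spor.He.extra from List.Mem.tail _ (List.Mem.head _))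
theorem relone_29 : wG rels relW_29 = 1 := wG_one_of_mem rels _ relmem_29
theorem relmem_30 : FreeGroup.mk relW_30 ∈ rels :=
  Or.inr (show FreeGroup.mk relW_30 ∈ Cfsg.Spor.He.extra from List.Mem.tail _ (List.Mem.tail _ (List.Mem.head _)))
theorem relone_30 : wG rels relW_30 = 1 := wG_one_of_mem rels _ relmem_30
theorem relmem_31 : FreeGroup.mk relW_31 ∈ rels :=
  Or.inr (show FreeGroup.mk relW_31 ∈ Cfsg.Spor.He.extra from List.Mem.tail _ (List.Mem.tail _ (List.Mem.tail _ (List.Mem.head _))))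
theorem relone_31 : wG rels relW_31 = 1 := wG_one_of_mem rels _ relmem_31
theorem submem_0 : FreeGroup.mk subW_0 ∈ S := Set.mem_insert _ _
theorem subH_0 : wG rels subW_0 ∈ subH rels S := wG_mem_of_mem rels S _ submem_0
theorem submem_1 : FreeGroup.mk subW_1 ∈ S := Set.mem_insert_of_mem _ (Set.mem_insert _ _)
theorem subH_1 : wG rels subW_1 ∈ subH rels S := wG_mem_of_mem rels S _ submem_1
theorem submem_2 : FreeGroup.mk subW_2 ∈ S := Set.mem_insert_of_mem _ (Set.mem_insert_of_mem _ (Set.mem_insert _ _))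
theorem subH_2 : wG rels subW_2 ∈ subH rels S := wG_mem_of_mem rels S _ submem_2
theorem submem_3 : FreeGroup.mk subW_3 ∈ S := Set.mem_insert_of_mem _ (Set.mem_insert_of_mem _ (Set.mem_insert_of_mem _ (Set.mem_insert _ _)))
theorem subH_3 : wG rels subW_3 ∈ subH rels S := wG_mem_of_mem rels S _ submem_3
theorem submem_4 : FreeGroup.mk subW_4 ∈ S := Set.mem_insert_of_mem _ (Set.mem_insert_of_mem _ (Set.mem_insert_of_mem _ (Set.mem_insert_of_mem _ (Set.mem_insert _ _))))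
theorem subH_4 : wG rels subW_4 ∈ subH rels S := wG_mem_of_mem rels S _ submem_4
theorem submem_5 : FreeGroup.mk subW_5 ∈ S := Set.mem_insert_of_mem _ (Set.mem_insert_of_mem _ (Set.mem_insert_of_mem _ (Set.mem_insert_of_mem _ (Set.mem_insert_of_mem _ (Set.mem_insert _ _)))))
theorem subH_5 : wG rels subW_5 ∈ subH rels S := wG_mem_of_mem rels S _ submem_5
theorem submem_6 : FreeGroup.mk subW_6 ∈ S := Set.mem_insert_of_mem _ (Set.mem_insert_of_mem _ (Set.mem_insert_of_mem _ (Set.mem_insert_of_mem _ (Set.mem_insert_of_mem _ (Set.mem_insert_of_mem _ (Set.mem_singleton _))))))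
theorem subH_6 : wG rels subW_6 ∈ subH rels S := wG_mem_of_mem rels S _ submem_6
def rc_6_2 : Cert rels S Gen.a := Cert.rel true [cl_gt, cl_at, cl_gt]
  (wG_of_rotate rels relW_6 [cl_at, cl_gt, cl_at, cl_gt] 2 (by decide +kernel) relone_6)
def rc_2_2 : Cert rels S Gen.a := Cert.rel true [cl_ct, cl_at, cl_ct]
  (wG_of_rotate rels relW_2 [cl_at, cl_ct, cl_at, cl_ct] 2 (by decide +kernel) relone_2)
def rc_30_0 : Cert rels S Gen.a := Cert.rel true [cl_df, cl_cf, cl_df, cl_cf, cl_df, cl_cf, cl_df, cl_cf, cl_df, cl_cf]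
  (wG_of_rotate rels relW_30 [cl_at, cl_df, cl_cf, cl_df, cl_cf, cl_df, cl_cf, cl_df, cl_cf, cl_df, cl_cf] 0 (by decide +kernel) relone_30)
def rc_3_2 : Cert rels S Gen.a := Cert.rel true [cl_dt, cl_at, cl_dt]
  (wG_of_rotate rels relW_3 [cl_at, cl_dt, cl_at, cl_dt] 2 (by decide +kernel) relone_3)
def rc_4_2 : Cert rels S Gen.a := Cert.rel true [cl_et, cl_at, cl_et]
  (wG_of_rotate rels relW_4 [cl_at, cl_et, cl_at, cl_et] 2 (by decide +kernel) relone_4)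
def rc_5_2 : Cert rels S Gen.a := Cert.rel true [cl_ft, cl_at, cl_ft]
  (wG_of_rotate rels relW_5 [cl_at, cl_ft, cl_at, cl_ft] 2 (by decide +kernel) relone_5)
def rc_0_0 : Cert rels S Gen.a := Cert.rel true [cl_at]
  (wG_of_rotate rels relW_0 [cl_at, cl_at] 0 (by decide +kernel) relone_0)
def rc_29_6 : Cert rels S Gen.a := Cert.rel false [cl_cf, cl_bf, cl_af, cl_et, cl_cf, cl_bf, cl_af, cl_cf, cl_bf]
  (wG_of_rotate rels relW_29 [cl_af, cl_cf, cl_bf, cl_af, cl_et, cl_cf, cl_bf, cl_af, cl_cf, cl_bf] 6 (by decide +kernel) relone_29)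
def rc_29_3 : Cert rels S Gen.a := Cert.rel false [cl_cf, cl_bf, cl_af, cl_cf, cl_bf, cl_af, cl_et, cl_cf, cl_bf]
  (wG_of_rotate rels relW_29 [cl_af, cl_cf, cl_bf, cl_af, cl_cf, cl_bf, cl_af, cl_et, cl_cf, cl_bf] 3 (by decide +kernel) relone_29)
def rc_2_0 : Cert rels S Gen.a := Cert.rel true [cl_ct, cl_at, cl_ct]
  (wG_of_rotate rels relW_2 [cl_at, cl_ct, cl_at, cl_ct] 0 (by decide +kernel) relone_2)
def rc_29_9 : Cert rels S Gen.a := Cert.rel false [cl_et, cl_cf, cl_bf, cl_af, cl_cf, cl_bf, cl_af, cl_cf, cl_bf]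
  (wG_of_rotate rels relW_29 [cl_af, cl_et, cl_cf, cl_bf, cl_af, cl_cf, cl_bf, cl_af, cl_cf, cl_bf] 9 (by decide +kernel) relone_29)
def rc_1_2 : Cert rels S Gen.a := Cert.rel true [cl_bt, cl_at, cl_bt, cl_at, cl_bt, cl_at, cl_bt]
  (wG_of_rotate rels relW_1 [cl_at, cl_bt, cl_at, cl_bt, cl_at, cl_bt, cl_at, cl_bt] 2 (by decide +kernel) relone_1)
def rc_0_1 : Cert rels S Gen.a := Cert.rel true [cl_at]
  (wG_of_rotate rels relW_0 [cl_at, cl_at] 1 (by decide +kernel) relone_0)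
def rc_4_0 : Cert rels S Gen.a := Cert.rel true [cl_et, cl_at, cl_et]
  (wG_of_rotate rels relW_4 [cl_at, cl_et, cl_at, cl_et] 0 (by decide +kernel) relone_4)
def rc_1_4 : Cert rels S Gen.a := Cert.rel true [cl_bt, cl_at, cl_bt, cl_at, cl_bt, cl_at, cl_bt]
  (wG_of_rotate rels relW_1 [cl_at, cl_bt, cl_at, cl_bt, cl_at, cl_bt, cl_at, cl_bt] 4 (by decide +kernel) relone_1)
def rc_3_0 : Cert rels S Gen.a := Cert.rel true [cl_dt, cl_at, cl_dt]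
  (wG_of_rotate rels relW_3 [cl_at, cl_dt, cl_at, cl_dt] 0 (by decide +kernel) relone_3)
def rc_6_0 : Cert rels S Gen.a := Cert.rel true [cl_gt, cl_at, cl_gt]
  (wG_of_rotate rels relW_6 [cl_at, cl_gt, cl_at, cl_gt] 0 (by decide +kernel) relone_6)
def rc_1_6 : Cert rels S Gen.a := Cert.rel true [cl_bt, cl_at, cl_bt, cl_at, cl_bt, cl_at, cl_bt]
  (wG_of_rotate rels relW_1 [cl_at, cl_bt, cl_at, cl_bt, cl_at, cl_bt, cl_at, cl_bt] 6 (by decide +kernel) relone_1)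
def rc_1_0 : Cert rels S Gen.a := Cert.rel true [cl_bt, cl_at, cl_bt, cl_at, cl_bt, cl_at, cl_bt]
  (wG_of_rotate rels relW_1 [cl_at, cl_bt, cl_at, cl_bt, cl_at, cl_bt, cl_at, cl_bt] 0 (by decide +kernel) relone_1)
def rc_5_0 : Cert rels S Gen.a := Cert.rel true [cl_ft, cl_at, cl_ft]
  (wG_of_rotate rels relW_5 [cl_at, cl_ft, cl_at, cl_ft] 0 (by decide +kernel) relone_5)
def rc_7_0 : Cert rels S Gen.b := Cert.rel true [cl_bt]
  (wG_of_rotate rels relW_7 [cl_bt, cl_bt] 0 (by decide +kernel) relone_7)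
def rc_12_2 : Cert rels S Gen.b := Cert.rel true [cl_gt, cl_bt, cl_gt]
  (wG_of_rotate rels relW_12 [cl_bt, cl_gt, cl_bt, cl_gt] 2 (by decide +kernel) relone_12)
def rc_8_2 : Cert rels S Gen.b := Cert.rel true [cl_ct, cl_bt, cl_ct, cl_bt, cl_ct]
  (wG_of_rotate rels relW_8 [cl_bt, cl_ct, cl_bt, cl_ct, cl_bt, cl_ct] 2 (by decide +kernel) relone_8)
def rc_9_2 : Cert rels S Gen.b := Cert.rel true [cl_dt, cl_bt, cl_dt]
  (wG_of_rotate rels relW_9 [cl_bt, cl_dt, cl_bt, cl_dt] 2 (by decide +kernel) relone_9)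
def rc_10_2 : Cert rels S Gen.b := Cert.rel true [cl_et, cl_bt, cl_et]
  (wG_of_rotate rels relW_10 [cl_bt, cl_et, cl_bt, cl_et] 2 (by decide +kernel) relone_10)
def rc_11_2 : Cert rels S Gen.b := Cert.rel true [cl_ft, cl_bt, cl_ft]
  (wG_of_rotate rels relW_11 [cl_bt, cl_ft, cl_bt, cl_ft] 2 (by decide +kernel) relone_11)
def rc_29_2 : Cert rels S Gen.b := Cert.rel false [cl_af, cl_cf, cl_bf, cl_af, cl_cf, cl_bf, cl_af, cl_et, cl_cf]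
  (wG_of_rotate rels relW_29 [cl_bf, cl_af, cl_cf, cl_bf, cl_af, cl_cf, cl_bf, cl_af, cl_et, cl_cf] 2 (by decide +kernel) relone_29)
def rc_1_5 : Cert rels S Gen.b := Cert.rel true [cl_at, cl_bt, cl_at, cl_bt, cl_at, cl_bt, cl_at]
  (wG_of_rotate rels relW_1 [cl_bt, cl_at, cl_bt, cl_at, cl_bt, cl_at, cl_bt, cl_at] 5 (by decide +kernel) relone_1)
def rc_8_4 : Cert rels S Gen.b := Cert.rel true [cl_ct, cl_bt, cl_ct, cl_bt, cl_ct]
  (wG_of_rotate rels relW_8 [cl_bt, cl_ct, cl_bt, cl_ct, cl_bt, cl_ct] 4 (by decide +kernel) relone_8)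
def rc_8_0 : Cert rels S Gen.b := Cert.rel true [cl_ct, cl_bt, cl_ct, cl_bt, cl_ct]
  (wG_of_rotate rels relW_8 [cl_bt, cl_ct, cl_bt, cl_ct, cl_bt, cl_ct] 0 (by decide +kernel) relone_8)
def rc_10_0 : Cert rels S Gen.b := Cert.rel true [cl_et, cl_bt, cl_et]
  (wG_of_rotate rels relW_10 [cl_bt, cl_et, cl_bt, cl_et] 0 (by decide +kernel) relone_10)
def rc_1_3 : Cert rels S Gen.b := Cert.rel true [cl_at, cl_bt, cl_at, cl_bt, cl_at, cl_bt, cl_at]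
  (wG_of_rotate rels relW_1 [cl_bt, cl_at, cl_bt, cl_at, cl_bt, cl_at, cl_bt, cl_at] 3 (by decide +kernel) relone_1)
def rc_29_5 : Cert rels S Gen.b := Cert.rel false [cl_af, cl_cf, cl_bf, cl_af, cl_et, cl_cf, cl_bf, cl_af, cl_cf]
  (wG_of_rotate rels relW_29 [cl_bf, cl_af, cl_cf, cl_bf, cl_af, cl_et, cl_cf, cl_bf, cl_af, cl_cf] 5 (by decide +kernel) relone_29)
def rc_7_1 : Cert rels S Gen.b := Cert.rel true [cl_bt]
  (wG_of_rotate rels relW_7 [cl_bt, cl_bt] 1 (by decide +kernel) relone_7)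
def rc_12_0 : Cert rels S Gen.b := Cert.rel true [cl_gt, cl_bt, cl_gt]
  (wG_of_rotate rels relW_12 [cl_bt, cl_gt, cl_bt, cl_gt] 0 (by decide +kernel) relone_12)
def rc_29_8 : Cert rels S Gen.b := Cert.rel false [cl_af, cl_et, cl_cf, cl_bf, cl_af, cl_cf, cl_bf, cl_af, cl_cf]
  (wG_of_rotate rels relW_29 [cl_bf, cl_af, cl_et, cl_cf, cl_bf, cl_af, cl_cf, cl_bf, cl_af, cl_cf] 8 (by decide +kernel) relone_29)
def rc_9_0 : Cert rels S Gen.b := Cert.rel true [cl_dt, cl_bt, cl_dt]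
  (wG_of_rotate rels relW_9 [cl_bt, cl_dt, cl_bt, cl_dt] 0 (by decide +kernel) relone_9)
def rc_11_0 : Cert rels S Gen.b := Cert.rel true [cl_ft, cl_bt, cl_ft]
  (wG_of_rotate rels relW_11 [cl_bt, cl_ft, cl_bt, cl_ft] 0 (by decide +kernel) relone_11)
def rc_1_7 : Cert rels S Gen.b := Cert.rel true [cl_at, cl_bt, cl_at, cl_bt, cl_at, cl_bt, cl_at]
  (wG_of_rotate rels relW_1 [cl_bt, cl_at, cl_bt, cl_at, cl_bt, cl_at, cl_bt, cl_at] 7 (by decide +kernel) relone_1)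
def rc_1_1 : Cert rels S Gen.b := Cert.rel true [cl_at, cl_bt, cl_at, cl_bt, cl_at, cl_bt, cl_at]
  (wG_of_rotate rels relW_1 [cl_bt, cl_at, cl_bt, cl_at, cl_bt, cl_at, cl_bt, cl_at] 1 (by decide +kernel) relone_1)
def rc_17_2 : Cert rels S Gen.c := Cert.rel true [cl_gt, cl_ct, cl_gt]
  (wG_of_rotate rels relW_17 [cl_ct, cl_gt, cl_ct, cl_gt] 2 (by decide +kernel) relone_17)
def rc_13_0 : Cert rels S Gen.c := Cert.rel true [cl_ct]
  (wG_of_rotate rels relW_13 [cl_ct, cl_ct] 0 (by decide +kernel) relone_13)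
def rc_15_2 : Cert rels S Gen.c := Cert.rel true [cl_et, cl_ct, cl_et]
  (wG_of_rotate rels relW_15 [cl_ct, cl_et, cl_ct, cl_et] 2 (by decide +kernel) relone_15)
def rc_16_2 : Cert rels S Gen.c := Cert.rel true [cl_ft, cl_ct, cl_ft]
  (wG_of_rotate rels relW_16 [cl_ct, cl_ft, cl_ct, cl_ft] 2 (by decide +kernel) relone_16)
def rc_8_3 : Cert rels S Gen.c := Cert.rel true [cl_bt, cl_ct, cl_bt, cl_ct, cl_bt]
  (wG_of_rotate rels relW_8 [cl_ct, cl_bt, cl_ct, cl_bt, cl_ct, cl_bt] 3 (by decide +kernel) relone_8)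
def rc_30_6 : Cert rels S Gen.c := Cert.rel false [cl_df, cl_cf, cl_df, cl_cf, cl_at, cl_df, cl_cf, cl_df, cl_cf, cl_df]
  (wG_of_rotate rels relW_30 [cl_cf, cl_df, cl_cf, cl_df, cl_cf, cl_at, cl_df, cl_cf, cl_df, cl_cf, cl_df] 6 (by decide +kernel) relone_30)
def rc_30_4 : Cert rels S Gen.c := Cert.rel false [cl_df, cl_cf, cl_df, cl_cf, cl_df, cl_cf, cl_at, cl_df, cl_cf, cl_df]
  (wG_of_rotate rels relW_30 [cl_cf, cl_df, cl_cf, cl_df, cl_cf, cl_df, cl_cf, cl_at, cl_df, cl_cf, cl_df] 4 (by decide +kernel) relone_30)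
def rc_30_2 : Cert rels S Gen.c := Cert.rel false [cl_df, cl_cf, cl_df, cl_cf, cl_df, cl_cf, cl_df, cl_cf, cl_at, cl_df]
  (wG_of_rotate rels relW_30 [cl_cf, cl_df, cl_cf, cl_df, cl_cf, cl_df, cl_cf, cl_df, cl_cf, cl_at, cl_df] 2 (by decide +kernel) relone_30)
def rc_2_1 : Cert rels S Gen.c := Cert.rel true [cl_at, cl_ct, cl_at]
  (wG_of_rotate rels relW_2 [cl_ct, cl_at, cl_ct, cl_at] 1 (by decide +kernel) relone_2)
def rc_29_7 : Cert rels S Gen.c := Cert.rel false [cl_bf, cl_af, cl_et, cl_cf, cl_bf, cl_af, cl_cf, cl_bf, cl_af]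
  (wG_of_rotate rels relW_29 [cl_cf, cl_bf, cl_af, cl_et, cl_cf, cl_bf, cl_af, cl_cf, cl_bf, cl_af] 7 (by decide +kernel) relone_29)
def rc_31_8 : Cert rels S Gen.c := Cert.rel true [cl_dt, cl_ft, cl_gt, cl_ct, cl_dt, cl_ft, cl_gt, cl_ct, cl_dt, cl_ft, cl_gt, cl_ct, cl_dt, cl_ft, cl_gt]
  (wG_of_rotate rels relW_31 [cl_ct, cl_dt, cl_ft, cl_gt, cl_ct, cl_dt, cl_ft, cl_gt, cl_ct, cl_dt, cl_ft, cl_gt, cl_ct, cl_dt, cl_ft, cl_gt] 8 (by decide +kernel) relone_31)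
def rc_2_3 : Cert rels S Gen.c := Cert.rel true [cl_at, cl_ct, cl_at]
  (wG_of_rotate rels relW_2 [cl_ct, cl_at, cl_ct, cl_at] 3 (by decide +kernel) relone_2)
def rc_31_4 : Cert rels S Gen.c := Cert.rel true [cl_dt, cl_ft, cl_gt, cl_ct, cl_dt, cl_ft, cl_gt, cl_ct, cl_dt, cl_ft, cl_gt, cl_ct, cl_dt, cl_ft, cl_gt]
  (wG_of_rotate rels relW_31 [cl_ct, cl_dt, cl_ft, cl_gt, cl_ct, cl_dt, cl_ft, cl_gt, cl_ct, cl_dt, cl_ft, cl_gt, cl_ct, cl_dt, cl_ft, cl_gt] 4 (by decide +kernel) relone_31)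
def rc_29_1 : Cert rels S Gen.c := Cert.rel false [cl_bf, cl_af, cl_cf, cl_bf, cl_af, cl_cf, cl_bf, cl_af, cl_et]
  (wG_of_rotate rels relW_29 [cl_cf, cl_bf, cl_af, cl_cf, cl_bf, cl_af, cl_cf, cl_bf, cl_af, cl_et] 1 (by decide +kernel) relone_29)
def rc_8_5 : Cert rels S Gen.c := Cert.rel true [cl_bt, cl_ct, cl_bt, cl_ct, cl_bt]
  (wG_of_rotate rels relW_8 [cl_ct, cl_bt, cl_ct, cl_bt, cl_ct, cl_bt] 5 (by decide +kernel) relone_8)
def rc_30_8 : Cert rels S Gen.c := Cert.rel false [cl_df, cl_cf, cl_at, cl_df, cl_cf, cl_df, cl_cf, cl_df, cl_cf, cl_df]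
  (wG_of_rotate rels relW_30 [cl_cf, cl_df, cl_cf, cl_at, cl_df, cl_cf, cl_df, cl_cf, cl_df, cl_cf, cl_df] 8 (by decide +kernel) relone_30)
def rc_29_4 : Cert rels S Gen.c := Cert.rel false [cl_bf, cl_af, cl_cf, cl_bf, cl_af, cl_et, cl_cf, cl_bf, cl_af]
  (wG_of_rotate rels relW_29 [cl_cf, cl_bf, cl_af, cl_cf, cl_bf, cl_af, cl_et, cl_cf, cl_bf, cl_af] 4 (by decide +kernel) relone_29)
def rc_16_0 : Cert rels S Gen.c := Cert.rel true [cl_ft, cl_ct, cl_ft]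
  (wG_of_rotate rels relW_16 [cl_ct, cl_ft, cl_ct, cl_ft] 0 (by decide +kernel) relone_16)
def rc_31_12 : Cert rels S Gen.c := Cert.rel true [cl_dt, cl_ft, cl_gt, cl_ct, cl_dt, cl_ft, cl_gt, cl_ct, cl_dt, cl_ft, cl_gt, cl_ct, cl_dt, cl_ft, cl_gt]
  (wG_of_rotate rels relW_31 [cl_ct, cl_dt, cl_ft, cl_gt, cl_ct, cl_dt, cl_ft, cl_gt, cl_ct, cl_dt, cl_ft, cl_gt, cl_ct, cl_dt, cl_ft, cl_gt] 12 (by decide +kernel) relone_31)
def rc_15_0 : Cert rels S Gen.c := Cert.rel true [cl_et, cl_ct, cl_et]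
  (wG_of_rotate rels relW_15 [cl_ct, cl_et, cl_ct, cl_et] 0 (by decide +kernel) relone_15)
def rc_13_1 : Cert rels S Gen.c := Cert.rel true [cl_ct]
  (wG_of_rotate rels relW_13 [cl_ct, cl_ct] 1 (by decide +kernel) relone_13)
def rc_8_1 : Cert rels S Gen.c := Cert.rel true [cl_bt, cl_ct, cl_bt, cl_ct, cl_bt]
  (wG_of_rotate rels relW_8 [cl_ct, cl_bt, cl_ct, cl_bt, cl_ct, cl_bt] 1 (by decide +kernel) relone_8)
def rc_17_0 : Cert rels S Gen.c := Cert.rel true [cl_gt, cl_ct, cl_gt]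
  (wG_of_rotate rels relW_17 [cl_ct, cl_gt, cl_ct, cl_gt] 0 (by decide +kernel) relone_17)
def rc_31_0 : Cert rels S Gen.c := Cert.rel true [cl_dt, cl_ft, cl_gt, cl_ct, cl_dt, cl_ft, cl_gt, cl_ct, cl_dt, cl_ft, cl_gt, cl_ct, cl_dt, cl_ft, cl_gt]
  (wG_of_rotate rels relW_31 [cl_ct, cl_dt, cl_ft, cl_gt, cl_ct, cl_dt, cl_ft, cl_gt, cl_ct, cl_dt, cl_ft, cl_gt, cl_ct, cl_dt, cl_ft, cl_gt] 0 (by decide +kernel) relone_31)
def rc_30_10 : Cert rels S Gen.c := Cert.rel false [cl_at, cl_df, cl_cf, cl_df, cl_cf, cl_df, cl_cf, cl_df, cl_cf, cl_df]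
  (wG_of_rotate rels relW_30 [cl_cf, cl_at, cl_df, cl_cf, cl_df, cl_cf, cl_df, cl_cf, cl_df, cl_cf, cl_df] 10 (by decide +kernel) relone_30)
def rc_14_14 : Cert rels S Gen.c := Cert.rel true [cl_dt, cl_ct, cl_dt, cl_ct, cl_dt, cl_ct, cl_dt, cl_ct, cl_dt, cl_ct, cl_dt, cl_ct, cl_dt, cl_ct, cl_dt, cl_ct, cl_dt, cl_ct, cl_dt]
  (wG_of_rotate rels relW_14 [cl_ct, cl_dt, cl_ct, cl_dt, cl_ct, cl_dt, cl_ct, cl_dt, cl_ct, cl_dt, cl_ct, cl_dt, cl_ct, cl_dt, cl_ct, cl_dt, cl_ct, cl_dt, cl_ct, cl_dt] 14 (by decide +kernel) relone_14)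
def rc_14_6 : Cert rels S Gen.c := Cert.rel true [cl_dt, cl_ct, cl_dt, cl_ct, cl_dt, cl_ct, cl_dt, cl_ct, cl_dt, cl_ct, cl_dt, cl_ct, cl_dt, cl_ct, cl_dt, cl_ct, cl_dt, cl_ct, cl_dt]
  (wG_of_rotate rels relW_14 [cl_ct, cl_dt, cl_ct, cl_dt, cl_ct, cl_dt, cl_ct, cl_dt, cl_ct, cl_dt, cl_ct, cl_dt, cl_ct, cl_dt, cl_ct, cl_dt, cl_ct, cl_dt, cl_ct, cl_dt] 6 (by decide +kernel) relone_14)
def rc_9_1 : Cert rels S Gen.d := Cert.rel true [cl_bt, cl_dt, cl_bt]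
  (wG_of_rotate rels relW_9 [cl_dt, cl_bt, cl_dt, cl_bt] 1 (by decide +kernel) relone_9)
def rc_18_0 : Cert rels S Gen.d := Cert.rel true [cl_dt]
  (wG_of_rotate rels relW_18 [cl_dt, cl_dt] 0 (by decide +kernel) relone_18)
def rc_21_4 : Cert rels S Gen.d := Cert.rel true [cl_gt, cl_dt, cl_gt, cl_dt, cl_gt]
  (wG_of_rotate rels relW_21 [cl_dt, cl_gt, cl_dt, cl_gt, cl_dt, cl_gt] 4 (by decide +kernel) relone_21)
def rc_19_2 : Cert rels S Gen.d := Cert.rel true [cl_et, cl_dt, cl_et, cl_dt, cl_et]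
  (wG_of_rotate rels relW_19 [cl_dt, cl_et, cl_dt, cl_et, cl_dt, cl_et] 2 (by decide +kernel) relone_19)
def rc_20_2 : Cert rels S Gen.d := Cert.rel true [cl_ft, cl_dt, cl_ft, cl_dt, cl_ft]
  (wG_of_rotate rels relW_20 [cl_dt, cl_ft, cl_dt, cl_ft, cl_dt, cl_ft] 2 (by decide +kernel) relone_20)
def rc_31_9 : Cert rels S Gen.d := Cert.rel true [cl_ft, cl_gt, cl_ct, cl_dt, cl_ft, cl_gt, cl_ct, cl_dt, cl_ft, cl_gt, cl_ct, cl_dt, cl_ft, cl_gt, cl_ct]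
  (wG_of_rotate rels relW_31 [cl_dt, cl_ft, cl_gt, cl_ct, cl_dt, cl_ft, cl_gt, cl_ct, cl_dt, cl_ft, cl_gt, cl_ct, cl_dt, cl_ft, cl_gt, cl_ct] 9 (by decide +kernel) relone_31)
def rc_9_3 : Cert rels S Gen.d := Cert.rel true [cl_bt, cl_dt, cl_bt]
  (wG_of_rotate rels relW_9 [cl_dt, cl_bt, cl_dt, cl_bt] 3 (by decide +kernel) relone_9)
def rc_30_5 : Cert rels S Gen.d := Cert.rel false [cl_cf, cl_df, cl_cf, cl_df, cl_cf, cl_at, cl_df, cl_cf, cl_df, cl_cf]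
  (wG_of_rotate rels relW_30 [cl_df, cl_cf, cl_df, cl_cf, cl_df, cl_cf, cl_at, cl_df, cl_cf, cl_df, cl_cf] 5 (by decide +kernel) relone_30)
def rc_20_4 : Cert rels S Gen.d := Cert.rel true [cl_ft, cl_dt, cl_ft, cl_dt, cl_ft]
  (wG_of_rotate rels relW_20 [cl_dt, cl_ft, cl_dt, cl_ft, cl_dt, cl_ft] 4 (by decide +kernel) relone_20)
def rc_3_1 : Cert rels S Gen.d := Cert.rel true [cl_at, cl_dt, cl_at]
  (wG_of_rotate rels relW_3 [cl_dt, cl_at, cl_dt, cl_at] 1 (by decide +kernel) relone_3)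
def rc_19_0 : Cert rels S Gen.d := Cert.rel true [cl_et, cl_dt, cl_et, cl_dt, cl_et]
  (wG_of_rotate rels relW_19 [cl_dt, cl_et, cl_dt, cl_et, cl_dt, cl_et] 0 (by decide +kernel) relone_19)
def rc_21_2 : Cert rels S Gen.d := Cert.rel true [cl_gt, cl_dt, cl_gt, cl_dt, cl_gt]
  (wG_of_rotate rels relW_21 [cl_dt, cl_gt, cl_dt, cl_gt, cl_dt, cl_gt] 2 (by decide +kernel) relone_21)
def rc_30_3 : Cert rels S Gen.d := Cert.rel false [cl_cf, cl_df, cl_cf, cl_df, cl_cf, cl_df, cl_cf, cl_at, cl_df, cl_cf]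
  (wG_of_rotate rels relW_30 [cl_df, cl_cf, cl_df, cl_cf, cl_df, cl_cf, cl_df, cl_cf, cl_at, cl_df, cl_cf] 3 (by decide +kernel) relone_30)
def rc_19_4 : Cert rels S Gen.d := Cert.rel true [cl_et, cl_dt, cl_et, cl_dt, cl_et]
  (wG_of_rotate rels relW_19 [cl_dt, cl_et, cl_dt, cl_et, cl_dt, cl_et] 4 (by decide +kernel) relone_19)
def rc_30_9 : Cert rels S Gen.d := Cert.rel false [cl_cf, cl_at, cl_df, cl_cf, cl_df, cl_cf, cl_df, cl_cf, cl_df, cl_cf]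
  (wG_of_rotate rels relW_30 [cl_df, cl_cf, cl_at, cl_df, cl_cf, cl_df, cl_cf, cl_df, cl_cf, cl_df, cl_cf] 9 (by decide +kernel) relone_30)
def rc_3_3 : Cert rels S Gen.d := Cert.rel true [cl_at, cl_dt, cl_at]
  (wG_of_rotate rels relW_3 [cl_dt, cl_at, cl_dt, cl_at] 3 (by decide +kernel) relone_3)
def rc_31_5 : Cert rels S Gen.d := Cert.rel true [cl_ft, cl_gt, cl_ct, cl_dt, cl_ft, cl_gt, cl_ct, cl_dt, cl_ft, cl_gt, cl_ct, cl_dt, cl_ft, cl_gt, cl_ct]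
  (wG_of_rotate rels relW_31 [cl_dt, cl_ft, cl_gt, cl_ct, cl_dt, cl_ft, cl_gt, cl_ct, cl_dt, cl_ft, cl_gt, cl_ct, cl_dt, cl_ft, cl_gt, cl_ct] 5 (by decide +kernel) relone_31)
def rc_30_7 : Cert rels S Gen.d := Cert.rel false [cl_cf, cl_df, cl_cf, cl_at, cl_df, cl_cf, cl_df, cl_cf, cl_df, cl_cf]
  (wG_of_rotate rels relW_30 [cl_df, cl_cf, cl_df, cl_cf, cl_at, cl_df, cl_cf, cl_df, cl_cf, cl_df, cl_cf] 7 (by decide +kernel) relone_30)
def rc_18_1 : Cert rels S Gen.d := Cert.rel true [cl_dt]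
  (wG_of_rotate rels relW_18 [cl_dt, cl_dt] 1 (by decide +kernel) relone_18)
def rc_14_11 : Cert rels S Gen.d := Cert.rel true [cl_ct, cl_dt, cl_ct, cl_dt, cl_ct, cl_dt, cl_ct, cl_dt, cl_ct, cl_dt, cl_ct, cl_dt, cl_ct, cl_dt, cl_ct, cl_dt, cl_ct, cl_dt, cl_ct]
  (wG_of_rotate rels relW_14 [cl_dt, cl_ct, cl_dt, cl_ct, cl_dt, cl_ct, cl_dt, cl_ct, cl_dt, cl_ct, cl_dt, cl_ct, cl_dt, cl_ct, cl_dt, cl_ct, cl_dt, cl_ct, cl_dt, cl_ct] 11 (by decide +kernel) relone_14)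
def rc_14_3 : Cert rels S Gen.d := Cert.rel true [cl_ct, cl_dt, cl_ct, cl_dt, cl_ct, cl_dt, cl_ct, cl_dt, cl_ct, cl_dt, cl_ct, cl_dt, cl_ct, cl_dt, cl_ct, cl_dt, cl_ct, cl_dt, cl_ct]
  (wG_of_rotate rels relW_14 [cl_dt, cl_ct, cl_dt, cl_ct, cl_dt, cl_ct, cl_dt, cl_ct, cl_dt, cl_ct, cl_dt, cl_ct, cl_dt, cl_ct, cl_dt, cl_ct, cl_dt, cl_ct, cl_dt, cl_ct] 3 (by decide +kernel) relone_14)
def rc_21_0 : Cert rels S Gen.d := Cert.rel true [cl_gt, cl_dt, cl_gt, cl_dt, cl_gt]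
  (wG_of_rotate rels relW_21 [cl_dt, cl_gt, cl_dt, cl_gt, cl_dt, cl_gt] 0 (by decide +kernel) relone_21)
def rc_31_13 : Cert rels S Gen.d := Cert.rel true [cl_ft, cl_gt, cl_ct, cl_dt, cl_ft, cl_gt, cl_ct, cl_dt, cl_ft, cl_gt, cl_ct, cl_dt, cl_ft, cl_gt, cl_ct]
  (wG_of_rotate rels relW_31 [cl_dt, cl_ft, cl_gt, cl_ct, cl_dt, cl_ft, cl_gt, cl_ct, cl_dt, cl_ft, cl_gt, cl_ct, cl_dt, cl_ft, cl_gt, cl_ct] 13 (by decide +kernel) relone_31)
def rc_31_1 : Cert rels S Gen.d := Cert.rel true [cl_ft, cl_gt, cl_ct, cl_dt, cl_ft, cl_gt, cl_ct, cl_dt, cl_ft, cl_gt, cl_ct, cl_dt, cl_ft, cl_gt, cl_ct]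
  (wG_of_rotate rels relW_31 [cl_dt, cl_ft, cl_gt, cl_ct, cl_dt, cl_ft, cl_gt, cl_ct, cl_dt, cl_ft, cl_gt, cl_ct, cl_dt, cl_ft, cl_gt, cl_ct] 1 (by decide +kernel) relone_31)
def rc_14_15 : Cert rels S Gen.d := Cert.rel true [cl_ct, cl_dt, cl_ct, cl_dt, cl_ct, cl_dt, cl_ct, cl_dt, cl_ct, cl_dt, cl_ct, cl_dt, cl_ct, cl_dt, cl_ct, cl_dt, cl_ct, cl_dt, cl_ct]
  (wG_of_rotate rels relW_14 [cl_dt, cl_ct, cl_dt, cl_ct, cl_dt, cl_ct, cl_dt, cl_ct, cl_dt, cl_ct, cl_dt, cl_ct, cl_dt, cl_ct, cl_dt, cl_ct, cl_dt, cl_ct, cl_dt, cl_ct] 15 (by decide +kernel) relone_14)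
def rc_14_17 : Cert rels S Gen.d := Cert.rel true [cl_ct, cl_dt, cl_ct, cl_dt, cl_ct, cl_dt, cl_ct, cl_dt, cl_ct, cl_dt, cl_ct, cl_dt, cl_ct, cl_dt, cl_ct, cl_dt, cl_ct, cl_dt, cl_ct]
  (wG_of_rotate rels relW_14 [cl_dt, cl_ct, cl_dt, cl_ct, cl_dt, cl_ct, cl_dt, cl_ct, cl_dt, cl_ct, cl_dt, cl_ct, cl_dt, cl_ct, cl_dt, cl_ct, cl_dt, cl_ct, cl_dt, cl_ct] 17 (by decide +kernel) relone_14)
def rc_20_0 : Cert rels S Gen.d := Cert.rel true [cl_ft, cl_dt, cl_ft, cl_dt, cl_ft]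
  (wG_of_rotate rels relW_20 [cl_dt, cl_ft, cl_dt, cl_ft, cl_dt, cl_ft] 0 (by decide +kernel) relone_20)
def rc_30_1 : Cert rels S Gen.d := Cert.rel false [cl_cf, cl_df, cl_cf, cl_df, cl_cf, cl_df, cl_cf, cl_df, cl_cf, cl_at]
  (wG_of_rotate rels relW_30 [cl_df, cl_cf, cl_df, cl_cf, cl_df, cl_cf, cl_df, cl_cf, cl_df, cl_cf, cl_at] 1 (by decide +kernel) relone_30)
def rc_14_5 : Cert rels S Gen.d := Cert.rel true [cl_ct, cl_dt, cl_ct, cl_dt, cl_ct, cl_dt, cl_ct, cl_dt, cl_ct, cl_dt, cl_ct, cl_dt, cl_ct, cl_dt, cl_ct, cl_dt, cl_ct, cl_dt, cl_ct]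
  (wG_of_rotate rels relW_14 [cl_dt, cl_ct, cl_dt, cl_ct, cl_dt, cl_ct, cl_dt, cl_ct, cl_dt, cl_ct, cl_dt, cl_ct, cl_dt, cl_ct, cl_dt, cl_ct, cl_dt, cl_ct, cl_dt, cl_ct] 5 (by decide +kernel) relone_14)
def rc_14_7 : Cert rels S Gen.d := Cert.rel true [cl_ct, cl_dt, cl_ct, cl_dt, cl_ct, cl_dt, cl_ct, cl_dt, cl_ct, cl_dt, cl_ct, cl_dt, cl_ct, cl_dt, cl_ct, cl_dt, cl_ct, cl_dt, cl_ct]
  (wG_of_rotate rels relW_14 [cl_dt, cl_ct, cl_dt, cl_ct, cl_dt, cl_ct, cl_dt, cl_ct, cl_dt, cl_ct, cl_dt, cl_ct, cl_dt, cl_ct, cl_dt, cl_ct, cl_dt, cl_ct, cl_dt, cl_ct] 7 (by decide +kernel) relone_14)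
def rc_14_13 : Cert rels S Gen.d := Cert.rel true [cl_ct, cl_dt, cl_ct, cl_dt, cl_ct, cl_dt, cl_ct, cl_dt, cl_ct, cl_dt, cl_ct, cl_dt, cl_ct, cl_dt, cl_ct, cl_dt, cl_ct, cl_dt, cl_ct]
  (wG_of_rotate rels relW_14 [cl_dt, cl_ct, cl_dt, cl_ct, cl_dt, cl_ct, cl_dt, cl_ct, cl_dt, cl_ct, cl_dt, cl_ct, cl_dt, cl_ct, cl_dt, cl_ct, cl_dt, cl_ct, cl_dt, cl_ct] 13 (by decide +kernel) relone_14)
def rc_10_1 : Cert rels S Gen.e := Cert.rel true [cl_bt, cl_et, cl_bt]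
  (wG_of_rotate rels relW_10 [cl_et, cl_bt, cl_et, cl_bt] 1 (by decide +kernel) relone_10)
def rc_28_0 : Cert rels S Gen.e := Cert.rel true [cl_gf, cl_ff, cl_gf, cl_ff]
  (wG_of_rotate rels relW_28 [cl_et, cl_gf, cl_ff, cl_gf, cl_ff] 0 (by decide +kernel) relone_28)
def rc_15_1 : Cert rels S Gen.e := Cert.rel true [cl_ct, cl_et, cl_ct]
  (wG_of_rotate rels relW_15 [cl_et, cl_ct, cl_et, cl_ct] 1 (by decide +kernel) relone_15)
def rc_22_0 : Cert rels S Gen.e := Cert.rel true [cl_et]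
  (wG_of_rotate rels relW_22 [cl_et, cl_et] 0 (by decide +kernel) relone_22)
def rc_23_2 : Cert rels S Gen.e := Cert.rel true [cl_ft, cl_et, cl_ft]
  (wG_of_rotate rels relW_23 [cl_et, cl_ft, cl_et, cl_ft] 2 (by decide +kernel) relone_23)
def rc_29_0 : Cert rels S Gen.e := Cert.rel true [cl_cf, cl_bf, cl_af, cl_cf, cl_bf, cl_af, cl_cf, cl_bf, cl_af]
  (wG_of_rotate rels relW_29 [cl_et, cl_cf, cl_bf, cl_af, cl_cf, cl_bf, cl_af, cl_cf, cl_bf, cl_af] 0 (by decide +kernel) relone_29)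
def rc_19_3 : Cert rels S Gen.e := Cert.rel true [cl_dt, cl_et, cl_dt, cl_et, cl_dt]
  (wG_of_rotate rels relW_19 [cl_et, cl_dt, cl_et, cl_dt, cl_et, cl_dt] 3 (by decide +kernel) relone_19)
def rc_23_0 : Cert rels S Gen.e := Cert.rel true [cl_ft, cl_et, cl_ft]
  (wG_of_rotate rels relW_23 [cl_et, cl_ft, cl_et, cl_ft] 0 (by decide +kernel) relone_23)
def rc_24_2 : Cert rels S Gen.e := Cert.rel true [cl_gt, cl_et, cl_gt]
  (wG_of_rotate rels relW_24 [cl_et, cl_gt, cl_et, cl_gt] 2 (by decide +kernel) relone_24)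
def rc_10_3 : Cert rels S Gen.e := Cert.rel true [cl_bt, cl_et, cl_bt]
  (wG_of_rotate rels relW_10 [cl_et, cl_bt, cl_et, cl_bt] 3 (by decide +kernel) relone_10)
def rc_19_1 : Cert rels S Gen.e := Cert.rel true [cl_dt, cl_et, cl_dt, cl_et, cl_dt]
  (wG_of_rotate rels relW_19 [cl_et, cl_dt, cl_et, cl_dt, cl_et, cl_dt] 1 (by decide +kernel) relone_19)
def rc_15_3 : Cert rels S Gen.e := Cert.rel true [cl_ct, cl_et, cl_ct]
  (wG_of_rotate rels relW_15 [cl_et, cl_ct, cl_et, cl_ct] 3 (by decide +kernel) relone_15)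
def rc_4_1 : Cert rels S Gen.e := Cert.rel true [cl_at, cl_et, cl_at]
  (wG_of_rotate rels relW_4 [cl_et, cl_at, cl_et, cl_at] 1 (by decide +kernel) relone_4)
def rc_4_3 : Cert rels S Gen.e := Cert.rel true [cl_at, cl_et, cl_at]
  (wG_of_rotate rels relW_4 [cl_et, cl_at, cl_et, cl_at] 3 (by decide +kernel) relone_4)
def rc_24_0 : Cert rels S Gen.e := Cert.rel true [cl_gt, cl_et, cl_gt]
  (wG_of_rotate rels relW_24 [cl_et, cl_gt, cl_et, cl_gt] 0 (by decide +kernel) relone_24)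
def rc_19_5 : Cert rels S Gen.e := Cert.rel true [cl_dt, cl_et, cl_dt, cl_et, cl_dt]
  (wG_of_rotate rels relW_19 [cl_et, cl_dt, cl_et, cl_dt, cl_et, cl_dt] 5 (by decide +kernel) relone_19)
def rc_22_1 : Cert rels S Gen.e := Cert.rel true [cl_et]
  (wG_of_rotate rels relW_22 [cl_et, cl_et] 1 (by decide +kernel) relone_22)
def rc_11_1 : Cert rels S Gen.f := Cert.rel true [cl_bt, cl_ft, cl_bt]
  (wG_of_rotate rels relW_11 [cl_ft, cl_bt, cl_ft, cl_bt] 1 (by decide +kernel) relone_11)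
def rc_28_2 : Cert rels S Gen.f := Cert.rel false [cl_gf, cl_ff, cl_et, cl_gf]
  (wG_of_rotate rels relW_28 [cl_ff, cl_gf, cl_ff, cl_et, cl_gf] 2 (by decide +kernel) relone_28)
def rc_16_1 : Cert rels S Gen.f := Cert.rel true [cl_ct, cl_ft, cl_ct]
  (wG_of_rotate rels relW_16 [cl_ft, cl_ct, cl_ft, cl_ct] 1 (by decide +kernel) relone_16)
def rc_25_0 : Cert rels S Gen.f := Cert.rel true [cl_ft]
  (wG_of_rotate rels relW_25 [cl_ft, cl_ft] 0 (by decide +kernel) relone_25)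
def rc_11_3 : Cert rels S Gen.f := Cert.rel true [cl_bt, cl_ft, cl_bt]
  (wG_of_rotate rels relW_11 [cl_ft, cl_bt, cl_ft, cl_bt] 3 (by decide +kernel) relone_11)
def rc_23_3 : Cert rels S Gen.f := Cert.rel true [cl_et, cl_ft, cl_et]
  (wG_of_rotate rels relW_23 [cl_ft, cl_et, cl_ft, cl_et] 3 (by decide +kernel) relone_23)
def rc_20_3 : Cert rels S Gen.f := Cert.rel true [cl_dt, cl_ft, cl_dt, cl_ft, cl_dt]
  (wG_of_rotate rels relW_20 [cl_ft, cl_dt, cl_ft, cl_dt, cl_ft, cl_dt] 3 (by decide +kernel) relone_20)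
def rc_5_3 : Cert rels S Gen.f := Cert.rel true [cl_at, cl_ft, cl_at]
  (wG_of_rotate rels relW_5 [cl_ft, cl_at, cl_ft, cl_at] 3 (by decide +kernel) relone_5)
def rc_23_1 : Cert rels S Gen.f := Cert.rel true [cl_et, cl_ft, cl_et]
  (wG_of_rotate rels relW_23 [cl_ft, cl_et, cl_ft, cl_et] 1 (by decide +kernel) relone_23)
def rc_28_4 : Cert rels S Gen.f := Cert.rel false [cl_et, cl_gf, cl_ff, cl_gf]
  (wG_of_rotate rels relW_28 [cl_ff, cl_et, cl_gf, cl_ff, cl_gf] 4 (by decide +kernel) relone_28)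
def rc_31_2 : Cert rels S Gen.f := Cert.rel true [cl_gt, cl_ct, cl_dt, cl_ft, cl_gt, cl_ct, cl_dt, cl_ft, cl_gt, cl_ct, cl_dt, cl_ft, cl_gt, cl_ct, cl_dt]
  (wG_of_rotate rels relW_31 [cl_ft, cl_gt, cl_ct, cl_dt, cl_ft, cl_gt, cl_ct, cl_dt, cl_ft, cl_gt, cl_ct, cl_dt, cl_ft, cl_gt, cl_ct, cl_dt] 2 (by decide +kernel) relone_31)
def rc_26_6 : Cert rels S Gen.f := Cert.rel true [cl_gt, cl_ft, cl_gt, cl_ft, cl_gt, cl_ft, cl_gt]
  (wG_of_rotate rels relW_26 [cl_ft, cl_gt, cl_ft, cl_gt, cl_ft, cl_gt, cl_ft, cl_gt] 6 (by decide +kernel) relone_26)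
def rc_20_1 : Cert rels S Gen.f := Cert.rel true [cl_dt, cl_ft, cl_dt, cl_ft, cl_dt]
  (wG_of_rotate rels relW_20 [cl_ft, cl_dt, cl_ft, cl_dt, cl_ft, cl_dt] 1 (by decide +kernel) relone_20)
def rc_26_2 : Cert rels S Gen.f := Cert.rel true [cl_gt, cl_ft, cl_gt, cl_ft, cl_gt, cl_ft, cl_gt]
  (wG_of_rotate rels relW_26 [cl_ft, cl_gt, cl_ft, cl_gt, cl_ft, cl_gt, cl_ft, cl_gt] 2 (by decide +kernel) relone_26)
def rc_31_6 : Cert rels S Gen.f := Cert.rel true [cl_gt, cl_ct, cl_dt, cl_ft, cl_gt, cl_ct, cl_dt, cl_ft, cl_gt, cl_ct, cl_dt, cl_ft, cl_gt, cl_ct, cl_dt]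
  (wG_of_rotate rels relW_31 [cl_ft, cl_gt, cl_ct, cl_dt, cl_ft, cl_gt, cl_ct, cl_dt, cl_ft, cl_gt, cl_ct, cl_dt, cl_ft, cl_gt, cl_ct, cl_dt] 6 (by decide +kernel) relone_31)
def rc_31_10 : Cert rels S Gen.f := Cert.rel true [cl_gt, cl_ct, cl_dt, cl_ft, cl_gt, cl_ct, cl_dt, cl_ft, cl_gt, cl_ct, cl_dt, cl_ft, cl_gt, cl_ct, cl_dt]
  (wG_of_rotate rels relW_31 [cl_ft, cl_gt, cl_ct, cl_dt, cl_ft, cl_gt, cl_ct, cl_dt, cl_ft, cl_gt, cl_ct, cl_dt, cl_ft, cl_gt, cl_ct, cl_dt] 10 (by decide +kernel) relone_31)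
def rc_16_3 : Cert rels S Gen.f := Cert.rel true [cl_ct, cl_ft, cl_ct]
  (wG_of_rotate rels relW_16 [cl_ft, cl_ct, cl_ft, cl_ct] 3 (by decide +kernel) relone_16)
def rc_5_1 : Cert rels S Gen.f := Cert.rel true [cl_at, cl_ft, cl_at]
  (wG_of_rotate rels relW_5 [cl_ft, cl_at, cl_ft, cl_at] 1 (by decide +kernel) relone_5)
def rc_31_14 : Cert rels S Gen.f := Cert.rel true [cl_gt, cl_ct, cl_dt, cl_ft, cl_gt, cl_ct, cl_dt, cl_ft, cl_gt, cl_ct, cl_dt, cl_ft, cl_gt, cl_ct, cl_dt]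
  (wG_of_rotate rels relW_31 [cl_ft, cl_gt, cl_ct, cl_dt, cl_ft, cl_gt, cl_ct, cl_dt, cl_ft, cl_gt, cl_ct, cl_dt, cl_ft, cl_gt, cl_ct, cl_dt] 14 (by decide +kernel) relone_31)
def rc_26_4 : Cert rels S Gen.f := Cert.rel true [cl_gt, cl_ft, cl_gt, cl_ft, cl_gt, cl_ft, cl_gt]
  (wG_of_rotate rels relW_26 [cl_ft, cl_gt, cl_ft, cl_gt, cl_ft, cl_gt, cl_ft, cl_gt] 4 (by decide +kernel) relone_26)
def rc_26_0 : Cert rels S Gen.f := Cert.rel true [cl_gt, cl_ft, cl_gt, cl_ft, cl_gt, cl_ft, cl_gt]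
  (wG_of_rotate rels relW_26 [cl_ft, cl_gt, cl_ft, cl_gt, cl_ft, cl_gt, cl_ft, cl_gt] 0 (by decide +kernel) relone_26)
def rc_20_5 : Cert rels S Gen.f := Cert.rel true [cl_dt, cl_ft, cl_dt, cl_ft, cl_dt]
  (wG_of_rotate rels relW_20 [cl_ft, cl_dt, cl_ft, cl_dt, cl_ft, cl_dt] 5 (by decide +kernel) relone_20)
def rc_25_1 : Cert rels S Gen.f := Cert.rel true [cl_ft]
  (wG_of_rotate rels relW_25 [cl_ft, cl_ft] 1 (by decide +kernel) relone_25)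
def rc_27_0 : Cert rels S Gen.g := Cert.rel true [cl_gt]
  (wG_of_rotate rels relW_27 [cl_gt, cl_gt] 0 (by decide +kernel) relone_27)
def rc_21_3 : Cert rels S Gen.g := Cert.rel true [cl_dt, cl_gt, cl_dt, cl_gt, cl_dt]
  (wG_of_rotate rels relW_21 [cl_gt, cl_dt, cl_gt, cl_dt, cl_gt, cl_dt] 3 (by decide +kernel) relone_21)
def rc_31_15 : Cert rels S Gen.g := Cert.rel true [cl_ct, cl_dt, cl_ft, cl_gt, cl_ct, cl_dt, cl_ft, cl_gt, cl_ct, cl_dt, cl_ft, cl_gt, cl_ct, cl_dt, cl_ft]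
  (wG_of_rotate rels relW_31 [cl_gt, cl_ct, cl_dt, cl_ft, cl_gt, cl_ct, cl_dt, cl_ft, cl_gt, cl_ct, cl_dt, cl_ft, cl_gt, cl_ct, cl_dt, cl_ft] 15 (by decide +kernel) relone_31)
def rc_17_1 : Cert rels S Gen.g := Cert.rel true [cl_ct, cl_gt, cl_ct]
  (wG_of_rotate rels relW_17 [cl_gt, cl_ct, cl_gt, cl_ct] 1 (by decide +kernel) relone_17)
def rc_24_1 : Cert rels S Gen.g := Cert.rel true [cl_et, cl_gt, cl_et]
  (wG_of_rotate rels relW_24 [cl_gt, cl_et, cl_gt, cl_et] 1 (by decide +kernel) relone_24)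
def rc_28_3 : Cert rels S Gen.g := Cert.rel false [cl_ff, cl_et, cl_gf, cl_ff]
  (wG_of_rotate rels relW_28 [cl_gf, cl_ff, cl_et, cl_gf, cl_ff] 3 (by decide +kernel) relone_28)
def rc_21_5 : Cert rels S Gen.g := Cert.rel true [cl_dt, cl_gt, cl_dt, cl_gt, cl_dt]
  (wG_of_rotate rels relW_21 [cl_gt, cl_dt, cl_gt, cl_dt, cl_gt, cl_dt] 5 (by decide +kernel) relone_21)
def rc_17_3 : Cert rels S Gen.g := Cert.rel true [cl_ct, cl_gt, cl_ct]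
  (wG_of_rotate rels relW_17 [cl_gt, cl_ct, cl_gt, cl_ct] 3 (by decide +kernel) relone_17)
def rc_12_1 : Cert rels S Gen.g := Cert.rel true [cl_bt, cl_gt, cl_bt]
  (wG_of_rotate rels relW_12 [cl_gt, cl_bt, cl_gt, cl_bt] 1 (by decide +kernel) relone_12)
def rc_6_3 : Cert rels S Gen.g := Cert.rel true [cl_at, cl_gt, cl_at]
  (wG_of_rotate rels relW_6 [cl_gt, cl_at, cl_gt, cl_at] 3 (by decide +kernel) relone_6)
def rc_6_1 : Cert rels S Gen.g := Cert.rel true [cl_at, cl_gt, cl_at]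
  (wG_of_rotate rels relW_6 [cl_gt, cl_at, cl_gt, cl_at] 1 (by decide +kernel) relone_6)
def rc_12_3 : Cert rels S Gen.g := Cert.rel true [cl_bt, cl_gt, cl_bt]
  (wG_of_rotate rels relW_12 [cl_gt, cl_bt, cl_gt, cl_bt] 3 (by decide +kernel) relone_12)
def rc_31_3 : Cert rels S Gen.g := Cert.rel true [cl_ct, cl_dt, cl_ft, cl_gt, cl_ct, cl_dt, cl_ft, cl_gt, cl_ct, cl_dt, cl_ft, cl_gt, cl_ct, cl_dt, cl_ft]
  (wG_of_rotate rels relW_31 [cl_gt, cl_ct, cl_dt, cl_ft, cl_gt, cl_ct, cl_dt, cl_ft, cl_gt, cl_ct, cl_dt, cl_ft, cl_gt, cl_ct, cl_dt, cl_ft] 3 (by decide +kernel) relone_31)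
def rc_24_3 : Cert rels S Gen.g := Cert.rel true [cl_et, cl_gt, cl_et]
  (wG_of_rotate rels relW_24 [cl_gt, cl_et, cl_gt, cl_et] 3 (by decide +kernel) relone_24)
def rc_28_1 : Cert rels S Gen.g := Cert.rel false [cl_ff, cl_gf, cl_ff, cl_et]
  (wG_of_rotate rels relW_28 [cl_gf, cl_ff, cl_gf, cl_ff, cl_et] 1 (by decide +kernel) relone_28)
def rc_21_1 : Cert rels S Gen.g := Cert.rel true [cl_dt, cl_gt, cl_dt, cl_gt, cl_dt]
  (wG_of_rotate rels relW_21 [cl_gt, cl_dt, cl_gt, cl_dt, cl_gt, cl_dt] 1 (by decide +kernel) relone_21)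
def rc_26_7 : Cert rels S Gen.g := Cert.rel true [cl_ft, cl_gt, cl_ft, cl_gt, cl_ft, cl_gt, cl_ft]
  (wG_of_rotate rels relW_26 [cl_gt, cl_ft, cl_gt, cl_ft, cl_gt, cl_ft, cl_gt, cl_ft] 7 (by decide +kernel) relone_26)
def rc_26_3 : Cert rels S Gen.g := Cert.rel true [cl_ft, cl_gt, cl_ft, cl_gt, cl_ft, cl_gt, cl_ft]
  (wG_of_rotate rels relW_26 [cl_gt, cl_ft, cl_gt, cl_ft, cl_gt, cl_ft, cl_gt, cl_ft] 3 (by decide +kernel) relone_26)
def rc_31_7 : Cert rels S Gen.g := Cert.rel true [cl_ct, cl_dt, cl_ft, cl_gt, cl_ct, cl_dt, cl_ft, cl_gt, cl_ct, cl_dt, cl_ft, cl_gt, cl_ct, cl_dt, cl_ft]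
  (wG_of_rotate rels relW_31 [cl_gt, cl_ct, cl_dt, cl_ft, cl_gt, cl_ct, cl_dt, cl_ft, cl_gt, cl_ct, cl_dt, cl_ft, cl_gt, cl_ct, cl_dt, cl_ft] 7 (by decide +kernel) relone_31)
def rc_31_11 : Cert rels S Gen.g := Cert.rel true [cl_ct, cl_dt, cl_ft, cl_gt, cl_ct, cl_dt, cl_ft, cl_gt, cl_ct, cl_dt, cl_ft, cl_gt, cl_ct, cl_dt, cl_ft]
  (wG_of_rotate rels relW_31 [cl_gt, cl_ct, cl_dt, cl_ft, cl_gt, cl_ct, cl_dt, cl_ft, cl_gt, cl_ct, cl_dt, cl_ft, cl_gt, cl_ct, cl_dt, cl_ft] 11 (by decide +kernel) relone_31)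
def rc_27_1 : Cert rels S Gen.g := Cert.rel true [cl_gt]
  (wG_of_rotate rels relW_27 [cl_gt, cl_gt] 1 (by decide +kernel) relone_27)
def rc_26_1 : Cert rels S Gen.g := Cert.rel true [cl_ft, cl_gt, cl_ft, cl_gt, cl_ft, cl_gt, cl_ft]
  (wG_of_rotate rels relW_26 [cl_gt, cl_ft, cl_gt, cl_ft, cl_gt, cl_ft, cl_gt, cl_ft] 1 (by decide +kernel) relone_26)
def sc_0_0 : Cert rels S Gen.a := Cert.sub true [] []
  (sub_valid rels S [] cl_at [] subH_0)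
def sc_5_2 : Cert rels S Gen.a := Cert.sub true [cl_bf, cl_af] [cl_bt]
  (sub_valid rels S [cl_at, cl_bt] cl_at [cl_bt] subH_5)
def sc_1_0 : Cert rels S Gen.c := Cert.sub true [] []
  (sub_valid rels S [] cl_ct [] subH_1)
def sc_2_0 : Cert rels S Gen.d := Cert.sub true [] []
  (sub_valid rels S [] cl_dt [] subH_2)
def sc_6_10 : Cert rels S Gen.d := Cert.sub true [cl_cf, cl_bf, cl_ef, cl_df, cl_cf, cl_bf, cl_ef, cl_df, cl_cf, cl_bf] [cl_et, cl_bt, cl_ct, cl_dt, cl_et, cl_bt, cl_ct, cl_dt, cl_et, cl_bt, cl_ct, cl_dt, cl_et, cl_bt, cl_ct, cl_dt, cl_et]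
  (sub_valid rels S [cl_bt, cl_ct, cl_dt, cl_et, cl_bt, cl_ct, cl_dt, cl_et, cl_bt, cl_ct] cl_dt [cl_et, cl_bt, cl_ct, cl_dt, cl_et, cl_bt, cl_ct, cl_dt, cl_et, cl_bt, cl_ct, cl_dt, cl_et, cl_bt, cl_ct, cl_dt, cl_et] subH_6)
def sc_3_0 : Cert rels S Gen.e := Cert.sub true [] []
  (sub_valid rels S [] cl_et [] subH_3)
def sc_4_0 : Cert rels S Gen.f := Cert.sub true [] []
  (sub_valid rels S [] cl_ft [] subH_4)

end

end Cfsg.Agent.Helper28.S1683
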