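import Cfsg.Agent.Lib.Helper28.S1683.Defs

set_option autoImplicit false
set_option maxRecDepth 100000
set_option linter.all false

namespace Cfsg.Agent.Helper28.S1683

open Cfsg.Agent.Helper28
open Cfsg.Spor.He (Gen)

noncomputable section

abbrev ka := Pt.mk
abbrev xa0 := D1.c0
abbrev xa1 := D1.c1
abbrev xa2 := D1.c2
abbrev xa3 := D1.c3
abbrev xa4 := D1.c4
abbrev xa5 := D1.c5
abbrev xa6 := D1.c6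
abbrev ya0 := D2.c0
abbrev ya1 := D2.c1
abbrev ya2 := D2.c2
abbrev ya3 := D2.c3
abbrev ya4 := D2.c4
abbrev ya5 := D2.c5
abbrev ya6 := D2.c6
abbrev ya7 := D2.c7
abbrev ya8 := D2.c8
abbrev ya9 := D2.c9
abbrev ya10 := D2.c10
abbrev ya11 := D2.c11
abbrev ya12 := D2.c12
abbrev ya13 := D2.c13
abbrev za0 := D3.c0
abbrev za1 := D3.c1
abbrev za2 := D3.c2
abbrev za3 := D3.c3
abbrev za4 := D3.c4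
abbrev za5 := D3.c5
abbrev za6 := D3.c6
abbrev za7 := D3.c7
abbrev za8 := D3.c8
abbrev za9 := D3.c9
abbrev za10 := D3.c10
abbrev za11 := D3.c11
abbrev za12 := D3.c12
abbrev za13 := D3.c13
abbrev za14 := D3.c14
abbrev za15 := D3.c15
abbrev za16 := D3.c16
abbrev za17 := D3.c17
abbrev za18 := D3.c18
abbrev za19 := D3.c19
abbrev za20 := D3.c20
def f_a_0 : D2 → D3 → Pt := @D2.rec (fun _ => D3 → Pt) (@D3.rec (fun _ => Pt) (ka xa0 ya0 za0) (ka xa0 ya0 za1) (ka xa0 ya0 za2) (ka xa0 ya0 za3) (ka xa0 ya0 za4) (ka xa0 ya0 za5) (ka xa0 ya0 za6) (ka xa0 ya0 za7) (ka xa0 ya0 za8) (ka xa0 ya0 za9) (ka xa0 ya0 za10) (ka xa0 ya0 za11) (ka xa0 ya0 za12) (ka xa0 ya0 za13) (ka xa0 ya0 za14) (ka xa0 ya0 za15) (ka xa0 ya0 za16) (ka xa0 ya0 za17) (ka xa0 ya1 za12) (ka xa0 ya0 za19)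 (ka xa0 ya0 za20)) (@D3.rec (fun _ => Pt) (ka xa0 ya1 za0) (ka xa0 ya1 za1) (ka xa0 ya1 za20) (ka xa0 ya1 za3) (ka xa0 ya1 za4) (ka xa0 ya1 za5) (ka xa0 ya1 za6) (ka xa0 ya2 za9) (ka xa0 ya1 za8) (ka xa0 ya1 za9) (ka xa0 ya1 za10) (ka xa0 ya1 za11) (ka xa0 ya0 za18) (ka xa0 ya2 za19) (ka xa0 ya2 za20) (ka xa0 ya1 za15) (ka xa0 ya1 za16) (ka xa0 ya1 za17) (ka xa0 ya1 za18) (ka xa0 ya1 za19) (ka xa0 ya1 za2)) (@D3.rec (fun _ => Pt) (ka xa0 ya3 za7) (ka xa0 ya3 za8) (ka xa0 ya2 za2) (ka xa0 ya2 za3) (ka xa0 ya2 za4) (ka xa0 ya2 za5) (ka xa0 ya2 za6) (ka xa0 ya2 za7) (ka xa0 ya2 za8) (ka xa0 ya1 za7) (ka xa0 ya4 za6) (ka xa0 ya4 za7) (ka xa0 ya2 za12) (ka xa0 ya2 za13) (ka xa0 ya2 za14) (ka xa0 ya2 za15) (ka xa0 ya2 za16) (ka xa0 ya2 za17) (ka xa0 ya2 za18) (ka xa0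 ya1 za13) (ka xa0 ya1 za14)) (@D3.rec (fun _ => Pt) (ka xa0 ya5 za3) (ka xa0 ya5 za4) (ka xa0 ya5 za5) (ka xa0 ya3 za3) (ka xa0 ya3 za4) (ka xa0 ya3 za5) (ka xa0 ya3 za6) (ka xa0 ya2 za0) (ka xa0 ya2 za1) (ka xa0 ya5 za13) (ka xa0 ya5 za14) (ka xa0 ya5 za15) (ka xa0 ya5 za16) (ka xa0 ya5 za17) (ka xa0 ya3 za14) (ka xa0 ya3 za15) (ka xa0 ya3 za16) (ka xa0 ya3 za17) (ka xa0 ya3 za18) (ka xa0 ya3 za19) (ka xa0 ya3 za20)) (@D3.rec (fun _ => Pt) (ka xa0 ya4 za0) (ka xa0 ya4 za1) (ka xa0 ya4 za2) (ka xa0 ya4 za3) (ka xa0 ya4 za4) (ka xa0 ya4 za5) (ka xa0 ya2 za10) (ka xa0 ya2 za11) (ka xa0 ya7 za3) (ka xa0 ya7 za4) (ka xa0 ya7 za5) (ka xa0 ya7 za6) (ka xa0 ya7 za7) (ka xa0 ya4 za13) (ka xa0 ya4 za14) (ka xa0 ya4 za15) (ka xa0 ya4 za16) (ka xa0 ya4 za17) (ka xa0 ya4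 za18) (ka xa0 ya4 za19) (ka xa0 ya4 za20)) (@D3.rec (fun _ => Pt) (ka xa0 ya5 za0) (ka xa0 ya5 za1) (ka xa0 ya5 za2) (ka xa0 ya3 za0) (ka xa0 ya3 za1) (ka xa0 ya3 za2) (ka xa0 ya8 za9) (ka xa0 ya8 za7) (ka xa0 ya8 za8) (ka xa0 ya5 za10) (ka xa0 ya5 za9) (ka xa0 ya5 za11) (ka xa0 ya5 za12) (ka xa0 ya3 za9) (ka xa0 ya3 za10) (ka xa0 ya3 za11) (ka xa0 ya3 za12) (ka xa0 ya3 za13) (ka xa0 ya8 za19) (ka xa0 ya8 za20) (ka xa0 ya9 za0)) (@D3.rec (fun _ => Pt) (ka xa0 ya9 za1) (ka xa0 ya9 za2) (ka xa0 ya9 za3) (ka xa0 ya9 za4) (ka xa0 ya9 za5) (ka xa0 ya9 za6) (ka xa0 ya6 za7) (ka xa0 ya6 za6) (ka xa0 ya6 za8) (ka xa0 ya6 za9) (ka xa0 ya6 za10) (ka xa0 ya6 za11) (ka xa0 ya6 za12) (ka xa0 ya6 za13) (ka xa0 ya6 za14) (ka xa0 ya6 za15) (ka xa0 ya6 za16) (ka xa0 ya6 za17)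 (ka xa0 ya10 za13) (ka xa0 ya6 za19) (ka xa0 ya6 za20)) (@D3.rec (fun _ => Pt) (ka xa0 ya7 za0) (ka xa0 ya7 za1) (ka xa0 ya7 za2) (ka xa0 ya4 za8) (ka xa0 ya4 za9) (ka xa0 ya4 za10) (ka xa0 ya4 za11) (ka xa0 ya4 za12) (ka xa0 ya11 za1) (ka xa0 ya11 za0) (ka xa0 ya11 za2) (ka xa0 ya11 za3) (ka xa0 ya11 za4) (ka xa0 ya11 za5) (ka xa0 ya11 za6) (ka xa0 ya11 za7) (ka xa0 ya11 za8) (ka xa0 ya7 za18) (ka xa0 ya7 za17) (ka xa0 ya7 za19) (ka xa0 ya7 za20)) (@D3.rec (fun _ => Pt) (ka xa0 ya8 za0) (ka xa0 ya8 za1) (ka xa0 ya8 za2) (ka xa0 ya8 za3) (ka xa0 ya8 za4) (ka xa0 ya8 za5) (ka xa0 ya8 za11) (ka xa0 ya5 za7) (ka xa0 ya5 za8) (ka xa0 ya5 za6) (ka xa0 ya12 za18) (ka xa0 ya8 za6) (ka xa0 ya12 za13) (ka xa0 ya12 za14) (ka xa0 ya12 za15) (ka xa0 ya12 za16) (ka xa0 ya12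 za17) (ka xa0 ya8 za18) (ka xa0 ya8 za17) (ka xa0 ya5 za18) (ka xa0 ya5 za19)) (@D3.rec (fun _ => Pt) (ka xa0 ya5 za20) (ka xa0 ya6 za0) (ka xa0 ya6 za1) (ka xa0 ya6 za2) (ka xa0 ya6 za3) (ka xa0 ya6 za4) (ka xa0 ya6 za5) (ka xa0 ya13 za18) (ka xa0 ya13 za19) (ka xa0 ya13 za20) (ka xa1 ya0 za0) (ka xa1 ya0 za1) (ka xa1 ya0 za2) (ka xa1 ya0 za3) (ka xa1 ya0 za4) (ka xa1 ya0 za5) (ka xa0 ya10 za1) (ka xa1 ya0 za6) (ka xa1 ya1 za6) (ka xa1 ya0 za8) (ka xa0 ya10 za0)) (@D3.rec (fun _ => Pt) (ka xa0 ya9 za20) (ka xa0 ya9 za16) (ka xa0 ya10 za2) (ka xa0 ya10 za3) (ka xa0 ya10 za4) (ka xa0 ya10 za5) (ka xa0 ya10 za6) (ka xa0 ya10 za7) (ka xa0 ya10 za8) (ka xa0 ya10 za9) (ka xa0 ya10 za10) (ka xa0 ya10 za14) (ka xa0 ya10 za12) (ka xa0 ya6 za18) (ka xa0 ya10 za11) (ka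 xa0 ya10 za15) (ka xa0 ya10 za16) (ka xa0 ya10 za17) (ka xa0 ya10 za18) (ka xa0 ya10 za19) (ka xa0 ya10 za20)) (@D3.rec (fun _ => Pt) (ka xa0 ya7 za9) (ka xa0 ya7 za8) (ka xa0 ya7 za10) (ka xa0 ya7 za11) (ka xa0 ya7 za12) (ka xa0 ya7 za13) (ka xa0 ya7 za14) (ka xa0 ya7 za15) (ka xa0 ya7 za16) (ka xa0 ya13 za4) (ka xa1 ya2 za15) (ka xa1 ya2 za16) (ka xa1 ya2 za17) (ka xa1 ya2 za12) (ka xa1 ya2 za13) (ka xa1 ya2 za14) (ka xa1 ya2 za18) (ka xa1 ya2 za19) (ka xa1 ya2 za20) (ka xa1 ya3 za0) (ka xa1 ya3 za1)) (@D3.rec (fun _ => Pt) (ka xa1 ya2 za2) (ka xa1 ya3 za2) (ka xa1 ya3 za3) (ka xa0 ya12 za4) (ka xa0 ya12 za3) (ka xa0 ya12 za5) (ka xa0 ya12 za6) (ka xa0 ya12 za7) (ka xa0 ya12 za8) (ka xa0 ya12 za9) (ka xa0 ya12 za10) (ka xa0 ya12 za11) (ka xa0 ya13 za2) (ka xa0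 ya8 za12) (ka xa0 ya8 za13) (ka xa0 ya8 za14) (ka xa0 ya8 za15) (ka xa0 ya8 za16) (ka xa0 ya8 za10) (ka xa1 ya5 za9) (ka xa1 ya5 za10)) (@D3.rec (fun _ => Pt) (ka xa1 ya5 za11) (ka xa1 ya5 za4) (ka xa0 ya12 za12) (ka xa1 ya6 za4) (ka xa0 ya11 za9) (ka xa1 ya4 za18) (ka xa1 ya4 za19) (ka xa1 ya4 za20) (ka xa1 ya5 za0) (ka xa1 ya5 za1) (ka xa1 ya5 za2) (ka xa1 ya5 za3) (ka xa1 ya5 za5) (ka xa1 ya5 za6) (ka xa1 ya5 za7) (ka xa1 ya5 za8) (ka xa0 ya13 za17) (ka xa0 ya13 za16) (ka xa0 ya9 za7) (ka xa0 ya9 za8) (ka xa0 ya9 za9))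
def f_a_1 : D2 → D3 → Pt := @D2.rec (fun _ => D3 → Pt) (@D3.rec (fun _ => Pt) (ka xa0 ya9 za10) (ka xa0 ya9 za11) (ka xa0 ya9 za12) (ka xa0 ya9 za13) (ka xa0 ya9 za14) (ka xa0 ya9 za15) (ka xa0 ya9 za17) (ka xa1 ya1 za8) (ka xa0 ya9 za19) (ka xa1 ya7 za13) (ka xa1 ya7 za14) (ka xa1 ya7 za15) (ka xa1 ya7 za16) (ka xa1 ya7 za17) (ka xa1 ya7 za18) (ka xa1 ya7 za19) (ka xa1 ya7 za20) (ka xa1 ya8 za0) (ka xa1 ya8 za1) (ka xa1 ya8 za2) (ka xa1 ya1 za16)) (@D3.rec (fun _ => Pt) (ka xa1 ya8 za3) (ka xa1 ya8 za4) (ka xa1 ya8 za5) (ka xa1 ya1 za15) (ka xa1 ya8 za6) (ka xa1 ya2 za11) (ka xa0 ya9 za18) (ka xa1 ya10 za12) (ka xa1 ya0 za7) (ka xa1 ya8 za8) (ka xa1 ya8 za9) (ka xa1 ya8 za10) (ka xa1 ya8 za11) (ka xa1 ya1 za14) (ka xa1 ya1 za13) (ka xa1 ya1 za3) (ka xa1 ya0 za20)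 (ka xa1 ya1 za17) (ka xa1 ya1 za18) (ka xa1 ya11 za16) (ka xa1 ya1 za20)) (@D3.rec (fun _ => Pt) (ka xa1 ya2 za0) (ka xa1 ya2 za1) (ka xa0 ya12 za0) (ka xa1 ya2 za3) (ka xa1 ya2 za4) (ka xa1 ya2 za6) (ka xa1 ya2 za5) (ka xa1 ya2 za7) (ka xa1 ya2 za8) (ka xa1 ya2 za9) (ka xa1 ya2 za10) (ka xa1 ya1 za5) (ka xa0 ya11 za13) (ka xa0 ya11 za14) (ka xa0 ya11 za15) (ka xa0 ya11 za10) (ka xa0 ya11 za11) (ka xa0 ya11 za12) (ka xa0 ya11 za16) (ka xa0 ya11 za17) (ka xa0 ya11 za18)) (@D3.rec (fun _ => Pt) (ka xa0 ya11 za19) (ka xa0 ya11 za20) (ka xa0 ya12 za1) (ka xa0 ya12 za2) (ka xa1 ya13 za4) (ka xa1 ya6 za9) (ka xa1 ya6 za10) (ka xa1 ya6 za11) (ka xa1 ya12 za6) (ka xa1 ya12 za11) (ka xa1 ya12 za12) (ka xa1 ya12 za13) (ka xa1 ya12 za14) (ka xa1 ya12 za15) (ka xa1 ya12 za16)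 (ka xa1 ya12 za5) (ka xa1 ya12 za7) (ka xa1 ya12 za8) (ka xa1 ya12 za9) (ka xa1 ya12 za10) (ka xa1 ya12 za17)) (@D3.rec (fun _ => Pt) (ka xa1 ya12 za18) (ka xa1 ya12 za19) (ka xa1 ya12 za20) (ka xa1 ya13 za0) (ka xa1 ya10 za2) (ka xa1 ya4 za12) (ka xa1 ya13 za1) (ka xa1 ya13 za2) (ka xa1 ya13 za3) (ka xa1 ya4 za10) (ka xa1 ya4 za9) (ka xa1 ya4 za11) (ka xa1 ya4 za5) (ka xa1 ya6 za1) (ka xa1 ya5 za17) (ka xa1 ya6 za2) (ka xa1 ya6 za3) (ka xa2 ya2 za0) (ka xa0 ya13 za5) (ka xa0 ya13 za6) (ka xa0 ya13 za7)) (@D3.rec (fun _ => Pt) (ka xa0 ya13 za8) (ka xa0 ya13 za9) (ka xa0 ya13 za10) (ka xa0 ya13 za11) (ka xa0 ya13 za1) (ka xa0 ya13 za12) (ka xa0 ya13 za13) (ka xa0 ya13 za14) (ka xa0 ya13 za15) (ka xa0 ya12 za19) (ka xa0 ya12 za20) (ka xa0 ya13 za0) (ka xa2 ya3 za10)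 (ka xa2 ya3 za5) (ka xa2 ya3 za6) (ka xa2 ya3 za7) (ka xa2 ya2 za15) (ka xa1 ya4 za14) (ka xa2 ya3 za8) (ka xa2 ya2 za16) (ka xa2 ya3 za9)) (@D3.rec (fun _ => Pt) (ka xa2 ya2 za17) (ka xa1 ya4 za13) (ka xa1 ya4 za15) (ka xa1 ya4 za16) (ka xa0 ya13 za3) (ka xa2 ya4 za13) (ka xa1 ya7 za5) (ka xa2 ya4 za14) (ka xa2 ya4 za15) (ka xa1 ya3 za5) (ka xa1 ya3 za6) (ka xa1 ya3 za7) (ka xa2 ya2 za3) (ka xa2 ya2 za4) (ka xa2 ya2 za5) (ka xa2 ya2 za6) (ka xa2 ya2 za7) (ka xa2 ya2 za8) (ka xa1 ya10 za18) (ka xa2 ya2 za9) (ka xa2 ya2 za10)) (@D3.rec (fun _ => Pt) (ka xa2 ya2 za11) (ka xa2 ya2 za12) (ka xa2 ya2 za13) (ka xa2 ya2 za14) (ka xa2 ya2 za18) (ka xa1 ya6 za6) (ka xa2 ya2 za20) (ka xa2 ya3 za0) (ka xa2 ya3 za1) (ka xa2 ya3 za2) (ka xa2 ya3 za3) (ka xa1 ya7 za12) (ka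 xa1 ya7 za11) (ka xa1 ya0 za9) (ka xa1 ya0 za10) (ka xa1 ya0 za11) (ka xa1 ya0 za12) (ka xa1 ya0 za13) (ka xa1 ya0 za14) (ka xa1 ya0 za15) (ka xa1 ya0 za16)) (@D3.rec (fun _ => Pt) (ka xa1 ya0 za17) (ka xa1 ya0 za18) (ka xa1 ya0 za19) (ka xa1 ya1 za0) (ka xa1 ya1 za1) (ka xa1 ya1 za2) (ka xa1 ya1 za4) (ka xa1 ya10 za17) (ka xa1 ya1 za9) (ka xa1 ya1 za10) (ka xa1 ya1 za11) (ka xa1 ya1 za12) (ka xa2 ya7 za6) (ka xa2 ya7 za7) (ka xa2 ya7 za8) (ka xa2 ya7 za9) (ka xa2 ya7 za10) (ka xa2 ya7 za11) (ka xa2 ya9 za14) (ka xa2 ya7 za13) (ka xa2 ya7 za14)) (@D3.rec (fun _ => Pt) (ka xa2 ya7 za15) (ka xa2 ya7 za16) (ka xa2 ya7 za17) (ka xa2 ya7 za18) (ka xa2 ya7 za19) (ka xa2 ya7 za20) (ka xa2 ya8 za0) (ka xa2 ya10 za15) (ka xa2 ya8 za1) (ka xa2 ya8 za2) (ka xa2 ya4 za20)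 (ka xa2 ya8 za3) (ka xa2 ya8 za4) (ka xa2 ya8 za5) (ka xa2 ya8 za6) (ka xa2 ya8 za7) (ka xa2 ya8 za8) (ka xa2 ya11 za11) (ka xa2 ya8 za10) (ka xa1 ya11 za14) (ka xa2 ya8 za11)) (@D3.rec (fun _ => Pt) (ka xa1 ya10 za1) (ka xa1 ya10 za0) (ka xa1 ya4 za4) (ka xa2 ya8 za12) (ka xa2 ya8 za13) (ka xa2 ya8 za14) (ka xa2 ya8 za15) (ka xa2 ya8 za16) (ka xa1 ya11 za13) (ka xa1 ya10 za9) (ka xa2 ya8 za17) (ka xa1 ya12 za2) (ka xa1 ya1 za7) (ka xa2 ya4 za12) (ka xa2 ya12 za16) (ka xa2 ya4 za10) (ka xa2 ya12 za17) (ka xa1 ya8 za7) (ka xa1 ya6 za18) (ka xa2 ya9 za0) (ka xa2 ya9 za1)) (@D3.rec (fun _ => Pt) (ka xa2 ya9 za2) (ka xa1 ya11 za11) (ka xa2 ya9 za3) (ka xa2 ya9 za4) (ka xa2 ya9 za5) (ka xa1 ya11 za9) (ka xa2 ya3 za4) (ka xa1 ya11 za10) (ka xa1 ya11 za12) (ka xa1 ya11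 za5) (ka xa1 ya11 za7) (ka xa1 ya11 za1) (ka xa1 ya11 za8) (ka xa1 ya10 za8) (ka xa1 ya9 za19) (ka xa1 ya11 za17) (ka xa1 ya1 za19) (ka xa1 ya11 za15) (ka xa1 ya11 za18) (ka xa1 ya11 za19) (ka xa1 ya11 za20)) (@D3.rec (fun _ => Pt) (ka xa1 ya12 za1) (ka xa1 ya12 za0) (ka xa1 ya10 za11) (ka xa1 ya12 za3) (ka xa1 ya12 za4) (ka xa1 ya3 za15) (ka xa1 ya3 za8) (ka xa1 ya3 za16) (ka xa1 ya3 za17) (ka xa1 ya3 za18) (ka xa1 ya3 za19) (ka xa1 ya3 za9) (ka xa1 ya3 za10) (ka xa1 ya3 za11) (ka xa1 ya3 za12) (ka xa1 ya3 za13) (ka xa1 ya3 za14) (ka xa1 ya3 za20) (ka xa1 ya4 za0) (ka xa1 ya4 za1) (ka xa1 ya4 za2)) (@D3.rec (fun _ => Pt) (ka xa1 ya4 za3) (ka xa1 ya4 za6) (ka xa1 ya4 za7) (ka xa1 ya4 za8) (ka xa1 ya3 za4) (ka xa2 ya0 za7) (ka xa3 ya1 za9) (ka xa3 ya1 za10) (ka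 xa2 ya5 za5) (ka xa2 ya5 za6) (ka xa2 ya5 za7) (ka xa2 ya5 za8) (ka xa2 ya5 za9) (ka xa2 ya5 za10) (ka xa2 ya5 za11) (ka xa2 ya6 za0) (ka xa3 ya0 za1) (ka xa3 ya0 za2) (ka xa3 ya0 za11) (ka xa3 ya0 za12) (ka xa3 ya0 za13))
def f_a_2 : D2 → D3 → Pt := @D2.rec (fun _ => D3 → Pt) (@D3.rec (fun _ => Pt) (ka xa3 ya0 za14) (ka xa3 ya0 za15) (ka xa3 ya0 za16) (ka xa3 ya0 za17) (ka xa3 ya0 za18) (ka xa3 ya0 za19) (ka xa3 ya0 za20) (ka xa1 ya13 za5) (ka xa2 ya6 za16) (ka xa2 ya13 za20) (ka xa3 ya0 za0) (ka xa3 ya0 za3) (ka xa3 ya0 za4) (ka xa3 ya0 za5) (ka xa3 ya0 za6) (ka xa3 ya0 za7) (ka xa3 ya0 za8) (ka xa3 ya0 za9) (ka xa3 ya0 za10) (ka xa3 ya3 za17) (ka xa3 ya1 za1)) (@D3.rec (fun _ => Pt) (ka xa3 ya1 za2) (ka xa3 ya4 za4) (ka xa3 ya1 za4) (ka xa3 ya1 za5) (ka xa2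 ya12 za1) (ka xa2 ya1 za11) (ka xa3 ya1 za6) (ka xa3 ya1 za7) (ka xa3 ya1 za8) (ka xa2 ya1 za13) (ka xa2 ya10 za9) (ka xa2 ya1 za5) (ka xa2 ya1 za14) (ka xa2 ya1 za9) (ka xa2 ya1 za12) (ka xa2 ya4 za8) (ka xa2 ya4 za0) (ka xa2 ya4 za9) (ka xa2 ya4 za1) (ka xa2 ya4 za2) (ka xa2 ya4 za11)) (@D3.rec (fun _ => Pt) (ka xa1 ya4 za17) (ka xa2 ya2 za19) (ka xa3 ya5 za12) (ka xa1 ya6 za12) (ka xa1 ya6 za13) (ka xa1 ya6 za14) (ka xa1 ya6 za15) (ka xa1 ya6 za16) (ka xa1 ya6 za17) (ka xa1 ya6 za19) (ka xa1 ya6 za20) (ka xa1 ya7 za0) (ka xa1 ya7 za1) (ka xa1 ya7 za2) (ka xa1 ya7 za3) (ka xa1 ya5 za16) (ka xa1 ya5 za19) (ka xa1 ya6 za0) (ka xa1 ya7 za4) (ka xa2 ya2 za1) (ka xa1 ya7 za6)) (@D3.rec (fun _ => Pt) (ka xa1 ya7 za7) (ka xa1 ya7 za8) (ka xa1 ya7 za9) (ka xa1 ya7 za10)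 (ka xa1 ya11 za6) (ka xa1 ya5 za13) (ka xa1 ya5 za14) (ka xa1 ya5 za15) (ka xa1 ya5 za18) (ka xa1 ya5 za20) (ka xa1 ya5 za12) (ka xa3 ya7 za5) (ka xa2 ya4 za7) (ka xa2 ya13 za12) (ka xa3 ya7 za0) (ka xa3 ya4 za7) (ka xa3 ya7 za1) (ka xa3 ya7 za2) (ka xa2 ya8 za19) (ka xa3 ya6 za10) (ka xa2 ya8 za18)) (@D3.rec (fun _ => Pt) (ka xa2 ya1 za16) (ka xa2 ya1 za18) (ka xa2 ya1 za19) (ka xa3 ya7 za3) (ka xa3 ya6 za6) (ka xa3 ya7 za4) (ka xa3 ya6 za11) (ka xa2 ya3 za12) (ka xa2 ya1 za15) (ka xa2 ya1 za17) (ka xa1 ya10 za15) (ka xa2 ya1 za20) (ka xa1 ya10 za13) (ka xa1 ya6 za5) (ka xa1 ya6 za7) (ka xa1 ya6 za8) (ka xa2 ya4 za17) (ka xa2 ya4 za16) (ka xa3 ya8 za17) (ka xa3 ya8 za18) (ka xa1 ya9 za10)) (@D3.rec (fun _ => Pt) (ka xa2 ya6 za14) (ka xa2 ya6 za15) (ka xa3 ya8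 za19) (ka xa3 ya8 za20) (ka xa2 ya13 za11) (ka xa1 ya13 za8) (ka xa1 ya13 za9) (ka xa1 ya13 za10) (ka xa1 ya13 za11) (ka xa1 ya13 za12) (ka xa1 ya13 za13) (ka xa1 ya13 za14) (ka xa3 ya5 za15) (ka xa3 ya5 za16) (ka xa3 ya4 za17) (ka xa3 ya5 za17) (ka xa3 ya5 za4) (ka xa3 ya5 za18) (ka xa3 ya5 za19) (ka xa3 ya5 za20) (ka xa2 ya8 za20)) (@D3.rec (fun _ => Pt) (ka xa1 ya13 za15) (ka xa3 ya6 za0) (ka xa3 ya6 za1) (ka xa3 ya6 za2) (ka xa3 ya6 za3) (ka xa3 ya6 za4) (ka xa3 ya6 za5) (ka xa2 ya10 za16) (ka xa3 ya6 za7) (ka xa3 ya6 za8) (ka xa3 ya6 za9) (ka xa3 ya6 za12) (ka xa3 ya6 za13) (ka xa3 ya6 za14) (ka xa2 ya5 za0) (ka xa2 ya5 za1) (ka xa2 ya0 za8) (ka xa3 ya6 za16) (ka xa3 ya6 za17) (ka xa3 ya6 za18) (ka xa3 ya6 za19)) (@D3.rec (fun _ => Pt) (ka xa2 ya7 za4) (ka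 xa2 ya7 za2) (ka xa2 ya7 za1) (ka xa2 ya7 za5) (ka xa2 ya7 za0) (ka xa2 ya7 za3) (ka xa1 ya8 za12) (ka xa1 ya8 za13) (ka xa1 ya8 za14) (ka xa1 ya8 za15) (ka xa1 ya8 za16) (ka xa1 ya8 za17) (ka xa3 ya12 za0) (ka xa1 ya8 za19) (ka xa1 ya8 za20) (ka xa1 ya9 za0) (ka xa1 ya9 za1) (ka xa1 ya9 za2) (ka xa1 ya9 za3) (ka xa1 ya9 za4) (ka xa1 ya9 za5)) (@D3.rec (fun _ => Pt) (ka xa1 ya9 za6) (ka xa1 ya9 za8) (ka xa1 ya9 za9) (ka xa1 ya9 za11) (ka xa1 ya9 za12) (ka xa1 ya9 za13) (ka xa1 ya9 za14) (ka xa1 ya9 za15) (ka xa1 ya9 za16) (ka xa2 ya11 za13) (ka xa1 ya9 za18) (ka xa1 ya9 za20) (ka xa1 ya10 za3) (ka xa1 ya10 za4) (ka xa1 ya10 za5) (ka xa1 ya10 za6) (ka xa1 ya10 za7) (ka xa1 ya10 za10) (ka xa2 ya3 za20) (ka xa2 ya3 za18) (ka xa2 ya5 za20)) (@D3.rec (fun _ => Pt)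 (ka xa1 ya10 za19) (ka xa1 ya10 za20) (ka xa1 ya11 za0) (ka xa1 ya11 za2) (ka xa1 ya11 za3) (ka xa1 ya11 za4) (ka xa2 ya9 za16) (ka xa3 ya11 za16) (ka xa3 ya11 za17) (ka xa3 ya11 za18) (ka xa2 ya10 za17) (ka xa3 ya11 za19) (ka xa3 ya11 za20) (ka xa3 ya1 za11) (ka xa1 ya8 za18) (ka xa4 ya0 za17) (ka xa2 ya9 za6) (ka xa4 ya0 za18) (ka xa2 ya12 za6) (ka xa3 ya12 za4) (ka xa3 ya12 za5)) (@D3.rec (fun _ => Pt) (ka xa3 ya12 za6) (ka xa3 ya12 za7) (ka xa3 ya12 za8) (ka xa3 ya12 za9) (ka xa3 ya12 za10) (ka xa3 ya12 za11) (ka xa3 ya12 za12) (ka xa3 ya12 za13) (ka xa3 ya12 za14) (ka xa2 ya1 za10) (ka xa3 ya12 za15) (ka xa3 ya12 za16) (ka xa2 ya12 za11) (ka xa3 ya12 za17) (ka xa2 ya12 za9) (ka xa1 ya9 za7) (ka xa2 ya6 za7) (ka xa2 ya9 za10) (ka xa2 ya10 za20) (ka xa3 ya9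 za9) (ka xa2 ya10 za18)) (@D3.rec (fun _ => Pt) (ka xa3 ya12 za18) (ka xa3 ya9 za2) (ka xa3 ya5 za13) (ka xa3 ya12 za19) (ka xa3 ya12 za20) (ka xa3 ya13 za0) (ka xa3 ya13 za1) (ka xa3 ya13 za2) (ka xa3 ya13 za3) (ka xa3 ya13 za4) (ka xa3 ya13 za5) (ka xa1 ya9 za17) (ka xa3 ya9 za18) (ka xa2 ya8 za9) (ka xa3 ya13 za7) (ka xa3 ya13 za8) (ka xa3 ya13 za9) (ka xa3 ya13 za10) (ka xa2 ya13 za15) (ka xa2 ya12 za0) (ka xa3 ya13 za11)) (@D3.rec (fun _ => Pt) (ka xa2 ya11 za19) (ka xa2 ya1 za4) (ka xa3 ya13 za12) (ka xa3 ya13 za13) (ka xa3 ya13 za14) (ka xa3 ya13 za15) (ka xa2 ya9 za18) (ka xa2 ya13 za14) (ka xa3 ya13 za16) (ka xa2 ya10 za14) (ka xa2 ya13 za13) (ka xa2 ya10 za12) (ka xa2 ya12 za12) (ka xa3 ya13 za17) (ka xa3 ya13 za18) (ka xa3 ya13 za19) (ka xa1 ya10 za14)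 (ka xa1 ya10 za16) (ka xa3 ya3 za20) (ka xa3 ya8 za0) (ka xa3 ya13 za20)) (@D3.rec (fun _ => Pt) (ka xa3 ya6 za15) (ka xa4 ya0 za0) (ka xa4 ya0 za1) (ka xa2 ya13 za7) (ka xa4 ya0 za2) (ka xa4 ya0 za3) (ka xa4 ya0 za4) (ka xa2 ya13 za3) (ka xa3 ya6 za20) (ka xa2 ya13 za10) (ka xa2 ya13 za9) (ka xa2 ya5 za4) (ka xa2 ya3 za13) (ka xa2 ya12 za10) (ka xa2 ya12 za7) (ka xa2 ya11 za18) (ka xa2 ya13 za16) (ka xa2 ya13 za18) (ka xa2 ya13 za17) (ka xa2 ya13 za19) (ka xa2 ya0 za9))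
def f_a_3 : D2 → D3 → Pt := @D2.rec (fun _ => D3 → Pt) (@D3.rec (fun _ => Pt) (ka xa2 ya0 za10) (ka xa1 ya13 za16) (ka xa1 ya13 za17) (ka xa2 ya0 za11) (ka xa2 ya0 za12) (ka xa2 ya0 za13) (ka xa2 ya0 za14) (ka xa2 ya0 za15) (ka xa2 ya0 za16) (ka xa2 ya0 za17) (ka xa2 ya0 za18) (ka xa1 ya13 za18) (ka xa1 ya13 za19) (ka xa1 ya13 za20) (ka xa2 ya0 za0) (ka xa2 ya0 za1) (ka xa2 ya0 za2) (ka xa2 ya0 za3) (ka xa2 ya0 za4) (ka xa2 ya0 za5) (ka xa2 ya0 za6)) (@D3.rec (fun _ => Pt) (ka xa4 ya7 za13) (ka xa2 ya0 za20) (ka xa2 ya1 za0) (ka xa4 ya7 za20) (ka xa2 ya1 za2) (ka xa2 ya1 za3) (ka xa2 ya1 za6) (ka xa2 ya1 za7) (ka xa2 ya1 za8) (ka xa1 ya13 za6) (ka xa1 ya13 za7) (ka xa2 ya9 za13) (ka xa3 ya3 za3) (ka xa3 ya3 za4) (ka xa4 ya8 za5) (ka xa4 ya8 za6) (ka xa3 ya9 za14)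 (ka xa3 ya9 za15) (ka xa3 ya9 za16) (ka xa3 ya9 za17) (ka xa3 ya3 za6)) (@D3.rec (fun _ => Pt) (ka xa3 ya10 za8) (ka xa3 ya10 za9) (ka xa4 ya6 za5) (ka xa4 ya6 za6) (ka xa4 ya6 za15) (ka xa4 ya6 za16) (ka xa4 ya6 za17) (ka xa4 ya6 za18) (ka xa4 ya6 za19) (ka xa4 ya6 za20) (ka xa4 ya9 za0) (ka xa4 ya7 za1) (ka xa4 ya7 za2) (ka xa4 ya7 za3) (ka xa4 ya7 za4) (ka xa3 ya3 za12) (ka xa4 ya7 za5) (ka xa4 ya1 za20) (ka xa4 ya7 za7) (ka xa4 ya7 za8) (ka xa4 ya7 za9)) (@D3.rec (fun _ => Pt) (ka xa4 ya7 za10) (ka xa4 ya7 za11) (ka xa4 ya7 za12) (ka xa3 ya1 za12) (ka xa3 ya1 za13) (ka xa4 ya6 za4) (ka xa3 ya1 za20) (ka xa4 ya6 za7) (ka xa4 ya6 za8) (ka xa3 ya4 za20) (ka xa4 ya6 za9) (ka xa3 ya3 za19) (ka xa3 ya2 za15) (ka xa4 ya6 za11) (ka xa3 ya4 za6) (ka xa4 ya6 za13) (ka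 xa4 ya6 za14) (ka xa2 ya0 za19) (ka xa4 ya10 za6) (ka xa3 ya3 za11) (ka xa2 ya12 za18)) (@D3.rec (fun _ => Pt) (ka xa4 ya7 za16) (ka xa4 ya7 za17) (ka xa4 ya7 za18) (ka xa4 ya7 za19) (ka xa2 ya1 za1) (ka xa4 ya10 za17) (ka xa3 ya3 za14) (ka xa2 ya3 za15) (ka xa4 ya8 za2) (ka xa4 ya3 za17) (ka xa4 ya3 za18) (ka xa4 ya3 za19) (ka xa4 ya3 za20) (ka xa3 ya5 za0) (ka xa3 ya4 za18) (ka xa4 ya8 za3) (ka xa4 ya8 za4) (ka xa2 ya5 za14) (ka xa3 ya4 za14) (ka xa3 ya5 za2) (ka xa3 ya3 za9)) (@D3.rec (fun _ => Pt) (ka xa3 ya4 za13) (ka xa3 ya5 za3) (ka xa3 ya4 za19) (ka xa3 ya5 za1) (ka xa2 ya5 za16) (ka xa3 ya8 za13) (ka xa3 ya8 za14) (ka xa3 ya7 za20) (ka xa3 ya8 za15) (ka xa3 ya8 za1) (ka xa3 ya8 za2) (ka xa3 ya8 za16) (ka xa2 ya2 za2) (ka xa2 ya11 za2) (ka xa4 ya12 za0)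 (ka xa2 ya5 za12) (ka xa2 ya5 za13) (ka xa2 ya5 za15) (ka xa2 ya5 za17) (ka xa2 ya5 za18) (ka xa2 ya5 za19)) (@D3.rec (fun _ => Pt) (ka xa2 ya6 za1) (ka xa2 ya6 za2) (ka xa2 ya6 za3) (ka xa2 ya6 za4) (ka xa2 ya6 za5) (ka xa2 ya6 za6) (ka xa2 ya4 za4) (ka xa2 ya6 za8) (ka xa2 ya6 za9) (ka xa2 ya6 za10) (ka xa2 ya3 za19) (ka xa2 ya4 za6) (ka xa2 ya6 za11) (ka xa2 ya6 za12) (ka xa2 ya6 za13) (ka xa2 ya13 za0) (ka xa2 ya6 za17) (ka xa2 ya6 za18) (ka xa2 ya6 za19) (ka xa2 ya6 za20) (ka xa2 ya13 za8)) (@D3.rec (fun _ => Pt) (ka xa2 ya3 za14) (ka xa2 ya3 za16) (ka xa2 ya3 za17) (ka xa2 ya4 za3) (ka xa2 ya4 za5) (ka xa2 ya3 za11) (ka xa4 ya13 za10) (ka xa4 ya13 za11) (ka xa4 ya13 za12) (ka xa3 ya8 za12) (ka xa4 ya5 za18) (ka xa4 ya13 za3) (ka xa4 ya10 za4) (ka xa4 ya13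 za4) (ka xa4 ya13 za5) (ka xa4 ya11 za15) (ka xa4 ya13 za6) (ka xa4 ya12 za8) (ka xa4 ya11 za14) (ka xa4 ya12 za9) (ka xa3 ya5 za7)) (@D3.rec (fun _ => Pt) (ka xa2 ya12 za19) (ka xa3 ya5 za9) (ka xa3 ya5 za10) (ka xa4 ya13 za7) (ka xa3 ya10 za6) (ka xa4 ya2 za3) (ka xa4 ya12 za7) (ka xa4 ya13 za8) (ka xa4 ya13 za9) (ka xa4 ya12 za10) (ka xa4 ya12 za11) (ka xa4 ya12 za12) (ka xa3 ya7 za9) (ka xa3 ya5 za5) (ka xa3 ya5 za6) (ka xa3 ya5 za8) (ka xa3 ya5 za11) (ka xa2 ya4 za18) (ka xa2 ya4 za19) (ka xa2 ya5 za2) (ka xa2 ya5 za3)) (@D3.rec (fun _ => Pt) (ka xa3 ya9 za3) (ka xa3 ya9 za4) (ka xa2 ya11 za1) (ka xa3 ya9 za0) (ka xa3 ya9 za1) (ka xa4 ya3 za15) (ka xa4 ya3 za16) (ka xa3 ya10 za13) (ka xa4 ya8 za9) (ka xa2 ya10 za19) (ka xa5 ya1 za6) (ka xa5 ya1 za7) (ka xa5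 ya1 za8) (ka xa5 ya1 za9) (ka xa3 ya1 za16) (ka xa3 ya1 za17) (ka xa3 ya1 za18) (ka xa3 ya1 za19) (ka xa2 ya11 za12) (ka xa4 ya12 za2) (ka xa3 ya10 za15)) (@D3.rec (fun _ => Pt) (ka xa4 ya12 za3) (ka xa4 ya13 za20) (ka xa4 ya11 za13) (ka xa4 ya3 za2) (ka xa4 ya3 za1) (ka xa4 ya12 za4) (ka xa3 ya8 za4) (ka xa3 ya11 za8) (ka xa3 ya2 za0) (ka xa3 ya2 za1) (ka xa4 ya9 za11) (ka xa4 ya2 za4) (ka xa4 ya12 za6) (ka xa3 ya9 za7) (ka xa4 ya5 za4) (ka xa3 ya9 za20) (ka xa3 ya10 za17) (ka xa3 ya10 za16) (ka xa5 ya2 za14) (ka xa4 ya12 za14) (ka xa4 ya12 za15)) (@D3.rec (fun _ => Pt) (ka xa4 ya12 za16) (ka xa4 ya12 za17) (ka xa4 ya12 za18) (ka xa4 ya12 za19) (ka xa3 ya11 za5) (ka xa3 ya11 za4) (ka xa4 ya12 za20) (ka xa4 ya13 za0) (ka xa3 ya10 za7) (ka xa5 ya3 za3) (ka xa3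 ya11 za11) (ka xa3 ya11 za10) (ka xa3 ya11 za13) (ka xa3 ya11 za12) (ka xa4 ya5 za17) (ka xa3 ya12 za2) (ka xa2 ya9 za7) (ka xa2 ya9 za8) (ka xa2 ya9 za9) (ka xa2 ya9 za11) (ka xa2 ya9 za12)) (@D3.rec (fun _ => Pt) (ka xa2 ya7 za12) (ka xa5 ya3 za12) (ka xa3 ya11 za15) (ka xa5 ya3 za13) (ka xa2 ya9 za19) (ka xa2 ya9 za20) (ka xa2 ya10 za0) (ka xa2 ya10 za1) (ka xa2 ya10 za2) (ka xa2 ya10 za3) (ka xa2 ya10 za4) (ka xa2 ya10 za5) (ka xa2 ya10 za6) (ka xa2 ya10 za7) (ka xa2 ya10 za8) (ka xa2 ya10 za10) (ka xa2 ya10 za11) (ka xa2 ya10 za13) (ka xa2 ya11 za0) (ka xa2 ya11 za3) (ka xa2 ya11 za4)) (@D3.rec (fun _ => Pt) (ka xa2 ya11 za5) (ka xa2 ya11 za6) (ka xa2 ya11 za7) (ka xa2 ya11 za8) (ka xa2 ya11 za9) (ka xa2 ya11 za10) (ka xa4 ya3 za3) (ka xa2 ya11 za14) (ka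 xa2 ya11 za15) (ka xa2 ya11 za16) (ka xa2 ya11 za17) (ka xa2 ya11 za20) (ka xa2 ya12 za2) (ka xa2 ya12 za3) (ka xa2 ya12 za4) (ka xa2 ya12 za5) (ka xa2 ya12 za8) (ka xa2 ya12 za13) (ka xa2 ya12 za14) (ka xa2 ya12 za15) (ka xa2 ya12 za20))
def f_a_4 : D2 → D3 → Pt := @D2.rec (fun _ => D3 → Pt) (@D3.rec (fun _ => Pt) (ka xa2 ya13 za1) (ka xa2 ya13 za2) (ka xa2 ya13 za4) (ka xa2 ya13 za5) (ka xa2 ya13 za6) (ka xa4 ya1 za1) (ka xa4 ya1 za2) (ka xa4 ya3 za5) (ka xa5 ya3 za8) (ka xa5 ya3 za9) (ka xa5 ya3 za10) (ka xa5 ya3 za11) (ka xa4 ya2 za5) (ka xa4 ya4 za1) (ka xa4 ya2 za11) (ka xa4 ya8 za7) (ka xa4 ya2 za6) (ka xa2 ya9 za15) (ka xa2 ya9 za17) (ka xa4 ya0 za20) (ka xa4 ya0 za19)) (@D3.rec (fun _ => Pt) (ka xa5 ya7 za1) (ka xa4 ya0 za5) (ka xa4 ya0 za6) (ka xa4 ya1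 za17) (ka xa4 ya4 za9) (ka xa4 ya4 za10) (ka xa5 ya3 za18) (ka xa5 ya3 za19) (ka xa5 ya3 za20) (ka xa4 ya1 za18) (ka xa5 ya4 za0) (ka xa5 ya4 za1) (ka xa5 ya4 za2) (ka xa5 ya4 za3) (ka xa5 ya4 za4) (ka xa5 ya4 za5) (ka xa5 ya0 za1) (ka xa4 ya1 za3) (ka xa4 ya1 za9) (ka xa5 ya4 za6) (ka xa3 ya2 za17)) (@D3.rec (fun _ => Pt) (ka xa4 ya4 za11) (ka xa5 ya4 za7) (ka xa4 ya4 za13) (ka xa3 ya8 za5) (ka xa3 ya10 za11) (ka xa4 ya0 za12) (ka xa4 ya0 za16) (ka xa4 ya2 za8) (ka xa4 ya2 za7) (ka xa5 ya4 za8) (ka xa5 ya1 za10) (ka xa4 ya0 za14) (ka xa4 ya13 za13) (ka xa5 ya4 za9) (ka xa5 ya4 za10) (ka xa5 ya4 za11) (ka xa5 ya4 za12) (ka xa4 ya4 za17) (ka xa5 ya4 za13) (ka xa5 ya4 za14) (ka xa5 ya4 za15)) (@D3.rec (fun _ => Pt) (ka xa5 ya1 za2) (ka xa3 ya10 za4) (ka xa3 ya10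 za3) (ka xa3 ya13 za6) (ka xa5 ya9 za7) (ka xa4 ya0 za7) (ka xa5 ya4 za17) (ka xa5 ya4 za18) (ka xa5 ya4 za19) (ka xa4 ya5 za20) (ka xa5 ya4 za20) (ka xa5 ya5 za0) (ka xa5 ya5 za1) (ka xa4 ya5 za19) (ka xa4 ya6 za0) (ka xa3 ya9 za5) (ka xa3 ya9 za6) (ka xa3 ya4 za9) (ka xa3 ya4 za10) (ka xa3 ya4 za11) (ka xa3 ya4 za12)) (@D3.rec (fun _ => Pt) (ka xa5 ya10 za11) (ka xa4 ya0 za13) (ka xa5 ya5 za3) (ka xa5 ya5 za4) (ka xa5 ya5 za5) (ka xa5 ya5 za6) (ka xa5 ya5 za7) (ka xa5 ya5 za8) (ka xa5 ya5 za9) (ka xa4 ya1 za4) (ka xa4 ya1 za5) (ka xa4 ya2 za0) (ka xa5 ya5 za10) (ka xa4 ya2 za2) (ka xa4 ya4 za14) (ka xa4 ya4 za15) (ka xa5 ya5 za13) (ka xa4 ya2 za17) (ka xa5 ya5 za12) (ka xa4 ya4 za20) (ka xa4 ya4 za19)) (@D3.rec (fun _ => Pt) (ka xa4 ya10 za11) (ka xa4 ya10 za12)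 (ka xa5 ya5 za14) (ka xa5 ya5 za15) (ka xa3 ya10 za14) (ka xa4 ya5 za9) (ka xa5 ya5 za16) (ka xa5 ya5 za17) (ka xa5 ya5 za18) (ka xa4 ya5 za5) (ka xa5 ya5 za19) (ka xa5 ya5 za20) (ka xa5 ya6 za0) (ka xa5 ya6 za1) (ka xa4 ya13 za1) (ka xa4 ya13 za2) (ka xa4 ya10 za19) (ka xa3 ya11 za14) (ka xa3 ya7 za10) (ka xa4 ya3 za13) (ka xa4 ya3 za9)) (@D3.rec (fun _ => Pt) (ka xa4 ya3 za14) (ka xa4 ya6 za1) (ka xa4 ya6 za2) (ka xa4 ya6 za3) (ka xa3 ya3 za5) (ka xa3 ya2 za2) (ka xa3 ya2 za3) (ka xa3 ya3 za7) (ka xa3 ya3 za8) (ka xa3 ya3 za10) (ka xa4 ya7 za15) (ka xa3 ya3 za13) (ka xa4 ya8 za1) (ka xa3 ya3 za15) (ka xa3 ya3 za16) (ka xa3 ya2 za4) (ka xa3 ya2 za5) (ka xa3 ya2 za6) (ka xa3 ya2 za7) (ka xa3 ya2 za8) (ka xa3 ya2 za9)) (@D3.rec (fun _ => Pt) (ka xa5 ya12 za15)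 (ka xa3 ya2 za11) (ka xa3 ya2 za12) (ka xa3 ya2 za13) (ka xa3 ya2 za14) (ka xa3 ya2 za16) (ka xa5 ya9 za3) (ka xa3 ya2 za18) (ka xa3 ya2 za19) (ka xa3 ya2 za20) (ka xa3 ya3 za0) (ka xa3 ya3 za1) (ka xa3 ya3 za2) (ka xa3 ya1 za0) (ka xa5 ya13 za1) (ka xa4 ya6 za10) (ka xa3 ya4 za0) (ka xa3 ya4 za1) (ka xa3 ya4 za2) (ka xa3 ya4 za3) (ka xa3 ya1 za3)) (@D3.rec (fun _ => Pt) (ka xa5 ya12 za0) (ka xa4 ya6 za12) (ka xa3 ya4 za8) (ka xa3 ya4 za15) (ka xa3 ya4 za16) (ka xa3 ya1 za14) (ka xa3 ya1 za15) (ka xa4 ya0 za15) (ka xa5 ya13 za13) (ka xa3 ya9 za8) (ka xa5 ya1 za20) (ka xa5 ya2 za0) (ka xa5 ya2 za1) (ka xa5 ya2 za3) (ka xa5 ya1 za4) (ka xa5 ya2 za9) (ka xa5 ya12 za9) (ka xa5 ya1 za5) (ka xa6 ya0 za1) (ka xa5 ya2 za19) (ka xa5 ya12 za14)) (@D3.rec (fun _ => Pt) (ka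 xa3 ya2 za10) (ka xa6 ya0 za5) (ka xa4 ya9 za16) (ka xa5 ya10 za9) (ka xa5 ya12 za18) (ka xa5 ya12 za19) (ka xa5 ya10 za5) (ka xa4 ya9 za20) (ka xa5 ya13 za5) (ka xa4 ya9 za19) (ka xa5 ya2 za4) (ka xa3 ya10 za10) (ka xa5 ya12 za20) (ka xa5 ya13 za0) (ka xa5 ya12 za7) (ka xa5 ya12 za8) (ka xa4 ya9 za2) (ka xa4 ya10 za13) (ka xa4 ya10 za10) (ka xa4 ya9 za9) (ka xa4 ya9 za7)) (@D3.rec (fun _ => Pt) (ka xa5 ya12 za11) (ka xa4 ya10 za20) (ka xa4 ya11 za3) (ka xa4 ya11 za1) (ka xa3 ya7 za12) (ka xa5 ya12 za12) (ka xa3 ya3 za18) (ka xa5 ya2 za15) (ka xa5 ya0 za18) (ka xa6 ya1 za2) (ka xa4 ya9 za18) (ka xa4 ya5 za0) (ka xa4 ya5 za1) (ka xa4 ya9 za17) (ka xa5 ya13 za6) (ka xa5 ya2 za6) (ka xa5 ya13 za7) (ka xa3 ya4 za5) (ka xa6 ya1 za6) (ka xa4 ya5 za16) (ka xa4 ya10 za1))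 (@D3.rec (fun _ => Pt) (ka xa5 ya13 za10) (ka xa4 ya10 za3) (ka xa6 ya1 za12) (ka xa4 ya10 za2) (ka xa5 ya10 za4) (ka xa5 ya10 za6) (ka xa5 ya10 za7) (ka xa5 ya10 za8) (ka xa5 ya10 za10) (ka xa4 ya11 za12) (ka xa5 ya13 za11) (ka xa5 ya13 za12) (ka xa4 ya11 za9) (ka xa3 ya10 za2) (ka xa3 ya7 za18) (ka xa3 ya7 za15) (ka xa5 ya0 za11) (ka xa5 ya1 za3) (ka xa5 ya0 za12) (ka xa5 ya0 za13) (ka xa4 ya12 za5)) (@D3.rec (fun _ => Pt) (ka xa3 ya5 za14) (ka xa6 ya2 za7) (ka xa3 ya9 za19) (ka xa3 ya10 za0) (ka xa3 ya10 za5) (ka xa4 ya11 za20) (ka xa3 ya10 za12) (ka xa3 ya8 za6) (ka xa3 ya7 za17) (ka xa3 ya7 za19) (ka xa3 ya8 za9) (ka xa3 ya8 za10) (ka xa3 ya8 za11) (ka xa6 ya2 za11) (ka xa3 ya10 za19) (ka xa3 ya10 za20) (ka xa3 ya11 za0) (ka xa3 ya11 za1) (ka xa3 ya11 za2)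 (ka xa3 ya11 za3) (ka xa3 ya11 za6)) (@D3.rec (fun _ => Pt) (ka xa3 ya11 za7) (ka xa4 ya5 za14) (ka xa4 ya5 za15) (ka xa3 ya7 za11) (ka xa3 ya7 za13) (ka xa3 ya7 za14) (ka xa3 ya7 za16) (ka xa3 ya8 za3) (ka xa3 ya8 za7) (ka xa3 ya8 za8) (ka xa3 ya7 za6) (ka xa3 ya7 za7) (ka xa3 ya7 za8) (ka xa4 ya2 za12) (ka xa6 ya2 za19) (ka xa6 ya2 za20) (ka xa5 ya1 za0) (ka xa5 ya12 za2) (ka xa5 ya0 za20) (ka xa5 ya1 za1) (ka xa3 ya10 za1))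
def f_a_5 : D2 → D3 → Pt := @D2.rec (fun _ => D3 → Pt) (@D3.rec (fun _ => Pt) (ka xa5 ya12 za1) (ka xa4 ya1 za16) (ka xa5 ya2 za11) (ka xa6 ya2 za18) (ka xa6 ya1 za1) (ka xa5 ya2 za10) (ka xa6 ya2 za4) (ka xa6 ya2 za3) (ka xa6 ya1 za19) (ka xa6 ya2 za2) (ka xa6 ya2 za9) (ka xa4 ya11 za16) (ka xa4 ya11 za18) (ka xa4 ya11 za19) (ka xa5 ya1 za13) (ka xa5 ya1 za18) (ka xa5 ya2 za12) (ka xa5 ya8 za6) (ka xa4 ya10 za8) (ka xa6 ya0 za4) (ka xa4 ya13 za18)) (@D3.rec (fun _ => Pt) (ka xa4 ya13 za16) (ka xa4 ya13 za19) (ka xa4 ya3 za0) (ka xa4 ya11 za17) (ka xa4 ya8 za14) (ka xa4 ya8 za17) (ka xa3 ya9 za10) (ka xa3 ya9 za11) (ka xa3 ya9 za12) (ka xa3 ya9 za13) (ka xa4 ya2 za10) (ka xa5 ya10 za2) (ka xa5 ya9 za20) (ka xa5 ya0 za14) (ka xa6 ya3 za5) (ka xa6 ya4 za1) (ka xa5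 ya11 za2) (ka xa6 ya4 za2) (ka xa5 ya0 za15) (ka xa6 ya4 za3) (ka xa4 ya8 za10)) (@D3.rec (fun _ => Pt) (ka xa4 ya8 za11) (ka xa4 ya8 za12) (ka xa6 ya3 za6) (ka xa4 ya8 za13) (ka xa4 ya9 za10) (ka xa5 ya9 za6) (ka xa4 ya10 za15) (ka xa5 ya3 za1) (ka xa5 ya3 za2) (ka xa4 ya8 za15) (ka xa5 ya0 za5) (ka xa5 ya0 za2) (ka xa5 ya0 za16) (ka xa5 ya6 za15) (ka xa3 ya10 za18) (ka xa4 ya10 za7) (ka xa6 ya1 za5) (ka xa6 ya2 za14) (ka xa6 ya2 za15) (ka xa4 ya8 za19) (ka xa5 ya3 za0)) (@D3.rec (fun _ => Pt) (ka xa5 ya2 za20) (ka xa5 ya2 za7) (ka xa5 ya2 za8) (ka xa3 ya11 za9) (ka xa5 ya3 za5) (ka xa5 ya3 za4) (ka xa5 ya3 za16) (ka xa5 ya3 za17) (ka xa4 ya0 za8) (ka xa4 ya0 za9) (ka xa4 ya0 za10) (ka xa4 ya0 za11) (ka xa3 ya12 za1) (ka xa3 ya12 za3) (ka xa6 ya5 za12) (ka xa6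 ya5 za13) (ka xa5 ya3 za6) (ka xa5 ya3 za7) (ka xa4 ya1 za6) (ka xa4 ya1 za7) (ka xa4 ya1 za8)) (@D3.rec (fun _ => Pt) (ka xa4 ya1 za10) (ka xa4 ya1 za11) (ka xa4 ya1 za12) (ka xa4 ya1 za13) (ka xa4 ya1 za14) (ka xa4 ya1 za15) (ka xa4 ya1 za19) (ka xa4 ya2 za1) (ka xa4 ya2 za9) (ka xa4 ya2 za13) (ka xa4 ya2 za14) (ka xa4 ya2 za15) (ka xa4 ya2 za16) (ka xa4 ya2 za18) (ka xa4 ya2 za19) (ka xa4 ya2 za20) (ka xa6 ya3 za19) (ka xa4 ya3 za6) (ka xa4 ya3 za7) (ka xa4 ya3 za8) (ka xa4 ya3 za10)) (@D3.rec (fun _ => Pt) (ka xa4 ya3 za11) (ka xa4 ya3 za12) (ka xa6 ya6 za20) (ka xa4 ya4 za2) (ka xa4 ya4 za3) (ka xa4 ya4 za4) (ka xa4 ya4 za5) (ka xa4 ya4 za6) (ka xa4 ya4 za7) (ka xa4 ya4 za8) (ka xa4 ya4 za12) (ka xa5 ya11 za3) (ka xa4 ya4 za18) (ka xa4 ya4 za16) (ka xa4 ya5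 za2) (ka xa4 ya5 za3) (ka xa4 ya5 za6) (ka xa4 ya5 za7) (ka xa4 ya5 za8) (ka xa4 ya5 za10) (ka xa4 ya5 za11)) (@D3.rec (fun _ => Pt) (ka xa4 ya5 za12) (ka xa4 ya5 za13) (ka xa5 ya7 za5) (ka xa5 ya7 za3) (ka xa5 ya7 za6) (ka xa5 ya7 za7) (ka xa5 ya9 za13) (ka xa5 ya9 za11) (ka xa5 ya9 za12) (ka xa6 ya5 za7) (ka xa6 ya5 za8) (ka xa6 ya5 za9) (ka xa6 ya5 za10) (ka xa6 ya5 za11) (ka xa5 ya8 za7) (ka xa5 ya2 za13) (ka xa6 ya8 za2) (ka xa5 ya8 za11) (ka xa5 ya10 za15) (ka xa5 ya8 za8) (ka xa5 ya8 za13)) (@D3.rec (fun _ => Pt) (ka xa5 ya8 za9) (ka xa4 ya1 za0) (ka xa5 ya7 za4) (ka xa5 ya6 za3) (ka xa5 ya7 za2) (ka xa5 ya6 za2) (ka xa5 ya6 za4) (ka xa5 ya6 za5) (ka xa5 ya8 za3) (ka xa5 ya8 za5) (ka xa6 ya5 za19) (ka xa6 ya3 za8) (ka xa6 ya5 za20) (ka xa5 ya8 za0) (ka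 xa6 ya6 za3) (ka xa6 ya6 za1) (ka xa6 ya6 za2) (ka xa6 ya6 za4) (ka xa6 ya6 za5) (ka xa6 ya6 za6) (ka xa6 ya5 za15)) (@D3.rec (fun _ => Pt) (ka xa5 ya7 za13) (ka xa5 ya8 za18) (ka xa6 ya6 za7) (ka xa5 ya7 za8) (ka xa5 ya11 za0) (ka xa5 ya7 za9) (ka xa5 ya0 za17) (ka xa5 ya6 za14) (ka xa5 ya6 za19) (ka xa5 ya7 za0) (ka xa6 ya9 za4) (ka xa5 ya6 za17) (ka xa6 ya4 za4) (ka xa5 ya6 za20) (ka xa6 ya3 za1) (ka xa6 ya3 za0) (ka xa6 ya3 za17) (ka xa6 ya6 za9) (ka xa5 ya8 za1) (ka xa6 ya6 za10) (ka xa6 ya9 za8)) (@D3.rec (fun _ => Pt) (ka xa6 ya6 za11) (ka xa5 ya11 za4) (ka xa5 ya11 za5) (ka xa4 ya7 za6) (ka xa6 ya6 za12) (ka xa6 ya6 za13) (ka xa5 ya2 za5) (ka xa4 ya3 za4) (ka xa6 ya8 za13) (ka xa5 ya10 za0) (ka xa6 ya7 za9) (ka xa5 ya6 za7) (ka xa5 ya6 za8) (ka xa5 ya6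 za6) (ka xa6 ya6 za16) (ka xa6 ya6 za17) (ka xa6 ya6 za18) (ka xa6 ya6 za19) (ka xa6 ya6 za15) (ka xa5 ya12 za4) (ka xa5 ya1 za12)) (@D3.rec (fun _ => Pt) (ka xa5 ya9 za9) (ka xa5 ya12 za5) (ka xa5 ya1 za11) (ka xa6 ya10 za2) (ka xa4 ya11 za4) (ka xa4 ya9 za6) (ka xa4 ya11 za5) (ka xa4 ya11 za6) (ka xa4 ya11 za7) (ka xa4 ya9 za3) (ka xa4 ya11 za8) (ka xa4 ya4 za0) (ka xa6 ya9 za3) (ka xa6 ya7 za10) (ka xa6 ya8 za12) (ka xa5 ya6 za18) (ka xa6 ya7 za2) (ka xa6 ya7 za3) (ka xa6 ya4 za11) (ka xa6 ya7 za4) (ka xa5 ya13 za9)) (@D3.rec (fun _ => Pt) (ka xa5 ya8 za4) (ka xa5 ya11 za1) (ka xa5 ya1 za16) (ka xa5 ya5 za11) (ka xa5 ya9 za1) (ka xa5 ya9 za2) (ka xa6 ya4 za7) (ka xa5 ya11 za8) (ka xa5 ya11 za7) (ka xa6 ya2 za6) (ka xa5 ya11 za15) (ka xa5 ya11 za17) (ka xa6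 ya8 za19) (ka xa6 ya7 za6) (ka xa6 ya7 za7) (ka xa5 ya11 za10) (ka xa6 ya7 za8) (ka xa5 ya11 za11) (ka xa6 ya2 za17) (ka xa6 ya2 za16) (ka xa6 ya1 za8)) (@D3.rec (fun _ => Pt) (ka xa4 ya8 za0) (ka xa5 ya0 za0) (ka xa4 ya13 za17) (ka xa6 ya6 za14) (ka xa5 ya9 za19) (ka xa5 ya10 za1) (ka xa5 ya12 za6) (ka xa4 ya9 za14) (ka xa4 ya9 za15) (ka xa4 ya8 za16) (ka xa5 ya12 za17) (ka xa4 ya10 za0) (ka xa4 ya10 za5) (ka xa6 ya0 za18) (ka xa4 ya8 za20) (ka xa4 ya7 za0) (ka xa6 ya7 za15) (ka xa5 ya12 za10) (ka xa4 ya9 za4) (ka xa4 ya9 za5) (ka xa4 ya9 za12)) (@D3.rec (fun _ => Pt) (ka xa4 ya9 za13) (ka xa4 ya7 za14) (ka xa6 ya2 za10) (ka xa6 ya2 za12) (ka xa6 ya0 za2) (ka xa4 ya9 za8) (ka xa4 ya10 za14) (ka xa4 ya10 za16) (ka xa6 ya10 za19) (ka xa5 ya10 za20) (ka xa4 ya11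 za0) (ka xa4 ya11 za10) (ka xa4 ya11 za11) (ka xa4 ya8 za8) (ka xa6 ya10 za10) (ka xa6 ya3 za13) (ka xa6 ya11 za14) (ka xa6 ya4 za14) (ka xa6 ya0 za9) (ka xa6 ya1 za18) (ka xa6 ya4 za17))
def f_a_6 : D2 → D3 → Pt := @D2.rec (fun _ => D3 → Pt) (@D3.rec (fun _ => Pt) (ka xa6 ya0 za3) (ka xa4 ya8 za18) (ka xa5 ya13 za4) (ka xa6 ya0 za0) (ka xa5 ya0 za19) (ka xa4 ya9 za1) (ka xa6 ya5 za6) (ka xa6 ya1 za14) (ka xa6 ya11 za17) (ka xa5 ya13 za18) (ka xa6 ya10 za5) (ka xa6 ya0 za15) (ka xa6 ya4 za0) (ka xa6 ya11 za19) (ka xa6 ya11 za3) (ka xa6 ya0 za11) (ka xa6 ya0 za17) (ka xa6 ya0 za16) (ka xa5 ya12 za13) (ka xa6 ya1 za9) (ka xa6 ya12 za1)) (@D3.rec (fun _ => Pt) (ka xa6 ya1 za11) (ka xa5 ya0 za4) (ka xa4 ya10 za9) (ka xa6 ya4 za18) (ka xa6 ya3 za16) (ka xa5 ya2 za16)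 (ka xa4 ya10 za18) (ka xa6 ya10 za1) (ka xa5 ya11 za20) (ka xa6 ya0 za19) (ka xa6 ya12 za4) (ka xa6 ya1 za0) (ka xa4 ya11 za2) (ka xa6 ya3 za9) (ka xa6 ya0 za7) (ka xa6 ya10 za6) (ka xa6 ya5 za0) (ka xa6 ya2 za1) (ka xa5 ya13 za19) (ka xa5 ya0 za8) (ka xa6 ya9 za19)) (@D3.rec (fun _ => Pt) (ka xa6 ya11 za12) (ka xa6 ya1 za17) (ka xa5 ya0 za9) (ka xa5 ya0 za7) (ka xa5 ya0 za6) (ka xa6 ya3 za14) (ka xa5 ya11 za9) (ka xa4 ya12 za1) (ka xa6 ya11 za11) (ka xa5 ya0 za10) (ka xa5 ya13 za2) (ka xa4 ya12 za13) (ka xa5 ya13 za3) (ka xa6 ya11 za8) (ka xa5 ya2 za17) (ka xa5 ya2 za18) (ka xa5 ya11 za19) (ka xa5 ya11 za18) (ka xa5 ya0 za3) (ka xa4 ya13 za14) (ka xa4 ya13 za15)) (@D3.rec (fun _ => Pt) (ka xa5 ya8 za15) (ka xa5 ya8 za14) (ka xa6 ya3 za18) (ka xa6 ya3 za20) (ka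 xa6 ya9 za7) (ka xa5 ya1 za14) (ka xa5 ya2 za2) (ka xa6 ya10 za12) (ka xa5 ya7 za11) (ka xa6 ya1 za13) (ka xa6 ya3 za11) (ka xa6 ya3 za10) (ka xa6 ya9 za1) (ka xa5 ya13 za15) (ka xa6 ya2 za5) (ka xa6 ya4 za9) (ka xa6 ya1 za4) (ka xa5 ya8 za16) (ka xa6 ya3 za2) (ka xa5 ya4 za16) (ka xa6 ya3 za3)) (@D3.rec (fun _ => Pt) (ka xa6 ya0 za12) (ka xa5 ya1 za15) (ka xa5 ya1 za17) (ka xa5 ya1 za19) (ka xa5 ya8 za12) (ka xa6 ya11 za0) (ka xa6 ya10 za0) (ka xa5 ya11 za6) (ka xa6 ya9 za20) (ka xa6 ya3 za15) (ka xa6 ya12 za17) (ka xa5 ya10 za18) (ka xa6 ya12 za6) (ka xa6 ya11 za20) (ka xa5 ya13 za17) (ka xa6 ya9 za11) (ka xa6 ya12 za9) (ka xa5 ya13 za20) (ka xa6 ya1 za3) (ka xa6 ya8 za1) (ka xa6 ya5 za1)) (@D3.rec (fun _ => Pt) (ka xa6 ya1 za16) (ka xa6 ya4 za20) (ka xa6 ya5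 za16) (ka xa6 ya5 za14) (ka xa6 ya5 za17) (ka xa6 ya5 za18) (ka xa6 ya0 za6) (ka xa5 ya6 za9) (ka xa5 ya6 za10) (ka xa5 ya6 za11) (ka xa5 ya6 za12) (ka xa5 ya6 za13) (ka xa5 ya3 za14) (ka xa5 ya3 za15) (ka xa6 ya5 za3) (ka xa5 ya7 za20) (ka xa6 ya5 za2) (ka xa6 ya5 za4) (ka xa6 ya5 za5) (ka xa5 ya7 za10) (ka xa5 ya7 za12)) (@D3.rec (fun _ => Pt) (ka xa6 ya7 za16) (ka xa5 ya7 za15) (ka xa5 ya7 za16) (ka xa5 ya7 za14) (ka xa5 ya7 za17) (ka xa5 ya7 za18) (ka xa5 ya7 za19) (ka xa5 ya8 za2) (ka xa6 ya8 za3) (ka xa5 ya8 za17) (ka xa5 ya8 za19) (ka xa5 ya9 za0) (ka xa5 ya9 za4) (ka xa5 ya9 za5) (ka xa5 ya12 za3) (ka xa5 ya9 za18) (ka xa5 ya9 za14) (ka xa5 ya9 za15) (ka xa5 ya9 za16) (ka xa5 ya9 za17) (ka xa5 ya5 za2)) (@D3.rec (fun _ => Pt) (ka xa6 ya13 za3) (ka xa6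 ya11 za18) (ka xa5 ya10 za16) (ka xa5 ya10 za17) (ka xa5 ya10 za19) (ka xa6 ya8 za7) (ka xa5 ya11 za13) (ka xa5 ya11 za14) (ka xa5 ya11 za16) (ka xa5 ya9 za10) (ka xa5 ya10 za13) (ka xa6 ya8 za8) (ka xa6 ya8 za10) (ka xa6 ya8 za9) (ka xa6 ya8 za11) (ka xa5 ya12 za16) (ka xa6 ya6 za0) (ka xa6 ya9 za18) (ka xa6 ya8 za17) (ka xa6 ya9 za16) (ka xa6 ya9 za17)) (@D3.rec (fun _ => Pt) (ka xa6 ya8 za6) (ka xa6 ya4 za19) (ka xa5 ya6 za16) (ka xa6 ya6 za8) (ka xa6 ya13 za14) (ka xa6 ya9 za6) (ka xa6 ya8 za0) (ka xa6 ya7 za5) (ka xa6 ya7 za11) (ka xa6 ya7 za13) (ka xa6 ya7 za12) (ka xa6 ya7 za14) (ka xa5 ya10 za14) (ka xa5 ya9 za8) (ka xa6 ya12 za13) (ka xa6 ya9 za12) (ka xa6 ya13 za6) (ka xa6 ya7 za18) (ka xa6 ya9 za14) (ka xa5 ya11 za12) (ka xa6 ya9 za10)) (@D3.rec (fun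 _ => Pt) (ka xa6 ya9 za15) (ka xa6 ya3 za12) (ka xa6 ya12 za10) (ka xa5 ya10 za12) (ka xa5 ya8 za10) (ka xa6 ya13 za17) (ka xa6 ya8 za5) (ka xa6 ya3 za4) (ka xa5 ya8 za20) (ka xa6 ya12 za16) (ka xa6 ya8 za20) (ka xa6 ya4 za15) (ka xa6 ya8 za15) (ka xa6 ya13 za7) (ka xa6 ya8 za18) (ka xa6 ya9 za0) (ka xa6 ya7 za19) (ka xa6 ya7 za20) (ka xa6 ya7 za17) (ka xa6 ya1 za20) (ka xa6 ya4 za8)) (@D3.rec (fun _ => Pt) (ka xa6 ya4 za6) (ka xa6 ya1 za7) (ka xa5 ya10 za3) (ka xa6 ya13 za12) (ka xa6 ya11 za6) (ka xa6 ya0 za10) (ka xa6 ya1 za15) (ka xa6 ya13 za16) (ka xa6 ya13 za13) (ka xa6 ya13 za8) (ka xa5 ya13 za14) (ka xa6 ya13 za9) (ka xa6 ya3 za7) (ka xa6 ya11 za9) (ka xa6 ya10 za20) (ka xa6 ya10 za15) (ka xa6 ya10 za18) (ka xa6 ya12 za3) (ka xa6 ya10 za16) (ka xa5 ya13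 za8) (ka xa6 ya10 za14)) (@D3.rec (fun _ => Pt) (ka xa6 ya4 za5) (ka xa6 ya13 za10) (ka xa6 ya11 za15) (ka xa6 ya0 za14) (ka xa6 ya11 za5) (ka xa6 ya11 za4) (ka xa6 ya10 za4) (ka xa6 ya11 za16) (ka xa6 ya2 za13) (ka xa6 ya10 za13) (ka xa6 ya12 za2) (ka xa6 ya2 za8) (ka xa6 ya2 za0) (ka xa6 ya13 za19) (ka xa5 ya13 za16) (ka xa6 ya11 za2) (ka xa6 ya11 za7) (ka xa6 ya0 za8) (ka xa6 ya7 za1) (ka xa6 ya0 za13) (ka xa6 ya4 za13)) (@D3.rec (fun _ => Pt) (ka xa6 ya13 za11) (ka xa6 ya0 za20) (ka xa6 ya11 za10) (ka xa6 ya10 za17) (ka xa6 ya1 za10) (ka xa6 ya12 za11) (ka xa6 ya4 za12) (ka xa6 ya12 za8) (ka xa6 ya12 za7) (ka xa6 ya4 za16) (ka xa6 ya9 za2) (ka xa6 ya12 za5) (ka xa6 ya13 za1) (ka xa6 ya8 za14) (ka xa6 ya12 za15) (ka xa6 ya12 za14) (ka xa6 ya9 za9) (ka xa6 ya4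 za10) (ka xa6 ya13 za15) (ka xa6 ya12 za20) (ka xa6 ya12 za19)) (@D3.rec (fun _ => Pt) (ka xa6 ya13 za2) (ka xa6 ya12 za12) (ka xa6 ya13 za0) (ka xa6 ya7 za0) (ka xa6 ya13 za5) (ka xa6 ya13 za4) (ka xa6 ya8 za16) (ka xa6 ya9 za13) (ka xa6 ya10 za9) (ka xa6 ya10 za11) (ka xa6 ya11 za1) (ka xa6 ya12 za0) (ka xa6 ya10 za3) (ka xa6 ya10 za8) (ka xa6 ya8 za4) (ka xa6 ya12 za18) (ka xa6 ya10 za7) (ka xa6 ya9 za5) (ka xa6 ya13 za20) (ka xa6 ya11 za13) (ka xa6 ya13 za18))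
def f_a : Pt → Pt := @Pt.rec (fun _ => Pt) (@D1.rec (fun _ => D2 → D3 → Pt) f_a_0 f_a_1 f_a_2 f_a_3 f_a_4 f_a_5 f_a_6)
def fi_a : Pt → Pt := f_a

theorem inv_chk_a : chkInv allPts beqPt f_a fi_a = true := by decide +kernel

end

end Cfsg.Agent.Helper28.S1683
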