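import Cfsg.Agent.Lib.Helper28.S1683.Defs

set_option autoImplicit false
set_option maxRecDepth 100000
set_option linter.all false

namespace Cfsg.Agent.Helper28.S1683

open Cfsg.Agent.Helper28
open Cfsg.Spor.He (Gen)

noncomputable section

abbrev kb := Pt.mk
abbrev xb0 := D1.c0
abbrev xb1 := D1.c1
abbrev xb2 := D1.c2
abbrev xb3 := D1.c3
abbrev xb4 := D1.c4
abbrev xb5 := D1.c5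
abbrev xb6 := D1.c6
abbrev yb0 := D2.c0
abbrev yb1 := D2.c1
abbrev yb2 := D2.c2
abbrev yb3 := D2.c3
abbrev yb4 := D2.c4
abbrev yb5 := D2.c5
abbrev yb6 := D2.c6
abbrev yb7 := D2.c7
abbrev yb8 := D2.c8
abbrev yb9 := D2.c9
abbrev yb10 := D2.c10
abbrev yb11 := D2.c11
abbrev yb12 := D2.c12
abbrev yb13 := D2.c13
abbrev zb0 := D3.c0
abbrev zb1 := D3.c1
abbrev zb2 := D3.c2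
abbrev zb3 := D3.c3
abbrev zb4 := D3.c4
abbrev zb5 := D3.c5
abbrev zb6 := D3.c6
abbrev zb7 := D3.c7
abbrev zb8 := D3.c8
abbrev zb9 := D3.c9
abbrev zb10 := D3.c10
abbrev zb11 := D3.c11
abbrev zb12 := D3.c12
abbrev zb13 := D3.c13
abbrev zb14 := D3.c14
abbrev zb15 := D3.c15
abbrev zb16 := D3.c16
abbrev zb17 := D3.c17
abbrev zb18 := D3.c18
abbrev zb19 := D3.c19
abbrev zb20 := D3.c20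
def f_b_0 : D2 → D3 → Pt := @D2.rec (fun _ => D3 → Pt) (@D3.rec (fun _ => Pt) (kb xb0 yb0 zb1) (kb xb0 yb0 zb0) (kb xb0 yb0 zb4) (kb xb0 yb0 zb3) (kb xb0 yb0 zb2) (kb xb0 yb0 zb8) (kb xb0 yb0 zb6) (kb xb0 yb0 zb7) (kb xb0 yb0 zb5) (kb xb0 yb0 zb18) (kb xb0 yb0 zb16) (kb xb0 yb0 zb17) (kb xb0 yb1 zb2) (kb xb0 yb0 zb13) (kb xb0 yb0 zb14) (kb xb0 yb1 zb7) (kb xb0 yb0 zb10) (kb xb0 yb0 zb11) (kb xb0 yb0 zb9) (kb xb0 yb1 zb13) (kb xb0 yb1 zb12)) (@D3.rec (fun _ => Pt) (kb xb0 yb1 zb14) (kb xb0 yb1 zb11) (kb xb0 yb0 zb12) (kb xb0 yb2 zb0) (kb xb0 yb1 zb20) (kb xb0 yb2 zb1) (kb xb0 yb1 zb6) (kb xb0 yb0 zb15) (kb xb0 yb2 zb10) (kb xb0 yb2 zb9) (kb xb0 yb2 zb11) (kb xb0 yb1 zb1) (kb xb0 yb0 zb20) (kb xb0 yb0 zb19) (kb xb0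 yb1 zb0) (kb xb0 yb3 zb2) (kb xb0 yb3 zb1) (kb xb0 yb2 zb19) (kb xb0 yb2 zb20) (kb xb0 yb2 zb18) (kb xb0 yb1 zb4)) (@D3.rec (fun _ => Pt) (kb xb0 yb1 zb3) (kb xb0 yb1 zb5) (kb xb0 yb3 zb10) (kb xb0 yb3 zb11) (kb xb0 yb3 zb12) (kb xb0 yb3 zb7) (kb xb0 yb3 zb8) (kb xb0 yb3 zb13) (kb xb0 yb2 zb8) (kb xb0 yb1 zb9) (kb xb0 yb1 zb8) (kb xb0 yb1 zb10) (kb xb0 yb4 zb9) (kb xb0 yb4 zb10) (kb xb0 yb4 zb11) (kb xb0 yb4 zb6) (kb xb0 yb4 zb7) (kb xb0 yb4 zb12) (kb xb0 yb1 zb19) (kb xb0 yb1 zb17) (kb xb0 yb1 zb18)) (@D3.rec (fun _ => Pt) (kb xb0 yb5 zb6) (kb xb0 yb1 zb16) (kb xb0 yb1 zb15) (kb xb0 yb5 zb9) (kb xb0 yb5 zb10) (kb xb0 yb5 zb4) (kb xb0 yb5 zb5) (kb xb0 yb2 zb5) (kb xb0 yb2 zb6) (kb xb0 yb3 zb9) (kb xb0 yb2 zb2) (kb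 xb0 yb2 zb3) (kb xb0 yb2 zb4) (kb xb0 yb2 zb7) (kb xb0 yb5 zb14) (kb xb0 yb6 zb0) (kb xb0 yb6 zb1) (kb xb0 yb6 zb2) (kb xb0 yb6 zb3) (kb xb0 yb6 zb4) (kb xb0 yb5 zb15)) (@D3.rec (fun _ => Pt) (kb xb0 yb5 zb16) (kb xb0 yb5 zb17) (kb xb0 yb6 zb18) (kb xb0 yb6 zb6) (kb xb0 yb6 zb7) (kb xb0 yb7 zb1) (kb xb0 yb2 zb15) (kb xb0 yb2 zb16) (kb xb0 yb4 zb8) (kb xb0 yb2 zb12) (kb xb0 yb2 zb13) (kb xb0 yb2 zb14) (kb xb0 yb2 zb17) (kb xb0 yb7 zb4) (kb xb0 yb7 zb12) (kb xb0 yb7 zb13) (kb xb0 yb7 zb14) (kb xb0 yb7 zb15) (kb xb0 yb7 zb5) (kb xb0 yb7 zb6) (kb xb0 yb7 zb7)) (@D3.rec (fun _ => Pt) (kb xb0 yb7 zb17) (kb xb0 yb7 zb18) (kb xb0 yb5 zb2) (kb xb0 yb8 zb6) (kb xb0 yb3 zb5) (kb xb0 yb3 zb6) (kb xb0 yb3 zb0) (kb xb0 yb8 zb10)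 (kb xb0 yb8 zb11) (kb xb0 yb3 zb3) (kb xb0 yb3 zb4) (kb xb0 yb8 zb17) (kb xb0 yb8 zb18) (kb xb0 yb8 zb19) (kb xb0 yb3 zb14) (kb xb0 yb3 zb20) (kb xb0 yb4 zb0) (kb xb0 yb4 zb1) (kb xb0 yb5 zb18) (kb xb0 yb5 zb19) (kb xb0 yb5 zb20)) (@D3.rec (fun _ => Pt) (kb xb0 yb3 zb15) (kb xb0 yb3 zb16) (kb xb0 yb3 zb17) (kb xb0 yb3 zb18) (kb xb0 yb3 zb19) (kb xb0 yb9 zb18) (kb xb0 yb4 zb3) (kb xb0 yb4 zb4) (kb xb0 yb9 zb1) (kb xb0 yb9 zb2) (kb xb0 yb9 zb13) (kb xb0 yb9 zb14) (kb xb0 yb9 zb16) (kb xb0 yb9 zb3) (kb xb0 yb9 zb4) (kb xb0 yb9 zb17) (kb xb0 yb9 zb5) (kb xb0 yb10 zb11) (kb xb0 yb4 zb2) (kb xb0 yb10 zb14) (kb xb0 yb10 zb13)) (@D3.rec (fun _ => Pt) (kb xb0 yb10 zb1) (kb xb0 yb4 zb5) (kb xb0 yb10 zb17) (kb xb0 yb11 zb0)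 (kb xb0 yb4 zb13) (kb xb0 yb4 zb18) (kb xb0 yb4 zb19) (kb xb0 yb4 zb20) (kb xb0 yb7 zb8) (kb xb0 yb7 zb9) (kb xb0 yb7 zb10) (kb xb0 yb7 zb11) (kb xb0 yb4 zb14) (kb xb0 yb4 zb15) (kb xb0 yb4 zb16) (kb xb0 yb4 zb17) (kb xb0 yb9 zb15) (kb xb0 yb5 zb0) (kb xb0 yb5 zb1) (kb xb0 yb11 zb4) (kb xb0 yb11 zb5)) (@D3.rec (fun _ => Pt) (kb xb0 yb11 zb20) (kb xb0 yb12 zb0) (kb xb0 yb11 zb6) (kb xb0 yb12 zb1) (kb xb0 yb11 zb7) (kb xb0 yb8 zb5) (kb xb0 yb5 zb3) (kb xb0 yb12 zb12) (kb xb0 yb8 zb9) (kb xb0 yb8 zb8) (kb xb0 yb5 zb7) (kb xb0 yb5 zb8) (kb xb0 yb13 zb3) (kb xb0 yb12 zb20) (kb xb0 yb13 zb0) (kb xb0 yb13 zb1) (kb xb0 yb13 zb2) (kb xb0 yb5 zb11) (kb xb0 yb5 zb12) (kb xb0 yb5 zb13) (kb xb0 yb13 zb18)) (@D3.rec (fun _ => Pt)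 (kb xb0 yb13 zb19) (kb xb0 yb6 zb8) (kb xb0 yb6 zb9) (kb xb0 yb6 zb13) (kb xb0 yb6 zb14) (kb xb0 yb6 zb16) (kb xb1 yb0 zb7) (kb xb0 yb9 zb7) (kb xb0 yb9 zb8) (kb xb0 yb9 zb9) (kb xb0 yb9 zb10) (kb xb0 yb9 zb11) (kb xb0 yb9 zb12) (kb xb0 yb6 zb10) (kb xb0 yb6 zb11) (kb xb0 yb7 zb16) (kb xb0 yb6 zb12) (kb xb0 yb6 zb15) (kb xb0 yb6 zb5) (kb xb1 yb1 zb7) (kb xb1 yb1 zb8)) (@D3.rec (fun _ => Pt) (kb xb1 yb1 zb6) (kb xb0 yb7 zb0) (kb xb1 yb0 zb3) (kb xb1 yb0 zb4) (kb xb1 yb1 zb19) (kb xb1 yb0 zb20) (kb xb1 yb1 zb0) (kb xb1 yb2 zb2) (kb xb1 yb2 zb3) (kb xb1 yb0 zb6) (kb xb1 yb1 zb5) (kb xb0 yb6 zb17) (kb xb1 yb2 zb5) (kb xb0 yb6 zb20) (kb xb0 yb6 zb19) (kb xb1 yb2 zb6) (kb xb1 yb1 zb16) (kb xb0 yb7 zb2) (kb xb1 yb2 zb11)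 (kb xb1 yb2 zb9) (kb xb1 yb2 zb10)) (@D3.rec (fun _ => Pt) (kb xb0 yb7 zb3) (kb xb1 yb2 zb12) (kb xb1 yb2 zb13) (kb xb1 yb2 zb14) (kb xb0 yb7 zb19) (kb xb0 yb7 zb20) (kb xb0 yb8 zb2) (kb xb0 yb8 zb4) (kb xb1 yb1 zb15) (kb xb1 yb3 zb4) (kb xb0 yb11 zb10) (kb xb0 yb11 zb11) (kb xb0 yb11 zb12) (kb xb0 yb11 zb13) (kb xb0 yb11 zb14) (kb xb0 yb11 zb15) (kb xb0 yb11 zb16) (kb xb0 yb11 zb17) (kb xb0 yb11 zb18) (kb xb0 yb11 zb19) (kb xb0 yb8 zb0)) (@D3.rec (fun _ => Pt) (kb xb0 yb8 zb1) (kb xb0 yb8 zb3) (kb xb1 yb1 zb2) (kb xb1 yb1 zb3) (kb xb1 yb0 zb5) (kb xb1 yb3 zb1) (kb xb0 yb12 zb6) (kb xb1 yb3 zb2) (kb xb1 yb4 zb5) (kb xb1 yb4 zb12) (kb xb0 yb12 zb10) (kb xb0 yb12 zb11) (kb xb0 yb8 zb7) (kb xb1 yb4 zb17) (kb xb1 yb4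 zb14) (kb xb1 yb4 zb15) (kb xb1 yb4 zb16) (kb xb0 yb12 zb18) (kb xb0 yb12 zb17) (kb xb1 yb5 zb12) (kb xb0 yb8 zb13)) (@D3.rec (fun _ => Pt) (kb xb0 yb8 zb14) (kb xb0 yb8 zb15) (kb xb0 yb8 zb16) (kb xb0 yb8 zb12) (kb xb1 yb6 zb5) (kb xb1 yb6 zb6) (kb xb1 yb6 zb7) (kb xb1 yb6 zb8) (kb xb1 yb5 zb17) (kb xb1 yb5 zb18) (kb xb1 yb5 zb19) (kb xb1 yb5 zb20) (kb xb1 yb6 zb0) (kb xb1 yb7 zb5) (kb xb1 yb6 zb2) (kb xb1 yb6 zb3) (kb xb0 yb13 zb16) (kb xb0 yb13 zb17) (kb xb0 yb8 zb20) (kb xb0 yb9 zb0) (kb xb1 yb7 zb13))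
def f_b_1 : D2 → D3 → Pt := @D2.rec (fun _ => D3 → Pt) (@D3.rec (fun _ => Pt) (kb xb1 yb0 zb2) (kb xb1 yb7 zb14) (kb xb1 yb0 zb0) (kb xb0 yb10 zb2) (kb xb0 yb10 zb3) (kb xb0 yb12 zb4) (kb xb0 yb10 zb9) (kb xb0 yb9 zb6) (kb xb1 yb8 zb7) (kb xb1 yb0 zb9) (kb xb1 yb0 zb10) (kb xb1 yb8 zb18) (kb xb1 yb0 zb12) (kb xb1 yb0 zb13) (kb xb1 yb0 zb14) (kb xb1 yb9 zb7) (kb xb1 yb0 zb16) (kb xb1 yb0 zb17) (kb xb1 yb0 zb18) (kb xb1 yb9 zb17) (kb xb0 yb10 zb5)) (@D3.rec (fun _ => Pt) (kb xb0 yb10 zb6) (kb xb1 yb10 zb2) (kb xb0 yb12 zb2) (kb xb0 yb12 zb3) (kb xb1 yb10 zb9) (kb xb0 yb10 zb10) (kb xb0 yb10 zb0) (kb xb0 yb9 zb19) (kb xb0 yb9 zb20) (kb xb1 yb10 zb18) (kb xb1 yb10 zb14) (kb xb1 yb10 zb15) (kb xb1 yb10 zb16) (kb xb1 yb10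 zb17) (kb xb1 yb10 zb12) (kb xb0 yb11 zb8) (kb xb0 yb10 zb16) (kb xb1 yb11 zb15) (kb xb1 yb8 zb3) (kb xb0 yb10 zb4) (kb xb1 yb11 zb17)) (@D3.rec (fun _ => Pt) (kb xb1 yb10 zb0) (kb xb1 yb10 zb1) (kb xb0 yb10 zb7) (kb xb0 yb10 zb8) (kb xb1 yb11 zb18) (kb xb0 yb10 zb12) (kb xb0 yb10 zb15) (kb xb1 yb11 zb16) (kb xb1 yb12 zb2) (kb xb0 yb10 zb19) (kb xb0 yb10 zb20) (kb xb0 yb10 zb18) (kb xb0 yb11 zb1) (kb xb0 yb11 zb2) (kb xb0 yb11 zb3) (kb xb1 yb12 zb6) (kb xb1 yb12 zb7) (kb xb1 yb12 zb8) (kb xb1 yb12 zb9) (kb xb1 yb3 zb0) (kb xb1 yb12 zb10)) (@D3.rec (fun _ => Pt) (kb xb1 yb2 zb19) (kb xb0 yb12 zb5) (kb xb0 yb12 zb7) (kb xb1 yb11 zb13) (kb xb0 yb11 zb9) (kb xb1 yb13 zb5) (kb xb1 yb13 zb6) (kb xb1 yb13 zb7) (kb xb1 yb3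 zb8) (kb xb1 yb3 zb9) (kb xb1 yb3 zb10) (kb xb1 yb3 zb11) (kb xb1 yb3 zb12) (kb xb1 yb3 zb13) (kb xb1 yb3 zb14) (kb xb2 yb0 zb7) (kb xb1 yb3 zb16) (kb xb1 yb3 zb17) (kb xb1 yb3 zb18) (kb xb1 yb3 zb19) (kb xb2 yb0 zb19)) (@D3.rec (fun _ => Pt) (kb xb1 yb4 zb0) (kb xb2 yb1 zb1) (kb xb1 yb4 zb2) (kb xb1 yb9 zb20) (kb xb1 yb8 zb4) (kb xb0 yb12 zb8) (kb xb1 yb10 zb5) (kb xb1 yb10 zb6) (kb xb1 yb10 zb7) (kb xb1 yb10 zb8) (kb xb1 yb8 zb5) (kb xb1 yb4 zb11) (kb xb0 yb12 zb9) (kb xb1 yb11 zb4) (kb xb0 yb12 zb14) (kb xb0 yb12 zb15) (kb xb0 yb12 zb16) (kb xb0 yb12 zb13) (kb xb2 yb2 zb1) (kb xb2 yb2 zb2) (kb xb1 yb10 zb20)) (@D3.rec (fun _ => Pt) (kb xb1 yb5 zb10) (kb xb2 yb1 zb18) (kb xb2 yb1 zb19) (kb xb2 yb1 zb20) (kb xb1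 yb5 zb8) (kb xb1 yb10 zb13) (kb xb2 yb2 zb19) (kb xb1 yb5 zb11) (kb xb1 yb5 zb4) (kb xb2 yb3 zb4) (kb xb1 yb5 zb0) (kb xb1 yb5 zb7) (kb xb0 yb12 zb19) (kb xb2 yb3 zb11) (kb xb2 yb3 zb12) (kb xb1 yb11 zb9) (kb xb2 yb3 zb13) (kb xb0 yb13 zb8) (kb xb0 yb13 zb9) (kb xb0 yb13 zb10) (kb xb0 yb13 zb11)) (@D3.rec (fun _ => Pt) (kb xb0 yb13 zb12) (kb xb2 yb4 zb7) (kb xb0 yb13 zb14) (kb xb0 yb13 zb15) (kb xb1 yb6 zb19) (kb xb0 yb13 zb4) (kb xb0 yb13 zb5) (kb xb0 yb13 zb6) (kb xb0 yb13 zb7) (kb xb2 yb4 zb17) (kb xb2 yb4 zb18) (kb xb2 yb4 zb19) (kb xb2 yb4 zb20) (kb xb2 yb5 zb0) (kb xb2 yb5 zb1) (kb xb2 yb5 zb2) (kb xb1 yb11 zb7) (kb xb2 yb5 zb3) (kb xb2 yb5 zb4) (kb xb1 yb6 zb4) (kb xb2 yb4 zb1)) (@D3.rec (fun _ => Pt) (kb xb2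 yb4 zb2) (kb xb2 yb4 zb3) (kb xb2 yb4 zb4) (kb xb2 yb4 zb5) (kb xb2 yb4 zb6) (kb xb0 yb13 zb13) (kb xb1 yb9 zb10) (kb xb2 yb6 zb14) (kb xb2 yb6 zb15) (kb xb2 yb4 zb11) (kb xb2 yb4 zb12) (kb xb1 yb7 zb11) (kb xb1 yb7 zb12) (kb xb0 yb13 zb20) (kb xb1 yb0 zb1) (kb xb2 yb7 zb12) (kb xb2 yb7 zb7) (kb xb2 yb7 zb8) (kb xb1 yb8 zb1) (kb xb2 yb5 zb12) (kb xb2 yb7 zb10)) (@D3.rec (fun _ => Pt) (kb xb2 yb7 zb11) (kb xb1 yb7 zb18) (kb xb2 yb8 zb9) (kb xb1 yb1 zb18) (kb xb1 yb4 zb4) (kb xb1 yb4 zb10) (kb xb1 yb12 zb4) (kb xb1 yb0 zb8) (kb xb2 yb8 zb20) (kb xb2 yb8 zb18) (kb xb2 yb8 zb19) (kb xb2 yb3 zb7) (kb xb2 yb9 zb6) (kb xb1 yb8 zb13) (kb xb1 yb8 zb14) (kb xb2 yb9 zb10) (kb xb1 yb8 zb16) (kb xb1 yb8 zb17) (kb xb1 yb0 zb11)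 (kb xb2 yb9 zb15) (kb xb2 yb9 zb16)) (@D3.rec (fun _ => Pt) (kb xb2 yb9 zb17) (kb xb1 yb9 zb1) (kb xb1 yb9 zb2) (kb xb1 yb9 zb3) (kb xb2 yb10 zb9) (kb xb1 yb9 zb5) (kb xb1 yb9 zb6) (kb xb1 yb0 zb15) (kb xb2 yb10 zb16) (kb xb2 yb10 zb17) (kb xb1 yb7 zb6) (kb xb1 yb9 zb11) (kb xb1 yb9 zb12) (kb xb1 yb9 zb13) (kb xb2 yb1 zb8) (kb xb1 yb9 zb15) (kb xb1 yb9 zb16) (kb xb1 yb0 zb19) (kb xb2 yb11 zb12) (kb xb2 yb11 zb13) (kb xb1 yb4 zb3)) (@D3.rec (fun _ => Pt) (kb xb1 yb2 zb0) (kb xb1 yb2 zb1) (kb xb1 yb1 zb1) (kb xb2 yb12 zb1) (kb xb1 yb10 zb4) (kb xb1 yb4 zb6) (kb xb1 yb4 zb7) (kb xb1 yb4 zb8) (kb xb1 yb4 zb9) (kb xb1 yb1 zb4) (kb xb2 yb12 zb12) (kb xb1 yb12 zb3) (kb xb1 yb1 zb14) (kb xb1 yb5 zb5) (kb xb1 yb1 zb10) (kb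 xb1 yb1 zb11) (kb xb1 yb1 zb12) (kb xb1 yb1 zb13) (kb xb1 yb1 zb9) (kb xb2 yb2 zb7) (kb xb1 yb4 zb20)) (@D3.rec (fun _ => Pt) (kb xb2 yb2 zb4) (kb xb2 yb3 zb20) (kb xb2 yb12 zb19) (kb xb2 yb1 zb17) (kb xb1 yb4 zb13) (kb xb2 yb12 zb17) (kb xb2 yb1 zb16) (kb xb1 yb6 zb16) (kb xb2 yb3 zb18) (kb xb1 yb5 zb15) (kb xb2 yb6 zb18) (kb xb2 yb12 zb16) (kb xb2 yb4 zb10) (kb xb1 yb3 zb3) (kb xb2 yb11 zb11) (kb xb1 yb1 zb17) (kb xb1 yb2 zb7) (kb xb1 yb1 zb20) (kb xb1 yb2 zb4) (kb xb1 yb11 zb19) (kb xb2 yb13 zb16)) (@D3.rec (fun _ => Pt) (kb xb2 yb8 zb11) (kb xb2 yb11 zb19) (kb xb1 yb2 zb8) (kb xb1 yb10 zb11) (kb xb1 yb8 zb6) (kb xb2 yb4 zb16) (kb xb1 yb2 zb15) (kb xb1 yb2 zb16) (kb xb1 yb2 zb17) (kb xb1 yb2 zb18) (kb xb1 yb2 zb20)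 (kb xb3 yb0 zb1) (kb xb3 yb0 zb2) (kb xb3 yb0 zb3) (kb xb3 yb0 zb4) (kb xb3 yb0 zb5) (kb xb3 yb0 zb6) (kb xb3 yb1 zb0) (kb xb3 yb0 zb8) (kb xb3 yb1 zb3) (kb xb3 yb0 zb10)) (@D3.rec (fun _ => Pt) (kb xb2 yb12 zb0) (kb xb2 yb13 zb14) (kb xb2 yb13 zb13) (kb xb2 yb10 zb12) (kb xb1 yb13 zb15) (kb xb1 yb3 zb5) (kb xb1 yb3 zb6) (kb xb1 yb3 zb7) (kb xb3 yb1 zb11) (kb xb3 yb1 zb12) (kb xb3 yb1 zb13) (kb xb2 yb11 zb17) (kb xb2 yb11 zb20) (kb xb3 yb1 zb14) (kb xb3 yb1 zb15) (kb xb1 yb13 zb4) (kb xb1 yb13 zb16) (kb xb1 yb13 zb17) (kb xb1 yb13 zb18) (kb xb1 yb13 zb19) (kb xb3 yb2 zb10))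
def f_b_2 : D2 → D3 → Pt := @D2.rec (fun _ => D3 → Pt) (@D3.rec (fun _ => Pt) (kb xb2 yb0 zb0) (kb xb2 yb0 zb1) (kb xb2 yb0 zb2) (kb xb3 yb2 zb17) (kb xb2 yb0 zb4) (kb xb2 yb0 zb5) (kb xb2 yb0 zb6) (kb xb1 yb3 zb15) (kb xb2 yb9 zb13) (kb xb3 yb3 zb3) (kb xb3 yb3 zb4) (kb xb2 yb0 zb11) (kb xb2 yb0 zb12) (kb xb2 yb0 zb13) (kb xb2 yb0 zb14) (kb xb3 yb3 zb11) (kb xb2 yb0 zb16) (kb xb3 yb3 zb14) (kb xb2 yb0 zb18) (kb xb1 yb3 zb20) (kb xb3 yb3 zb18)) (@D3.rec (fun _ => Pt) (kb xb3 yb3 zb19) (kb xb1 yb4 zb1) (kb xb3 yb4 zb5) (kb xb3 yb4 zb6) (kb xb2 yb8 zb12) (kb xb2 yb12 zb7) (kb xb2 yb12 zb8) (kb xb2 yb11 zb4) (kb xb1 yb9 zb14) (kb xb2 yb8 zb16) (kb xb2 yb11 zb9) (kb xb2 yb8 zb14) (kb xb2 yb12 zb10) (kb xb2 yb12 zb11)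 (kb xb2 yb8 zb15) (kb xb2 yb13 zb6) (kb xb1 yb11 zb6) (kb xb1 yb11 zb3) (kb xb1 yb5 zb1) (kb xb1 yb5 zb2) (kb xb1 yb5 zb3)) (@D3.rec (fun _ => Pt) (kb xb2 yb2 zb9) (kb xb1 yb4 zb18) (kb xb1 yb4 zb19) (kb xb3 yb5 zb13) (kb xb1 yb11 zb0) (kb xb2 yb13 zb0) (kb xb3 yb5 zb14) (kb xb1 yb10 zb19) (kb xb2 yb13 zb1) (kb xb2 yb2 zb0) (kb xb2 yb3 zb8) (kb xb2 yb2 zb16) (kb xb3 yb5 zb9) (kb xb3 yb5 zb10) (kb xb3 yb5 zb11) (kb xb2 yb9 zb3) (kb xb2 yb2 zb11) (kb xb2 yb3 zb3) (kb xb2 yb12 zb18) (kb xb1 yb5 zb6) (kb xb2 yb11 zb2)) (@D3.rec (fun _ => Pt) (kb xb2 yb9 zb2) (kb xb3 yb6 zb15) (kb xb2 yb3 zb9) (kb xb2 yb2 zb17) (kb xb1 yb5 zb9) (kb xb3 yb6 zb20) (kb xb2 yb9 zb5) (kb xb1 yb8 zb11) (kb xb2 yb2 zb10) (kb xb2 yb3 zb2) (kb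 xb2 yb4 zb0) (kb xb1 yb5 zb13) (kb xb1 yb5 zb14) (kb xb1 yb5 zb16) (kb xb3 yb7 zb7) (kb xb3 yb7 zb8) (kb xb3 yb7 zb9) (kb xb2 yb13 zb3) (kb xb1 yb11 zb8) (kb xb3 yb7 zb10) (kb xb1 yb11 zb1)) (@D3.rec (fun _ => Pt) (kb xb2 yb3 zb10) (kb xb1 yb6 zb20) (kb xb1 yb7 zb0) (kb xb1 yb7 zb1) (kb xb1 yb7 zb2) (kb xb1 yb7 zb3) (kb xb1 yb7 zb4) (kb xb1 yb6 zb1) (kb xb3 yb8 zb12) (kb xb2 yb13 zb7) (kb xb1 yb11 zb12) (kb xb1 yb7 zb9) (kb xb1 yb7 zb10) (kb xb2 yb6 zb0) (kb xb2 yb6 zb1) (kb xb2 yb6 zb2) (kb xb1 yb12 zb5) (kb xb1 yb6 zb9) (kb xb1 yb6 zb10) (kb xb1 yb6 zb11) (kb xb1 yb6 zb12)) (@D3.rec (fun _ => Pt) (kb xb1 yb6 zb13) (kb xb1 yb6 zb14) (kb xb1 yb6 zb15) (kb xb1 yb6 zb17) (kb xb1 yb6 zb18) (kb xb3 yb9 zb2) (kb xb3 yb9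 zb3) (kb xb3 yb9 zb4) (kb xb3 yb9 zb5) (kb xb3 yb9 zb6) (kb xb3 yb9 zb7) (kb xb3 yb9 zb8) (kb xb1 yb7 zb19) (kb xb3 yb9 zb9) (kb xb3 yb10 zb1) (kb xb3 yb9 zb11) (kb xb3 yb9 zb12) (kb xb2 yb13 zb9) (kb xb3 yb10 zb6) (kb xb3 yb8 zb20) (kb xb2 yb13 zb11)) (@D3.rec (fun _ => Pt) (kb xb2 yb4 zb13) (kb xb2 yb4 zb14) (kb xb2 yb4 zb15) (kb xb3 yb8 zb1) (kb xb3 yb8 zb2) (kb xb3 yb10 zb13) (kb xb3 yb8 zb4) (kb xb3 yb10 zb14) (kb xb3 yb8 zb6) (kb xb3 yb8 zb7) (kb xb3 yb8 zb8) (kb xb3 yb10 zb18) (kb xb3 yb8 zb10) (kb xb3 yb8 zb11) (kb xb1 yb7 zb7) (kb xb1 yb7 zb8) (kb xb2 yb11 zb1) (kb xb2 yb10 zb19) (kb xb1 yb11 zb10) (kb xb3 yb8 zb16) (kb xb3 yb3 zb20)) (@D3.rec (fun _ => Pt) (kb xb3 yb11 zb9) (kb xb2 yb7 zb1) (kb xb2 yb7 zb2)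 (kb xb2 yb7 zb3) (kb xb3 yb11 zb14) (kb xb2 yb7 zb5) (kb xb3 yb11 zb15) (kb xb1 yb7 zb16) (kb xb1 yb7 zb17) (kb xb3 yb1 zb16) (kb xb1 yb7 zb20) (kb xb1 yb8 zb0) (kb xb1 yb7 zb15) (kb xb3 yb12 zb1) (kb xb3 yb12 zb2) (kb xb3 yb12 zb3) (kb xb2 yb7 zb18) (kb xb2 yb8 zb8) (kb xb2 yb7 zb16) (kb xb3 yb5 zb2) (kb xb2 yb8 zb7)) (@D3.rec (fun _ => Pt) (kb xb2 yb8 zb4) (kb xb3 yb9 zb19) (kb xb3 yb9 zb14) (kb xb2 yb8 zb5) (kb xb2 yb8 zb0) (kb xb2 yb8 zb3) (kb xb3 yb5 zb3) (kb xb2 yb7 zb20) (kb xb2 yb7 zb17) (kb xb1 yb8 zb2) (kb xb3 yb13 zb6) (kb xb1 yb12 zb0) (kb xb2 yb1 zb4) (kb xb3 yb12 zb13) (kb xb2 yb1 zb11) (kb xb2 yb1 zb14) (kb xb2 yb1 zb9) (kb xb2 yb13 zb19) (kb xb1 yb8 zb9) (kb xb1 yb8 zb10) (kb xb1 yb8 zb8)) (@D3.rec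 (fun _ => Pt) (kb xb3 yb6 zb17) (kb xb3 yb6 zb1) (kb xb2 yb3 zb0) (kb xb2 yb2 zb15) (kb xb3 yb7 zb2) (kb xb2 yb3 zb6) (kb xb1 yb8 zb12) (kb xb4 yb0 zb5) (kb xb2 yb9 zb14) (kb xb4 yb0 zb6) (kb xb1 yb8 zb15) (kb xb4 yb0 zb12) (kb xb2 yb10 zb15) (kb xb2 yb0 zb8) (kb xb2 yb9 zb8) (kb xb1 yb8 zb19) (kb xb1 yb8 zb20) (kb xb1 yb9 zb0) (kb xb4 yb1 zb3) (kb xb4 yb0 zb20) (kb xb4 yb1 zb0)) (@D3.rec (fun _ => Pt) (kb xb4 yb0 zb17) (kb xb4 yb1 zb1) (kb xb4 yb1 zb2) (kb xb4 yb0 zb18) (kb xb2 yb10 zb4) (kb xb3 yb1 zb6) (kb xb2 yb10 zb6) (kb xb2 yb10 zb7) (kb xb2 yb10 zb8) (kb xb1 yb9 zb4) (kb xb3 yb3 zb9) (kb xb3 yb1 zb8) (kb xb1 yb13 zb3) (kb xb2 yb10 zb13) (kb xb2 yb10 zb14) (kb xb2 yb9 zb12) (kb xb1 yb9 zb8) (kb xb1 yb9 zb9)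 (kb xb4 yb2 zb3) (kb xb2 yb6 zb17) (kb xb4 yb2 zb4)) (@D3.rec (fun _ => Pt) (kb xb4 yb2 zb5) (kb xb2 yb6 zb16) (kb xb2 yb2 zb20) (kb xb2 yb11 zb3) (kb xb2 yb1 zb7) (kb xb2 yb11 zb5) (kb xb2 yb11 zb6) (kb xb2 yb11 zb7) (kb xb3 yb4 zb17) (kb xb2 yb1 zb10) (kb xb2 yb11 zb10) (kb xb1 yb11 zb14) (kb xb1 yb9 zb18) (kb xb1 yb9 zb19) (kb xb4 yb3 zb4) (kb xb4 yb3 zb1) (kb xb4 yb3 zb2) (kb xb1 yb13 zb11) (kb xb4 yb3 zb3) (kb xb1 yb12 zb1) (kb xb1 yb13 zb12)) (@D3.rec (fun _ => Pt) (kb xb1 yb13 zb0) (kb xb1 yb10 zb3) (kb xb4 yb4 zb0) (kb xb4 yb3 zb18) (kb xb4 yb3 zb19) (kb xb4 yb3 zb20) (kb xb2 yb12 zb6) (kb xb2 yb1 zb5) (kb xb2 yb1 zb6) (kb xb3 yb13 zb1) (kb xb2 yb1 zb12) (kb xb2 yb1 zb13) (kb xb1 yb10 zb10) (kb xb4 yb4 zb16)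 (kb xb4 yb4 zb15) (kb xb4 yb4 zb14) (kb xb1 yb11 zb11) (kb xb1 yb11 zb5) (kb xb2 yb2 zb18) (kb xb1 yb11 zb2) (kb xb3 yb5 zb18)) (@D3.rec (fun _ => Pt) (kb xb2 yb2 zb5) (kb xb2 yb2 zb8) (kb xb3 yb5 zb16) (kb xb2 yb3 zb17) (kb xb3 yb7 zb19) (kb xb3 yb5 zb8) (kb xb2 yb1 zb15) (kb xb2 yb4 zb9) (kb xb3 yb5 zb7) (kb xb2 yb5 zb17) (kb xb3 yb10 zb5) (kb xb2 yb5 zb20) (kb xb3 yb8 zb0) (kb xb1 yb13 zb2) (kb xb1 yb13 zb1) (kb xb3 yb9 zb18) (kb xb1 yb11 zb20) (kb xb3 yb13 zb11) (kb xb4 yb3 zb16) (kb xb2 yb8 zb17) (kb xb3 yb9 zb0))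
def f_b_3 : D2 → D3 → Pt := @D2.rec (fun _ => D3 → Pt) (@D3.rec (fun _ => Pt) (kb xb3 yb9 zb1) (kb xb1 yb12 zb11) (kb xb1 yb12 zb12) (kb xb1 yb12 zb13) (kb xb1 yb12 zb14) (kb xb1 yb12 zb15) (kb xb1 yb12 zb16) (kb xb4 yb6 zb10) (kb xb1 yb12 zb18) (kb xb4 yb6 zb12) (kb xb1 yb12 zb20) (kb xb4 yb6 zb5) (kb xb4 yb6 zb6) (kb xb4 yb7 zb0) (kb xb3 yb0 zb15) (kb xb3 yb0 zb14) (kb xb4 yb6 zb8) (kb xb4 yb7 zb6) (kb xb3 yb0 zb19) (kb xb3 yb0 zb18) (kb xb4 yb6 zb9)) (@D3.rec (fun _ => Pt) (kb xb1 yb12 zb17) (kb xb4 yb7 zb14) (kb xb4 yb7 zb15) (kb xb1 yb12 zb19) (kb xb4 yb8 zb0) (kb xb4 yb8 zb1) (kb xb2 yb10 zb5) (kb xb4 yb2 zb0) (kb xb2 yb10 zb11) (kb xb3 yb2 zb0) (kb xb3 yb2 zb1) (kb xb1 yb13 zb8) (kb xb1 yb13 zb9) (kb xb1 yb13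 zb10) (kb xb1 yb13 zb13) (kb xb1 yb13 zb14) (kb xb2 yb7 zb9) (kb xb4 yb8 zb7) (kb xb4 yb2 zb19) (kb xb4 yb3 zb11) (kb xb4 yb8 zb9)) (@D3.rec (fun _ => Pt) (kb xb3 yb1 zb9) (kb xb3 yb1 zb10) (kb xb3 yb2 zb2) (kb xb3 yb2 zb3) (kb xb4 yb8 zb18) (kb xb3 yb2 zb5) (kb xb3 yb2 zb6) (kb xb3 yb10 zb16) (kb xb3 yb2 zb8) (kb xb3 yb2 zb9) (kb xb1 yb13 zb20) (kb xb4 yb9 zb1) (kb xb4 yb9 zb2) (kb xb4 yb9 zb0) (kb xb3 yb2 zb14) (kb xb4 yb9 zb8) (kb xb3 yb2 zb16) (kb xb2 yb0 zb3) (kb xb4 yb9 zb10) (kb xb3 yb12 zb15) (kb xb4 yb1 zb20)) (@D3.rec (fun _ => Pt) (kb xb3 yb3 zb0) (kb xb3 yb6 zb8) (kb xb3 yb3 zb2) (kb xb2 yb0 zb9) (kb xb2 yb0 zb10) (kb xb4 yb0 zb15) (kb xb4 yb8 zb6) (kb xb4 yb9 zb16) (kb xb3 yb3 zb8) (kb xb2 yb10 zb10)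 (kb xb3 yb3 zb10) (kb xb2 yb0 zb15) (kb xb4 yb9 zb18) (kb xb3 yb3 zb17) (kb xb2 yb0 zb17) (kb xb4 yb10 zb1) (kb xb3 yb4 zb4) (kb xb3 yb3 zb13) (kb xb2 yb0 zb20) (kb xb2 yb1 zb0) (kb xb2 yb6 zb20)) (@D3.rec (fun _ => Pt) (kb xb4 yb10 zb8) (kb xb4 yb10 zb7) (kb xb4 yb10 zb9) (kb xb4 yb10 zb10) (kb xb3 yb3 zb16) (kb xb2 yb1 zb2) (kb xb2 yb1 zb3) (kb xb4 yb10 zb19) (kb xb4 yb10 zb20) (kb xb4 yb11 zb2) (kb xb3 yb13 zb13) (kb xb3 yb13 zb14) (kb xb3 yb13 zb15) (kb xb3 yb12 zb11) (kb xb4 yb4 zb11) (kb xb4 yb4 zb12) (kb xb4 yb2 zb14) (kb xb2 yb11 zb8) (kb xb3 yb12 zb20) (kb xb3 yb13 zb4) (kb xb4 yb2 zb20)) (@D3.rec (fun _ => Pt) (kb xb3 yb13 zb16) (kb xb3 yb12 zb16) (kb xb2 yb7 zb19) (kb xb2 yb8 zb6) (kb xb4 yb3 zb10) (kb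 xb4 yb5 zb12) (kb xb4 yb5 zb13) (kb xb2 yb13 zb8) (kb xb2 yb13 zb5) (kb xb2 yb2 zb12) (kb xb2 yb2 zb13) (kb xb2 yb2 zb14) (kb xb3 yb6 zb0) (kb xb2 yb2 zb3) (kb xb2 yb2 zb6) (kb xb3 yb11 zb20) (kb xb2 yb13 zb2) (kb xb4 yb3 zb12) (kb xb2 yb12 zb20) (kb xb4 yb12 zb5) (kb xb4 yb0 zb0)) (@D3.rec (fun _ => Pt) (kb xb3 yb5 zb12) (kb xb2 yb9 zb1) (kb xb3 yb7 zb3) (kb xb3 yb6 zb6) (kb xb4 yb8 zb5) (kb xb4 yb11 zb20) (kb xb3 yb6 zb3) (kb xb3 yb9 zb20) (kb xb3 yb3 zb1) (kb xb4 yb8 zb17) (kb xb4 yb0 zb2) (kb xb3 yb6 zb19) (kb xb4 yb12 zb13) (kb xb4 yb5 zb0) (kb xb4 yb5 zb1) (kb xb2 yb3 zb1) (kb xb4 yb0 zb1) (kb xb2 yb9 zb0) (kb xb3 yb7 zb4) (kb xb3 yb6 zb11) (kb xb2 yb3 zb5)) (@D3.rec (fun _ => Pt) (kb xb4 yb13 zb2) (kb xb4 yb0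 zb4) (kb xb2 yb9 zb4) (kb xb3 yb6 zb2) (kb xb3 yb6 zb18) (kb xb3 yb7 zb20) (kb xb4 yb13 zb1) (kb xb2 yb3 zb14) (kb xb2 yb3 zb15) (kb xb2 yb3 zb16) (kb xb2 yb3 zb19) (kb xb4 yb13 zb16) (kb xb4 yb13 zb17) (kb xb3 yb13 zb9) (kb xb4 yb13 zb19) (kb xb4 yb13 zb20) (kb xb4 yb5 zb5) (kb xb5 yb0 zb8) (kb xb5 yb0 zb1) (kb xb2 yb13 zb4) (kb xb3 yb7 zb5)) (@D3.rec (fun _ => Pt) (kb xb2 yb13 zb12) (kb xb2 yb6 zb3) (kb xb2 yb6 zb4) (kb xb5 yb0 zb14) (kb xb2 yb6 zb6) (kb xb5 yb0 zb16) (kb xb2 yb6 zb8) (kb xb2 yb6 zb9) (kb xb2 yb6 zb10) (kb xb5 yb0 zb18) (kb xb2 yb6 zb12) (kb xb2 yb6 zb13) (kb xb2 yb4 zb8) (kb xb5 yb1 zb0) (kb xb5 yb1 zb1) (kb xb4 yb5 zb9) (kb xb2 yb6 zb19) (kb xb3 yb10 zb8) (kb xb3 yb10 zb9) (kb xb3 yb10 zb10) (kb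 xb2 yb5 zb19)) (@D3.rec (fun _ => Pt) (kb xb2 yb13 zb20) (kb xb3 yb0 zb0) (kb xb2 yb5 zb5) (kb xb2 yb5 zb6) (kb xb2 yb5 zb7) (kb xb2 yb5 zb8) (kb xb2 yb5 zb9) (kb xb2 yb5 zb10) (kb xb2 yb5 zb11) (kb xb2 yb5 zb13) (kb xb5 yb1 zb14) (kb xb2 yb5 zb15) (kb xb2 yb5 zb16) (kb xb5 yb1 zb18) (kb xb2 yb8 zb2) (kb xb5 yb1 zb10) (kb xb5 yb2 zb2) (kb xb5 yb1 zb12) (kb xb2 yb13 zb15) (kb xb2 yb8 zb1) (kb xb3 yb6 zb7)) (@D3.rec (fun _ => Pt) (kb xb4 yb2 zb8) (kb xb2 yb5 zb14) (kb xb5 yb2 zb4) (kb xb4 yb6 zb0) (kb xb4 yb5 zb20) (kb xb2 yb13 zb10) (kb xb2 yb5 zb18) (kb xb4 yb12 zb12) (kb xb3 yb8 zb17) (kb xb3 yb8 zb18) (kb xb3 yb8 zb19) (kb xb5 yb2 zb12) (kb xb3 yb10 zb15) (kb xb2 yb6 zb5) (kb xb2 yb6 zb7) (kb xb3 yb10 zb12) (kb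 xb3 yb2 zb7) (kb xb4 yb9 zb13) (kb xb2 yb6 zb11) (kb xb5 yb2 zb14) (kb xb5 yb2 zb15)) (@D3.rec (fun _ => Pt) (kb xb5 yb2 zb16) (kb xb3 yb11 zb2) (kb xb3 yb11 zb1) (kb xb4 yb2 zb7) (kb xb4 yb13 zb8) (kb xb4 yb7 zb11) (kb xb5 yb1 zb5) (kb xb4 yb10 zb11) (kb xb4 yb10 zb12) (kb xb2 yb7 zb0) (kb xb5 yb3 zb3) (kb xb4 yb5 zb17) (kb xb3 yb11 zb12) (kb xb3 yb11 zb13) (kb xb2 yb7 zb4) (kb xb2 yb7 zb6) (kb xb5 yb3 zb6) (kb xb3 yb12 zb0) (kb xb5 yb3 zb7) (kb xb4 yb8 zb10) (kb xb3 yb5 zb15)) (@D3.rec (fun _ => Pt) (kb xb3 yb11 zb17) (kb xb2 yb7 zb13) (kb xb2 yb7 zb14) (kb xb2 yb7 zb15) (kb xb5 yb3 zb14) (kb xb5 yb3 zb15) (kb xb5 yb3 zb12) (kb xb5 yb3 zb16) (kb xb5 yb3 zb17) (kb xb5 yb3 zb13) (kb xb3 yb12 zb14) (kb xb3 yb4 zb13)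 (kb xb3 yb13 zb5) (kb xb2 yb8 zb13) (kb xb3 yb12 zb10) (kb xb3 yb2 zb19) (kb xb3 yb5 zb1) (kb xb3 yb13 zb0) (kb xb5 yb1 zb20) (kb xb3 yb13 zb2) (kb xb3 yb4 zb18)) (@D3.rec (fun _ => Pt) (kb xb3 yb12 zb17) (kb xb2 yb12 zb9) (kb xb3 yb12 zb19) (kb xb4 yb11 zb15) (kb xb3 yb4 zb19) (kb xb3 yb12 zb12) (kb xb2 yb8 zb10) (kb xb5 yb4 zb16) (kb xb5 yb2 zb5) (kb xb3 yb7 zb13) (kb xb4 yb8 zb15) (kb xb2 yb13 zb17) (kb xb5 yb5 zb2) (kb xb3 yb4 zb10) (kb xb3 yb4 zb11) (kb xb3 yb4 zb12) (kb xb3 yb5 zb0) (kb xb5 yb5 zb11) (kb xb4 yb6 zb2) (kb xb4 yb6 zb3) (kb xb4 yb12 zb4))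
def f_b_4 : D2 → D3 → Pt := @D2.rec (fun _ => D3 → Pt) (@D3.rec (fun _ => Pt) (kb xb3 yb5 zb20) (kb xb3 yb6 zb16) (kb xb3 yb6 zb10) (kb xb4 yb13 zb6) (kb xb3 yb7 zb1) (kb xb2 yb9 zb7) (kb xb2 yb9 zb9) (kb xb5 yb6 zb6) (kb xb5 yb6 zb3) (kb xb5 yb6 zb4) (kb xb5 yb6 zb2) (kb xb5 yb6 zb5) (kb xb2 yb9 zb11) (kb xb5 yb6 zb16) (kb xb5 yb0 zb17) (kb xb3 yb3 zb5) (kb xb5 yb6 zb15) (kb xb2 yb10 zb0) (kb xb2 yb10 zb3) (kb xb4 yb1 zb8) (kb xb2 yb9 zb19)) (@D3.rec (fun _ => Pt) (kb xb2 yb9 zb20) (kb xb2 yb10 zb1) (kb xb2 yb10 zb2) (kb xb2 yb9 zb18) (kb xb4 yb1 zb5) (kb xb4 yb1 zb4) (kb xb5 yb7 zb3) (kb xb5 yb7 zb4) (kb xb4 yb0 zb19) (kb xb5 yb7 zb2) (kb xb5 yb7 zb1) (kb xb5 yb7 zb14) (kb xb5 yb7 zb6) (kb xb5 yb7 zb5) (kb xb5 yb7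 zb7) (kb xb4 yb1 zb15) (kb xb4 yb8 zb3) (kb xb4 yb1 zb17) (kb xb5 yb7 zb20) (kb xb4 yb1 zb19) (kb xb3 yb2 zb20)) (@D3.rec (fun _ => Pt) (kb xb3 yb1 zb7) (kb xb4 yb2 zb1) (kb xb4 yb2 zb2) (kb xb2 yb10 zb18) (kb xb2 yb10 zb20) (kb xb2 yb11 zb0) (kb xb5 yb8 zb6) (kb xb3 yb11 zb3) (kb xb3 yb10 zb0) (kb xb5 yb8 zb10) (kb xb4 yb6 zb4) (kb xb5 yb2 zb13) (kb xb5 yb8 zb14) (kb xb4 yb2 zb13) (kb xb3 yb4 zb16) (kb xb4 yb2 zb15) (kb xb5 yb8 zb20) (kb xb4 yb12 zb1) (kb xb4 yb11 zb13) (kb xb3 yb1 zb18) (kb xb3 yb4 zb20)) (@D3.rec (fun _ => Pt) (kb xb5 yb9 zb5) (kb xb2 yb11 zb15) (kb xb2 yb11 zb16) (kb xb2 yb11 zb18) (kb xb2 yb11 zb14) (kb xb5 yb9 zb8) (kb xb5 yb9 zb9) (kb xb5 yb9 zb10) (kb xb5 yb9 zb2) (kb xb5 yb9 zb6) (kb xb3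 yb5 zb4) (kb xb3 yb1 zb19) (kb xb3 yb5 zb17) (kb xb5 yb10 zb0) (kb xb4 yb13 zb4) (kb xb5 yb2 zb9) (kb xb2 yb13 zb18) (kb xb5 yb10 zb3) (kb xb2 yb12 zb3) (kb xb2 yb12 zb4) (kb xb2 yb12 zb5)) (@D3.rec (fun _ => Pt) (kb xb2 yb12 zb2) (kb xb5 yb10 zb12) (kb xb5 yb10 zb11) (kb xb5 yb10 zb13) (kb xb5 yb10 zb14) (kb xb5 yb10 zb7) (kb xb5 yb10 zb8) (kb xb5 yb10 zb9) (kb xb5 yb10 zb10) (kb xb4 yb4 zb9) (kb xb4 yb4 zb10) (kb xb3 yb4 zb14) (kb xb3 yb4 zb15) (kb xb5 yb4 zb11) (kb xb2 yb12 zb15) (kb xb2 yb12 zb14) (kb xb2 yb12 zb13) (kb xb5 yb11 zb2) (kb xb5 yb11 zb3) (kb xb5 yb11 zb1) (kb xb4 yb6 zb1)) (@D3.rec (fun _ => Pt) (kb xb3 yb6 zb13) (kb xb3 yb6 zb14) (kb xb5 yb11 zb9) (kb xb4 yb12 zb3) (kb xb4 yb12 zb2) (kb xb3 yb7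 zb16) (kb xb5 yb11 zb12) (kb xb4 yb11 zb1) (kb xb4 yb5 zb8) (kb xb3 yb8 zb15) (kb xb4 yb11 zb17) (kb xb5 yb9 zb15) (kb xb3 yb5 zb5) (kb xb3 yb5 zb6) (kb xb5 yb11 zb18) (kb xb4 yb11 zb16) (kb xb4 yb11 zb18) (kb xb3 yb11 zb11) (kb xb4 yb12 zb9) (kb xb5 yb12 zb3) (kb xb3 yb10 zb4)) (@D3.rec (fun _ => Pt) (kb xb3 yb10 zb3) (kb xb4 yb4 zb20) (kb xb3 yb13 zb18) (kb xb3 yb13 zb19) (kb xb4 yb2 zb10) (kb xb3 yb0 zb11) (kb xb3 yb0 zb12) (kb xb5 yb12 zb10) (kb xb3 yb0 zb16) (kb xb3 yb0 zb20) (kb xb3 yb0 zb7) (kb xb4 yb7 zb13) (kb xb3 yb0 zb9) (kb xb5 yb10 zb20) (kb xb4 yb7 zb20) (kb xb5 yb12 zb13) (kb xb4 yb7 zb4) (kb xb4 yb7 zb5) (kb xb5 yb2 zb20) (kb xb4 yb7 zb10) (kb xb4 yb7 zb12)) (@D3.rec (fun _ => Pt) (kb xb3 yb0 zb13)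 (kb xb5 yb12 zb16) (kb xb5 yb12 zb17) (kb xb5 yb12 zb15) (kb xb4 yb6 zb16) (kb xb4 yb6 zb17) (kb xb3 yb0 zb17) (kb xb5 yb4 zb13) (kb xb5 yb4 zb15) (kb xb5 yb9 zb3) (kb xb4 yb6 zb19) (kb xb3 yb11 zb5) (kb xb4 yb6 zb20) (kb xb4 yb6 zb11) (kb xb3 yb1 zb1) (kb xb3 yb1 zb2) (kb xb5 yb13 zb2) (kb xb5 yb13 zb3) (kb xb5 yb13 zb4) (kb xb5 yb13 zb5) (kb xb4 yb6 zb14)) (@D3.rec (fun _ => Pt) (kb xb3 yb1 zb4) (kb xb3 yb1 zb5) (kb xb5 yb13 zb9) (kb xb4 yb1 zb16) (kb xb5 yb8 zb1) (kb xb3 yb6 zb4) (kb xb3 yb3 zb6) (kb xb3 yb1 zb17) (kb xb5 yb0 zb13) (kb xb3 yb1 zb20) (kb xb3 yb11 zb19) (kb xb5 yb13 zb16) (kb xb5 yb8 zb13) (kb xb5 yb8 zb17) (kb xb5 yb9 zb4) (kb xb3 yb13 zb10) (kb xb6 yb0 zb0) (kb xb3 yb6 zb9) (kb xb3 yb2 zb4) (kb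 xb6 yb0 zb2) (kb xb6 yb0 zb3)) (@D3.rec (fun _ => Pt) (kb xb3 yb2 zb13) (kb xb3 yb2 zb11) (kb xb3 yb2 zb12) (kb xb5 yb5 zb8) (kb xb6 yb0 zb5) (kb xb6 yb0 zb7) (kb xb6 yb0 zb8) (kb xb6 yb0 zb1) (kb xb3 yb2 zb15) (kb xb6 yb0 zb11) (kb xb3 yb2 zb18) (kb xb4 yb12 zb0) (kb xb6 yb0 zb12) (kb xb3 yb10 zb17) (kb xb6 yb0 zb13) (kb xb5 yb6 zb20) (kb xb3 yb3 zb7) (kb xb6 yb0 zb15) (kb xb3 yb3 zb12) (kb xb6 yb0 zb17) (kb xb6 yb0 zb18)) (@D3.rec (fun _ => Pt) (kb xb4 yb10 zb6) (kb xb3 yb3 zb15) (kb xb6 yb0 zb20) (kb xb5 yb12 zb2) (kb xb5 yb5 zb17) (kb xb4 yb10 zb17) (kb xb4 yb10 zb0) (kb xb3 yb4 zb1) (kb xb3 yb4 zb0) (kb xb3 yb4 zb2) (kb xb3 yb4 zb3) (kb xb3 yb11 zb7) (kb xb3 yb11 zb8) (kb xb6 yb0 zb16) (kb xb6 yb1 zb4) (kb xb6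 yb1 zb3) (kb xb6 yb1 zb5) (kb xb4 yb10 zb5) (kb xb5 yb13 zb8) (kb xb3 yb4 zb7) (kb xb3 yb4 zb8)) (@D3.rec (fun _ => Pt) (kb xb6 yb1 zb10) (kb xb4 yb5 zb7) (kb xb3 yb4 zb9) (kb xb6 yb1 zb13) (kb xb6 yb1 zb12) (kb xb6 yb1 zb14) (kb xb5 yb5 zb6) (kb xb5 yb5 zb7) (kb xb5 yb5 zb9) (kb xb5 yb8 zb18) (kb xb6 yb1 zb19) (kb xb6 yb1 zb20) (kb xb5 yb4 zb10) (kb xb4 yb2 zb18) (kb xb5 yb5 zb10) (kb xb3 yb13 zb3) (kb xb4 yb5 zb15) (kb xb4 yb5 zb10) (kb xb4 yb5 zb16) (kb xb5 yb13 zb13) (kb xb3 yb6 zb5)) (@D3.rec (fun _ => Pt) (kb xb4 yb9 zb11) (kb xb4 yb2 zb17) (kb xb4 yb5 zb4) (kb xb4 yb5 zb3) (kb xb3 yb13 zb20) (kb xb3 yb5 zb19) (kb xb4 yb12 zb7) (kb xb4 yb12 zb6) (kb xb6 yb2 zb8) (kb xb4 yb5 zb18) (kb xb6 yb2 zb10) (kb xb4 yb13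 zb0) (kb xb3 yb10 zb7) (kb xb3 yb6 zb12) (kb xb6 yb2 zb11) (kb xb6 yb2 zb12) (kb xb6 yb2 zb13) (kb xb5 yb2 zb8) (kb xb5 yb2 zb7) (kb xb5 yb5 zb15) (kb xb4 yb13 zb9)) (@D3.rec (fun _ => Pt) (kb xb4 yb12 zb11) (kb xb3 yb7 zb6) (kb xb3 yb7 zb0) (kb xb5 yb6 zb0) (kb xb4 yb3 zb14) (kb xb5 yb6 zb1) (kb xb4 yb0 zb3) (kb xb5 yb1 zb13) (kb xb3 yb11 zb4) (kb xb4 yb12 zb20) (kb xb6 yb2 zb19) (kb xb5 yb0 zb11) (kb xb5 yb0 zb12) (kb xb6 yb2 zb16) (kb xb6 yb2 zb17) (kb xb6 yb1 zb8) (kb xb3 yb7 zb11) (kb xb3 yb7 zb12) (kb xb5 yb4 zb18) (kb xb3 yb7 zb14) (kb xb3 yb7 zb15))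
def f_b_5 : D2 → D3 → Pt := @D2.rec (fun _ => D3 → Pt) (@D3.rec (fun _ => Pt) (kb xb6 yb3 zb7) (kb xb3 yb7 zb18) (kb xb5 yb4 zb20) (kb xb6 yb3 zb3) (kb xb6 yb3 zb9) (kb xb5 yb5 zb1) (kb xb5 yb11 zb11) (kb xb6 yb3 zb6) (kb xb3 yb7 zb17) (kb xb6 yb3 zb10) (kb xb6 yb3 zb11) (kb xb4 yb13 zb11) (kb xb4 yb13 zb12) (kb xb4 yb8 zb8) (kb xb3 yb8 zb3) (kb xb5 yb1 zb9) (kb xb3 yb8 zb5) (kb xb4 yb0 zb14) (kb xb3 yb8 zb9) (kb xb6 yb3 zb16) (kb xb5 yb1 zb17)) (@D3.rec (fun _ => Pt) (kb xb3 yb8 zb13) (kb xb3 yb8 zb14) (kb xb6 yb3 zb20) (kb xb5 yb11 zb17) (kb xb6 yb4 zb0) (kb xb3 yb11 zb6) (kb xb5 yb11 zb4) (kb xb5 yb2 zb10) (kb xb5 yb2 zb11) (kb xb5 yb0 zb15) (kb xb3 yb9 zb15) (kb xb6 yb4 zb5) (kb xb3 yb9 zb17) (kb xb4 yb13 zb7)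 (kb xb3 yb9 zb10) (kb xb5 yb9 zb1) (kb xb6 yb4 zb7) (kb xb5 yb0 zb20) (kb xb3 yb9 zb13) (kb xb6 yb4 zb9) (kb xb3 yb12 zb18)) (@D3.rec (fun _ => Pt) (kb xb6 yb4 zb13) (kb xb5 yb7 zb0) (kb xb3 yb9 zb16) (kb xb6 yb4 zb15) (kb xb3 yb10 zb2) (kb xb3 yb13 zb8) (kb xb6 yb4 zb16) (kb xb4 yb12 zb18) (kb xb4 yb12 zb17) (kb xb4 yb3 zb15) (kb xb5 yb1 zb7) (kb xb5 yb1 zb8) (kb xb3 yb10 zb11) (kb xb4 yb2 zb11) (kb xb3 yb10 zb19) (kb xb3 yb10 zb20) (kb xb3 yb11 zb0) (kb xb6 yb4 zb18) (kb xb6 yb4 zb19) (kb xb6 yb1 zb2) (kb xb4 yb6 zb18)) (@D3.rec (fun _ => Pt) (kb xb5 yb13 zb0) (kb xb5 yb3 zb2) (kb xb5 yb3 zb1) (kb xb3 yb11 zb10) (kb xb5 yb3 zb4) (kb xb5 yb3 zb5) (kb xb3 yb11 zb16) (kb xb3 yb11 zb18) (kb xb6 yb5 zb3) (kb xb6 yb5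 zb4) (kb xb6 yb5 zb5) (kb xb6 yb5 zb6) (kb xb3 yb12 zb6) (kb xb3 yb12 zb9) (kb xb3 yb12 zb4) (kb xb3 yb12 zb5) (kb xb3 yb12 zb7) (kb xb3 yb12 zb8) (kb xb6 yb5 zb14) (kb xb6 yb5 zb15) (kb xb6 yb5 zb12)) (@D3.rec (fun _ => Pt) (kb xb6 yb5 zb13) (kb xb6 yb6 zb0) (kb xb6 yb5 zb17) (kb xb6 yb5 zb18) (kb xb6 yb0 zb6) (kb xb5 yb4 zb6) (kb xb5 yb4 zb5) (kb xb5 yb4 zb9) (kb xb6 yb6 zb8) (kb xb5 yb4 zb7) (kb xb4 yb11 zb12) (kb xb4 yb4 zb13) (kb xb6 yb6 zb11) (kb xb4 yb7 zb7) (kb xb6 yb2 zb3) (kb xb4 yb7 zb8) (kb xb3 yb13 zb7) (kb xb6 yb6 zb14) (kb xb4 yb13 zb18) (kb xb6 yb6 zb15) (kb xb5 yb0 zb2)) (@D3.rec (fun _ => Pt) (kb xb5 yb13 zb20) (kb xb5 yb0 zb5) (kb xb3 yb13 zb12) (kb xb6 yb6 zb20) (kb xb6 yb7 zb0) (kb xb6 yb7 zb1)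 (kb xb4 yb11 zb6) (kb xb4 yb11 zb7) (kb xb4 yb9 zb3) (kb xb4 yb11 zb8) (kb xb4 yb11 zb14) (kb xb3 yb13 zb17) (kb xb5 yb5 zb13) (kb xb5 yb5 zb12) (kb xb6 yb2 zb6) (kb xb4 yb12 zb19) (kb xb6 yb7 zb5) (kb xb4 yb10 zb4) (kb xb5 yb5 zb18) (kb xb6 yb2 zb4) (kb xb5 yb10 zb1)) (@D3.rec (fun _ => Pt) (kb xb4 yb13 zb3) (kb xb4 yb13 zb5) (kb xb4 yb0 zb10) (kb xb4 yb0 zb8) (kb xb4 yb0 zb9) (kb xb4 yb0 zb11) (kb xb4 yb0 zb7) (kb xb6 yb7 zb16) (kb xb6 yb7 zb17) (kb xb6 yb7 zb13) (kb xb6 yb7 zb11) (kb xb6 yb7 zb14) (kb xb6 yb7 zb10) (kb xb6 yb7 zb12) (kb xb6 yb8 zb1) (kb xb4 yb0 zb16) (kb xb4 yb0 zb13) (kb xb6 yb8 zb3) (kb xb6 yb8 zb4) (kb xb6 yb8 zb2) (kb xb4 yb9 zb15)) (@D3.rec (fun _ => Pt) (kb xb5 yb2 zb1) (kb xb4 yb1 zb10)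 (kb xb4 yb1 zb9) (kb xb4 yb1 zb6) (kb xb4 yb1 zb7) (kb xb4 yb1 zb13) (kb xb4 yb1 zb12) (kb xb4 yb1 zb14) (kb xb5 yb7 zb9) (kb xb5 yb7 zb8) (kb xb6 yb8 zb13) (kb xb6 yb8 zb9) (kb xb6 yb8 zb8) (kb xb6 yb8 zb7) (kb xb4 yb1 zb11) (kb xb6 yb8 zb15) (kb xb6 yb8 zb16) (kb xb6 yb8 zb11) (kb xb6 yb8 zb10) (kb xb6 yb8 zb12) (kb xb4 yb1 zb18)) (@D3.rec (fun _ => Pt) (kb xb6 yb8 zb19) (kb xb4 yb8 zb4) (kb xb6 yb3 zb1) (kb xb5 yb8 zb3) (kb xb6 yb9 zb0) (kb xb5 yb8 zb5) (kb xb4 yb2 zb6) (kb xb6 yb9 zb2) (kb xb6 yb9 zb3) (kb xb5 yb12 zb8) (kb xb4 yb2 zb9) (kb xb6 yb9 zb4) (kb xb6 yb9 zb5) (kb xb4 yb8 zb12) (kb xb4 yb2 zb12) (kb xb6 yb9 zb8) (kb xb6 yb6 zb19) (kb xb4 yb8 zb13) (kb xb4 yb11 zb9) (kb xb6 yb9 zb12) (kb xb4 yb2 zb16))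 (@D3.rec (fun _ => Pt) (kb xb6 yb3 zb0) (kb xb5 yb1 zb15) (kb xb4 yb3 zb8) (kb xb4 yb7 zb9) (kb xb4 yb8 zb14) (kb xb4 yb3 zb0) (kb xb4 yb3 zb9) (kb xb5 yb9 zb19) (kb xb4 yb3 zb5) (kb xb4 yb3 zb6) (kb xb4 yb3 zb7) (kb xb6 yb6 zb3) (kb xb6 yb9 zb14) (kb xb6 yb5 zb19) (kb xb6 yb9 zb15) (kb xb4 yb5 zb11) (kb xb6 yb1 zb7) (kb xb6 yb8 zb20) (kb xb6 yb4 zb6) (kb xb5 yb9 zb7) (kb xb6 yb4 zb17)) (@D3.rec (fun _ => Pt) (kb xb4 yb3 zb13) (kb xb5 yb5 zb20) (kb xb6 yb10 zb1) (kb xb4 yb3 zb17) (kb xb6 yb10 zb2) (kb xb6 yb10 zb3) (kb xb6 yb10 zb4) (kb xb4 yb4 zb5) (kb xb4 yb4 zb6) (kb xb4 yb4 zb7) (kb xb4 yb4 zb8) (kb xb4 yb4 zb2) (kb xb4 yb4 zb1) (kb xb4 yb4 zb3) (kb xb4 yb4 zb4) (kb xb6 yb10 zb8) (kb xb6 yb10 zb6) (kb xb6 yb5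 zb0) (kb xb5 yb13 zb18) (kb xb6 yb10 zb12) (kb xb4 yb6 zb13)) (@D3.rec (fun _ => Pt) (kb xb6 yb10 zb14) (kb xb4 yb4 zb19) (kb xb4 yb4 zb17) (kb xb4 yb4 zb18) (kb xb5 yb1 zb6) (kb xb6 yb10 zb0) (kb xb6 yb2 zb7) (kb xb6 yb10 zb15) (kb xb5 yb12 zb6) (kb xb4 yb5 zb2) (kb xb5 yb11 zb10) (kb xb5 yb0 zb6) (kb xb4 yb5 zb6) (kb xb6 yb10 zb17) (kb xb5 yb11 zb14) (kb xb5 yb11 zb15) (kb xb5 yb11 zb16) (kb xb5 yb1 zb3) (kb xb4 yb5 zb14) (kb xb6 yb6 zb7) (kb xb6 yb10 zb19)) (@D3.rec (fun _ => Pt) (kb xb5 yb12 zb12) (kb xb6 yb11 zb1) (kb xb4 yb10 zb3) (kb xb4 yb5 zb19) (kb xb6 yb3 zb19) (kb xb6 yb3 zb18) (kb xb5 yb11 zb8) (kb xb6 yb11 zb2) (kb xb5 yb8 zb9) (kb xb6 yb11 zb4) (kb xb4 yb6 zb7) (kb xb5 yb13 zb1) (kb xb5 yb12 zb0) (kb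 xb4 yb6 zb15) (kb xb6 yb11 zb5) (kb xb4 yb7 zb3) (kb xb4 yb7 zb1) (kb xb4 yb7 zb2) (kb xb6 yb7 zb15) (kb xb6 yb11 zb6) (kb xb6 yb6 zb12)) (@D3.rec (fun _ => Pt) (kb xb5 yb3 zb0) (kb xb5 yb12 zb11) (kb xb4 yb7 zb16) (kb xb4 yb7 zb17) (kb xb4 yb7 zb18) (kb xb4 yb7 zb19) (kb xb6 yb11 zb7) (kb xb6 yb11 zb8) (kb xb4 yb10 zb18) (kb xb4 yb8 zb2) (kb xb6 yb11 zb10) (kb xb6 yb11 zb11) (kb xb6 yb9 zb19) (kb xb4 yb11 zb19) (kb xb6 yb3 zb14) (kb xb6 yb10 zb7) (kb xb4 yb8 zb11) (kb xb6 yb11 zb15) (kb xb5 yb10 zb18) (kb xb6 yb6 zb9) (kb xb5 yb5 zb0))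
def f_b_6 : D2 → D3 → Pt := @D2.rec (fun _ => D3 → Pt) (@D3.rec (fun _ => Pt) (kb xb4 yb8 zb16) (kb xb4 yb9 zb7) (kb xb4 yb8 zb19) (kb xb4 yb8 zb20) (kb xb6 yb11 zb16) (kb xb4 yb9 zb4) (kb xb5 yb4 zb4) (kb xb4 yb9 zb5) (kb xb4 yb9 zb6) (kb xb6 yb4 zb11) (kb xb6 yb11 zb17) (kb xb4 yb9 zb9) (kb xb4 yb9 zb12) (kb xb4 yb9 zb14) (kb xb6 yb11 zb20) (kb xb4 yb9 zb17) (kb xb4 yb10 zb13) (kb xb4 yb9 zb19) (kb xb4 yb9 zb20) (kb xb6 yb12 zb0) (kb xb4 yb10 zb2)) (@D3.rec (fun _ => Pt) (kb xb6 yb12 zb2) (kb xb6 yb12 zb1) (kb xb5 yb2 zb19) (kb xb4 yb10 zb15) (kb xb4 yb10 zb14) (kb xb4 yb10 zb16) (kb xb6 yb2 zb20) (kb xb5 yb9 zb16) (kb xb4 yb13 zb15) (kb xb6 yb12 zb3) (kb xb4 yb11 zb0) (kb xb6 yb12 zb4) (kb xb4 yb11 zb4) (kb xb4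 yb11 zb3) (kb xb4 yb11 zb5) (kb xb6 yb7 zb2) (kb xb6 yb7 zb3) (kb xb6 yb4 zb12) (kb xb6 yb9 zb11) (kb xb4 yb11 zb10) (kb xb4 yb11 zb11)) (@D3.rec (fun _ => Pt) (kb xb6 yb10 zb11) (kb xb6 yb12 zb6) (kb xb6 yb12 zb7) (kb xb5 yb4 zb14) (kb xb5 yb5 zb19) (kb xb6 yb10 zb10) (kb xb5 yb5 zb14) (kb xb5 yb11 zb6) (kb xb4 yb12 zb8) (kb xb6 yb12 zb8) (kb xb4 yb12 zb10) (kb xb4 yb12 zb14) (kb xb4 yb12 zb15) (kb xb4 yb12 zb16) (kb xb6 yb12 zb9) (kb xb6 yb12 zb10) (kb xb4 yb13 zb13) (kb xb4 yb13 zb14) (kb xb6 yb6 zb13) (kb xb4 yb13 zb10) (kb xb6 yb1 zb6)) (@D3.rec (fun _ => Pt) (kb xb5 yb9 zb0) (kb xb5 yb8 zb2) (kb xb6 yb6 zb17) (kb xb5 yb0 zb3) (kb xb6 yb12 zb11) (kb xb6 yb4 zb1) (kb xb5 yb0 zb7) (kb xb5 yb0 zb0) (kb xb6 yb12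 zb12) (kb xb5 yb0 zb4) (kb xb5 yb0 zb9) (kb xb5 yb0 zb10) (kb xb6 yb12 zb14) (kb xb6 yb12 zb15) (kb xb5 yb13 zb14) (kb xb6 yb4 zb3) (kb xb5 yb0 zb19) (kb xb6 yb4 zb8) (kb xb5 yb12 zb5) (kb xb5 yb12 zb4) (kb xb5 yb1 zb2)) (@D3.rec (fun _ => Pt) (kb xb5 yb1 zb4) (kb xb6 yb3 zb5) (kb xb6 yb7 zb9) (kb xb6 yb3 zb15) (kb xb6 yb12 zb18) (kb xb5 yb1 zb11) (kb xb5 yb9 zb18) (kb xb5 yb1 zb16) (kb xb6 yb3 zb17) (kb xb5 yb1 zb19) (kb xb6 yb12 zb19) (kb xb6 yb0 zb9) (kb xb6 yb1 zb17) (kb xb5 yb2 zb0) (kb xb6 yb11 zb19) (kb xb5 yb2 zb3) (kb xb5 yb2 zb6) (kb xb5 yb9 zb20) (kb xb5 yb2 zb17) (kb xb5 yb2 zb18) (kb xb6 yb4 zb20)) (@D3.rec (fun _ => Pt) (kb xb5 yb10 zb17) (kb xb6 yb5 zb1) (kb xb6 yb5 zb20) (kb xb5 yb3 zb8) (kb xb5 yb3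 zb9) (kb xb5 yb3 zb10) (kb xb5 yb3 zb11) (kb xb6 yb13 zb1) (kb xb6 yb5 zb16) (kb xb6 yb13 zb2) (kb xb6 yb13 zb3) (kb xb6 yb13 zb4) (kb xb5 yb3 zb20) (kb xb5 yb4 zb0) (kb xb5 yb3 zb18) (kb xb5 yb3 zb19) (kb xb6 yb5 zb8) (kb xb5 yb4 zb2) (kb xb5 yb4 zb3) (kb xb5 yb9 zb13) (kb xb6 yb5 zb2)) (@D3.rec (fun _ => Pt) (kb xb5 yb4 zb1) (kb xb6 yb9 zb13) (kb xb6 yb9 zb17) (kb xb5 yb9 zb11) (kb xb6 yb13 zb0) (kb xb6 yb13 zb5) (kb xb6 yb11 zb18) (kb xb5 yb11 zb19) (kb xb5 yb4 zb8) (kb xb5 yb13 zb19) (kb xb6 yb13 zb7) (kb xb5 yb4 zb12) (kb xb5 yb12 zb20) (kb xb6 yb2 zb18) (kb xb5 yb4 zb17) (kb xb5 yb4 zb19) (kb xb6 yb10 zb20) (kb xb6 yb3 zb2) (kb xb6 yb11 zb0) (kb xb5 yb8 zb16) (kb xb5 yb5 zb3)) (@D3.rec (fun _ => Pt) (kb xb5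 yb5 zb4) (kb xb5 yb5 zb5) (kb xb6 yb1 zb15) (kb xb6 yb1 zb16) (kb xb6 yb13 zb10) (kb xb5 yb5 zb16) (kb xb6 yb13 zb11) (kb xb6 yb7 zb7) (kb xb6 yb7 zb8) (kb xb6 yb4 zb2) (kb xb5 yb6 zb12) (kb xb5 yb6 zb10) (kb xb5 yb6 zb13) (kb xb5 yb6 zb9) (kb xb5 yb6 zb11) (kb xb5 yb12 zb18) (kb xb5 yb6 zb7) (kb xb5 yb6 zb8) (kb xb6 yb7 zb20) (kb xb6 yb9 zb9) (kb xb6 yb7 zb18)) (@D3.rec (fun _ => Pt) (kb xb6 yb13 zb13) (kb xb5 yb6 zb14) (kb xb5 yb6 zb19) (kb xb5 yb6 zb17) (kb xb5 yb6 zb18) (kb xb6 yb13 zb15) (kb xb6 yb13 zb14) (kb xb5 yb7 zb13) (kb xb5 yb7 zb12) (kb xb5 yb7 zb11) (kb xb5 yb7 zb18) (kb xb5 yb7 zb17) (kb xb5 yb7 zb19) (kb xb5 yb7 zb10) (kb xb6 yb8 zb18) (kb xb5 yb7 zb15) (kb xb5 yb7 zb16) (kb xb6 yb13 zb6) (kb xb6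 yb8 zb14) (kb xb5 yb8 zb0) (kb xb5 yb9 zb17)) (@D3.rec (fun _ => Pt) (kb xb5 yb8 zb4) (kb xb6 yb13 zb16) (kb xb5 yb8 zb7) (kb xb5 yb8 zb8) (kb xb5 yb8 zb11) (kb xb5 yb8 zb12) (kb xb6 yb13 zb17) (kb xb6 yb13 zb18) (kb xb5 yb8 zb15) (kb xb6 yb7 zb19) (kb xb6 yb9 zb20) (kb xb6 yb1 zb18) (kb xb5 yb8 zb19) (kb xb6 yb6 zb1) (kb xb5 yb9 zb12) (kb xb5 yb9 zb14) (kb xb6 yb12 zb20) (kb xb6 yb6 zb2) (kb xb6 yb12 zb13) (kb xb5 yb13 zb12) (kb xb6 yb9 zb10)) (@D3.rec (fun _ => Pt) (kb xb5 yb11 zb5) (kb xb5 yb10 zb2) (kb xb5 yb10 zb4) (kb xb5 yb10 zb5) (kb xb5 yb10 zb6) (kb xb6 yb13 zb12) (kb xb5 yb10 zb16) (kb xb5 yb13 zb15) (kb xb5 yb10 zb15) (kb xb6 yb10 zb9) (kb xb6 yb2 zb5) (kb xb6 yb2 zb0) (kb xb5 yb10 zb19) (kb xb6 yb12 zb5)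 (kb xb5 yb11 zb0) (kb xb5 yb11 zb7) (kb xb6 yb10 zb16) (kb xb5 yb11 zb13) (kb xb6 yb10 zb18) (kb xb5 yb11 zb20) (kb xb6 yb6 zb16)) (@D3.rec (fun _ => Pt) (kb xb6 yb6 zb18) (kb xb5 yb12 zb1) (kb xb5 yb12 zb7) (kb xb6 yb11 zb14) (kb xb5 yb12 zb9) (kb xb5 yb12 zb14) (kb xb5 yb12 zb19) (kb xb5 yb13 zb6) (kb xb5 yb13 zb7) (kb xb6 yb13 zb20) (kb xb5 yb13 zb10) (kb xb5 yb13 zb11) (kb xb6 yb13 zb9) (kb xb6 yb11 zb13) (kb xb6 yb11 zb3) (kb xb5 yb13 zb17) (kb xb6 yb0 zb4) (kb xb6 yb0 zb10) (kb xb6 yb6 zb6) (kb xb6 yb4 zb14) (kb xb6 yb0 zb14)) (@D3.rec (fun _ => Pt) (kb xb6 yb0 zb19) (kb xb6 yb1 zb1) (kb xb6 yb1 zb0) (kb xb6 yb1 zb9) (kb xb6 yb1 zb11) (kb xb6 yb10 zb13) (kb xb6 yb2 zb1) (kb xb6 yb2 zb2) (kb xb6 yb2 zb9) (kb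 xb6 yb2 zb14) (kb xb6 yb2 zb15) (kb xb6 yb3 zb4) (kb xb6 yb3 zb8) (kb xb6 yb9 zb18) (kb xb6 yb3 zb12) (kb xb6 yb3 zb13) (kb xb6 yb12 zb17) (kb xb6 yb12 zb16) (kb xb6 yb4 zb4) (kb xb6 yb4 zb10) (kb xb6 yb9 zb16)) (@D3.rec (fun _ => Pt) (kb xb6 yb6 zb4) (kb xb6 yb5 zb7) (kb xb6 yb5 zb9) (kb xb6 yb5 zb10) (kb xb6 yb5 zb11) (kb xb6 yb6 zb5) (kb xb6 yb8 zb17) (kb xb6 yb6 zb10) (kb xb6 yb13 zb8) (kb xb6 yb11 zb12) (kb xb6 yb7 zb4) (kb xb6 yb7 zb6) (kb xb6 yb10 zb5) (kb xb6 yb8 zb0) (kb xb6 yb8 zb6) (kb xb6 yb8 zb5) (kb xb6 yb9 zb1) (kb xb6 yb9 zb6) (kb xb6 yb9 zb7) (kb xb6 yb13 zb19) (kb xb6 yb11 zb9))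
def f_b : Pt → Pt := @Pt.rec (fun _ => Pt) (@D1.rec (fun _ => D2 → D3 → Pt) f_b_0 f_b_1 f_b_2 f_b_3 f_b_4 f_b_5 f_b_6)
def fi_b : Pt → Pt := f_b

theorem inv_chk_b : chkInv allPts beqPt f_b fi_b = true := by decide +kernel

end

end Cfsg.Agent.Helper28.S1683
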