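import Cfsg.Agent.Lib.Helper28.S1683.Defs

set_option autoImplicit false
set_option maxRecDepth 100000
set_option linter.all false

namespace Cfsg.Agent.Helper28.S1683

open Cfsg.Agent.Helper28
open Cfsg.Spor.He (Gen)

noncomputable section

abbrev kc := Pt.mk
abbrev xc0 := D1.c0
abbrev xc1 := D1.c1
abbrev xc2 := D1.c2
abbrev xc3 := D1.c3
abbrev xc4 := D1.c4
abbrev xc5 := D1.c5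
abbrev xc6 := D1.c6
abbrev yc0 := D2.c0
abbrev yc1 := D2.c1
abbrev yc2 := D2.c2
abbrev yc3 := D2.c3
abbrev yc4 := D2.c4
abbrev yc5 := D2.c5
abbrev yc6 := D2.c6
abbrev yc7 := D2.c7
abbrev yc8 := D2.c8
abbrev yc9 := D2.c9
abbrev yc10 := D2.c10
abbrev yc11 := D2.c11
abbrev yc12 := D2.c12
abbrev yc13 := D2.c13
abbrev zc0 := D3.c0
abbrev zc1 := D3.c1
abbrev zc2 := D3.c2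
abbrev zc3 := D3.c3
abbrev zc4 := D3.c4
abbrev zc5 := D3.c5
abbrev zc6 := D3.c6
abbrev zc7 := D3.c7
abbrev zc8 := D3.c8
abbrev zc9 := D3.c9
abbrev zc10 := D3.c10
abbrev zc11 := D3.c11
abbrev zc12 := D3.c12
abbrev zc13 := D3.c13
abbrev zc14 := D3.c14
abbrev zc15 := D3.c15
abbrev zc16 := D3.c16
abbrev zc17 := D3.c17
abbrev zc18 := D3.c18
abbrev zc19 := D3.c19
abbrev zc20 := D3.c20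
def f_c_0 : D2 → D3 → Pt := @D2.rec (fun _ => D3 → Pt) (@D3.rec (fun _ => Pt) (kc xc0 yc0 zc0) (kc xc0 yc0 zc3) (kc xc0 yc0 zc2) (kc xc0 yc0 zc1) (kc xc0 yc0 zc7) (kc xc0 yc0 zc9) (kc xc0 yc0 zc12) (kc xc0 yc0 zc4) (kc xc0 yc0 zc15) (kc xc0 yc0 zc5) (kc xc0 yc0 zc20) (kc xc0 yc1 zc0) (kc xc0 yc0 zc6) (kc xc0 yc1 zc4) (kc xc0 yc1 zc5) (kc xc0 yc0 zc8) (kc xc0 yc1 zc9) (kc xc0 yc1 zc10) (kc xc0 yc1 zc7) (kc xc0 yc1 zc15) (kc xc0 yc0 zc10)) (@D3.rec (fun _ => Pt) (kc xc0 yc0 zc11) (kc xc0 yc1 zc18) (kc xc0 yc1 zc2) (kc xc0 yc1 zc3) (kc xc0 yc0 zc13) (kc xc0 yc0 zc14) (kc xc0 yc2 zc6) (kc xc0 yc0 zc18) (kc xc0 yc1 zc8) (kc xc0 yc0 zc16) (kc xc0 yc0 zc17) (kc xc0 yc2 zc16) (kc xc0 yc2 zc9) (kc xc0 yc3 zc0) (kc xc0 yc2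 zc11) (kc xc0 yc0 zc19) (kc xc0 yc3 zc3) (kc xc0 yc3 zc4) (kc xc0 yc1 zc1) (kc xc0 yc1 zc19) (kc xc0 yc1 zc20)) (@D3.rec (fun _ => Pt) (kc xc0 yc3 zc9) (kc xc0 yc2 zc1) (kc xc0 yc2 zc2) (kc xc0 yc2 zc3) (kc xc0 yc2 zc4) (kc xc0 yc3 zc14) (kc xc0 yc1 zc6) (kc xc0 yc4 zc2) (kc xc0 yc4 zc5) (kc xc0 yc1 zc12) (kc xc0 yc4 zc8) (kc xc0 yc1 zc14) (kc xc0 yc2 zc12) (kc xc0 yc2 zc13) (kc xc0 yc2 zc14) (kc xc0 yc4 zc13) (kc xc0 yc1 zc11) (kc xc0 yc3 zc17) (kc xc0 yc5 zc2) (kc xc0 yc5 zc3) (kc xc0 yc4 zc7)) (@D3.rec (fun _ => Pt) (kc xc0 yc1 zc13) (kc xc0 yc5 zc8) (kc xc0 yc5 zc6) (kc xc0 yc1 zc16) (kc xc0 yc1 zc17) (kc xc0 yc3 zc6) (kc xc0 yc3 zc5) (kc xc0 yc5 zc13) (kc xc0 yc3 zc8) (kc xc0 yc2 zc0) (kc xc0 yc5 zc18) (kc xc0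 yc5 zc19) (kc xc0 yc5 zc20) (kc xc0 yc6 zc5) (kc xc0 yc2 zc5) (kc xc0 yc3 zc15) (kc xc0 yc3 zc16) (kc xc0 yc2 zc17) (kc xc0 yc3 zc18) (kc xc0 yc3 zc19) (kc xc0 yc6 zc8)) (@D3.rec (fun _ => Pt) (kc xc0 yc6 zc9) (kc xc0 yc6 zc17) (kc xc0 yc2 zc7) (kc xc0 yc6 zc19) (kc xc0 yc6 zc20) (kc xc0 yc2 zc8) (kc xc0 yc7 zc3) (kc xc0 yc2 zc20) (kc xc0 yc2 zc10) (kc xc0 yc7 zc9) (kc xc0 yc7 zc10) (kc xc0 yc7 zc11) (kc xc0 yc7 zc16) (kc xc0 yc2 zc15) (kc xc0 yc4 zc14) (kc xc0 yc4 zc15) (kc xc0 yc4 zc16) (kc xc0 yc4 zc17) (kc xc0 yc7 zc19) (kc xc0 yc7 zc20) (kc xc0 yc7 zc0)) (@D3.rec (fun _ => Pt) (kc xc0 yc6 zc12) (kc xc0 yc6 zc13) (kc xc0 yc2 zc18) (kc xc0 yc2 zc19) (kc xc0 yc8 zc8) (kc xc0 yc8 zc9) (kc xc0 yc3 zc2) (kc xc0 yc8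 zc12) (kc xc0 yc3 zc1) (kc xc0 yc8 zc11) (kc xc0 yc8 zc6) (kc xc0 yc5 zc11) (kc xc0 yc5 zc12) (kc xc0 yc3 zc7) (kc xc0 yc8 zc19) (kc xc0 yc8 zc20) (kc xc0 yc9 zc0) (kc xc0 yc9 zc6) (kc xc0 yc3 zc10) (kc xc0 yc3 zc11) (kc xc0 yc3 zc12)) (@D3.rec (fun _ => Pt) (kc xc0 yc9 zc7) (kc xc0 yc9 zc8) (kc xc0 yc9 zc15) (kc xc0 yc9 zc10) (kc xc0 yc9 zc12) (kc xc0 yc3 zc13) (kc xc0 yc9 zc20) (kc xc0 yc10 zc0) (kc xc0 yc3 zc20) (kc xc0 yc4 zc0) (kc xc0 yc10 zc4) (kc xc0 yc10 zc7) (kc xc0 yc5 zc0) (kc xc0 yc5 zc1) (kc xc0 yc6 zc16) (kc xc0 yc10 zc8) (kc xc0 yc6 zc14) (kc xc0 yc4 zc1) (kc xc0 yc9 zc18) (kc xc0 yc4 zc3) (kc xc0 yc4 zc4)) (@D3.rec (fun _ => Pt) (kc xc0 yc4 zc20) (kc xc0 yc7 zc1) (kc xc0 yc10 zc18) (kc xc0 yc4 zc6)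 (kc xc0 yc11 zc0) (kc xc0 yc11 zc2) (kc xc0 yc11 zc3) (kc xc0 yc11 zc8) (kc xc0 yc11 zc9) (kc xc0 yc4 zc9) (kc xc0 yc4 zc10) (kc xc0 yc4 zc11) (kc xc0 yc11 zc14) (kc xc0 yc11 zc15) (kc xc0 yc11 zc17) (kc xc0 yc11 zc19) (kc xc0 yc4 zc12) (kc xc0 yc12 zc3) (kc xc0 yc12 zc4) (kc xc0 yc4 zc18) (kc xc0 yc4 zc19)) (@D3.rec (fun _ => Pt) (kc xc0 yc10 zc6) (kc xc0 yc10 zc3) (kc xc0 yc8 zc4) (kc xc0 yc12 zc6) (kc xc0 yc8 zc2) (kc xc0 yc12 zc9) (kc xc0 yc5 zc10) (kc xc0 yc12 zc13) (kc xc0 yc5 zc4) (kc xc0 yc5 zc5) (kc xc0 yc12 zc19) (kc xc0 yc5 zc9) (kc xc0 yc5 zc7) (kc xc0 yc13 zc5) (kc xc0 yc13 zc6) (kc xc0 yc13 zc7) (kc xc0 yc13 zc13) (kc xc0 yc13 zc16) (kc xc0 yc13 zc17) (kc xc0 yc5 zc14) (kc xc0 yc5 zc15)) (@D3.rec (fun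 _ => Pt) (kc xc0 yc5 zc16) (kc xc0 yc13 zc18) (kc xc0 yc13 zc19) (kc xc1 yc0 zc5) (kc xc1 yc0 zc0) (kc xc1 yc0 zc2) (kc xc0 yc5 zc17) (kc xc0 yc6 zc0) (kc xc0 yc6 zc1) (kc xc1 yc0 zc11) (kc xc0 yc6 zc3) (kc xc1 yc0 zc15) (kc xc0 yc6 zc4) (kc xc1 yc0 zc19) (kc xc1 yc1 zc1) (kc xc0 yc6 zc2) (kc xc1 yc1 zc3) (kc xc1 yc1 zc4) (kc xc0 yc6 zc18) (kc xc1 yc1 zc9) (kc xc0 yc6 zc6)) (@D3.rec (fun _ => Pt) (kc xc0 yc6 zc7) (kc xc1 yc1 zc15) (kc xc1 yc1 zc17) (kc xc0 yc8 zc1) (kc xc0 yc6 zc10) (kc xc1 yc1 zc20) (kc xc0 yc8 zc0) (kc xc0 yc6 zc11) (kc xc0 yc6 zc15) (kc xc0 yc10 zc20) (kc xc0 yc10 zc19) (kc xc1 yc0 zc7) (kc xc1 yc1 zc18) (kc xc1 yc1 zc6) (kc xc1 yc1 zc8) (kc xc1 yc2 zc0) (kc xc1 yc2 zc7) (kc xc1 yc2 zc8) (kc xc0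 yc7 zc2) (kc xc0 yc10 zc10) (kc xc0 yc10 zc9)) (@D3.rec (fun _ => Pt) (kc xc0 yc7 zc4) (kc xc0 yc13 zc4) (kc xc0 yc7 zc5) (kc xc0 yc7 zc6) (kc xc1 yc2 zc13) (kc xc1 yc2 zc14) (kc xc1 yc2 zc19) (kc xc1 yc3 zc0) (kc xc0 yc7 zc7) (kc xc0 yc7 zc8) (kc xc1 yc3 zc5) (kc xc1 yc3 zc6) (kc xc1 yc3 zc7) (kc xc1 yc3 zc15) (kc xc0 yc7 zc12) (kc xc0 yc7 zc13) (kc xc1 yc3 zc20) (kc xc0 yc7 zc14) (kc xc1 yc4 zc1) (kc xc0 yc7 zc15) (kc xc1 yc4 zc3)) (@D3.rec (fun _ => Pt) (kc xc1 yc4 zc4) (kc xc0 yc12 zc1) (kc xc0 yc12 zc2) (kc xc0 yc7 zc17) (kc xc0 yc7 zc18) (kc xc1 yc2 zc1) (kc xc0 yc8 zc3) (kc xc0 yc12 zc11) (kc xc0 yc12 zc10) (kc xc0 yc8 zc5) (kc xc0 yc12 zc8) (kc xc0 yc12 zc7) (kc xc1 yc4 zc13) (kc xc0 yc8 zc7) (kc xc1 yc4 zc18)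 (kc xc1 yc4 zc19) (kc xc1 yc4 zc20) (kc xc1 yc5 zc6) (kc xc1 yc5 zc9) (kc xc0 yc8 zc10) (kc xc1 yc5 zc14)) (@D3.rec (fun _ => Pt) (kc xc1 yc5 zc15) (kc xc1 yc5 zc16) (kc xc1 yc6 zc1) (kc xc1 yc5 zc12) (kc xc0 yc11 zc1) (kc xc0 yc8 zc13) (kc xc0 yc8 zc14) (kc xc0 yc8 zc15) (kc xc1 yc6 zc19) (kc xc1 yc6 zc13) (kc xc1 yc6 zc14) (kc xc1 yc6 zc16) (kc xc1 yc6 zc18) (kc xc0 yc8 zc16) (kc xc1 yc7 zc7) (kc xc1 yc7 zc8) (kc xc0 yc8 zc17) (kc xc0 yc8 zc18) (kc xc0 yc9 zc1) (kc xc0 yc9 zc2) (kc xc1 yc7 zc15))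
def f_c_1 : D2 → D3 → Pt := @D2.rec (fun _ => D3 → Pt) (@D3.rec (fun _ => Pt) (kc xc0 yc9 zc4) (kc xc1 yc7 zc19) (kc xc0 yc9 zc5) (kc xc1 yc8 zc2) (kc xc1 yc8 zc4) (kc xc0 yc9 zc3) (kc xc1 yc8 zc6) (kc xc0 yc10 zc11) (kc xc1 yc8 zc8) (kc xc1 yc8 zc12) (kc xc1 yc8 zc15) (kc xc0 yc9 zc9) (kc xc1 yc8 zc20) (kc xc1 yc9 zc0) (kc xc1 yc9 zc4) (kc xc0 yc9 zc11) (kc xc1 yc9 zc9) (kc xc1 yc9 zc10) (kc xc1 yc9 zc14) (kc xc0 yc9 zc13) (kc xc1 yc9 zc19)) (@D3.rec (fun _ => Pt) (kc xc1 yc9 zc20) (kc xc0 yc9 zc14) (kc xc1 yc10 zc4) (kc xc0 yc9 zc16) (kc xc0 yc9 zc17) (kc xc1 yc10 zc11) (kc xc0 yc10 zc13) (kc xc1 yc10 zc13) (kc xc0 yc10 zc14) (kc xc0 yc9 zc19) (kc xc1 yc10 zc19) (kc xc1 yc10 zc20) (kc xc1 yc11 zc0) (kc xc1 yc11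 zc7) (kc xc1 yc11 zc10) (kc xc0 yc10 zc1) (kc xc1 yc11 zc14) (kc xc0 yc10 zc2) (kc xc0 yc10 zc12) (kc xc1 yc9 zc17) (kc xc0 yc10 zc5)) (@D3.rec (fun _ => Pt) (kc xc0 yc10 zc15) (kc xc0 yc12 zc5) (kc xc1 yc10 zc2) (kc xc1 yc10 zc9) (kc xc1 yc11 zc19) (kc xc1 yc12 zc0) (kc xc1 yc12 zc1) (kc xc0 yc10 zc16) (kc xc0 yc10 zc17) (kc xc1 yc12 zc3) (kc xc1 yc12 zc4) (kc xc1 yc12 zc2) (kc xc1 yc12 zc5) (kc xc0 yc11 zc4) (kc xc0 yc11 zc5) (kc xc1 yc6 zc9) (kc xc1 yc6 zc10) (kc xc1 yc6 zc11) (kc xc1 yc12 zc17) (kc xc0 yc11 zc6) (kc xc1 yc12 zc19)) (@D3.rec (fun _ => Pt) (kc xc0 yc11 zc7) (kc xc1 yc13 zc0) (kc xc1 yc3 zc2) (kc xc1 yc3 zc3) (kc xc1 yc3 zc4) (kc xc0 yc11 zc10) (kc xc0 yc11 zc11) (kc xc0 yc11 zc12) (kc xc1 yc13 zc15)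 (kc xc1 yc13 zc9) (kc xc1 yc13 zc10) (kc xc1 yc13 zc20) (kc xc1 yc13 zc12) (kc xc2 yc0 zc3) (kc xc1 yc13 zc14) (kc xc0 yc11 zc13) (kc xc2 yc0 zc9) (kc xc2 yc0 zc10) (kc xc2 yc0 zc15) (kc xc2 yc0 zc17) (kc xc0 yc11 zc16)) (@D3.rec (fun _ => Pt) (kc xc2 yc1 zc0) (kc xc0 yc11 zc18) (kc xc2 yc1 zc3) (kc xc0 yc11 zc20) (kc xc0 yc12 zc0) (kc xc1 yc4 zc5) (kc xc1 yc4 zc6) (kc xc1 yc4 zc7) (kc xc1 yc4 zc8) (kc xc2 yc1 zc11) (kc xc2 yc1 zc5) (kc xc1 yc11 zc20) (kc xc1 yc4 zc12) (kc xc0 yc12 zc12) (kc xc2 yc1 zc16) (kc xc2 yc1 zc17) (kc xc1 yc10 zc15) (kc xc1 yc11 zc4) (kc xc0 yc12 zc14) (kc xc0 yc12 zc15) (kc xc0 yc12 zc16)) (@D3.rec (fun _ => Pt) (kc xc2 yc2 zc9) (kc xc2 yc2 zc4) (kc xc2 yc2 zc5) (kc xc2 yc2 zc7) (kc xc2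 yc2 zc15) (kc xc1 yc10 zc18) (kc xc0 yc12 zc17) (kc xc2 yc3 zc0) (kc xc2 yc3 zc1) (kc xc0 yc12 zc18) (kc xc2 yc3 zc6) (kc xc2 yc3 zc7) (kc xc0 yc13 zc3) (kc xc2 yc3 zc5) (kc xc0 yc12 zc20) (kc xc0 yc13 zc0) (kc xc0 yc13 zc1) (kc xc2 yc4 zc0) (kc xc2 yc3 zc17) (kc xc2 yc3 zc18) (kc xc1 yc10 zc17)) (@D3.rec (fun _ => Pt) (kc xc2 yc3 zc20) (kc xc0 yc13 zc2) (kc xc2 yc4 zc9) (kc xc2 yc4 zc10) (kc xc2 yc3 zc10) (kc xc2 yc4 zc16) (kc xc2 yc3 zc12) (kc xc1 yc11 zc9) (kc xc2 yc3 zc13) (kc xc1 yc2 zc15) (kc xc1 yc2 zc16) (kc xc1 yc2 zc17) (kc xc1 yc13 zc8) (kc xc0 yc13 zc9) (kc xc0 yc13 zc10) (kc xc2 yc5 zc14) (kc xc0 yc13 zc11) (kc xc2 yc5 zc18) (kc xc0 yc13 zc12) (kc xc0 yc13 zc8) (kc xc2 yc6 zc1)) (@D3.rec (fun _ => Pt)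 (kc xc2 yc6 zc2) (kc xc2 yc6 zc5) (kc xc2 yc6 zc7) (kc xc1 yc7 zc3) (kc xc2 yc6 zc11) (kc xc2 yc4 zc7) (kc xc1 yc7 zc6) (kc xc0 yc13 zc14) (kc xc0 yc13 zc15) (kc xc2 yc5 zc20) (kc xc2 yc6 zc18) (kc xc2 yc7 zc0) (kc xc2 yc7 zc4) (kc xc2 yc7 zc6) (kc xc2 yc7 zc9) (kc xc0 yc13 zc20) (kc xc2 yc7 zc14) (kc xc2 yc7 zc15) (kc xc2 yc7 zc19) (kc xc1 yc0 zc1) (kc xc2 yc8 zc2)) (@D3.rec (fun _ => Pt) (kc xc2 yc4 zc20) (kc xc2 yc8 zc6) (kc xc1 yc0 zc3) (kc xc2 yc8 zc11) (kc xc1 yc0 zc4) (kc xc2 yc8 zc13) (kc xc1 yc0 zc6) (kc xc2 yc3 zc9) (kc xc1 yc0 zc8) (kc xc2 yc9 zc0) (kc xc2 yc9 zc1) (kc xc2 yc9 zc2) (kc xc1 yc0 zc9) (kc xc2 yc9 zc8) (kc xc2 yc9 zc9) (kc xc1 yc0 zc10) (kc xc2 yc9 zc12) (kc xc2 yc9 zc13) (kc xc1 yc8 zc18)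 (kc xc2 yc9 zc18) (kc xc1 yc0 zc12)) (@D3.rec (fun _ => Pt) (kc xc1 yc0 zc13) (kc xc2 yc10 zc2) (kc xc2 yc10 zc5) (kc xc2 yc10 zc3) (kc xc1 yc0 zc14) (kc xc2 yc10 zc11) (kc xc2 yc10 zc12) (kc xc1 yc9 zc7) (kc xc2 yc8 zc1) (kc xc1 yc0 zc16) (kc xc1 yc0 zc17) (kc xc2 yc11 zc1) (kc xc2 yc11 zc4) (kc xc2 yc11 zc2) (kc xc1 yc0 zc18) (kc xc2 yc11 zc9) (kc xc1 yc10 zc6) (kc xc1 yc1 zc19) (kc xc2 yc11 zc14) (kc xc1 yc0 zc20) (kc xc1 yc1 zc0)) (@D3.rec (fun _ => Pt) (kc xc2 yc11 zc19) (kc xc2 yc12 zc0) (kc xc1 yc2 zc2) (kc xc2 yc12 zc2) (kc xc1 yc1 zc2) (kc xc2 yc11 zc6) (kc xc1 yc9 zc16) (kc xc2 yc11 zc5) (kc xc2 yc12 zc9) (kc xc1 yc2 zc3) (kc xc2 yc12 zc13) (kc xc1 yc1 zc5) (kc xc2 yc4 zc12) (kc xc1 yc1 zc7) (kc xc2 yc1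 zc20) (kc xc1 yc4 zc16) (kc xc2 yc1 zc18) (kc xc1 yc5 zc20) (kc xc1 yc5 zc5) (kc xc1 yc1 zc10) (kc xc1 yc1 zc11)) (@D3.rec (fun _ => Pt) (kc xc1 yc1 zc12) (kc xc2 yc5 zc4) (kc xc2 yc13 zc0) (kc xc2 yc2 zc2) (kc xc1 yc4 zc17) (kc xc2 yc4 zc14) (kc xc2 yc2 zc1) (kc xc1 yc1 zc13) (kc xc2 yc5 zc1) (kc xc1 yc6 zc7) (kc xc1 yc1 zc14) (kc xc2 yc13 zc11) (kc xc2 yc6 zc15) (kc xc2 yc10 zc14) (kc xc1 yc1 zc16) (kc xc2 yc8 zc9) (kc xc2 yc11 zc11) (kc xc2 yc11 zc13) (kc xc1 yc11 zc18) (kc xc1 yc2 zc4) (kc xc1 yc4 zc11)) (@D3.rec (fun _ => Pt) (kc xc1 yc2 zc5) (kc xc1 yc2 zc6) (kc xc1 yc2 zc11) (kc xc1 yc2 zc9) (kc xc1 yc2 zc10) (kc xc1 yc2 zc12) (kc xc2 yc6 zc0) (kc xc2 yc13 zc20) (kc xc3 yc0 zc0) (kc xc3 yc0 zc7) (kc xc3 yc0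 zc9) (kc xc2 yc5 zc6) (kc xc2 yc5 zc7) (kc xc3 yc0 zc13) (kc xc2 yc5 zc9) (kc xc3 yc0 zc17) (kc xc2 yc5 zc11) (kc xc1 yc2 zc18) (kc xc3 yc1 zc2) (kc xc1 yc2 zc20) (kc xc3 yc1 zc5)) (@D3.rec (fun _ => Pt) (kc xc1 yc3 zc1) (kc xc1 yc13 zc1) (kc xc1 yc13 zc2) (kc xc1 yc13 zc3) (kc xc1 yc13 zc4) (kc xc1 yc13 zc5) (kc xc1 yc13 zc6) (kc xc1 yc13 zc7) (kc xc1 yc6 zc12) (kc xc1 yc3 zc9) (kc xc1 yc3 zc10) (kc xc3 yc1 zc18) (kc xc1 yc3 zc12) (kc xc2 yc6 zc3) (kc xc1 yc3 zc14) (kc xc1 yc3 zc8) (kc xc3 yc2 zc0) (kc xc3 yc2 zc1) (kc xc3 yc2 zc4) (kc xc3 yc2 zc7) (kc xc1 yc3 zc11))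
def f_c_2 : D2 → D3 → Pt := @D2.rec (fun _ => D3 → Pt) (@D3.rec (fun _ => Pt) (kc xc3 yc2 zc12) (kc xc3 yc2 zc13) (kc xc3 yc2 zc15) (kc xc1 yc3 zc13) (kc xc3 yc2 zc19) (kc xc3 yc2 zc20) (kc xc3 yc3 zc1) (kc xc2 yc0 zc7) (kc xc2 yc0 zc8) (kc xc1 yc3 zc16) (kc xc1 yc3 zc17) (kc xc3 yc3 zc7) (kc xc3 yc3 zc6) (kc xc3 yc3 zc9) (kc xc2 yc13 zc17) (kc xc1 yc3 zc18) (kc xc3 yc3 zc13) (kc xc1 yc3 zc19) (kc xc3 yc3 zc16) (kc xc2 yc0 zc19) (kc xc3 yc3 zc20)) (@D3.rec (fun _ => Pt) (kc xc1 yc4 zc0) (kc xc2 yc1 zc1) (kc xc3 yc1 zc4) (kc xc1 yc4 zc2) (kc xc3 yc4 zc9) (kc xc1 yc4 zc10) (kc xc2 yc1 zc6) (kc xc2 yc1 zc7) (kc xc2 yc1 zc8) (kc xc3 yc4 zc14) (kc xc2 yc1 zc10) (kc xc1 yc4 zc9) (kc xc3 yc5 zc0) (kc xc3 yc4 zc18) (kc xc3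 yc4 zc13) (kc xc3 yc5 zc4) (kc xc1 yc4 zc14) (kc xc1 yc4 zc15) (kc xc1 yc10 zc16) (kc xc2 yc12 zc19) (kc xc1 yc10 zc14)) (@D3.rec (fun _ => Pt) (kc xc2 yc9 zc5) (kc xc1 yc11 zc6) (kc xc1 yc11 zc3) (kc xc2 yc5 zc5) (kc xc1 yc5 zc1) (kc xc1 yc5 zc2) (kc xc3 yc4 zc17) (kc xc1 yc5 zc3) (kc xc3 yc5 zc19) (kc xc1 yc5 zc0) (kc xc3 yc6 zc0) (kc xc3 yc6 zc1) (kc xc3 yc6 zc4) (kc xc2 yc10 zc16) (kc xc2 yc2 zc14) (kc xc1 yc5 zc4) (kc xc2 yc8 zc19) (kc xc2 yc8 zc18) (kc xc3 yc6 zc12) (kc xc2 yc3 zc4) (kc xc2 yc2 zc20)) (@D3.rec (fun _ => Pt) (kc xc1 yc5 zc7) (kc xc1 yc5 zc8) (kc xc2 yc8 zc20) (kc xc3 yc6 zc17) (kc xc2 yc2 zc19) (kc xc1 yc5 zc13) (kc xc1 yc5 zc10) (kc xc1 yc5 zc11) (kc xc3 yc7 zc2) (kc xc1 yc8 zc7) (kc xc1 yc6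 zc4) (kc xc3 yc7 zc6) (kc xc1 yc6 zc6) (kc xc1 yc6 zc8) (kc xc3 yc7 zc0) (kc xc3 yc4 zc7) (kc xc3 yc7 zc13) (kc xc1 yc5 zc18) (kc xc1 yc5 zc19) (kc xc3 yc7 zc17) (kc xc1 yc6 zc0)) (@D3.rec (fun _ => Pt) (kc xc1 yc5 zc17) (kc xc2 yc12 zc17) (kc xc3 yc8 zc0) (kc xc3 yc8 zc3) (kc xc3 yc8 zc5) (kc xc3 yc3 zc10) (kc xc3 yc8 zc9) (kc xc1 yc7 zc5) (kc xc2 yc5 zc16) (kc xc1 yc6 zc2) (kc xc1 yc6 zc3) (kc xc2 yc12 zc16) (kc xc1 yc10 zc12) (kc xc2 yc4 zc17) (kc xc1 yc11 zc5) (kc xc2 yc13 zc12) (kc xc1 yc6 zc5) (kc xc2 yc4 zc13) (kc xc3 yc9 zc0) (kc xc3 yc9 zc1) (kc xc1 yc8 zc0)) (@D3.rec (fun _ => Pt) (kc xc2 yc13 zc3) (kc xc1 yc11 zc8) (kc xc3 yc9 zc10) (kc xc3 yc9 zc13) (kc xc1 yc11 zc1) (kc xc2 yc2 zc3) (kc xc1 yc12 zc11)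 (kc xc1 yc12 zc12) (kc xc3 yc9 zc16) (kc xc1 yc12 zc14) (kc xc3 yc6 zc2) (kc xc1 yc12 zc16) (kc xc3 yc1 zc16) (kc xc3 yc9 zc20) (kc xc1 yc6 zc15) (kc xc3 yc10 zc2) (kc xc2 yc4 zc8) (kc xc2 yc7 zc5) (kc xc1 yc6 zc17) (kc xc2 yc6 zc6) (kc xc1 yc7 zc9)) (@D3.rec (fun _ => Pt) (kc xc1 yc12 zc6) (kc xc1 yc6 zc20) (kc xc1 yc7 zc0) (kc xc1 yc13 zc13) (kc xc3 yc10 zc11) (kc xc1 yc7 zc1) (kc xc2 yc5 zc19) (kc xc1 yc7 zc2) (kc xc3 yc6 zc16) (kc xc2 yc6 zc9) (kc xc2 yc6 zc10) (kc xc1 yc7 zc4) (kc xc3 yc10 zc20) (kc xc3 yc11 zc0) (kc xc2 yc13 zc7) (kc xc1 yc11 zc12) (kc xc2 yc6 zc16) (kc xc3 yc6 zc7) (kc xc1 yc7 zc10) (kc xc3 yc11 zc4) (kc xc3 yc4 zc1)) (@D3.rec (fun _ => Pt) (kc xc1 yc7 zc11) (kc xc3 yc11 zc10) (kc xc3 yc11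 zc11) (kc xc3 yc5 zc18) (kc xc1 yc7 zc12) (kc xc2 yc5 zc17) (kc xc1 yc7 zc13) (kc xc3 yc11 zc17) (kc xc3 yc11 zc18) (kc xc1 yc7 zc14) (kc xc3 yc11 zc20) (kc xc3 yc1 zc11) (kc xc3 yc11 zc15) (kc xc2 yc12 zc6) (kc xc1 yc7 zc16) (kc xc1 yc7 zc17) (kc xc3 yc12 zc8) (kc xc3 yc12 zc11) (kc xc3 yc12 zc9) (kc xc1 yc7 zc18) (kc xc3 yc12 zc16)) (@D3.rec (fun _ => Pt) (kc xc2 yc12 zc11) (kc xc1 yc9 zc8) (kc xc1 yc7 zc20) (kc xc3 yc9 zc2) (kc xc3 yc12 zc20) (kc xc3 yc5 zc13) (kc xc1 yc8 zc1) (kc xc3 yc13 zc4) (kc xc2 yc8 zc15) (kc xc1 yc11 zc15) (kc xc3 yc13 zc7) (kc xc1 yc8 zc3) (kc xc3 yc13 zc12) (kc xc1 yc8 zc5) (kc xc3 yc13 zc1) (kc xc2 yc8 zc8) (kc xc3 yc13 zc0) (kc xc3 yc13 zc17) (kc xc2 yc2 zc17) (kc xc2 yc2 zc16) (kc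 xc2 yc3 zc2)) (@D3.rec (fun _ => Pt) (kc xc1 yc8 zc9) (kc xc1 yc8 zc10) (kc xc1 yc8 zc11) (kc xc3 yc6 zc15) (kc xc3 yc5 zc12) (kc xc2 yc2 zc0) (kc xc2 yc9 zc6) (kc xc4 yc0 zc7) (kc xc1 yc8 zc13) (kc xc1 yc8 zc14) (kc xc2 yc9 zc10) (kc xc4 yc0 zc13) (kc xc1 yc8 zc16) (kc xc1 yc8 zc17) (kc xc2 yc9 zc14) (kc xc4 yc0 zc19) (kc xc2 yc9 zc16) (kc xc2 yc9 zc17) (kc xc1 yc8 zc19) (kc xc4 yc1 zc4) (kc xc3 yc12 zc10)) (@D3.rec (fun _ => Pt) (kc xc4 yc1 zc5) (kc xc4 yc1 zc11) (kc xc1 yc9 zc1) (kc xc1 yc9 zc3) (kc xc3 yc12 zc5) (kc xc1 yc9 zc2) (kc xc2 yc13 zc13) (kc xc2 yc13 zc14) (kc xc4 yc1 zc18) (kc xc2 yc10 zc9) (kc xc2 yc10 zc10) (kc xc1 yc9 zc5) (kc xc1 yc9 zc6) (kc xc4 yc2 zc0) (kc xc1 yc11 zc13) (kc xc2 yc10 zc15) (kc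 xc2 yc2 zc13) (kc xc2 yc10 zc17) (kc xc2 yc10 zc20) (kc xc3 yc9 zc9) (kc xc2 yc10 zc18)) (@D3.rec (fun _ => Pt) (kc xc4 yc2 zc9) (kc xc1 yc9 zc11) (kc xc1 yc9 zc13) (kc xc4 yc2 zc12) (kc xc1 yc9 zc12) (kc xc1 yc10 zc7) (kc xc1 yc10 zc5) (kc xc4 yc2 zc16) (kc xc4 yc2 zc17) (kc xc1 yc9 zc15) (kc xc2 yc12 zc8) (kc xc1 yc11 zc16) (kc xc4 yc3 zc0) (kc xc1 yc11 zc17) (kc xc1 yc9 zc18) (kc xc4 yc3 zc6) (kc xc4 yc3 zc7) (kc xc4 yc3 zc8) (kc xc4 yc3 zc13) (kc xc1 yc10 zc0) (kc xc2 yc11 zc20)) (@D3.rec (fun _ => Pt) (kc xc1 yc10 zc1) (kc xc4 yc3 zc17) (kc xc1 yc10 zc3) (kc xc4 yc4 zc2) (kc xc4 yc4 zc3) (kc xc4 yc4 zc4) (kc xc2 yc7 zc13) (kc xc3 yc12 zc13) (kc xc2 yc11 zc10) (kc xc1 yc10 zc8) (kc xc3 yc12 zc12) (kc xc2 yc8 zc0)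 (kc xc4 yc4 zc14) (kc xc1 yc10 zc10) (kc xc4 yc4 zc18) (kc xc4 yc4 zc16) (kc xc2 yc4 zc11) (kc xc2 yc4 zc1) (kc xc3 yc1 zc1) (kc xc2 yc1 zc19) (kc xc2 yc12 zc20)) (@D3.rec (fun _ => Pt) (kc xc1 yc11 zc2) (kc xc4 yc5 zc2) (kc xc4 yc5 zc3) (kc xc2 yc5 zc0) (kc xc4 yc5 zc6) (kc xc4 yc5 zc8) (kc xc4 yc5 zc11) (kc xc2 yc6 zc14) (kc xc4 yc5 zc14) (kc xc2 yc13 zc9) (kc xc2 yc13 zc10) (kc xc1 yc11 zc11) (kc xc2 yc4 zc15) (kc xc2 yc10 zc6) (kc xc2 yc10 zc7) (kc xc4 yc5 zc19) (kc xc2 yc13 zc16) (kc xc2 yc0 zc14) (kc xc3 yc0 zc6) (kc xc4 yc6 zc1) (kc xc1 yc12 zc7))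
def f_c_3 : D2 → D3 → Pt := @D2.rec (fun _ => D3 → Pt) (@D3.rec (fun _ => Pt) (kc xc1 yc12 zc8) (kc xc3 yc10 zc8) (kc xc3 yc10 zc9) (kc xc4 yc6 zc7) (kc xc3 yc1 zc20) (kc xc3 yc4 zc20) (kc xc2 yc13 zc18) (kc xc1 yc12 zc9) (kc xc4 yc6 zc11) (kc xc1 yc12 zc10) (kc xc4 yc6 zc14) (kc xc4 yc6 zc15) (kc xc4 yc6 zc18) (kc xc1 yc12 zc13) (kc xc4 yc7 zc2) (kc xc4 yc7 zc3) (kc xc3 yc3 zc12) (kc xc1 yc12 zc15) (kc xc4 yc7 zc8) (kc xc4 yc7 zc9) (kc xc4 yc7 zc11)) (@D3.rec (fun _ => Pt) (kc xc4 yc6 zc10) (kc xc2 yc12 zc18) (kc xc1 yc12 zc18) (kc xc4 yc6 zc12) (kc xc2 yc1 zc2) (kc xc1 yc12 zc20) (kc xc3 yc1 zc6) (kc xc3 yc1 zc7) (kc xc3 yc1 zc8) (kc xc3 yc1 zc9) (kc xc3 yc1 zc10) (kc xc2 yc7 zc11) (kc xc3 yc1 zc12) (kc xc3 yc1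 zc13) (kc xc4 yc8 zc8) (kc xc3 yc1 zc15) (kc xc2 yc5 zc12) (kc xc4 yc8 zc11) (kc xc1 yc13 zc11) (kc xc4 yc8 zc14) (kc xc3 yc0 zc4)) (@D3.rec (fun _ => Pt) (kc xc1 yc13 zc16) (kc xc1 yc13 zc17) (kc xc4 yc8 zc16) (kc xc4 yc8 zc17) (kc xc1 yc13 zc18) (kc xc4 yc8 zc20) (kc xc4 yc7 zc19) (kc xc1 yc13 zc19) (kc xc3 yc8 zc8) (kc xc3 yc8 zc7) (kc xc3 yc2 zc10) (kc xc4 yc9 zc3) (kc xc2 yc0 zc0) (kc xc2 yc0 zc1) (kc xc4 yc9 zc7) (kc xc2 yc0 zc2) (kc xc4 yc9 zc9) (kc xc3 yc2 zc17) (kc xc4 yc9 zc11) (kc xc2 yc0 zc4) (kc xc2 yc0 zc5)) (@D3.rec (fun _ => Pt) (kc xc4 yc9 zc13) (kc xc2 yc0 zc6) (kc xc3 yc5 zc11) (kc xc3 yc3 zc3) (kc xc3 yc3 zc4) (kc xc4 yc9 zc14) (kc xc2 yc0 zc12) (kc xc2 yc0 zc11) (kc xc4 yc9 zc17) (kc xc2 yc0 zc13)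 (kc xc2 yc4 zc5) (kc xc3 yc3 zc11) (kc xc3 yc0 zc16) (kc xc2 yc0 zc16) (kc xc3 yc3 zc14) (kc xc4 yc10 zc2) (kc xc2 yc0 zc18) (kc xc3 yc3 zc17) (kc xc4 yc10 zc7) (kc xc3 yc3 zc19) (kc xc2 yc0 zc20)) (@D3.rec (fun _ => Pt) (kc xc4 yc10 zc11) (kc xc2 yc6 zc20) (kc xc4 yc10 zc12) (kc xc4 yc6 zc17) (kc xc3 yc4 zc4) (kc xc4 yc10 zc18) (kc xc3 yc4 zc6) (kc xc2 yc3 zc15) (kc xc4 yc11 zc0) (kc xc2 yc1 zc4) (kc xc4 yc11 zc4) (kc xc4 yc9 zc6) (kc xc4 yc11 zc5) (kc xc2 yc1 zc14) (kc xc2 yc1 zc9) (kc xc4 yc11 zc10) (kc xc4 yc11 zc11) (kc xc2 yc2 zc6) (kc xc2 yc1 zc13) (kc xc3 yc5 zc1) (kc xc3 yc0 zc5)) (@D3.rec (fun _ => Pt) (kc xc2 yc1 zc12) (kc xc3 yc4 zc19) (kc xc3 yc5 zc3) (kc xc3 yc5 zc2) (kc xc2 yc1 zc15) (kc xc4 yc3 zc2)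 (kc xc4 yc3 zc1) (kc xc4 yc11 zc16) (kc xc3 yc5 zc8) (kc xc4 yc11 zc19) (kc xc3 yc9 zc19) (kc xc3 yc3 zc2) (kc xc2 yc9 zc4) (kc xc2 yc8 zc5) (kc xc4 yc12 zc1) (kc xc3 yc9 zc14) (kc xc3 yc10 zc15) (kc xc4 yc11 zc13) (kc xc2 yc7 zc3) (kc xc2 yc2 zc8) (kc xc3 yc6 zc5)) (@D3.rec (fun _ => Pt) (kc xc2 yc2 zc10) (kc xc2 yc2 zc11) (kc xc2 yc5 zc10) (kc xc4 yc2 zc4) (kc xc2 yc2 zc12) (kc xc3 yc5 zc20) (kc xc4 yc2 zc3) (kc xc2 yc6 zc17) (kc xc3 yc6 zc8) (kc xc3 yc6 zc9) (kc xc4 yc12 zc8) (kc xc4 yc12 zc10) (kc xc2 yc2 zc18) (kc xc4 yc12 zc15) (kc xc4 yc12 zc16) (kc xc2 yc9 zc3) (kc xc2 yc6 zc8) (kc xc2 yc3 zc3) (kc xc3 yc11 zc5) (kc xc4 yc7 zc17) (kc xc4 yc13 zc1)) (@D3.rec (fun _ => Pt) (kc xc2 yc3 zc14) (kc xc4 yc13 zc4)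 (kc xc2 yc3 zc8) (kc xc4 yc13 zc7) (kc xc4 yc6 zc9) (kc xc4 yc13 zc10) (kc xc2 yc3 zc11) (kc xc4 yc13 zc14) (kc xc4 yc13 zc15) (kc xc4 yc13 zc18) (kc xc5 yc0 zc0) (kc xc5 yc0 zc2) (kc xc5 yc0 zc4) (kc xc2 yc3 zc16) (kc xc3 yc13 zc6) (kc xc5 yc0 zc5) (kc xc3 yc7 zc16) (kc xc2 yc3 zc19) (kc xc5 yc0 zc9) (kc xc5 yc0 zc10) (kc xc5 yc0 zc11)) (@D3.rec (fun _ => Pt) (kc xc2 yc4 zc2) (kc xc5 yc0 zc13) (kc xc4 yc12 zc2) (kc xc2 yc4 zc3) (kc xc5 yc0 zc15) (kc xc2 yc4 zc4) (kc xc4 yc12 zc19) (kc xc3 yc2 zc9) (kc xc3 yc2 zc8) (kc xc2 yc4 zc6) (kc xc4 yc10 zc0) (kc xc5 yc0 zc19) (kc xc5 yc0 zc20) (kc xc3 yc10 zc3) (kc xc3 yc10 zc4) (kc xc3 yc8 zc15) (kc xc4 yc7 zc12) (kc xc3 yc9 zc3) (kc xc3 yc9 zc4) (kc xc5 yc1 zc6) (kc xc5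 yc1 zc9)) (@D3.rec (fun _ => Pt) (kc xc2 yc4 zc18) (kc xc2 yc4 zc19) (kc xc2 yc8 zc3) (kc xc3 yc8 zc17) (kc xc3 yc8 zc18) (kc xc5 yc1 zc11) (kc xc4 yc8 zc9) (kc xc5 yc1 zc13) (kc xc4 yc3 zc16) (kc xc2 yc10 zc19) (kc xc2 yc5 zc2) (kc xc5 yc1 zc16) (kc xc5 yc1 zc17) (kc xc2 yc5 zc3) (kc xc3 yc5 zc15) (kc xc5 yc2 zc0) (kc xc2 yc5 zc8) (kc xc5 yc1 zc4) (kc xc5 yc1 zc2) (kc xc3 yc5 zc10) (kc xc2 yc5 zc13)) (@D3.rec (fun _ => Pt) (kc xc4 yc12 zc6) (kc xc5 yc1 zc14) (kc xc2 yc5 zc15) (kc xc3 yc8 zc13) (kc xc3 yc8 zc14) (kc xc3 yc11 zc13) (kc xc5 yc1 zc18) (kc xc5 yc2 zc6) (kc xc3 yc0 zc1) (kc xc3 yc0 zc2) (kc xc4 yc7 zc7) (kc xc2 yc6 zc4) (kc xc4 yc12 zc3) (kc xc5 yc0 zc14) (kc xc5 yc0 zc16) (kc xc3 yc5 zc16) (kc xc3 yc10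 zc16) (kc xc3 yc10 zc17) (kc xc5 yc0 zc18) (kc xc3 yc11 zc7) (kc xc2 yc6 zc12)) (@D3.rec (fun _ => Pt) (kc xc2 yc6 zc13) (kc xc5 yc2 zc17) (kc xc5 yc2 zc19) (kc xc4 yc12 zc7) (kc xc2 yc6 zc19) (kc xc3 yc6 zc18) (kc xc5 yc2 zc20) (kc xc3 yc10 zc19) (kc xc4 yc10 zc15) (kc xc3 yc11 zc9) (kc xc2 yc7 zc1) (kc xc2 yc7 zc2) (kc xc4 yc12 zc4) (kc xc3 yc10 zc5) (kc xc3 yc11 zc14) (kc xc2 yc7 zc12) (kc xc4 yc3 zc5) (kc xc2 yc7 zc7) (kc xc2 yc7 zc8) (kc xc4 yc4 zc1) (kc xc2 yc7 zc10)) (@D3.rec (fun _ => Pt) (kc xc3 yc12 zc2) (kc xc3 yc12 zc1) (kc xc3 yc12 zc0) (kc xc5 yc3 zc7) (kc xc4 yc4 zc9) (kc xc2 yc10 zc4) (kc xc4 yc4 zc10) (kc xc5 yc4 zc1) (kc xc2 yc7 zc16) (kc xc2 yc7 zc18) (kc xc2 yc9 zc20) (kc xc2 yc7 zc17) (kc xc2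 yc12 zc10) (kc xc2 yc12 zc7) (kc xc4 yc1 zc9) (kc xc3 yc12 zc15) (kc xc2 yc7 zc20) (kc xc4 yc4 zc11) (kc xc5 yc4 zc8) (kc xc4 yc13 zc13) (kc xc2 yc8 zc4)) (@D3.rec (fun _ => Pt) (kc xc2 yc8 zc16) (kc xc2 yc8 zc14) (kc xc5 yc4 zc12) (kc xc4 yc4 zc17) (kc xc2 yc8 zc7) (kc xc3 yc13 zc16) (kc xc3 yc7 zc14) (kc xc2 yc8 zc10) (kc xc5 yc4 zc17) (kc xc5 yc4 zc18) (kc xc5 yc4 zc19) (kc xc3 yc13 zc11) (kc xc2 yc8 zc12) (kc xc5 yc5 zc3) (kc xc5 yc5 zc4) (kc xc5 yc5 zc5) (kc xc3 yc13 zc5) (kc xc2 yc8 zc17) (kc xc5 yc5 zc12) (kc xc5 yc5 zc13) (kc xc3 yc13 zc20))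
def f_c_4 : D2 → D3 → Pt := @D2.rec (fun _ => D3 → Pt) (@D3.rec (fun _ => Pt) (kc xc5 yc5 zc14) (kc xc5 yc5 zc15) (kc xc5 yc5 zc16) (kc xc5 yc5 zc18) (kc xc5 yc5 zc20) (kc xc5 yc6 zc2) (kc xc4 yc0 zc6) (kc xc2 yc9 zc7) (kc xc5 yc6 zc7) (kc xc5 yc6 zc8) (kc xc5 yc6 zc6) (kc xc4 yc4 zc8) (kc xc5 yc6 zc14) (kc xc2 yc9 zc11) (kc xc5 yc6 zc17) (kc xc5 yc6 zc18) (kc xc5 yc6 zc19) (kc xc4 yc0 zc20) (kc xc4 yc0 zc18) (kc xc2 yc9 zc15) (kc xc4 yc0 zc17)) (@D3.rec (fun _ => Pt) (kc xc5 yc7 zc2) (kc xc5 yc7 zc5) (kc xc4 yc1 zc2) (kc xc4 yc1 zc8) (kc xc2 yc9 zc19) (kc xc2 yc10 zc0) (kc xc5 yc7 zc10) (kc xc5 yc4 zc5) (kc xc4 yc1 zc3) (kc xc3 yc12 zc14) (kc xc5 yc4 zc6) (kc xc2 yc10 zc1) (kc xc5 yc7 zc16) (kc xc5 yc7 zc14) (kc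 xc4 yc4 zc7) (kc xc5 yc3 zc19) (kc xc5 yc7 zc13) (kc xc5 yc3 zc20) (kc xc2 yc10 zc8) (kc xc5 yc4 zc0) (kc xc4 yc1 zc20)) (@D3.rec (fun _ => Pt) (kc xc2 yc10 zc13) (kc xc5 yc8 zc2) (kc xc5 yc8 zc4) (kc xc3 yc6 zc6) (kc xc3 yc6 zc3) (kc xc5 yc8 zc7) (kc xc5 yc8 zc8) (kc xc4 yc2 zc8) (kc xc4 yc2 zc7) (kc xc2 yc11 zc0) (kc xc5 yc8 zc12) (kc xc5 yc8 zc11) (kc xc2 yc11 zc3) (kc xc5 yc8 zc15) (kc xc5 yc8 zc16) (kc xc5 yc8 zc19) (kc xc2 yc11 zc7) (kc xc2 yc11 zc8) (kc xc5 yc9 zc1) (kc xc5 yc9 zc2) (kc xc4 yc7 zc6)) (@D3.rec (fun _ => Pt) (kc xc2 yc11 zc12) (kc xc3 yc5 zc6) (kc xc3 yc5 zc5) (kc xc4 yc13 zc5) (kc xc5 yc9 zc5) (kc xc3 yc11 zc16) (kc xc2 yc11 zc15) (kc xc2 yc11 zc16) (kc xc2 yc11 zc17) (kc xc5 yc9 zc19) (kc xc5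 yc9 zc15) (kc xc5 yc9 zc16) (kc xc5 yc1 zc15) (kc xc2 yc11 zc18) (kc xc5 yc10 zc1) (kc xc5 yc10 zc2) (kc xc3 yc9 zc8) (kc xc2 yc12 zc1) (kc xc5 yc10 zc4) (kc xc5 yc10 zc5) (kc xc5 yc10 zc6)) (@D3.rec (fun _ => Pt) (kc xc5 yc10 zc3) (kc xc3 yc11 zc19) (kc xc2 yc12 zc3) (kc xc2 yc12 zc4) (kc xc2 yc12 zc5) (kc xc5 yc6 zc12) (kc xc5 yc7 zc19) (kc xc4 yc1 zc14) (kc xc4 yc0 zc11) (kc xc3 yc12 zc4) (kc xc3 yc12 zc6) (kc xc3 yc12 zc17) (kc xc5 yc10 zc19) (kc xc5 yc11 zc0) (kc xc2 yc12 zc12) (kc xc5 yc11 zc1) (kc xc2 yc12 zc15) (kc xc3 yc13 zc3) (kc xc2 yc12 zc14) (kc xc5 yc11 zc3) (kc xc5 yc5 zc11)) (@D3.rec (fun _ => Pt) (kc xc4 yc7 zc16) (kc xc4 yc7 zc18) (kc xc2 yc13 zc1) (kc xc2 yc13 zc2) (kc xc5 yc2 zc12) (kc xc5 yc11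 zc10) (kc xc2 yc13 zc4) (kc xc5 yc11 zc13) (kc xc2 yc13 zc5) (kc xc5 yc11 zc15) (kc xc5 yc11 zc16) (kc xc2 yc13 zc6) (kc xc5 yc9 zc10) (kc xc5 yc9 zc9) (kc xc2 yc13 zc8) (kc xc5 yc11 zc18) (kc xc5 yc11 zc20) (kc xc4 yc5 zc17) (kc xc5 yc12 zc1) (kc xc2 yc13 zc15) (kc xc5 yc12 zc4)) (@D3.rec (fun _ => Pt) (kc xc5 yc12 zc5) (kc xc2 yc13 zc19) (kc xc4 yc6 zc3) (kc xc4 yc6 zc2) (kc xc5 yc12 zc7) (kc xc5 yc12 zc9) (kc xc5 yc1 zc5) (kc xc3 yc0 zc3) (kc xc4 yc10 zc13) (kc xc3 yc7 zc4) (kc xc3 yc1 zc0) (kc xc3 yc0 zc8) (kc xc3 yc1 zc3) (kc xc4 yc11 zc3) (kc xc3 yc0 zc10) (kc xc3 yc0 zc11) (kc xc5 yc12 zc14) (kc xc3 yc4 zc3) (kc xc3 yc0 zc12) (kc xc4 yc13 zc9) (kc xc4 yc13 zc8)) (@D3.rec (fun _ => Pt) (kc xc5 yc12 zc10) (kc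 xc5 yc10 zc9) (kc xc3 yc0 zc14) (kc xc3 yc0 zc15) (kc xc4 yc9 zc20) (kc xc4 yc9 zc19) (kc xc4 yc2 zc20) (kc xc3 yc10 zc10) (kc xc3 yc0 zc18) (kc xc3 yc0 zc19) (kc xc5 yc13 zc0) (kc xc3 yc0 zc20) (kc xc3 yc8 zc16) (kc xc4 yc7 zc15) (kc xc4 yc12 zc13) (kc xc4 yc7 zc13) (kc xc4 yc5 zc0) (kc xc3 yc6 zc19) (kc xc4 yc5 zc1) (kc xc3 yc2 zc6) (kc xc4 yc8 zc1)) (@D3.rec (fun _ => Pt) (kc xc5 yc13 zc8) (kc xc4 yc7 zc20) (kc xc5 yc13 zc10) (kc xc5 yc13 zc11) (kc xc5 yc13 zc12) (kc xc5 yc13 zc13) (kc xc4 yc8 zc6) (kc xc5 yc10 zc15) (kc xc3 yc1 zc14) (kc xc3 yc9 zc6) (kc xc5 yc13 zc15) (kc xc3 yc1 zc17) (kc xc5 yc13 zc17) (kc xc5 yc13 zc18) (kc xc3 yc1 zc19) (kc xc4 yc9 zc12) (kc xc3 yc2 zc2) (kc xc3 yc2 zc3) (kc xc4 yc8 zc18)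 (kc xc4 yc12 zc18) (kc xc3 yc2 zc5)) (@D3.rec (fun _ => Pt) (kc xc4 yc9 zc0) (kc xc6 yc0 zc6) (kc xc4 yc9 zc2) (kc xc3 yc2 zc11) (kc xc4 yc11 zc8) (kc xc4 yc11 zc7) (kc xc3 yc4 zc11) (kc xc3 yc2 zc14) (kc xc4 yc9 zc8) (kc xc3 yc2 zc16) (kc xc5 yc11 zc6) (kc xc3 yc2 zc18) (kc xc4 yc8 zc15) (kc xc3 yc3 zc0) (kc xc3 yc3 zc5) (kc xc6 yc0 zc14) (kc xc4 yc9 zc16) (kc xc3 yc3 zc8) (kc xc6 yc0 zc16) (kc xc4 yc7 zc5) (kc xc4 yc7 zc4)) (@D3.rec (fun _ => Pt) (kc xc3 yc8 zc10) (kc xc6 yc0 zc19) (kc xc3 yc3 zc15) (kc xc6 yc1 zc0) (kc xc6 yc1 zc1) (kc xc5 yc0 zc12) (kc xc5 yc2 zc15) (kc xc3 yc3 zc18) (kc xc5 yc2 zc14) (kc xc6 yc1 zc3) (kc xc6 yc0 zc17) (kc xc3 yc4 zc0) (kc xc3 yc4 zc2) (kc xc4 yc6 zc8) (kc xc5 yc3 zc2) (kc xc3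 yc11 zc8) (kc xc5 yc3 zc1) (kc xc6 yc1 zc6) (kc xc3 yc4 zc5) (kc xc6 yc1 zc8) (kc xc6 yc1 zc9)) (@D3.rec (fun _ => Pt) (kc xc3 yc4 zc8) (kc xc6 yc1 zc11) (kc xc5 yc5 zc2) (kc xc4 yc6 zc13) (kc xc3 yc4 zc10) (kc xc3 yc4 zc12) (kc xc6 yc0 zc10) (kc xc4 yc9 zc5) (kc xc4 yc9 zc4) (kc xc6 yc1 zc17) (kc xc3 yc4 zc15) (kc xc3 yc4 zc16) (kc xc6 yc2 zc1) (kc xc3 yc5 zc17) (kc xc6 yc2 zc2) (kc xc5 yc2 zc10) (kc xc3 yc5 zc7) (kc xc4 yc11 zc17) (kc xc5 yc12 zc12) (kc xc3 yc5 zc9) (kc xc6 yc2 zc6)) (@D3.rec (fun _ => Pt) (kc xc6 yc2 zc7) (kc xc3 yc5 zc14) (kc xc3 yc8 zc2) (kc xc3 yc10 zc12) (kc xc3 yc11 zc12) (kc xc5 yc11 zc9) (kc xc3 yc10 zc0) (kc xc3 yc11 zc3) (kc xc3 yc6 zc10) (kc xc6 yc2 zc9) (kc xc3 yc6 zc11) (kc xc5 yc12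 zc11) (kc xc6 yc0 zc4) (kc xc4 yc7 zc14) (kc xc4 yc13 zc0) (kc xc3 yc6 zc13) (kc xc3 yc6 zc14) (kc xc6 yc2 zc14) (kc xc4 yc8 zc19) (kc xc3 yc8 zc6) (kc xc5 yc3 zc0)) (@D3.rec (fun _ => Pt) (kc xc4 yc12 zc14) (kc xc3 yc6 zc20) (kc xc6 yc2 zc17) (kc xc5 yc2 zc11) (kc xc3 yc7 zc1) (kc xc4 yc3 zc3) (kc xc4 yc13 zc6) (kc xc3 yc7 zc3) (kc xc4 yc6 zc20) (kc xc4 yc6 zc19) (kc xc3 yc7 zc5) (kc xc6 yc2 zc19) (kc xc6 yc2 zc20) (kc xc3 yc12 zc19) (kc xc3 yc7 zc7) (kc xc3 yc7 zc8) (kc xc6 yc3 zc2) (kc xc6 yc3 zc4) (kc xc3 yc7 zc9) (kc xc5 yc4 zc16) (kc xc6 yc3 zc5))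
def f_c_5 : D2 → D3 → Pt := @D2.rec (fun _ => D3 → Pt) (@D3.rec (fun _ => Pt) (kc xc3 yc7 zc10) (kc xc5 yc8 zc0) (kc xc3 yc7 zc11) (kc xc5 yc2 zc5) (kc xc3 yc7 zc12) (kc xc3 yc7 zc15) (kc xc5 yc0 zc6) (kc xc5 yc13 zc20) (kc xc6 yc3 zc7) (kc xc3 yc7 zc18) (kc xc3 yc7 zc19) (kc xc3 yc7 zc20) (kc xc4 yc10 zc5) (kc xc3 yc8 zc1) (kc xc3 yc10 zc13) (kc xc3 yc8 zc4) (kc xc3 yc10 zc14) (kc xc6 yc3 zc12) (kc xc3 yc10 zc18) (kc xc3 yc8 zc11) (kc xc3 yc8 zc12)) (@D3.rec (fun _ => Pt) (kc xc6 yc3 zc18) (kc xc6 yc3 zc19) (kc xc3 yc9 zc18) (kc xc5 yc1 zc3) (kc xc3 yc9 zc17) (kc xc4 yc6 zc6) (kc xc3 yc8 zc19) (kc xc5 yc11 zc2) (kc xc6 yc4 zc2) (kc xc3 yc8 zc20) (kc xc6 yc4 zc4) (kc xc3 yc9 zc5) (kc xc6 yc4 zc6) (kc xc3 yc9 zc7)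 (kc xc3 yc10 zc1) (kc xc4 yc3 zc12) (kc xc3 yc9 zc11) (kc xc3 yc9 zc12) (kc xc3 yc10 zc6) (kc xc6 yc4 zc10) (kc xc6 yc3 zc13)) (@D3.rec (fun _ => Pt) (kc xc3 yc9 zc15) (kc xc6 yc4 zc14) (kc xc6 yc4 zc5) (kc xc6 yc0 zc9) (kc xc6 yc4 zc7) (kc xc5 yc0 zc3) (kc xc3 yc10 zc7) (kc xc5 yc13 zc7) (kc xc5 yc13 zc6) (kc xc5 yc12 zc20) (kc xc4 yc11 zc15) (kc xc4 yc13 zc3) (kc xc4 yc5 zc4) (kc xc6 yc2 zc15) (kc xc4 yc10 zc8) (kc xc4 yc10 zc6) (kc xc6 yc3 zc16) (kc xc3 yc11 zc1) (kc xc5 yc6 zc15) (kc xc3 yc11 zc2) (kc xc3 yc11 zc6)) (@D3.rec (fun _ => Pt) (kc xc4 yc12 zc20) (kc xc4 yc10 zc16) (kc xc4 yc10 zc14) (kc xc5 yc3 zc3) (kc xc6 yc1 zc16) (kc xc6 yc5 zc0) (kc xc6 yc5 zc2) (kc xc3 yc12 zc3) (kc xc5 yc9 zc11) (kc xc5 yc9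 zc12) (kc xc5 yc9 zc13) (kc xc5 yc5 zc9) (kc xc5 yc3 zc12) (kc xc5 yc3 zc17) (kc xc5 yc3 zc14) (kc xc5 yc3 zc15) (kc xc6 yc5 zc16) (kc xc5 yc3 zc13) (kc xc6 yc5 zc19) (kc xc4 yc1 zc15) (kc xc4 yc1 zc17)) (@D3.rec (fun _ => Pt) (kc xc4 yc1 zc19) (kc xc3 yc12 zc7) (kc xc6 yc6 zc2) (kc xc6 yc6 zc3) (kc xc5 yc5 zc8) (kc xc4 yc1 zc7) (kc xc4 yc1 zc10) (kc xc6 yc6 zc7) (kc xc3 yc12 zc18) (kc xc6 yc3 zc0) (kc xc6 yc3 zc17) (kc xc6 yc6 zc10) (kc xc3 yc13 zc2) (kc xc5 yc11 zc4) (kc xc5 yc11 zc5) (kc xc5 yc9 zc3) (kc xc4 yc13 zc19) (kc xc3 yc13 zc8) (kc xc3 yc13 zc9) (kc xc3 yc13 zc10) (kc xc6 yc6 zc17)) (@D3.rec (fun _ => Pt) (kc xc6 yc6 zc18) (kc xc6 yc4 zc1) (kc xc4 yc11 zc2) (kc xc3 yc13 zc13) (kc xc3 yc13 zc14) (kc xc3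 yc13 zc15) (kc xc6 yc5 zc10) (kc xc6 yc6 zc6) (kc xc5 yc4 zc4) (kc xc5 yc3 zc11) (kc xc6 yc7 zc4) (kc xc4 yc4 zc20) (kc xc3 yc13 zc18) (kc xc3 yc13 zc19) (kc xc4 yc0 zc0) (kc xc4 yc0 zc1) (kc xc4 yc0 zc2) (kc xc6 yc7 zc6) (kc xc4 yc0 zc3) (kc xc6 yc7 zc8) (kc xc4 yc0 zc4)) (@D3.rec (fun _ => Pt) (kc xc6 yc7 zc9) (kc xc5 yc10 zc0) (kc xc4 yc0 zc5) (kc xc6 yc7 zc11) (kc xc6 yc7 zc12) (kc xc6 yc7 zc15) (kc xc4 yc0 zc10) (kc xc4 yc0 zc8) (kc xc4 yc0 zc9) (kc xc6 yc7 zc18) (kc xc6 yc7 zc16) (kc xc6 yc7 zc20) (kc xc4 yc4 zc5) (kc xc6 yc7 zc17) (kc xc4 yc0 zc12) (kc xc5 yc2 zc18) (kc xc6 yc8 zc1) (kc xc4 yc0 zc14) (kc xc4 yc0 zc15) (kc xc4 yc0 zc16) (kc xc6 yc8 zc5)) (@D3.rec (fun _ => Pt) (kc xc6 yc8 zc6) (kc xc5 yc7 zc4)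 (kc xc4 yc1 zc0) (kc xc6 yc8 zc8) (kc xc5 yc7 zc1) (kc xc4 yc1 zc1) (kc xc6 yc8 zc10) (kc xc5 yc12 zc16) (kc xc6 yc6 zc16) (kc xc6 yc6 zc1) (kc xc4 yc1 zc6) (kc xc6 yc8 zc14) (kc xc6 yc8 zc13) (kc xc4 yc1 zc16) (kc xc4 yc1 zc13) (kc xc5 yc8 zc5) (kc xc4 yc1 zc12) (kc xc6 yc8 zc18) (kc xc6 yc8 zc16) (kc xc4 yc4 zc6) (kc xc5 yc7 zc20)) (@D3.rec (fun _ => Pt) (kc xc5 yc0 zc1) (kc xc6 yc8 zc20) (kc xc4 yc2 zc1) (kc xc5 yc9 zc14) (kc xc4 yc2 zc2) (kc xc5 yc7 zc15) (kc xc6 yc9 zc1) (kc xc4 yc2 zc5) (kc xc4 yc2 zc6) (kc xc6 yc8 zc0) (kc xc6 yc9 zc2) (kc xc4 yc2 zc11) (kc xc4 yc2 zc10) (kc xc6 yc9 zc6) (kc xc5 yc8 zc14) (kc xc4 yc2 zc13) (kc xc4 yc2 zc14) (kc xc6 yc9 zc9) (kc xc6 yc9 zc10) (kc xc4 yc2 zc15) (kc xc5 yc8 zc20))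 (@D3.rec (fun _ => Pt) (kc xc5 yc11 zc19) (kc xc4 yc2 zc18) (kc xc4 yc2 zc19) (kc xc5 yc4 zc15) (kc xc6 yc1 zc7) (kc xc4 yc3 zc4) (kc xc6 yc2 zc18) (kc xc6 yc6 zc13) (kc xc6 yc5 zc20) (kc xc4 yc5 zc13) (kc xc4 yc5 zc12) (kc xc5 yc3 zc8) (kc xc5 yc3 zc9) (kc xc5 yc3 zc10) (kc xc5 yc8 zc3) (kc xc4 yc3 zc10) (kc xc4 yc3 zc11) (kc xc6 yc9 zc19) (kc xc6 yc4 zc0) (kc xc4 yc3 zc9) (kc xc6 yc10 zc0)) (@D3.rec (fun _ => Pt) (kc xc5 yc6 zc1) (kc xc4 yc3 zc14) (kc xc4 yc3 zc15) (kc xc4 yc4 zc0) (kc xc4 yc3 zc18) (kc xc4 yc3 zc19) (kc xc4 yc3 zc20) (kc xc6 yc10 zc5) (kc xc5 yc12 zc19) (kc xc4 yc7 zc1) (kc xc5 yc12 zc18) (kc xc6 yc10 zc2) (kc xc6 yc10 zc7) (kc xc6 yc10 zc3) (kc xc6 yc10 zc4) (kc xc4 yc8 zc7) (kc xc6 yc10 zc9)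 (kc xc5 yc10 zc17) (kc xc6 yc7 zc19) (kc xc4 yc4 zc12) (kc xc6 yc10 zc13)) (@D3.rec (fun _ => Pt) (kc xc4 yc4 zc13) (kc xc4 yc4 zc15) (kc xc5 yc1 zc7) (kc xc4 yc4 zc19) (kc xc5 yc4 zc13) (kc xc5 yc4 zc14) (kc xc4 yc9 zc10) (kc xc5 yc11 zc14) (kc xc6 yc7 zc7) (kc xc4 yc12 zc5) (kc xc4 yc5 zc5) (kc xc6 yc10 zc16) (kc xc6 yc3 zc11) (kc xc4 yc5 zc7) (kc xc5 yc11 zc7) (kc xc4 yc5 zc9) (kc xc4 yc5 zc10) (kc xc6 yc10 zc18) (kc xc4 yc5 zc15) (kc xc5 yc9 zc0) (kc xc4 yc5 zc16)) (@D3.rec (fun _ => Pt) (kc xc6 yc10 zc19) (kc xc4 yc5 zc18) (kc xc6 yc9 zc7) (kc xc6 yc3 zc20) (kc xc4 yc5 zc20) (kc xc4 yc6 zc0) (kc xc5 yc12 zc6) (kc xc4 yc6 zc4) (kc xc6 yc11 zc3) (kc xc4 yc6 zc5) (kc xc4 yc7 zc0) (kc xc4 yc12 zc11) (kc xc4 yc11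 zc18) (kc xc6 yc11 zc4) (kc xc4 yc6 zc16) (kc xc5 yc12 zc17) (kc xc5 yc7 zc7) (kc xc5 yc12 zc15) (kc xc5 yc10 zc10) (kc xc5 yc10 zc8) (kc xc5 yc2 zc9)) (@D3.rec (fun _ => Pt) (kc xc4 yc7 zc10) (kc xc6 yc2 zc11) (kc xc6 yc2 zc12) (kc xc6 yc2 zc10) (kc xc6 yc2 zc13) (kc xc5 yc13 zc5) (kc xc5 yc2 zc8) (kc xc5 yc2 zc7) (kc xc4 yc8 zc0) (kc xc6 yc11 zc9) (kc xc4 yc8 zc2) (kc xc4 yc8 zc3) (kc xc4 yc8 zc4) (kc xc4 yc8 zc5) (kc xc6 yc11 zc13) (kc xc4 yc8 zc10) (kc xc6 yc10 zc8) (kc xc4 yc8 zc12) (kc xc4 yc8 zc13) (kc xc6 yc3 zc15) (kc xc5 yc0 zc7))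
def f_c_6 : D2 → D3 → Pt := @D2.rec (fun _ => D3 → Pt) (@D3.rec (fun _ => Pt) (kc xc6 yc0 zc0) (kc xc6 yc0 zc1) (kc xc6 yc11 zc8) (kc xc6 yc0 zc3) (kc xc4 yc12 zc12) (kc xc6 yc5 zc6) (kc xc4 yc9 zc1) (kc xc6 yc11 zc18) (kc xc6 yc7 zc0) (kc xc5 yc2 zc3) (kc xc4 yc11 zc6) (kc xc6 yc0 zc11) (kc xc6 yc6 zc15) (kc xc6 yc8 zc4) (kc xc4 yc9 zc15) (kc xc6 yc0 zc15) (kc xc4 yc9 zc18) (kc xc4 yc10 zc10) (kc xc6 yc11 zc5) (kc xc4 yc10 zc1) (kc xc6 yc12 zc0)) (@D3.rec (fun _ => Pt) (kc xc4 yc10 zc3) (kc xc4 yc10 zc4) (kc xc6 yc4 zc18) (kc xc4 yc10 zc9) (kc xc6 yc1 zc5) (kc xc6 yc1 zc4) (kc xc4 yc10 zc17) (kc xc5 yc9 zc4) (kc xc4 yc10 zc19) (kc xc4 yc10 zc20) (kc xc6 yc12 zc3) (kc xc4 yc11 zc1) (kc xc6 yc6 zc20) (kc xc6 yc12 zc5)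 (kc xc6 yc7 zc1) (kc xc6 yc1 zc15) (kc xc5 yc3 zc4) (kc xc4 yc11 zc9) (kc xc6 yc4 zc9) (kc xc6 yc10 zc12) (kc xc6 yc6 zc19)) (@D3.rec (fun _ => Pt) (kc xc6 yc5 zc1) (kc xc4 yc11 zc12) (kc xc4 yc11 zc14) (kc xc6 yc4 zc17) (kc xc6 yc2 zc4) (kc xc6 yc2 zc5) (kc xc4 yc11 zc20) (kc xc4 yc12 zc0) (kc xc6 yc7 zc5) (kc xc4 yc12 zc9) (kc xc5 yc13 zc3) (kc xc5 yc13 zc1) (kc xc5 yc13 zc2) (kc xc5 yc13 zc4) (kc xc4 yc12 zc17) (kc xc5 yc2 zc13) (kc xc6 yc6 zc11) (kc xc4 yc13 zc2) (kc xc5 yc9 zc6) (kc xc4 yc13 zc11) (kc xc4 yc13 zc12)) (@D3.rec (fun _ => Pt) (kc xc5 yc4 zc9) (kc xc6 yc3 zc1) (kc xc4 yc13 zc16) (kc xc6 yc6 zc14) (kc xc4 yc13 zc17) (kc xc4 yc13 zc20) (kc xc6 yc11 zc0) (kc xc5 yc0 zc8) (kc xc6 yc12 zc13) (kc xc6 yc12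 zc11) (kc xc6 yc8 zc19) (kc xc5 yc11 zc12) (kc xc5 yc0 zc17) (kc xc5 yc1 zc20) (kc xc6 yc3 zc14) (kc xc5 yc13 zc19) (kc xc5 yc2 zc16) (kc xc5 yc4 zc10) (kc xc5 yc1 zc0) (kc xc5 yc1 zc1) (kc xc5 yc12 zc3)) (@D3.rec (fun _ => Pt) (kc xc5 yc9 zc18) (kc xc5 yc5 zc1) (kc xc5 yc1 zc8) (kc xc6 yc12 zc17) (kc xc5 yc1 zc10) (kc xc5 yc2 zc2) (kc xc5 yc1 zc12) (kc xc5 yc2 zc4) (kc xc6 yc12 zc6) (kc xc6 yc1 zc18) (kc xc5 yc1 zc19) (kc xc6 yc9 zc16) (kc xc6 yc9 zc20) (kc xc6 yc12 zc18) (kc xc5 yc2 zc1) (kc xc6 yc12 zc20) (kc xc6 yc11 zc16) (kc xc6 yc2 zc3) (kc xc6 yc1 zc2) (kc xc6 yc8 zc2) (kc xc6 yc11 zc12)) (@D3.rec (fun _ => Pt) (kc xc5 yc3 zc5) (kc xc6 yc2 zc0) (kc xc5 yc3 zc6) (kc xc6 yc5 zc18) (kc xc6 yc13 zc0) (kc xc6 yc5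 zc14) (kc xc6 yc0 zc5) (kc xc6 yc8 zc17) (kc xc6 yc6 zc0) (kc xc6 yc9 zc17) (kc xc5 yc5 zc6) (kc xc6 yc9 zc18) (kc xc6 yc5 zc12) (kc xc6 yc5 zc13) (kc xc6 yc5 zc5) (kc xc6 yc5 zc15) (kc xc5 yc3 zc16) (kc xc6 yc13 zc2) (kc xc6 yc5 zc3) (kc xc5 yc3 zc18) (kc xc5 yc9 zc8)) (@D3.rec (fun _ => Pt) (kc xc6 yc5 zc8) (kc xc5 yc7 zc9) (kc xc5 yc4 zc2) (kc xc5 yc4 zc3) (kc xc6 yc9 zc14) (kc xc6 yc13 zc6) (kc xc5 yc5 zc7) (kc xc5 yc4 zc7) (kc xc6 yc12 zc15) (kc xc6 yc12 zc16) (kc xc5 yc4 zc11) (kc xc6 yc2 zc16) (kc xc6 yc10 zc1) (kc xc5 yc9 zc7) (kc xc6 yc3 zc3) (kc xc6 yc0 zc12) (kc xc5 yc7 zc8) (kc xc5 yc4 zc20) (kc xc5 yc5 zc0) (kc xc6 yc1 zc20) (kc xc6 yc1 zc12)) (@D3.rec (fun _ => Pt) (kc xc6 yc0 zc8) (kc xc6 yc1 zc14)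 (kc xc6 yc13 zc8) (kc xc6 yc7 zc3) (kc xc5 yc5 zc10) (kc xc6 yc2 zc8) (kc xc5 yc5 zc17) (kc xc5 yc11 zc8) (kc xc5 yc5 zc19) (kc xc5 yc6 zc0) (kc xc6 yc13 zc12) (kc xc5 yc6 zc3) (kc xc5 yc6 zc4) (kc xc6 yc7 zc14) (kc xc6 yc7 zc13) (kc xc5 yc6 zc5) (kc xc5 yc6 zc10) (kc xc5 yc6 zc13) (kc xc5 yc6 zc9) (kc xc5 yc10 zc18) (kc xc5 yc6 zc11)) (@D3.rec (fun _ => Pt) (kc xc5 yc8 zc9) (kc xc5 yc6 zc16) (kc xc6 yc4 zc19) (kc xc6 yc12 zc14) (kc xc6 yc0 zc13) (kc xc5 yc6 zc20) (kc xc5 yc7 zc0) (kc xc6 yc11 zc11) (kc xc5 yc7 zc3) (kc xc6 yc8 zc11) (kc xc5 yc7 zc6) (kc xc6 yc8 zc9) (kc xc6 yc11 zc6) (kc xc5 yc7 zc12) (kc xc5 yc7 zc11) (kc xc6 yc8 zc15) (kc xc5 yc7 zc18) (kc xc6 yc5 zc7) (kc xc5 yc7 zc17) (kc xc6 yc3 zc10) (kc xc5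 yc8 zc1)) (@D3.rec (fun _ => Pt) (kc xc6 yc9 zc0) (kc xc5 yc8 zc6) (kc xc5 yc8 zc10) (kc xc6 yc13 zc16) (kc xc6 yc12 zc10) (kc xc6 yc11 zc2) (kc xc5 yc8 zc13) (kc xc5 yc12 zc2) (kc xc6 yc9 zc8) (kc xc5 yc8 zc17) (kc xc5 yc8 zc18) (kc xc6 yc12 zc19) (kc xc6 yc9 zc12) (kc xc6 yc10 zc20) (kc xc6 yc6 zc4) (kc xc6 yc9 zc15) (kc xc6 yc4 zc11) (kc xc6 yc5 zc9) (kc xc6 yc5 zc11) (kc xc5 yc9 zc17) (kc xc6 yc4 zc12)) (@D3.rec (fun _ => Pt) (kc xc5 yc9 zc20) (kc xc6 yc6 zc12) (kc xc5 yc10 zc11) (kc xc5 yc10 zc13) (kc xc5 yc10 zc14) (kc xc5 yc10 zc7) (kc xc6 yc10 zc6) (kc xc5 yc10 zc12) (kc xc5 yc13 zc16) (kc xc5 yc10 zc16) (kc xc6 yc13 zc19) (kc xc6 yc10 zc11) (kc xc6 yc1 zc19) (kc xc5 yc10 zc20) (kc xc6 yc13 zc7) (kc xc6 yc10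 zc15) (kc xc5 yc11 zc11) (kc xc6 yc12 zc4) (kc xc5 yc11 zc17) (kc xc5 yc12 zc0) (kc xc6 yc9 zc13)) (@D3.rec (fun _ => Pt) (kc xc6 yc3 zc6) (kc xc6 yc12 zc8) (kc xc6 yc9 zc5) (kc xc5 yc12 zc8) (kc xc5 yc12 zc13) (kc xc6 yc0 zc18) (kc xc6 yc8 zc12) (kc xc6 yc12 zc9) (kc xc6 yc0 zc2) (kc xc5 yc13 zc9) (kc xc6 yc13 zc20) (kc xc6 yc8 zc7) (kc xc6 yc4 zc20) (kc xc5 yc13 zc14) (kc xc6 yc13 zc13) (kc xc6 yc13 zc17) (kc xc6 yc4 zc16) (kc xc6 yc13 zc3) (kc xc6 yc0 zc7) (kc xc6 yc13 zc14) (kc xc6 yc13 zc15)) (@D3.rec (fun _ => Pt) (kc xc6 yc0 zc20) (kc xc6 yc13 zc11) (kc xc6 yc13 zc18) (kc xc6 yc1 zc10) (kc xc6 yc10 zc17) (kc xc6 yc1 zc13) (kc xc6 yc4 zc8) (kc xc6 yc13 zc10) (kc xc6 yc11 zc1) (kc xc6 yc11 zc7) (kc xc6 yc9 zc4)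 (kc xc6 yc3 zc9) (kc xc6 yc13 zc4) (kc xc6 yc3 zc8) (kc xc6 yc8 zc3) (kc xc6 yc6 zc8) (kc xc6 yc6 zc9) (kc xc6 yc4 zc3) (kc xc6 yc4 zc13) (kc xc6 yc9 zc11) (kc xc6 yc4 zc15)) (@D3.rec (fun _ => Pt) (kc xc6 yc5 zc4) (kc xc6 yc13 zc5) (kc xc6 yc5 zc17) (kc xc6 yc11 zc17) (kc xc6 yc12 zc12) (kc xc6 yc13 zc1) (kc xc6 yc6 zc5) (kc xc6 yc10 zc14) (kc xc6 yc7 zc2) (kc xc6 yc13 zc9) (kc xc6 yc12 zc7) (kc xc6 yc12 zc1) (kc xc6 yc7 zc10) (kc xc6 yc11 zc14) (kc xc6 yc11 zc19) (kc xc6 yc11 zc20) (kc xc6 yc9 zc3) (kc xc6 yc11 zc15) (kc xc6 yc12 zc2) (kc xc6 yc10 zc10) (kc xc6 yc11 zc10))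
def f_c : Pt → Pt := @Pt.rec (fun _ => Pt) (@D1.rec (fun _ => D2 → D3 → Pt) f_c_0 f_c_1 f_c_2 f_c_3 f_c_4 f_c_5 f_c_6)
def fi_c : Pt → Pt := f_c

theorem inv_chk_c : chkInv allPts beqPt f_c fi_c = true := by decide +kernel

end

end Cfsg.Agent.Helper28.S1683
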