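import Cfsg.Agent.Lib.Helper28.S1683.Defs

set_option autoImplicit false
set_option maxRecDepth 100000
set_option linter.all false

namespace Cfsg.Agent.Helper28.S1683

open Cfsg.Agent.Helper28
open Cfsg.Spor.He (Gen)

noncomputable section

abbrev kd := Pt.mk
abbrev xd0 := D1.c0
abbrev xd1 := D1.c1
abbrev xd2 := D1.c2
abbrev xd3 := D1.c3
abbrev xd4 := D1.c4
abbrev xd5 := D1.c5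
abbrev xd6 := D1.c6
abbrev yd0 := D2.c0
abbrev yd1 := D2.c1
abbrev yd2 := D2.c2
abbrev yd3 := D2.c3
abbrev yd4 := D2.c4
abbrev yd5 := D2.c5
abbrev yd6 := D2.c6
abbrev yd7 := D2.c7
abbrev yd8 := D2.c8
abbrev yd9 := D2.c9
abbrev yd10 := D2.c10
abbrev yd11 := D2.c11
abbrev yd12 := D2.c12
abbrev yd13 := D2.c13
abbrev zd0 := D3.c0
abbrev zd1 := D3.c1
abbrev zd2 := D3.c2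
abbrev zd3 := D3.c3
abbrev zd4 := D3.c4
abbrev zd5 := D3.c5
abbrev zd6 := D3.c6
abbrev zd7 := D3.c7
abbrev zd8 := D3.c8
abbrev zd9 := D3.c9
abbrev zd10 := D3.c10
abbrev zd11 := D3.c11
abbrev zd12 := D3.c12
abbrev zd13 := D3.c13
abbrev zd14 := D3.c14
abbrev zd15 := D3.c15
abbrev zd16 := D3.c16
abbrev zd17 := D3.c17
abbrev zd18 := D3.c18
abbrev zd19 := D3.c19
abbrev zd20 := D3.c20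
def f_d_0 : D2 → D3 → Pt := @D2.rec (fun _ => D3 → Pt) (@D3.rec (fun _ => Pt) (kd xd0 yd0 zd0) (kd xd0 yd0 zd1) (kd xd0 yd0 zd5) (kd xd0 yd0 zd6) (kd xd0 yd0 zd8) (kd xd0 yd0 zd2) (kd xd0 yd0 zd3) (kd xd0 yd0 zd7) (kd xd0 yd0 zd4) (kd xd0 yd0 zd19) (kd xd0 yd0 zd10) (kd xd0 yd0 zd11) (kd xd0 yd1 zd3) (kd xd0 yd0 zd13) (kd xd0 yd0 zd14) (kd xd0 yd1 zd8) (kd xd0 yd0 zd16) (kd xd0 yd0 zd17) (kd xd0 yd1 zd13) (kd xd0 yd0 zd9) (kd xd0 yd1 zd17)) (@D3.rec (fun _ => Pt) (kd xd0 yd1 zd18) (kd xd0 yd1 zd19) (kd xd0 yd2 zd0) (kd xd0 yd0 zd12) (kd xd0 yd2 zd5) (kd xd0 yd2 zd7) (kd xd0 yd2 zd8) (kd xd0 yd2 zd10) (kd xd0 yd0 zd15) (kd xd0 yd2 zd15) (kd xd0 yd2 zd17) (kd xd0 yd2 zd18) (kd xd0 yd2 zd19) (kd xd0 yd0 zd18) (kd xd0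 yd2 zd20) (kd xd0 yd1 zd15) (kd xd0 yd3 zd5) (kd xd0 yd0 zd20) (kd xd0 yd1 zd0) (kd xd0 yd1 zd1) (kd xd0 yd3 zd7)) (@D3.rec (fun _ => Pt) (kd xd0 yd1 zd2) (kd xd0 yd3 zd13) (kd xd0 yd3 zd14) (kd xd0 yd3 zd17) (kd xd0 yd2 zd4) (kd xd0 yd1 zd4) (kd xd0 yd4 zd1) (kd xd0 yd1 zd5) (kd xd0 yd1 zd6) (kd xd0 yd4 zd6) (kd xd0 yd1 zd7) (kd xd0 yd4 zd12) (kd xd0 yd4 zd13) (kd xd0 yd4 zd2) (kd xd0 yd2 zd14) (kd xd0 yd1 zd9) (kd xd0 yd4 zd20) (kd xd0 yd1 zd10) (kd xd0 yd1 zd11) (kd xd0 yd1 zd12) (kd xd0 yd1 zd14)) (@D3.rec (fun _ => Pt) (kd xd0 yd5 zd7) (kd xd0 yd5 zd4) (kd xd0 yd3 zd2) (kd xd0 yd5 zd11) (kd xd0 yd5 zd12) (kd xd0 yd1 zd16) (kd xd0 yd3 zd6) (kd xd0 yd1 zd20) (kd xd0 yd5 zd17) (kd xd0 yd5 zd18) (kd xd0 yd5 zd14)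 (kd xd0 yd6 zd2) (kd xd0 yd3 zd12) (kd xd0 yd2 zd1) (kd xd0 yd2 zd2) (kd xd0 yd6 zd10) (kd xd0 yd6 zd11) (kd xd0 yd2 zd3) (kd xd0 yd6 zd14) (kd xd0 yd6 zd15) (kd xd0 yd6 zd13)) (@D3.rec (fun _ => Pt) (kd xd0 yd4 zd0) (kd xd0 yd2 zd6) (kd xd0 yd2 zd13) (kd xd0 yd4 zd4) (kd xd0 yd4 zd3) (kd xd0 yd7 zd2) (kd xd0 yd2 zd9) (kd xd0 yd7 zd7) (kd xd0 yd7 zd8) (kd xd0 yd7 zd4) (kd xd0 yd6 zd18) (kd xd0 yd4 zd11) (kd xd0 yd2 zd11) (kd xd0 yd2 zd12) (kd xd0 yd8 zd0) (kd xd0 yd8 zd1) (kd xd0 yd8 zd2) (kd xd0 yd8 zd3) (kd xd0 yd6 zd20) (kd xd0 yd4 zd19) (kd xd0 yd2 zd16)) (@D3.rec (fun _ => Pt) (kd xd0 yd5 zd1) (kd xd0 yd5 zd0) (kd xd0 yd8 zd5) (kd xd0 yd8 zd7) (kd xd0 yd3 zd1) (kd xd0 yd5 zd5) (kd xd0 yd8 zd10) (kd xd0 yd3 zd0)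 (kd xd0 yd8 zd16) (kd xd0 yd8 zd17) (kd xd0 yd8 zd18) (kd xd0 yd3 zd3) (kd xd0 yd3 zd4) (kd xd0 yd8 zd19) (kd xd0 yd3 zd10) (kd xd0 yd9 zd3) (kd xd0 yd5 zd16) (kd xd0 yd3 zd8) (kd xd0 yd3 zd9) (kd xd0 yd9 zd9) (kd xd0 yd9 zd11)) (@D3.rec (fun _ => Pt) (kd xd0 yd9 zd13) (kd xd0 yd9 zd14) (kd xd0 yd3 zd11) (kd xd0 yd9 zd4) (kd xd0 yd9 zd17) (kd xd0 yd9 zd19) (kd xd0 yd6 zd7) (kd xd0 yd6 zd6) (kd xd0 yd10 zd2) (kd xd0 yd10 zd3) (kd xd0 yd3 zd15) (kd xd0 yd3 zd16) (kd xd0 yd10 zd5) (kd xd0 yd3 zd20) (kd xd0 yd3 zd18) (kd xd0 yd3 zd19) (kd xd0 yd10 zd9) (kd xd0 yd10 zd12) (kd xd0 yd4 zd10) (kd xd0 yd10 zd15) (kd xd0 yd4 zd18)) (@D3.rec (fun _ => Pt) (kd xd0 yd10 zd16) (kd xd0 yd10 zd17) (kd xd0 yd4 zd5) (kd xd0 yd11 zd1)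 (kd xd0 yd4 zd9) (kd xd0 yd10 zd13) (kd xd0 yd7 zd6) (kd xd0 yd4 zd7) (kd xd0 yd4 zd8) (kd xd0 yd11 zd13) (kd xd0 yd11 zd16) (kd xd0 yd11 zd18) (kd xd0 yd11 zd20) (kd xd0 yd12 zd0) (kd xd0 yd11 zd6) (kd xd0 yd12 zd1) (kd xd0 yd12 zd2) (kd xd0 yd7 zd18) (kd xd0 yd7 zd17) (kd xd0 yd12 zd5) (kd xd0 yd10 zd7)) (@D3.rec (fun _ => Pt) (kd xd0 yd4 zd14) (kd xd0 yd4 zd15) (kd xd0 yd4 zd16) (kd xd0 yd4 zd17) (kd xd0 yd12 zd7) (kd xd0 yd5 zd2) (kd xd0 yd12 zd12) (kd xd0 yd5 zd3) (kd xd0 yd12 zd17) (kd xd0 yd12 zd18) (kd xd0 yd5 zd6) (kd xd0 yd13 zd2) (kd xd0 yd13 zd4) (kd xd0 yd13 zd8) (kd xd0 yd12 zd15) (kd xd0 yd13 zd1) (kd xd0 yd5 zd8) (kd xd0 yd5 zd9) (kd xd0 yd5 zd10) (kd xd0 yd5 zd13) (kd xd0 yd13 zd20)) (@D3.rec (fun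 _ => Pt) (kd xd1 yd0 zd1) (kd xd1 yd0 zd3) (kd xd1 yd0 zd4) (kd xd0 yd5 zd15) (kd xd0 yd6 zd3) (kd xd1 yd0 zd6) (kd xd1 yd0 zd8) (kd xd1 yd0 zd9) (kd xd1 yd0 zd10) (kd xd0 yd5 zd19) (kd xd1 yd0 zd14) (kd xd0 yd5 zd20) (kd xd1 yd0 zd18) (kd xd0 yd6 zd0) (kd xd0 yd6 zd1) (kd xd1 yd1 zd2) (kd xd1 yd0 zd20) (kd xd0 yd6 zd4) (kd xd1 yd1 zd7) (kd xd0 yd6 zd5) (kd xd1 yd1 zd13)) (@D3.rec (fun _ => Pt) (kd xd1 yd1 zd14) (kd xd1 yd1 zd16) (kd xd0 yd6 zd8) (kd xd0 yd6 zd9) (kd xd0 yd12 zd8) (kd xd0 yd6 zd12) (kd xd0 yd10 zd10) (kd xd0 yd7 zd20) (kd xd1 yd2 zd4) (kd xd0 yd6 zd16) (kd xd0 yd10 zd6) (kd xd1 yd2 zd5) (kd xd0 yd6 zd17) (kd xd0 yd7 zd5) (kd xd1 yd2 zd6) (kd xd0 yd6 zd19) (kd xd0 yd7 zd0) (kd xd0 yd7 zd1) (kd xd1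 yd1 zd18) (kd xd0 yd10 zd19) (kd xd0 yd10 zd20)) (@D3.rec (fun _ => Pt) (kd xd1 yd2 zd12) (kd xd0 yd7 zd3) (kd xd1 yd2 zd18) (kd xd1 yd2 zd20) (kd xd1 yd3 zd1) (kd xd1 yd2 zd2) (kd xd0 yd7 zd14) (kd xd1 yd3 zd2) (kd xd1 yd3 zd3) (kd xd0 yd12 zd13) (kd xd1 yd3 zd8) (kd xd1 yd3 zd11) (kd xd1 yd3 zd13) (kd xd0 yd7 zd9) (kd xd1 yd3 zd18) (kd xd1 yd3 zd19) (kd xd0 yd7 zd10) (kd xd0 yd11 zd19) (kd xd0 yd7 zd11) (kd xd0 yd11 zd17) (kd xd0 yd7 zd12)) (@D3.rec (fun _ => Pt) (kd xd0 yd7 zd13) (kd xd0 yd7 zd15) (kd xd0 yd7 zd16) (kd xd1 yd4 zd9) (kd xd1 yd4 zd10) (kd xd0 yd7 zd19) (kd xd1 yd4 zd11) (kd xd0 yd8 zd4) (kd xd0 yd10 zd4) (kd xd1 yd2 zd7) (kd xd0 yd12 zd10) (kd xd0 yd12 zd11) (kd xd0 yd8 zd6) (kd xd0 yd11 zd9) (kd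 xd1 yd5 zd0) (kd xd0 yd8 zd14) (kd xd1 yd5 zd4) (kd xd0 yd8 zd8) (kd xd0 yd8 zd9) (kd xd1 yd5 zd13) (kd xd1 yd5 zd17)) (@D3.rec (fun _ => Pt) (kd xd1 yd4 zd15) (kd xd0 yd8 zd15) (kd xd0 yd8 zd11) (kd xd1 yd6 zd5) (kd xd0 yd8 zd12) (kd xd1 yd6 zd12) (kd xd1 yd6 zd15) (kd xd1 yd6 zd17) (kd xd0 yd8 zd13) (kd xd1 yd7 zd1) (kd xd1 yd7 zd2) (kd xd1 yd7 zd3) (kd xd1 yd7 zd4) (kd xd1 yd7 zd6) (kd xd1 yd5 zd7) (kd xd1 yd6 zd3) (kd xd1 yd7 zd11) (kd xd1 yd7 zd12) (kd xd1 yd7 zd13) (kd xd1 yd7 zd14) (kd xd0 yd8 zd20))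
def f_d_1 : D2 → D3 → Pt := @D2.rec (fun _ => D3 → Pt) (@D3.rec (fun _ => Pt) (kd xd1 yd7 zd18) (kd xd0 yd9 zd0) (kd xd1 yd8 zd1) (kd xd0 yd9 zd1) (kd xd0 yd9 zd2) (kd xd1 yd8 zd5) (kd xd0 yd9 zd5) (kd xd1 yd8 zd7) (kd xd0 yd9 zd6) (kd xd0 yd9 zd7) (kd xd0 yd9 zd8) (kd xd1 yd8 zd19) (kd xd1 yd8 zd13) (kd xd1 yd9 zd2) (kd xd0 yd9 zd10) (kd xd1 yd9 zd8) (kd xd1 yd8 zd16) (kd xd1 yd9 zd12) (kd xd0 yd9 zd12) (kd xd1 yd9 zd18) (kd xd0 yd9 zd16)) (@D3.rec (fun _ => Pt) (kd xd1 yd1 zd5) (kd xd1 yd10 zd3) (kd xd0 yd9 zd15) (kd xd1 yd10 zd8) (kd xd1 yd10 zd10) (kd xd1 yd1 zd0) (kd xd1 yd10 zd12) (kd xd0 yd9 zd18) (kd xd1 yd10 zd17) (kd xd1 yd8 zd8) (kd xd1 yd11 zd1) (kd xd1 yd10 zd6) (kd xd1 yd11 zd5) (kd xd0 yd9 zd20) (kd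 xd0 yd10 zd0) (kd xd1 yd11 zd13) (kd xd0 yd10 zd1) (kd xd1 yd1 zd20) (kd xd0 yd10 zd18) (kd xd1 yd4 zd5) (kd xd1 yd1 zd17)) (@D3.rec (fun _ => Pt) (kd xd1 yd2 zd1) (kd xd1 yd2 zd0) (kd xd0 yd11 zd5) (kd xd1 yd11 zd18) (kd xd0 yd10 zd8) (kd xd0 yd10 zd11) (kd xd0 yd10 zd14) (kd xd0 yd12 zd9) (kd xd1 yd12 zd3) (kd xd1 yd2 zd9) (kd xd1 yd2 zd10) (kd xd1 yd8 zd3) (kd xd0 yd11 zd0) (kd xd1 yd12 zd9) (kd xd1 yd12 zd10) (kd xd1 yd12 zd6) (kd xd1 yd12 zd13) (kd xd1 yd12 zd15) (kd xd0 yd11 zd2) (kd xd1 yd3 zd0) (kd xd0 yd11 zd3)) (@D3.rec (fun _ => Pt) (kd xd1 yd2 zd19) (kd xd0 yd11 zd4) (kd xd0 yd11 zd7) (kd xd0 yd11 zd8) (kd xd1 yd4 zd17) (kd xd1 yd13 zd8) (kd xd1 yd13 zd11) (kd xd1 yd13 zd13) (kd xd0 yd11 zd10) (kd xd1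 yd13 zd18) (kd xd1 yd13 zd19) (kd xd0 yd11 zd11) (kd xd2 yd0 zd2) (kd xd0 yd11 zd12) (kd xd2 yd0 zd6) (kd xd2 yd0 zd8) (kd xd2 yd0 zd11) (kd xd2 yd0 zd13) (kd xd0 yd11 zd14) (kd xd0 yd11 zd15) (kd xd2 yd0 zd20)) (@D3.rec (fun _ => Pt) (kd xd2 yd0 zd16) (kd xd2 yd1 zd2) (kd xd2 yd0 zd18) (kd xd1 yd13 zd12) (kd xd2 yd1 zd4) (kd xd1 yd1 zd19) (kd xd2 yd1 zd5) (kd xd1 yd10 zd15) (kd xd2 yd1 zd9) (kd xd0 yd12 zd3) (kd xd0 yd12 zd4) (kd xd0 yd12 zd6) (kd xd1 yd11 zd16) (kd xd2 yd1 zd15) (kd xd1 yd5 zd10) (kd xd0 yd13 zd0) (kd xd1 yd5 zd8) (kd xd1 yd3 zd4) (kd xd2 yd2 zd3) (kd xd2 yd2 zd6) (kd xd2 yd2 zd8)) (@D3.rec (fun _ => Pt) (kd xd0 yd12 zd14) (kd xd2 yd2 zd12) (kd xd2 yd2 zd13) (kd xd2 yd2 zd14) (kd xd0 yd12 zd16)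 (kd xd2 yd2 zd18) (kd xd2 yd2 zd20) (kd xd0 yd13 zd14) (kd xd1 yd4 zd16) (kd xd2 yd3 zd5) (kd xd1 yd4 zd14) (kd xd1 yd6 zd2) (kd xd2 yd3 zd11) (kd xd0 yd12 zd19) (kd xd2 yd3 zd16) (kd xd2 yd3 zd7) (kd xd2 yd3 zd19) (kd xd0 yd12 zd20) (kd xd2 yd4 zd3) (kd xd2 yd4 zd4) (kd xd2 yd4 zd5)) (@D3.rec (fun _ => Pt) (kd xd2 yd4 zd6) (kd xd2 yd4 zd8) (kd xd1 yd5 zd11) (kd xd0 yd13 zd15) (kd xd2 yd4 zd13) (kd xd0 yd13 zd3) (kd xd2 yd4 zd20) (kd xd2 yd5 zd2) (kd xd2 yd5 zd3) (kd xd2 yd5 zd5) (kd xd2 yd5 zd8) (kd xd2 yd5 zd10) (kd xd0 yd13 zd5) (kd xd2 yd5 zd13) (kd xd2 yd2 zd5) (kd xd0 yd13 zd6) (kd xd2 yd5 zd17) (kd xd0 yd13 zd7) (kd xd2 yd5 zd20) (kd xd2 yd6 zd0) (kd xd2 yd6 zd3)) (@D3.rec (fun _ => Pt) (kd xd2 yd6 zd4) (kd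 xd0 yd13 zd9) (kd xd0 yd13 zd10) (kd xd0 yd13 zd11) (kd xd0 yd13 zd12) (kd xd1 yd9 zd10) (kd xd0 yd13 zd13) (kd xd2 yd6 zd17) (kd xd2 yd3 zd1) (kd xd2 yd6 zd19) (kd xd2 yd6 zd20) (kd xd0 yd13 zd16) (kd xd0 yd13 zd17) (kd xd0 yd13 zd18) (kd xd0 yd13 zd19) (kd xd2 yd7 zd13) (kd xd2 yd7 zd7) (kd xd2 yd7 zd17) (kd xd1 yd0 zd0) (kd xd2 yd8 zd1) (kd xd2 yd7 zd10)) (@D3.rec (fun _ => Pt) (kd xd2 yd8 zd4) (kd xd1 yd0 zd2) (kd xd2 yd8 zd10) (kd xd1 yd2 zd11) (kd xd2 yd8 zd12) (kd xd1 yd0 zd5) (kd xd2 yd8 zd17) (kd xd1 yd0 zd7) (kd xd1 yd1 zd9) (kd xd1 yd11 zd11) (kd xd2 yd8 zd15) (kd xd1 yd11 zd9) (kd xd2 yd9 zd7) (kd xd1 yd0 zd12) (kd xd1 yd9 zd16) (kd xd2 yd9 zd11) (kd xd1 yd0 zd16) (kd xd1 yd9 zd6) (kd xd2 yd9 zd15) (kd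 xd1 yd0 zd11) (kd xd2 yd10 zd1)) (@D3.rec (fun _ => Pt) (kd xd2 yd10 zd3) (kd xd2 yd10 zd4) (kd xd1 yd0 zd13) (kd xd2 yd10 zd8) (kd xd2 yd10 zd10) (kd xd1 yd9 zd15) (kd xd1 yd8 zd17) (kd xd2 yd10 zd16) (kd xd1 yd0 zd15) (kd xd2 yd11 zd0) (kd xd1 yd7 zd5) (kd xd2 yd11 zd3) (kd xd1 yd0 zd17) (kd xd2 yd11 zd7) (kd xd2 yd11 zd8) (kd xd1 yd9 zd5) (kd xd1 yd8 zd14) (kd xd2 yd11 zd12) (kd xd1 yd0 zd19) (kd xd2 yd11 zd18) (kd xd2 yd11 zd20)) (@D3.rec (fun _ => Pt) (kd xd1 yd10 zd1) (kd xd1 yd10 zd0) (kd xd2 yd12 zd1) (kd xd1 yd1 zd1) (kd xd2 yd12 zd6) (kd xd2 yd12 zd7) (kd xd1 yd1 zd11) (kd xd2 yd8 zd16) (kd xd1 yd1 zd3) (kd xd2 yd12 zd12) (kd xd1 yd1 zd4) (kd xd1 yd12 zd2) (kd xd1 yd1 zd6) (kd xd2 yd12 zd18) (kd xd2 yd3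 zd20) (kd xd1 yd4 zd7) (kd xd2 yd12 zd17) (kd xd1 yd1 zd8) (kd xd2 yd8 zd20) (kd xd2 yd12 zd20) (kd xd2 yd13 zd1)) (@D3.rec (fun _ => Pt) (kd xd2 yd13 zd2) (kd xd1 yd1 zd10) (kd xd2 yd13 zd4) (kd xd2 yd13 zd5) (kd xd2 yd13 zd6) (kd xd1 yd1 zd12) (kd xd2 yd13 zd8) (kd xd2 yd13 zd9) (kd xd2 yd12 zd10) (kd xd1 yd8 zd11) (kd xd2 yd13 zd10) (kd xd1 yd8 zd9) (kd xd2 yd13 zd13) (kd xd1 yd1 zd15) (kd xd2 yd13 zd15) (kd xd1 yd11 zd17) (kd xd1 yd4 zd12) (kd xd1 yd11 zd15) (kd xd1 yd2 zd3) (kd xd1 yd11 zd19) (kd xd1 yd11 zd20)) (@D3.rec (fun _ => Pt) (kd xd2 yd13 zd17) (kd xd2 yd13 zd18) (kd xd1 yd10 zd11) (kd xd1 yd2 zd8) (kd xd2 yd13 zd19) (kd xd2 yd6 zd16) (kd xd1 yd2 zd15) (kd xd3 yd0 zd3) (kd xd3 yd0 zd5) (kd xd1 yd2 zd13)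 (kd xd1 yd2 zd14) (kd xd3 yd0 zd11) (kd xd3 yd0 zd12) (kd xd1 yd2 zd16) (kd xd3 yd0 zd16) (kd xd1 yd2 zd17) (kd xd3 yd0 zd20) (kd xd3 yd1 zd1) (kd xd3 yd0 zd8) (kd xd3 yd1 zd4) (kd xd3 yd0 zd10)) (@D3.rec (fun _ => Pt) (kd xd2 yd5 zd9) (kd xd2 yd1 zd11) (kd xd2 yd4 zd10) (kd xd2 yd1 zd13) (kd xd2 yd2 zd0) (kd xd3 yd1 zd11) (kd xd2 yd11 zd17) (kd xd3 yd1 zd14) (kd xd1 yd3 zd5) (kd xd3 yd1 zd17) (kd xd2 yd5 zd7) (kd xd1 yd3 zd6) (kd xd1 yd4 zd3) (kd xd1 yd3 zd7) (kd xd3 yd1 zd20) (kd xd2 yd2 zd9) (kd xd3 yd2 zd2) (kd xd3 yd2 zd3) (kd xd1 yd3 zd9) (kd xd1 yd3 zd10) (kd xd3 yd2 zd11))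
def f_d_2 : D2 → D3 → Pt := @D2.rec (fun _ => D3 → Pt) (@D3.rec (fun _ => Pt) (kd xd3 yd2 zd5) (kd xd3 yd2 zd14) (kd xd1 yd3 zd12) (kd xd3 yd2 zd18) (kd xd3 yd2 zd8) (kd xd3 yd3 zd0) (kd xd1 yd3 zd14) (kd xd2 yd9 zd13) (kd xd1 yd3 zd15) (kd xd3 yd3 zd5) (kd xd3 yd0 zd0) (kd xd1 yd3 zd16) (kd xd3 yd3 zd8) (kd xd1 yd3 zd17) (kd xd3 yd3 zd10) (kd xd3 yd3 zd12) (kd xd1 yd4 zd0) (kd xd3 yd3 zd15) (kd xd1 yd4 zd2) (kd xd3 yd3 zd18) (kd xd1 yd3 zd20)) (@D3.rec (fun _ => Pt) (kd xd3 yd4 zd3) (kd xd3 yd4 zd5) (kd xd1 yd4 zd1) (kd xd3 yd4 zd8) (kd xd1 yd4 zd4) (kd xd1 yd4 zd6) (kd xd3 yd4 zd15) (kd xd3 yd4 zd16) (kd xd3 yd4 zd17) (kd xd1 yd4 zd8) (kd xd3 yd4 zd20) (kd xd1 yd13 zd1) (kd xd2 yd3 zd18) (kd xd1 yd13 zd3) (kd xd2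 yd8 zd19) (kd xd1 yd4 zd13) (kd xd3 yd5 zd7) (kd xd3 yd5 zd8) (kd xd3 yd5 zd9) (kd xd3 yd5 zd10) (kd xd3 yd5 zd11)) (@D3.rec (fun _ => Pt) (kd xd1 yd13 zd4) (kd xd3 yd5 zd13) (kd xd3 yd5 zd14) (kd xd1 yd4 zd18) (kd xd3 yd5 zd16) (kd xd1 yd6 zd14) (kd xd1 yd4 zd19) (kd xd3 yd5 zd18) (kd xd1 yd4 zd20) (kd xd1 yd13 zd15) (kd xd3 yd6 zd2) (kd xd3 yd6 zd3) (kd xd1 yd5 zd1) (kd xd1 yd5 zd2) (kd xd1 yd5 zd3) (kd xd3 yd6 zd10) (kd xd3 yd6 zd6) (kd xd3 yd6 zd11) (kd xd1 yd5 zd5) (kd xd2 yd11 zd2) (kd xd1 yd5 zd6)) (@D3.rec (fun _ => Pt) (kd xd3 yd6 zd16) (kd xd1 yd7 zd8) (kd xd3 yd6 zd18) (kd xd3 yd6 zd19) (kd xd3 yd6 zd20) (kd xd1 yd5 zd9) (kd xd3 yd7 zd1) (kd xd1 yd5 zd15) (kd xd3 yd7 zd3) (kd xd3 yd7 zd4) (kd xd3 yd7 zd5)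 (kd xd1 yd5 zd12) (kd xd3 yd7 zd9) (kd xd3 yd7 zd10) (kd xd3 yd7 zd11) (kd xd3 yd7 zd12) (kd xd1 yd5 zd14) (kd xd3 yd7 zd16) (kd xd2 yd1 zd12) (kd xd1 yd5 zd16) (kd xd1 yd10 zd14)) (@D3.rec (fun _ => Pt) (kd xd3 yd7 zd20) (kd xd3 yd8 zd1) (kd xd3 yd8 zd2) (kd xd1 yd5 zd18) (kd xd1 yd5 zd19) (kd xd1 yd5 zd20) (kd xd1 yd6 zd0) (kd xd3 yd8 zd12) (kd xd1 yd6 zd1) (kd xd3 yd8 zd15) (kd xd1 yd13 zd2) (kd xd3 yd8 zd16) (kd xd3 yd3 zd20) (kd xd1 yd6 zd4) (kd xd3 yd8 zd19) (kd xd3 yd8 zd20) (kd xd2 yd11 zd1) (kd xd3 yd9 zd2) (kd xd3 yd9 zd5) (kd xd3 yd9 zd7) (kd xd1 yd6 zd6)) (@D3.rec (fun _ => Pt) (kd xd3 yd9 zd9) (kd xd2 yd13 zd0) (kd xd1 yd6 zd7) (kd xd1 yd6 zd8) (kd xd2 yd13 zd11) (kd xd1 yd6 zd9) (kd xd3 yd9 zd15) (kd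 xd1 yd13 zd10) (kd xd1 yd6 zd10) (kd xd1 yd13 zd0) (kd xd1 yd6 zd11) (kd xd3 yd3 zd6) (kd xd3 yd9 zd19) (kd xd1 yd6 zd13) (kd xd3 yd1 zd8) (kd xd3 yd10 zd0) (kd xd2 yd7 zd4) (kd xd1 yd6 zd16) (kd xd3 yd10 zd7) (kd xd2 yd6 zd2) (kd xd1 yd6 zd18)) (@D3.rec (fun _ => Pt) (kd xd1 yd6 zd19) (kd xd3 yd10 zd10) (kd xd2 yd5 zd19) (kd xd1 yd6 zd20) (kd xd1 yd7 zd0) (kd xd3 yd10 zd9) (kd xd2 yd6 zd13) (kd xd2 yd10 zd15) (kd xd2 yd6 zd10) (kd xd2 yd6 zd12) (kd xd2 yd6 zd8) (kd xd3 yd10 zd19) (kd xd2 yd6 zd9) (kd xd2 yd6 zd6) (kd xd2 yd10 zd19) (kd xd3 yd6 zd15) (kd xd1 yd12 zd5) (kd xd1 yd7 zd7) (kd xd3 yd10 zd5) (kd xd1 yd7 zd9) (kd xd1 yd7 zd10)) (@D3.rec (fun _ => Pt) (kd xd3 yd5 zd4) (kd xd2 yd7 zd1) (kd xd2 yd7 zd2) (kd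 xd2 yd7 zd5) (kd xd2 yd5 zd16) (kd xd2 yd7 zd3) (kd xd3 yd11 zd16) (kd xd1 yd7 zd16) (kd xd2 yd8 zd8) (kd xd3 yd11 zd19) (kd xd1 yd7 zd20) (kd xd2 yd8 zd0) (kd xd3 yd12 zd1) (kd xd1 yd7 zd15) (kd xd3 yd12 zd7) (kd xd3 yd12 zd9) (kd xd3 yd12 zd10) (kd xd1 yd7 zd17) (kd xd3 yd12 zd14) (kd xd3 yd12 zd15) (kd xd2 yd8 zd7)) (@D3.rec (fun _ => Pt) (kd xd2 yd7 zd11) (kd xd1 yd7 zd19) (kd xd3 yd12 zd18) (kd xd3 yd12 zd19) (kd xd1 yd8 zd0) (kd xd3 yd13 zd2) (kd xd3 yd13 zd3) (kd xd2 yd7 zd20) (kd xd2 yd7 zd8) (kd xd3 yd13 zd6) (kd xd1 yd8 zd2) (kd xd3 yd13 zd11) (kd xd1 yd8 zd4) (kd xd2 yd9 zd18) (kd xd2 yd13 zd14) (kd xd1 yd8 zd10) (kd xd1 yd10 zd7) (kd xd1 yd8 zd6) (kd xd2 yd12 zd16) (kd xd2 yd1 zd14) (kd xd1 yd10 zd18))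 (@D3.rec (fun _ => Pt) (kd xd3 yd13 zd20) (kd xd4 yd0 zd0) (kd xd4 yd0 zd1) (kd xd4 yd0 zd2) (kd xd4 yd0 zd3) (kd xd4 yd0 zd4) (kd xd4 yd0 zd5) (kd xd1 yd8 zd12) (kd xd2 yd10 zd0) (kd xd4 yd0 zd11) (kd xd4 yd0 zd12) (kd xd1 yd8 zd15) (kd xd3 yd10 zd14) (kd xd2 yd0 zd7) (kd xd4 yd0 zd17) (kd xd1 yd8 zd18) (kd xd4 yd1 zd1) (kd xd4 yd0 zd18) (kd xd2 yd8 zd13) (kd xd4 yd1 zd6) (kd xd4 yd0 zd9)) (@D3.rec (fun _ => Pt) (kd xd2 yd9 zd8) (kd xd1 yd8 zd20) (kd xd4 yd1 zd14) (kd xd1 yd9 zd0) (kd xd1 yd9 zd1) (kd xd4 yd1 zd16) (kd xd4 yd1 zd15) (kd xd4 yd1 zd17) (kd xd1 yd9 zd3) (kd xd3 yd3 zd9) (kd xd1 yd9 zd4) (kd xd3 yd10 zd1) (kd xd2 yd12 zd11) (kd xd4 yd2 zd1) (kd xd4 yd2 zd2) (kd xd2 yd6 zd7) (kd xd1 yd9 zd7) (kd xd4 yd2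 zd5) (kd xd4 yd2 zd6) (kd xd2 yd6 zd14) (kd xd4 yd0 zd16)) (@D3.rec (fun _ => Pt) (kd xd1 yd9 zd9) (kd xd2 yd4 zd16) (kd xd2 yd2 zd19) (kd xd1 yd9 zd11) (kd xd4 yd2 zd14) (kd xd4 yd2 zd13) (kd xd4 yd2 zd15) (kd xd1 yd9 zd13) (kd xd1 yd9 zd14) (kd xd4 yd2 zd20) (kd xd4 yd1 zd19) (kd xd3 yd9 zd18) (kd xd1 yd9 zd17) (kd xd4 yd3 zd3) (kd xd4 yd3 zd5) (kd xd4 yd3 zd9) (kd xd3 yd13 zd9) (kd xd1 yd13 zd6) (kd xd1 yd9 zd19) (kd xd4 yd3 zd16) (kd xd1 yd9 zd20)) (@D3.rec (fun _ => Pt) (kd xd3 yd9 zd6) (kd xd1 yd10 zd2) (kd xd4 yd4 zd1) (kd xd2 yd12 zd3) (kd xd3 yd13 zd14) (kd xd3 yd13 zd15) (kd xd1 yd10 zd4) (kd xd1 yd10 zd5) (kd xd4 yd4 zd12) (kd xd4 yd4 zd13) (kd xd1 yd11 zd8) (kd xd2 yd10 zd12) (kd xd1 yd10 zd9) (kd xd4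 yd4 zd17) (kd xd3 yd13 zd18) (kd xd2 yd12 zd15) (kd xd2 yd8 zd18) (kd xd1 yd10 zd16) (kd xd1 yd10 zd13) (kd xd3 yd7 zd19) (kd xd1 yd10 zd19)) (@D3.rec (fun _ => Pt) (kd xd2 yd5 zd1) (kd xd1 yd10 zd20) (kd xd1 yd11 zd0) (kd xd4 yd5 zd5) (kd xd1 yd11 zd2) (kd xd1 yd11 zd3) (kd xd1 yd11 zd4) (kd xd4 yd5 zd9) (kd xd1 yd11 zd6) (kd xd1 yd11 zd7) (kd xd1 yd11 zd10) (kd xd2 yd5 zd4) (kd xd4 yd5 zd18) (kd xd1 yd11 zd12) (kd xd2 yd8 zd14) (kd xd1 yd11 zd14) (kd xd2 yd13 zd16) (kd xd1 yd12 zd0) (kd xd1 yd12 zd1) (kd xd1 yd12 zd4) (kd xd4 yd6 zd4))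
def f_d_3 : D2 → D3 → Pt := @D2.rec (fun _ => D3 → Pt) (@D3.rec (fun _ => Pt) (kd xd2 yd0 zd10) (kd xd4 yd6 zd5) (kd xd4 yd6 zd6) (kd xd1 yd12 zd7) (kd xd4 yd6 zd8) (kd xd1 yd12 zd8) (kd xd4 yd6 zd9) (kd xd3 yd2 zd15) (kd xd1 yd12 zd18) (kd xd4 yd6 zd13) (kd xd1 yd12 zd20) (kd xd1 yd12 zd11) (kd xd1 yd12 zd12) (kd xd4 yd7 zd1) (kd xd4 yd6 zd16) (kd xd4 yd7 zd4) (kd xd1 yd12 zd14) (kd xd4 yd7 zd7) (kd xd4 yd6 zd19) (kd xd4 yd7 zd10) (kd xd1 yd12 zd16)) (@D3.rec (fun _ => Pt) (kd xd4 yd7 zd14) (kd xd1 yd12 zd17) (kd xd4 yd7 zd19) (kd xd4 yd8 zd0) (kd xd1 yd12 zd19) (kd xd4 yd8 zd2) (kd xd4 yd8 zd3) (kd xd4 yd8 zd4) (kd xd2 yd5 zd14) (kd xd3 yd13 zd10) (kd xd4 yd8 zd5) (kd xd1 yd13 zd5) (kd xd4 yd8 zd7) (kd xd3 yd9 zd4)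 (kd xd1 yd13 zd7) (kd xd4 yd8 zd9) (kd xd4 yd8 zd10) (kd xd1 yd13 zd9) (kd xd4 yd8 zd13) (kd xd4 yd8 zd12) (kd xd1 yd13 zd14)) (@D3.rec (fun _ => Pt) (kd xd4 yd8 zd15) (kd xd3 yd6 zd4) (kd xd1 yd13 zd16) (kd xd1 yd13 zd17) (kd xd4 yd8 zd19) (kd xd2 yd0 zd0) (kd xd3 yd2 zd9) (kd xd3 yd10 zd16) (kd xd2 yd0 zd4) (kd xd3 yd2 zd6) (kd xd4 yd9 zd1) (kd xd1 yd13 zd20) (kd xd3 yd3 zd7) (kd xd4 yd9 zd4) (kd xd2 yd0 zd1) (kd xd3 yd0 zd7) (kd xd3 yd3 zd2) (kd xd4 yd9 zd10) (kd xd2 yd0 zd3) (kd xd3 yd5 zd2) (kd xd3 yd10 zd2)) (@D3.rec (fun _ => Pt) (kd xd2 yd0 zd5) (kd xd4 yd5 zd0) (kd xd3 yd2 zd16) (kd xd4 yd0 zd15) (kd xd3 yd9 zd1) (kd xd2 yd0 zd9) (kd xd2 yd5 zd11) (kd xd3 yd2 zd12) (kd xd2 yd0 zd12) (kd xd2 yd10 zd9) (kd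 xd2 yd0 zd14) (kd xd4 yd9 zd18) (kd xd2 yd0 zd15) (kd xd4 yd10 zd0) (kd xd4 yd10 zd1) (kd xd2 yd0 zd17) (kd xd4 yd10 zd5) (kd xd4 yd10 zd6) (kd xd2 yd0 zd19) (kd xd4 yd10 zd10) (kd xd2 yd4 zd12)) (@D3.rec (fun _ => Pt) (kd xd4 yd10 zd13) (kd xd4 yd9 zd5) (kd xd4 yd9 zd20) (kd xd2 yd1 zd0) (kd xd4 yd10 zd17) (kd xd2 yd1 zd1) (kd xd4 yd10 zd20) (kd xd4 yd10 zd4) (kd xd2 yd1 zd3) (kd xd4 yd11 zd3) (kd xd3 yd4 zd10) (kd xd4 yd3 zd19) (kd xd4 yd3 zd20) (kd xd3 yd7 zd18) (kd xd4 yd11 zd9) (kd xd2 yd1 zd6) (kd xd2 yd1 zd7) (kd xd2 yd1 zd8) (kd xd4 yd11 zd12) (kd xd4 yd7 zd8) (kd xd2 yd1 zd10)) (@D3.rec (fun _ => Pt) (kd xd4 yd11 zd14) (kd xd3 yd7 zd15) (kd xd3 yd2 zd19) (kd xd4 yd11 zd15) (kd xd2 yd7 zd0) (kd xd4 yd11 zd16)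 (kd xd4 yd11 zd17) (kd xd2 yd1 zd16) (kd xd2 yd1 zd17) (kd xd2 yd1 zd18) (kd xd2 yd1 zd19) (kd xd2 yd1 zd20) (kd xd4 yd12 zd0) (kd xd2 yd2 zd1) (kd xd2 yd2 zd2) (kd xd4 yd12 zd2) (kd xd2 yd2 zd4) (kd xd4 yd12 zd3) (kd xd2 yd2 zd7) (kd xd3 yd11 zd8) (kd xd3 yd6 zd1)) (@D3.rec (fun _ => Pt) (kd xd4 yd9 zd11) (kd xd3 yd5 zd20) (kd xd2 yd2 zd10) (kd xd2 yd2 zd11) (kd xd3 yd2 zd1) (kd xd3 yd6 zd14) (kd xd2 yd2 zd16) (kd xd3 yd6 zd9) (kd xd3 yd6 zd13) (kd xd3 yd6 zd7) (kd xd2 yd2 zd15) (kd xd2 yd2 zd17) (kd xd4 yd12 zd14) (kd xd3 yd6 zd8) (kd xd3 yd6 zd5) (kd xd2 yd6 zd15) (kd xd2 yd3 zd0) (kd xd4 yd12 zd4) (kd xd2 yd3 zd2) (kd xd2 yd3 zd3) (kd xd2 yd3 zd4)) (@D3.rec (fun _ => Pt) (kd xd4 yd13 zd3) (kd xd2 yd3 zd6) (kd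 xd4 yd13 zd6) (kd xd2 yd3 zd8) (kd xd2 yd3 zd9) (kd xd2 yd3 zd10) (kd xd4 yd13 zd13) (kd xd4 yd13 zd16) (kd xd4 yd13 zd17) (kd xd2 yd3 zd12) (kd xd2 yd3 zd13) (kd xd2 yd3 zd14) (kd xd2 yd3 zd15) (kd xd4 yd3 zd2) (kd xd5 yd0 zd6) (kd xd3 yd5 zd1) (kd xd2 yd3 zd17) (kd xd4 yd10 zd15) (kd xd3 yd4 zd13) (kd xd2 yd12 zd19) (kd xd2 yd4 zd0)) (@D3.rec (fun _ => Pt) (kd xd4 yd12 zd9) (kd xd2 yd4 zd1) (kd xd2 yd4 zd2) (kd xd4 yd13 zd7) (kd xd3 yd8 zd11) (kd xd5 yd0 zd17) (kd xd3 yd8 zd8) (kd xd3 yd8 zd10) (kd xd3 yd8 zd6) (kd xd4 yd9 zd19) (kd xd3 yd8 zd7) (kd xd3 yd8 zd4) (kd xd2 yd4 zd7) (kd xd5 yd0 zd11) (kd xd5 yd1 zd3) (kd xd2 yd4 zd9) (kd xd2 yd4 zd11) (kd xd4 yd3 zd15) (kd xd3 yd10 zd13) (kd xd2 yd4 zd14) (kd xd2 yd4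 zd15)) (@D3.rec (fun _ => Pt) (kd xd4 yd2 zd10) (kd xd3 yd3 zd4) (kd xd2 yd4 zd17) (kd xd5 yd1 zd10) (kd xd3 yd1 zd13) (kd xd2 yd4 zd18) (kd xd2 yd12 zd0) (kd xd2 yd4 zd19) (kd xd4 yd8 zd6) (kd xd2 yd5 zd0) (kd xd5 yd1 zd15) (kd xd4 yd2 zd8) (kd xd3 yd11 zd14) (kd xd5 yd1 zd19) (kd xd5 yd1 zd20) (kd xd2 yd5 zd6) (kd xd5 yd2 zd3) (kd xd5 yd2 zd1) (kd xd2 yd11 zd11) (kd xd2 yd5 zd12) (kd xd4 yd8 zd17)) (@D3.rec (fun _ => Pt) (kd xd2 yd5 zd15) (kd xd2 yd10 zd11) (kd xd3 yd2 zd20) (kd xd4 yd13 zd4) (kd xd5 yd2 zd5) (kd xd2 yd6 zd18) (kd xd4 yd12 zd12) (kd xd2 yd5 zd18) (kd xd5 yd2 zd9) (kd xd2 yd6 zd5) (kd xd2 yd6 zd1) (kd xd5 yd2 zd13) (kd xd3 yd11 zd6) (kd xd3 yd8 zd18) (kd xd2 yd9 zd12) (kd xd5 yd1 zd5) (kd xd3 yd2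 zd7) (kd xd4 yd6 zd18) (kd xd5 yd2 zd14) (kd xd2 yd6 zd11) (kd xd4 yd11 zd5)) (@D3.rec (fun _ => Pt) (kd xd5 yd2 zd18) (kd xd4 yd12 zd17) (kd xd5 yd2 zd8) (kd xd5 yd2 zd10) (kd xd4 yd13 zd0) (kd xd3 yd11 zd7) (kd xd3 yd10 zd12) (kd xd3 yd11 zd5) (kd xd3 yd5 zd19) (kd xd4 yd3 zd10) (kd xd5 yd0 zd2) (kd xd5 yd2 zd11) (kd xd5 yd3 zd4) (kd xd5 yd3 zd5) (kd xd3 yd9 zd12) (kd xd5 yd3 zd6) (kd xd2 yd7 zd6) (kd xd3 yd12 zd6) (kd xd5 yd3 zd11) (kd xd2 yd7 zd9) (kd xd4 yd5 zd4)) (@D3.rec (fun _ => Pt) (kd xd5 yd3 zd12) (kd xd2 yd7 zd12) (kd xd5 yd3 zd16) (kd xd5 yd3 zd13) (kd xd5 yd3 zd18) (kd xd5 yd3 zd9) (kd xd3 yd11 zd17) (kd xd2 yd7 zd14) (kd xd5 yd4 zd4) (kd xd2 yd7 zd15) (kd xd2 yd7 zd16) (kd xd5 yd0 zd1) (kd xd5 yd4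 zd5) (kd xd4 yd1 zd3) (kd xd2 yd7 zd18) (kd xd2 yd7 zd19) (kd xd4 yd13 zd20) (kd xd5 yd4 zd7) (kd xd2 yd8 zd2) (kd xd2 yd8 zd3) (kd xd5 yd4 zd10)) (@D3.rec (fun _ => Pt) (kd xd5 yd4 zd9) (kd xd5 yd4 zd11) (kd xd2 yd8 zd5) (kd xd2 yd8 zd6) (kd xd5 yd4 zd15) (kd xd5 yd4 zd6) (kd xd2 yd8 zd9) (kd xd4 yd0 zd7) (kd xd4 yd5 zd20) (kd xd2 yd11 zd16) (kd xd3 yd1 zd9) (kd xd2 yd8 zd11) (kd xd4 yd0 zd13) (kd xd3 yd13 zd13) (kd xd2 yd12 zd4) (kd xd2 yd12 zd5) (kd xd5 yd5 zd10) (kd xd4 yd2 zd17) (kd xd2 yd12 zd14) (kd xd3 yd13 zd19) (kd xd2 yd9 zd0))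
def f_d_4 : D2 → D3 → Pt := @D2.rec (fun _ => D3 → Pt) (@D3.rec (fun _ => Pt) (kd xd2 yd9 zd1) (kd xd2 yd9 zd2) (kd xd2 yd9 zd3) (kd xd2 yd9 zd4) (kd xd2 yd9 zd5) (kd xd2 yd9 zd6) (kd xd5 yd6 zd5) (kd xd3 yd13 zd7) (kd xd4 yd1 zd8) (kd xd2 yd9 zd20) (kd xd5 yd6 zd12) (kd xd2 yd9 zd9) (kd xd2 yd9 zd10) (kd xd3 yd13 zd12) (kd xd5 yd0 zd16) (kd xd3 yd3 zd3) (kd xd2 yd10 zd20) (kd xd2 yd9 zd14) (kd xd2 yd9 zd17) (kd xd5 yd6 zd3) (kd xd5 yd7 zd3)) (@D3.rec (fun _ => Pt) (kd xd5 yd6 zd4) (kd xd2 yd9 zd16) (kd xd5 yd7 zd7) (kd xd3 yd12 zd13) (kd xd5 yd7 zd8) (kd xd5 yd7 zd9) (kd xd2 yd9 zd19) (kd xd5 yd5 zd16) (kd xd4 yd0 zd8) (kd xd5 yd7 zd13) (kd xd4 yd1 zd12) (kd xd5 yd7 zd15) (kd xd4 yd1 zd10) (kd xd4 yd4 zd3) (kd xd2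 yd10 zd2) (kd xd2 yd10 zd6) (kd xd2 yd10 zd5) (kd xd2 yd10 zd7) (kd xd5 yd8 zd0) (kd xd2 yd11 zd10) (kd xd5 yd2 zd4)) (@D3.rec (fun _ => Pt) (kd xd5 yd8 zd1) (kd xd2 yd10 zd13) (kd xd2 yd10 zd14) (kd xd5 yd8 zd6) (kd xd5 yd6 zd15) (kd xd2 yd10 zd17) (kd xd2 yd10 zd18) (kd xd5 yd1 zd7) (kd xd3 yd9 zd11) (kd xd5 yd8 zd11) (kd xd3 yd9 zd0) (kd xd5 yd2 zd12) (kd xd4 yd13 zd10) (kd xd2 yd11 zd5) (kd xd2 yd11 zd4) (kd xd2 yd11 zd6) (kd xd5 yd9 zd0) (kd xd3 yd13 zd17) (kd xd5 yd9 zd3) (kd xd5 yd8 zd17) (kd xd2 yd11 zd9)) (@D3.rec (fun _ => Pt) (kd xd5 yd1 zd2) (kd xd5 yd9 zd6) (kd xd3 yd7 zd13) (kd xd2 yd11 zd13) (kd xd5 yd9 zd8) (kd xd2 yd11 zd14) (kd xd5 yd9 zd14) (kd xd5 yd9 zd17) (kd xd5 yd9 zd18) (kd xd2 yd11 zd15)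 (kd xd3 yd11 zd9) (kd xd5 yd8 zd13) (kd xd4 yd5 zd3) (kd xd5 yd8 zd4) (kd xd4 yd6 zd0) (kd xd3 yd8 zd17) (kd xd2 yd11 zd19) (kd xd4 yd10 zd2) (kd xd4 yd3 zd18) (kd xd3 yd4 zd11) (kd xd3 yd4 zd12)) (@D3.rec (fun _ => Pt) (kd xd5 yd10 zd12) (kd xd2 yd12 zd2) (kd xd5 yd8 zd8) (kd xd4 yd1 zd13) (kd xd5 yd7 zd19) (kd xd5 yd10 zd16) (kd xd5 yd10 zd17) (kd xd5 yd10 zd18) (kd xd5 yd5 zd14) (kd xd5 yd8 zd3) (kd xd5 yd8 zd5) (kd xd5 yd8 zd18) (kd xd2 yd12 zd8) (kd xd2 yd12 zd9) (kd xd4 yd4 zd14) (kd xd4 yd6 zd2) (kd xd5 yd11 zd2) (kd xd2 yd12 zd13) (kd xd5 yd11 zd6) (kd xd5 yd11 zd7) (kd xd5 yd11 zd8)) (@D3.rec (fun _ => Pt) (kd xd3 yd3 zd1) (kd xd4 yd11 zd20) (kd xd5 yd5 zd9) (kd xd4 yd3 zd12) (kd xd3 yd11 zd20) (kd xd2 yd13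 zd3) (kd xd5 yd3 zd19) (kd xd4 yd5 zd16) (kd xd5 yd11 zd14) (kd xd2 yd13 zd7) (kd xd4 yd5 zd13) (kd xd5 yd5 zd20) (kd xd4 yd5 zd15) (kd xd4 yd5 zd10) (kd xd5 yd11 zd19) (kd xd4 yd5 zd12) (kd xd4 yd5 zd7) (kd xd5 yd1 zd8) (kd xd2 yd13 zd12) (kd xd5 yd11 zd0) (kd xd3 yd13 zd8)) (@D3.rec (fun _ => Pt) (kd xd4 yd3 zd14) (kd xd5 yd12 zd6) (kd xd4 yd4 zd15) (kd xd4 yd6 zd3) (kd xd2 yd13 zd20) (kd xd3 yd0 zd1) (kd xd3 yd0 zd2) (kd xd4 yd7 zd2) (kd xd3 yd0 zd4) (kd xd3 yd0 zd6) (kd xd4 yd9 zd8) (kd xd5 yd12 zd11) (kd xd5 yd10 zd20) (kd xd3 yd0 zd9) (kd xd5 yd12 zd12) (kd xd5 yd2 zd19) (kd xd3 yd0 zd14) (kd xd4 yd6 zd20) (kd xd3 yd10 zd17) (kd xd3 yd0 zd18) (kd xd4 yd6 zd17)) (@D3.rec (fun _ => Pt) (kd xd5 yd12 zd16) (kd xd3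 yd0 zd13) (kd xd4 yd6 zd7) (kd xd5 yd12 zd18) (kd xd3 yd0 zd15) (kd xd4 yd7 zd12) (kd xd5 yd4 zd13) (kd xd3 yd0 zd17) (kd xd3 yd4 zd19) (kd xd4 yd11 zd13) (kd xd3 yd0 zd19) (kd xd4 yd10 zd11) (kd xd4 yd7 zd5) (kd xd5 yd13 zd1) (kd xd3 yd1 zd0) (kd xd5 yd13 zd5) (kd xd4 yd9 zd17) (kd xd5 yd12 zd19) (kd xd4 yd9 zd7) (kd xd3 yd1 zd2) (kd xd5 yd12 zd0)) (@D3.rec (fun _ => Pt) (kd xd3 yd1 zd3) (kd xd5 yd13 zd9) (kd xd3 yd1 zd5) (kd xd3 yd1 zd6) (kd xd3 yd1 zd7) (kd xd3 yd1 zd10) (kd xd3 yd9 zd8) (kd xd3 yd1 zd12) (kd xd5 yd13 zd14) (kd xd3 yd1 zd15) (kd xd3 yd1 zd16) (kd xd5 yd13 zd6) (kd xd3 yd1 zd19) (kd xd3 yd1 zd18) (kd xd5 yd12 zd20) (kd xd3 yd2 zd0) (kd xd5 yd13 zd17) (kd xd3 yd9 zd20) (kd xd6 yd0 zd2) (kd xd3 yd2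 zd4) (kd xd5 yd12 zd7)) (@D3.rec (fun _ => Pt) (kd xd6 yd0 zd5) (kd xd3 yd2 zd10) (kd xd4 yd9 zd16) (kd xd6 yd0 zd9) (kd xd3 yd2 zd13) (kd xd3 yd4 zd1) (kd xd6 yd0 zd10) (kd xd4 yd7 zd18) (kd xd4 yd6 zd10) (kd xd4 yd12 zd10) (kd xd3 yd2 zd17) (kd xd3 yd6 zd0) (kd xd5 yd1 zd4) (kd xd5 yd2 zd20) (kd xd5 yd12 zd14) (kd xd5 yd13 zd20) (kd xd4 yd9 zd2) (kd xd4 yd7 zd16) (kd xd3 yd3 zd11) (kd xd3 yd8 zd9) (kd xd3 yd4 zd2)) (@D3.rec (fun _ => Pt) (kd xd3 yd3 zd13) (kd xd3 yd3 zd14) (kd xd4 yd3 zd17) (kd xd5 yd0 zd12) (kd xd3 yd4 zd7) (kd xd3 yd3 zd16) (kd xd3 yd3 zd17) (kd xd6 yd0 zd7) (kd xd6 yd0 zd16) (kd xd6 yd0 zd18) (kd xd3 yd3 zd19) (kd xd4 yd7 zd11) (kd xd4 yd12 zd5) (kd xd3 yd4 zd0) (kd xd5 yd2 zd0) (kd xd3 yd7 zd17)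 (kd xd5 yd6 zd14) (kd xd3 yd4 zd4) (kd xd6 yd1 zd7) (kd xd5 yd5 zd17) (kd xd3 yd4 zd6)) (@D3.rec (fun _ => Pt) (kd xd6 yd1 zd11) (kd xd4 yd11 zd18) (kd xd6 yd1 zd13) (kd xd3 yd4 zd9) (kd xd5 yd0 zd4) (kd xd3 yd10 zd20) (kd xd6 yd1 zd15) (kd xd6 yd1 zd16) (kd xd5 yd11 zd9) (kd xd3 yd4 zd14) (kd xd5 yd2 zd17) (kd xd6 yd2 zd0) (kd xd3 yd4 zd18) (kd xd4 yd7 zd9) (kd xd3 yd5 zd0) (kd xd3 yd5 zd3) (kd xd3 yd5 zd5) (kd xd3 yd5 zd6) (kd xd4 yd11 zd1) (kd xd6 yd2 zd5) (kd xd4 yd5 zd1)) (@D3.rec (fun _ => Pt) (kd xd3 yd5 zd12) (kd xd5 yd5 zd11) (kd xd3 yd5 zd15) (kd xd3 yd5 zd17) (kd xd3 yd6 zd17) (kd xd4 yd10 zd12) (kd xd4 yd12 zd20) (kd xd4 yd13 zd9) (kd xd5 yd2 zd6) (kd xd3 yd8 zd0) (kd xd4 yd9 zd9) (kd xd4 yd13 zd8) (kd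 xd3 yd10 zd6) (kd xd6 yd2 zd11) (kd xd3 yd6 zd12) (kd xd5 yd10 zd6) (kd xd6 yd2 zd15) (kd xd3 yd11 zd1) (kd xd5 yd3 zd2) (kd xd5 yd0 zd5) (kd xd4 yd12 zd6)) (@D3.rec (fun _ => Pt) (kd xd3 yd11 zd4) (kd xd6 yd2 zd16) (kd xd5 yd6 zd0) (kd xd3 yd7 zd0) (kd xd3 yd10 zd3) (kd xd6 yd2 zd4) (kd xd3 yd7 zd2) (kd xd3 yd8 zd3) (kd xd4 yd12 zd11) (kd xd4 yd12 zd7) (kd xd4 yd2 zd12) (kd xd5 yd1 zd0) (kd xd5 yd12 zd2) (kd xd3 yd7 zd6) (kd xd6 yd3 zd1) (kd xd5 yd1 zd11) (kd xd3 yd7 zd7) (kd xd3 yd7 zd8) (kd xd5 yd8 zd16) (kd xd5 yd11 zd11) (kd xd3 yd12 zd16))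
def f_d_5 : D2 → D3 → Pt := @D2.rec (fun _ => D3 → Pt) (@D3.rec (fun _ => Pt) (kd xd6 yd3 zd8) (kd xd3 yd12 zd11) (kd xd3 yd11 zd10) (kd xd6 yd2 zd18) (kd xd4 yd11 zd4) (kd xd4 yd12 zd19) (kd xd3 yd7 zd14) (kd xd6 yd1 zd18) (kd xd6 yd1 zd3) (kd xd6 yd3 zd12) (kd xd6 yd3 zd13) (kd xd3 yd8 zd13) (kd xd4 yd10 zd3) (kd xd6 yd3 zd14) (kd xd5 yd1 zd13) (kd xd6 yd3 zd15) (kd xd4 yd0 zd14) (kd xd3 yd8 zd5) (kd xd6 yd0 zd17) (kd xd6 yd0 zd14) (kd xd6 yd3 zd17)) (@D3.rec (fun _ => Pt) (kd xd4 yd13 zd11) (kd xd5 yd11 zd17) (kd xd4 yd3 zd0) (kd xd3 yd8 zd14) (kd xd4 yd9 zd12) (kd xd3 yd10 zd15) (kd xd6 yd4 zd1) (kd xd4 yd2 zd7) (kd xd4 yd5 zd17) (kd xd6 yd4 zd3) (kd xd3 yd9 zd3) (kd xd4 yd13 zd15) (kd xd5 yd7 zd0) (kd xd5 yd0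 zd14) (kd xd5 yd9 zd1) (kd xd3 yd9 zd10) (kd xd5 yd5 zd13) (kd xd6 yd4 zd8) (kd xd6 yd4 zd9) (kd xd3 yd9 zd13) (kd xd3 yd9 zd14)) (@D3.rec (fun _ => Pt) (kd xd4 yd10 zd14) (kd xd3 yd9 zd17) (kd xd6 yd4 zd15) (kd xd3 yd9 zd16) (kd xd4 yd1 zd20) (kd xd3 yd10 zd4) (kd xd4 yd12 zd8) (kd xd5 yd3 zd1) (kd xd3 yd11 zd2) (kd xd3 yd10 zd8) (kd xd3 yd11 zd3) (kd xd3 yd11 zd11) (kd xd4 yd2 zd11) (kd xd3 yd10 zd11) (kd xd3 yd10 zd18) (kd xd6 yd1 zd14) (kd xd6 yd4 zd19) (kd xd4 yd11 zd10) (kd xd3 yd11 zd0) (kd xd4 yd6 zd15) (kd xd4 yd9 zd13)) (@D3.rec (fun _ => Pt) (kd xd5 yd13 zd0) (kd xd5 yd2 zd7) (kd xd4 yd12 zd18) (kd xd5 yd4 zd20) (kd xd3 yd11 zd12) (kd xd3 yd11 zd13) (kd xd3 yd11 zd15) (kd xd6 yd5 zd6) (kd xd5 yd3 zd20)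 (kd xd3 yd12 zd5) (kd xd6 yd5 zd10) (kd xd3 yd11 zd18) (kd xd3 yd12 zd0) (kd xd3 yd12 zd3) (kd xd6 yd5 zd14) (kd xd6 yd5 zd4) (kd xd3 yd12 zd2) (kd xd6 yd0 zd6) (kd xd3 yd12 zd4) (kd xd4 yd5 zd6) (kd xd5 yd3 zd8)) (@D3.rec (fun _ => Pt) (kd xd5 yd4 zd2) (kd xd6 yd6 zd1) (kd xd5 yd4 zd0) (kd xd5 yd5 zd4) (kd xd3 yd12 zd8) (kd xd3 yd12 zd12) (kd xd3 yd13 zd5) (kd xd3 yd12 zd17) (kd xd5 yd6 zd17) (kd xd3 yd13 zd0) (kd xd3 yd12 zd20) (kd xd3 yd13 zd1) (kd xd6 yd6 zd11) (kd xd4 yd7 zd6) (kd xd6 yd6 zd9) (kd xd3 yd13 zd4) (kd xd5 yd6 zd6) (kd xd6 yd6 zd16) (kd xd6 yd6 zd19) (kd xd6 yd6 zd15) (kd xd5 yd3 zd3)) (@D3.rec (fun _ => Pt) (kd xd5 yd6 zd20) (kd xd5 yd5 zd15) (kd xd5 yd6 zd16) (kd xd5 yd6 zd19) (kd xd5 yd4 zd3)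 (kd xd6 yd6 zd6) (kd xd6 yd7 zd2) (kd xd6 yd7 zd3) (kd xd6 yd4 zd11) (kd xd4 yd5 zd2) (kd xd3 yd13 zd16) (kd xd4 yd12 zd1) (kd xd6 yd4 zd7) (kd xd5 yd1 zd16) (kd xd4 yd4 zd8) (kd xd5 yd5 zd1) (kd xd4 yd1 zd7) (kd xd4 yd10 zd19) (kd xd6 yd7 zd7) (kd xd5 yd6 zd1) (kd xd4 yd5 zd11)) (@D3.rec (fun _ => Pt) (kd xd4 yd13 zd2) (kd xd5 yd5 zd19) (kd xd6 yd7 zd10) (kd xd4 yd0 zd19) (kd xd4 yd1 zd0) (kd xd4 yd0 zd6) (kd xd5 yd4 zd16) (kd xd6 yd6 zd10) (kd xd6 yd7 zd19) (kd xd6 yd7 zd4) (kd xd5 yd7 zd12) (kd xd6 yd0 zd19) (kd xd4 yd0 zd10) (kd xd6 yd8 zd0) (kd xd4 yd10 zd16) (kd xd4 yd2 zd4) (kd xd5 yd5 zd2) (kd xd5 yd4 zd8) (kd xd6 yd6 zd5) (kd xd5 yd5 zd3) (kd xd5 yd5 zd0)) (@D3.rec (fun _ => Pt) (kd xd5 yd1 zd12) (kd xd5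 yd7 zd6) (kd xd6 yd8 zd7) (kd xd4 yd0 zd20) (kd xd6 yd7 zd5) (kd xd5 yd10 zd13) (kd xd5 yd7 zd1) (kd xd4 yd1 zd2) (kd xd4 yd1 zd4) (kd xd4 yd1 zd5) (kd xd5 yd9 zd19) (kd xd5 yd12 zd1) (kd xd5 yd6 zd10) (kd xd4 yd1 zd9) (kd xd6 yd8 zd15) (kd xd4 yd1 zd11) (kd xd6 yd8 zd17) (kd xd6 yd7 zd6) (kd xd5 yd10 zd15) (kd xd4 yd4 zd4) (kd xd6 yd8 zd19)) (@D3.rec (fun _ => Pt) (kd xd4 yd1 zd18) (kd xd4 yd2 zd0) (kd xd6 yd2 zd17) (kd xd4 yd4 zd9) (kd xd4 yd3 zd13) (kd xd4 yd4 zd10) (kd xd4 yd2 zd3) (kd xd5 yd13 zd7) (kd xd4 yd4 zd2) (kd xd5 yd9 zd20) (kd xd6 yd9 zd4) (kd xd4 yd2 zd9) (kd xd6 yd9 zd7) (kd xd4 yd3 zd11) (kd xd6 yd2 zd19) (kd xd6 yd9 zd8) (kd xd4 yd13 zd18) (kd xd4 yd2 zd19) (kd xd4 yd4 zd11) (kd xd5 yd9 zd11) (kd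 xd6 yd3 zd0)) (@D3.rec (fun _ => Pt) (kd xd4 yd2 zd16) (kd xd5 yd1 zd14) (kd xd6 yd4 zd6) (kd xd4 yd2 zd18) (kd xd6 yd6 zd12) (kd xd6 yd3 zd20) (kd xd4 yd3 zd1) (kd xd6 yd8 zd13) (kd xd4 yd3 zd4) (kd xd6 yd9 zd15) (kd xd6 yd8 zd20) (kd xd5 yd8 zd19) (kd xd6 yd9 zd16) (kd xd6 yd3 zd19) (kd xd4 yd3 zd6) (kd xd5 yd10 zd1) (kd xd5 yd13 zd8) (kd xd4 yd3 zd7) (kd xd4 yd3 zd8) (kd xd5 yd7 zd10) (kd xd5 yd8 zd9)) (@D3.rec (fun _ => Pt) (kd xd6 yd9 zd0) (kd xd5 yd9 zd15) (kd xd6 yd2 zd20) (kd xd6 yd0 zd20) (kd xd6 yd1 zd1) (kd xd6 yd10 zd5) (kd xd4 yd12 zd15) (kd xd6 yd10 zd6) (kd xd6 yd5 zd0) (kd xd5 yd13 zd18) (kd xd6 yd2 zd6) (kd xd6 yd9 zd3) (kd xd4 yd4 zd0) (kd xd5 yd7 zd5) (kd xd6 yd8 zd12) (kd xd5 yd7 zd18) (kd xd4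 yd4 zd5) (kd xd4 yd4 zd6) (kd xd4 yd4 zd7) (kd xd6 yd5 zd7) (kd xd4 yd6 zd12)) (@D3.rec (fun _ => Pt) (kd xd4 yd5 zd19) (kd xd6 yd10 zd15) (kd xd4 yd4 zd16) (kd xd6 yd2 zd7) (kd xd6 yd3 zd5) (kd xd6 yd10 zd0) (kd xd4 yd4 zd18) (kd xd4 yd4 zd19) (kd xd4 yd4 zd20) (kd xd4 yd11 zd8) (kd xd5 yd11 zd10) (kd xd4 yd13 zd19) (kd xd6 yd5 zd15) (kd xd6 yd6 zd4) (kd xd4 yd5 zd8) (kd xd5 yd11 zd15) (kd xd6 yd7 zd8) (kd xd5 yd1 zd1) (kd xd6 yd6 zd7) (kd xd4 yd5 zd14) (kd xd6 yd11 zd0)) (@D3.rec (fun _ => Pt) (kd xd4 yd7 zd20) (kd xd5 yd7 zd11) (kd xd4 yd13 zd12) (kd xd6 yd10 zd14) (kd xd6 yd5 zd19) (kd xd6 yd6 zd17) (kd xd4 yd6 zd1) (kd xd4 yd8 zd20) (kd xd6 yd4 zd17) (kd xd6 yd4 zd14) (kd xd5 yd12 zd17) (kd xd4 yd6 zd11) (kd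 xd4 yd6 zd14) (kd xd6 yd1 zd2) (kd xd4 yd9 zd14) (kd xd6 yd7 zd15) (kd xd4 yd7 zd0) (kd xd5 yd12 zd10) (kd xd4 yd7 zd3) (kd xd4 yd7 zd17) (kd xd4 yd8 zd14)) (@D3.rec (fun _ => Pt) (kd xd5 yd3 zd0) (kd xd4 yd7 zd13) (kd xd6 yd0 zd15) (kd xd6 yd11 zd6) (kd xd6 yd0 zd1) (kd xd4 yd7 zd15) (kd xd4 yd8 zd11) (kd xd5 yd8 zd7) (kd xd5 yd9 zd16) (kd xd4 yd8 zd1) (kd xd6 yd1 zd0) (kd xd6 yd2 zd14) (kd xd6 yd11 zd12) (kd xd6 yd10 zd10) (kd xd4 yd8 zd8) (kd xd6 yd2 zd9) (kd xd6 yd11 zd7) (kd xd4 yd8 zd16) (kd xd5 yd10 zd9) (kd xd6 yd2 zd3) (kd xd4 yd9 zd15))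
def f_d_6 : D2 → D3 → Pt := @D2.rec (fun _ => D3 → Pt) (@D3.rec (fun _ => Pt) (kd xd6 yd11 zd15) (kd xd5 yd13 zd4) (kd xd4 yd8 zd18) (kd xd6 yd11 zd2) (kd xd6 yd11 zd3) (kd xd4 yd9 zd0) (kd xd5 yd3 zd17) (kd xd4 yd10 zd7) (kd xd6 yd11 zd17) (kd xd4 yd9 zd3) (kd xd4 yd9 zd6) (kd xd6 yd2 zd10) (kd xd6 yd4 zd0) (kd xd6 yd11 zd5) (kd xd5 yd0 zd19) (kd xd5 yd13 zd2) (kd xd4 yd10 zd8) (kd xd5 yd0 zd18) (kd xd4 yd10 zd9) (kd xd5 yd6 zd11) (kd xd5 yd10 zd3)) (@D3.rec (fun _ => Pt) (kd xd5 yd13 zd10) (kd xd5 yd10 zd4) (kd xd5 yd12 zd13) (kd xd5 yd0 zd8) (kd xd6 yd4 zd13) (kd xd6 yd8 zd1) (kd xd6 yd10 zd1) (kd xd4 yd10 zd18) (kd xd6 yd4 zd5) (kd xd6 yd5 zd9) (kd xd6 yd12 zd4) (kd xd4 yd11 zd0) (kd xd6 yd3 zd9) (kd xd4 yd11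 zd2) (kd xd5 yd2 zd15) (kd xd4 yd11 zd6) (kd xd4 yd11 zd7) (kd xd6 yd2 zd1) (kd xd5 yd0 zd7) (kd xd6 yd4 zd18) (kd xd6 yd10 zd11)) (@D3.rec (fun _ => Pt) (kd xd4 yd11 zd11) (kd xd6 yd1 zd17) (kd xd6 yd9 zd1) (kd xd5 yd13 zd19) (kd xd4 yd13 zd5) (kd xd4 yd11 zd19) (kd xd5 yd10 zd10) (kd xd5 yd11 zd3) (kd xd6 yd4 zd16) (kd xd5 yd13 zd15) (kd xd6 yd0 zd11) (kd xd4 yd12 zd13) (kd xd6 yd10 zd4) (kd xd6 yd12 zd10) (kd xd5 yd13 zd11) (kd xd4 yd12 zd16) (kd xd4 yd13 zd1) (kd xd5 yd8 zd2) (kd xd5 yd0 zd3) (kd xd5 yd8 zd14) (kd xd5 yd10 zd2)) (@D3.rec (fun _ => Pt) (kd xd5 yd8 zd20) (kd xd4 yd13 zd14) (kd xd6 yd3 zd18) (kd xd6 yd6 zd13) (kd xd6 yd4 zd4) (kd xd5 yd11 zd4) (kd xd6 yd9 zd11) (kd xd6 yd12 zd12) (kd xd5 yd0 zd0)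 (kd xd6 yd1 zd12) (kd xd6 yd12 zd14) (kd xd6 yd12 zd15) (kd xd5 yd0 zd9) (kd xd5 yd0 zd10) (kd xd5 yd0 zd13) (kd xd5 yd0 zd15) (kd xd6 yd11 zd20) (kd xd5 yd0 zd20) (kd xd6 yd3 zd2) (kd xd5 yd9 zd13) (kd xd5 yd9 zd5)) (@D3.rec (fun _ => Pt) (kd xd6 yd0 zd12) (kd xd5 yd1 zd6) (kd xd6 yd9 zd20) (kd xd5 yd1 zd9) (kd xd6 yd3 zd4) (kd xd6 yd1 zd8) (kd xd5 yd9 zd2) (kd xd5 yd5 zd12) (kd xd5 yd1 zd17) (kd xd5 yd1 zd18) (kd xd6 yd8 zd14) (kd xd5 yd5 zd8) (kd xd6 yd12 zd6) (kd xd6 yd1 zd4) (kd xd5 yd12 zd9) (kd xd5 yd2 zd2) (kd xd6 yd2 zd8) (kd xd5 yd12 zd8) (kd xd6 yd1 zd19) (kd xd5 yd2 zd16) (kd xd6 yd5 zd1)) (@D3.rec (fun _ => Pt) (kd xd5 yd10 zd8) (kd xd6 yd4 zd20) (kd xd6 yd5 zd16) (kd xd6 yd5 zd12) (kd xd5 yd3 zd15) (kd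 xd6 yd13 zd3) (kd xd5 yd3 zd7) (kd xd5 yd10 zd19) (kd xd6 yd5 zd20) (kd xd6 yd1 zd9) (kd xd5 yd3 zd10) (kd xd6 yd8 zd6) (kd xd6 yd5 zd3) (kd xd6 yd5 zd17) (kd xd5 yd3 zd14) (kd xd5 yd11 zd12) (kd xd6 yd5 zd2) (kd xd6 yd5 zd13) (kd xd6 yd7 zd0) (kd xd5 yd12 zd4) (kd xd6 yd5 zd8)) (@D3.rec (fun _ => Pt) (kd xd6 yd9 zd13) (kd xd5 yd4 zd1) (kd xd6 yd7 zd18) (kd xd6 yd9 zd12) (kd xd5 yd11 zd13) (kd xd5 yd6 zd18) (kd xd5 yd5 zd5) (kd xd5 yd11 zd18) (kd xd6 yd8 zd3) (kd xd5 yd4 zd14) (kd xd5 yd6 zd7) (kd xd5 yd4 zd12) (kd xd5 yd9 zd4) (kd xd6 yd3 zd3) (kd xd6 yd10 zd20) (kd xd5 yd4 zd19) (kd xd5 yd4 zd17) (kd xd5 yd12 zd5) (kd xd6 yd10 zd19) (kd xd5 yd4 zd18) (kd xd6 yd8 zd2)) (@D3.rec (fun _ => Pt) (kd xd6 yd5 zd18) (kd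 xd6 yd11 zd18) (kd xd5 yd5 zd6) (kd xd5 yd5 zd7) (kd xd5 yd6 zd9) (kd xd5 yd7 zd4) (kd xd5 yd7 zd17) (kd xd5 yd5 zd18) (kd xd5 yd11 zd16) (kd xd6 yd9 zd10) (kd xd5 yd6 zd2) (kd xd6 yd8 zd8) (kd xd6 yd13 zd13) (kd xd6 yd13 zd10) (kd xd6 yd12 zd0) (kd xd5 yd12 zd15) (kd xd6 yd13 zd7) (kd xd6 yd9 zd9) (kd xd6 yd6 zd2) (kd xd5 yd6 zd8) (kd xd6 yd9 zd17)) (@D3.rec (fun _ => Pt) (kd xd5 yd6 zd13) (kd xd6 yd1 zd5) (kd xd6 yd6 zd20) (kd xd6 yd6 zd8) (kd xd6 yd13 zd5) (kd xd6 yd10 zd13) (kd xd6 yd5 zd11) (kd xd5 yd7 zd2) (kd xd6 yd7 zd11) (kd xd6 yd11 zd1) (kd xd6 yd10 zd8) (kd xd6 yd13 zd11) (kd xd5 yd10 zd14) (kd xd5 yd9 zd7) (kd xd6 yd4 zd10) (kd xd5 yd7 zd14) (kd xd6 yd13 zd6) (kd xd5 yd7 zd16) (kd xd6 yd12 zd19) (kd xd5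 yd7 zd20) (kd xd5 yd9 zd10)) (@D3.rec (fun _ => Pt) (kd xd5 yd10 zd0) (kd xd6 yd2 zd2) (kd xd6 yd11 zd8) (kd xd5 yd10 zd11) (kd xd5 yd8 zd10) (kd xd6 yd13 zd18) (kd xd6 yd11 zd9) (kd xd5 yd8 zd12) (kd xd5 yd8 zd15) (kd xd6 yd7 zd17) (kd xd6 yd7 zd9) (kd xd6 yd3 zd6) (kd xd6 yd6 zd3) (kd xd6 yd6 zd0) (kd xd6 yd12 zd20) (kd xd5 yd9 zd9) (kd xd5 yd9 zd12) (kd xd6 yd7 zd20) (kd xd6 yd12 zd16) (kd xd6 yd13 zd9) (kd xd6 yd4 zd2)) (@D3.rec (fun _ => Pt) (kd xd5 yd11 zd5) (kd xd6 yd1 zd6) (kd xd6 yd12 zd1) (kd xd6 yd13 zd12) (kd xd6 yd2 zd12) (kd xd5 yd10 zd5) (kd xd5 yd10 zd7) (kd xd6 yd12 zd8) (kd xd6 yd8 zd10) (kd xd6 yd10 zd18) (kd xd5 yd13 zd13) (kd xd6 yd1 zd20) (kd xd6 yd13 zd1) (kd xd6 yd8 zd5) (kd xd5 yd12 zd3) (kd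 xd5 yd11 zd1) (kd xd6 yd13 zd8) (kd xd6 yd13 zd0) (kd xd6 yd10 zd9) (kd xd6 yd6 zd18) (kd xd6 yd6 zd14)) (@D3.rec (fun _ => Pt) (kd xd5 yd11 zd20) (kd xd6 yd8 zd9) (kd xd6 yd0 zd3) (kd xd6 yd0 zd4) (kd xd6 yd11 zd19) (kd xd6 yd0 zd13) (kd xd5 yd13 zd3) (kd xd5 yd13 zd16) (kd xd6 yd9 zd2) (kd xd6 yd9 zd6) (kd xd6 yd12 zd2) (kd xd6 yd12 zd9) (kd xd5 yd13 zd12) (kd xd6 yd13 zd19) (kd xd6 yd11 zd16) (kd xd6 yd0 zd0) (kd xd6 yd11 zd14) (kd xd6 yd0 zd8) (kd xd6 yd7 zd1) (kd xd6 yd11 zd4) (kd xd6 yd3 zd16)) (@D3.rec (fun _ => Pt) (kd xd6 yd7 zd14) (kd xd6 yd10 zd2) (kd xd6 yd11 zd10) (kd xd6 yd13 zd2) (kd xd6 yd1 zd10) (kd xd6 yd13 zd15) (kd xd6 yd4 zd12) (kd xd6 yd13 zd16) (kd xd6 yd10 zd7) (kd xd6 yd11 zd11) (kd xd6 yd2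 zd13) (kd xd6 yd12 zd18) (kd xd6 yd3 zd7) (kd xd6 yd12 zd17) (kd xd6 yd3 zd10) (kd xd6 yd3 zd11) (kd xd6 yd9 zd18) (kd xd6 yd12 zd13) (kd xd6 yd12 zd11) (kd xd6 yd8 zd18) (kd xd6 yd9 zd14)) (@D3.rec (fun _ => Pt) (kd xd6 yd10 zd17) (kd xd6 yd10 zd12) (kd xd6 yd12 zd3) (kd xd6 yd5 zd5) (kd xd6 yd13 zd14) (kd xd6 yd8 zd4) (kd xd6 yd8 zd16) (kd xd6 yd7 zd16) (kd xd6 yd10 zd16) (kd xd6 yd9 zd19) (kd xd6 yd7 zd13) (kd xd6 yd8 zd11) (kd xd6 yd10 zd3) (kd xd6 yd7 zd12) (kd xd6 yd13 zd4) (kd xd6 yd12 zd5) (kd xd6 yd12 zd7) (kd xd6 yd13 zd20) (kd xd6 yd9 zd5) (kd xd6 yd11 zd13) (kd xd6 yd13 zd17))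
def f_d : Pt → Pt := @Pt.rec (fun _ => Pt) (@D1.rec (fun _ => D2 → D3 → Pt) f_d_0 f_d_1 f_d_2 f_d_3 f_d_4 f_d_5 f_d_6)
def fi_d : Pt → Pt := f_d

theorem inv_chk_d : chkInv allPts beqPt f_d fi_d = true := by decide +kernel

end

end Cfsg.Agent.Helper28.S1683
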