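import Cfsg.Agent.Lib.Helper28.S1683.Defs

set_option autoImplicit false
set_option maxRecDepth 100000
set_option linter.all false

namespace Cfsg.Agent.Helper28.S1683

open Cfsg.Agent.Helper28
open Cfsg.Spor.He (Gen)

noncomputable section

abbrev ke := Pt.mk
abbrev xe0 := D1.c0
abbrev xe1 := D1.c1
abbrev xe2 := D1.c2
abbrev xe3 := D1.c3
abbrev xe4 := D1.c4
abbrev xe5 := D1.c5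
abbrev xe6 := D1.c6
abbrev ye0 := D2.c0
abbrev ye1 := D2.c1
abbrev ye2 := D2.c2
abbrev ye3 := D2.c3
abbrev ye4 := D2.c4
abbrev ye5 := D2.c5
abbrev ye6 := D2.c6
abbrev ye7 := D2.c7
abbrev ye8 := D2.c8
abbrev ye9 := D2.c9
abbrev ye10 := D2.c10
abbrev ye11 := D2.c11
abbrev ye12 := D2.c12
abbrev ye13 := D2.c13
abbrev ze0 := D3.c0
abbrev ze1 := D3.c1
abbrev ze2 := D3.c2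
abbrev ze3 := D3.c3
abbrev ze4 := D3.c4
abbrev ze5 := D3.c5
abbrev ze6 := D3.c6
abbrev ze7 := D3.c7
abbrev ze8 := D3.c8
abbrev ze9 := D3.c9
abbrev ze10 := D3.c10
abbrev ze11 := D3.c11
abbrev ze12 := D3.c12
abbrev ze13 := D3.c13
abbrev ze14 := D3.c14
abbrev ze15 := D3.c15
abbrev ze16 := D3.c16
abbrev ze17 := D3.c17
abbrev ze18 := D3.c18
abbrev ze19 := D3.c19
abbrev ze20 := D3.c20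
def f_e_0 : D2 → D3 → Pt := @D2.rec (fun _ => D3 → Pt) (@D3.rec (fun _ => Pt) (ke xe0 ye0 ze0) (ke xe0 ye0 ze1) (ke xe0 ye0 ze2) (ke xe0 ye0 ze3) (ke xe0 ye0 ze4) (ke xe0 ye0 ze10) (ke xe0 ye0 ze13) (ke xe0 ye0 ze7) (ke xe0 ye0 ze16) (ke xe0 ye0 ze20) (ke xe0 ye0 ze5) (ke xe0 ye1 ze1) (ke xe0 ye1 ze4) (ke xe0 ye0 ze6) (ke xe0 ye1 ze6) (ke xe0 ye1 ze9) (ke xe0 ye0 ze8) (ke xe0 ye1 ze11) (ke xe0 ye1 ze12) (ke xe0 ye1 ze16) (ke xe0 ye0 ze9)) (@D3.rec (fun _ => Pt) (ke xe0 ye1 ze18) (ke xe0 ye0 ze11) (ke xe0 ye1 ze20) (ke xe0 ye2 ze2) (ke xe0 ye0 ze12) (ke xe0 ye2 ze6) (ke xe0 ye0 ze14) (ke xe0 ye2 ze9) (ke xe0 ye2 ze12) (ke xe0 ye0 ze15) (ke xe0 ye2 ze16) (ke xe0 ye0 ze17) (ke xe0 ye0 ze18) (ke xe0 ye3 ze1) (ke xe0 ye2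 ze20) (ke xe0 ye3 ze3) (ke xe0 ye0 ze19) (ke xe0 ye3 ze5) (ke xe0 ye1 ze0) (ke xe0 ye1 ze19) (ke xe0 ye1 ze2)) (@D3.rec (fun _ => Pt) (ke xe0 ye3 ze10) (ke xe0 ye3 ze8) (ke xe0 ye1 ze3) (ke xe0 ye3 ze15) (ke xe0 ye3 ze16) (ke xe0 ye3 ze14) (ke xe0 ye1 ze5) (ke xe0 ye4 ze3) (ke xe0 ye2 ze8) (ke xe0 ye1 ze7) (ke xe0 ye4 ze9) (ke xe0 ye4 ze7) (ke xe0 ye1 ze8) (ke xe0 ye4 ze14) (ke xe0 ye4 ze15) (ke xe0 ye4 ze13) (ke xe0 ye1 ze10) (ke xe0 ye5 ze0) (ke xe0 ye2 ze18) (ke xe0 ye5 ze4) (ke xe0 ye1 ze14)) (@D3.rec (fun _ => Pt) (ke xe0 ye5 ze8) (ke xe0 ye1 ze13) (ke xe0 ye5 ze9) (ke xe0 ye1 ze15) (ke xe0 ye3 ze6) (ke xe0 ye1 ze17) (ke xe0 ye3 ze4) (ke xe0 ye5 ze14) (ke xe0 ye2 ze1) (ke xe0 ye5 ze18) (ke xe0 ye2 ze0) (ke xe0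 ye6 ze0) (ke xe0 ye6 ze1) (ke xe0 ye6 ze6) (ke xe0 ye2 ze5) (ke xe0 ye2 ze3) (ke xe0 ye2 ze4) (ke xe0 ye6 ze12) (ke xe0 ye3 ze19) (ke xe0 ye3 ze18) (ke xe0 ye6 ze8)) (@D3.rec (fun _ => Pt) (ke xe0 ye6 ze9) (ke xe0 ye4 ze4) (ke xe0 ye6 ze19) (ke xe0 ye2 ze7) (ke xe0 ye4 ze1) (ke xe0 ye4 ze5) (ke xe0 ye7 ze4) (ke xe0 ye2 ze11) (ke xe0 ye7 ze9) (ke xe0 ye2 ze10) (ke xe0 ye7 ze12) (ke xe0 ye7 ze13) (ke xe0 ye7 ze17) (ke xe0 ye2 ze15) (ke xe0 ye2 ze13) (ke xe0 ye2 ze14) (ke xe0 ye4 ze17) (ke xe0 ye4 ze16) (ke xe0 ye7 ze19) (ke xe0 ye7 ze20) (ke xe0 ye5 ze1)) (@D3.rec (fun _ => Pt) (ke xe0 ye2 ze17) (ke xe0 ye4 ze20) (ke xe0 ye5 ze2) (ke xe0 ye8 ze8) (ke xe0 ye2 ze19) (ke xe0 ye5 ze10) (ke xe0 ye8 ze11) (ke xe0 ye8 ze13)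 (ke xe0 ye3 ze0) (ke xe0 ye3 ze2) (ke xe0 ye5 ze5) (ke xe0 ye5 ze11) (ke xe0 ye5 ze12) (ke xe0 ye8 ze19) (ke xe0 ye3 ze7) (ke xe0 ye9 ze1) (ke xe0 ye9 ze2) (ke xe0 ye6 ze7) (ke xe0 ye3 ze9) (ke xe0 ye9 ze7) (ke xe0 ye9 ze8)) (@D3.rec (fun _ => Pt) (ke xe0 ye3 ze11) (ke xe0 ye3 ze12) (ke xe0 ye9 ze16) (ke xe0 ye6 ze4) (ke xe0 ye6 ze3) (ke xe0 ye9 ze20) (ke xe0 ye3 ze13) (ke xe0 ye5 ze17) (ke xe0 ye3 ze20) (ke xe0 ye4 ze0) (ke xe0 ye10 ze5) (ke xe0 ye6 ze11) (ke xe0 ye3 ze17) (ke xe0 ye7 ze0) (ke xe0 ye6 ze16) (ke xe0 ye10 ze9) (ke xe0 ye6 ze14) (ke xe0 ye6 ze20) (ke xe0 ye10 ze14) (ke xe0 ye4 ze2) (ke xe0 ye6 ze17)) (@D3.rec (fun _ => Pt) (ke xe0 ye6 ze13) (ke xe0 ye7 ze1) (ke xe0 ye10 ze19) (ke xe0 ye11 ze0) (ke xe0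 ye4 ze6) (ke xe0 ye11 ze4) (ke xe0 ye11 ze5) (ke xe0 ye7 ze18) (ke xe0 ye11 ze10) (ke xe0 ye4 ze8) (ke xe0 ye11 ze14) (ke xe0 ye11 ze15) (ke xe0 ye4 ze10) (ke xe0 ye4 ze11) (ke xe0 ye7 ze15) (ke xe0 ye7 ze14) (ke xe0 ye12 ze3) (ke xe0 ye4 ze12) (ke xe0 ye7 ze7) (ke xe0 ye4 ze18) (ke xe0 ye4 ze19)) (@D3.rec (fun _ => Pt) (ke xe0 ye10 ze15) (ke xe0 ye8 ze1) (ke xe0 ye8 ze4) (ke xe0 ye12 ze7) (ke xe0 ye8 ze2) (ke xe0 ye12 ze10) (ke xe0 ye8 ze9) (ke xe0 ye12 ze14) (ke xe0 ye5 ze3) (ke xe0 ye8 ze6) (ke xe0 ye12 ze20) (ke xe0 ye5 ze6) (ke xe0 ye13 ze5) (ke xe0 ye5 ze7) (ke xe0 ye13 ze9) (ke xe0 ye13 ze10) (ke xe0 ye13 ze8) (ke xe0 ye8 ze17) (ke xe0 ye8 ze18) (ke xe0 ye5 ze13) (ke xe0 ye13 ze18)) (@D3.rec (fun _ => Pt) (ke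 xe0 ye13 ze19) (ke xe0 ye5 ze15) (ke xe0 ye5 ze16) (ke xe0 ye10 ze1) (ke xe0 ye9 ze5) (ke xe0 ye9 ze4) (ke xe0 ye10 ze0) (ke xe0 ye5 ze19) (ke xe0 ye5 ze20) (ke xe1 ye0 ze12) (ke xe0 ye9 ze12) (ke xe1 ye0 ze16) (ke xe0 ye9 ze10) (ke xe1 ye0 ze20) (ke xe0 ye9 ze14) (ke xe1 ye1 ze3) (ke xe0 ye6 ze2) (ke xe1 ye0 ze6) (ke xe1 ye1 ze8) (ke xe1 ye1 ze10) (ke xe0 ye6 ze5)) (@D3.rec (fun _ => Pt) (ke xe0 ye9 ze6) (ke xe0 ye9 ze3) (ke xe0 ye10 ze16) (ke xe0 ye10 ze3) (ke xe1 ye1 ze20) (ke xe0 ye6 ze10) (ke xe1 ye2 ze0) (ke xe0 ye10 ze7) (ke xe0 ye10 ze20) (ke xe0 ye6 ze15) (ke xe0 ye10 ze18) (ke xe0 ye10 ze13) (ke xe0 ye12 ze5) (ke xe0 ye10 ze11) (ke xe0 ye6 ze18) (ke xe0 ye8 ze0) (ke xe0 ye10 ze2) (ke xe1 ye2 ze9) (ke xe0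 ye10 ze10) (ke xe0 ye7 ze2) (ke xe0 ye10 ze8)) (@D3.rec (fun _ => Pt) (ke xe0 ye7 ze3) (ke xe1 ye2 ze15) (ke xe1 ye2 ze13) (ke xe1 ye2 ze14) (ke xe0 ye7 ze5) (ke xe0 ye7 ze6) (ke xe0 ye11 ze7) (ke xe0 ye11 ze6) (ke xe0 ye12 ze4) (ke xe1 ye3 ze5) (ke xe0 ye7 ze8) (ke xe1 ye3 ze9) (ke xe1 ye3 ze10) (ke xe1 ye3 ze8) (ke xe0 ye7 ze10) (ke xe0 ye7 ze11) (ke xe1 ye4 ze0) (ke xe0 ye11 ze19) (ke xe1 ye4 ze2) (ke xe0 ye11 ze17) (ke xe1 ye2 ze6)) (@D3.rec (fun _ => Pt) (ke xe0 ye12 ze0) (ke xe1 ye3 ze2) (ke xe1 ye4 ze6) (ke xe0 ye7 ze16) (ke xe0 ye11 ze8) (ke xe0 ye10 ze12) (ke xe0 ye12 ze11) (ke xe0 ye8 ze3) (ke xe0 ye12 ze9) (ke xe0 ye12 ze8) (ke xe0 ye8 ze5) (ke xe0 ye12 ze6) (ke xe1 ye4 ze14) (ke xe1 ye4 ze18) (ke xe0 ye8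 ze7) (ke xe1 ye5 ze1) (ke xe1 ye5 ze2) (ke xe1 ye5 ze0) (ke xe1 ye5 ze10) (ke xe1 ye5 ze14) (ke xe0 ye8 ze10)) (@D3.rec (fun _ => Pt) (ke xe1 ye5 ze18) (ke xe1 ye5 ze19) (ke xe1 ye5 ze17) (ke xe1 ye6 ze6) (ke xe1 ye6 ze9) (ke xe0 ye8 ze12) (ke xe1 ye6 ze13) (ke xe1 ye6 ze14) (ke xe0 ye8 ze16) (ke xe0 ye8 ze14) (ke xe0 ye8 ze15) (ke xe0 ye13 ze12) (ke xe0 ye13 ze11) (ke xe1 ye6 ze19) (ke xe1 ye6 ze20) (ke xe1 ye7 ze0) (ke xe0 ye13 ze16) (ke xe0 ye13 ze17) (ke xe0 ye8 ze20) (ke xe0 ye9 ze0) (ke xe1 ye7 ze16))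
def f_e_1 : D2 → D3 → Pt := @D2.rec (fun _ => D3 → Pt) (@D3.rec (fun _ => Pt) (ke xe1 ye0 ze2) (ke xe1 ye7 ze20) (ke xe1 ye0 ze0) (ke xe1 ye1 ze16) (ke xe1 ye0 ze4) (ke xe1 ye1 ze15) (ke xe0 ye9 ze17) (ke xe1 ye1 ze6) (ke xe1 ye8 ze9) (ke xe1 ye8 ze13) (ke xe1 ye8 ze16) (ke xe1 ye8 ze20) (ke xe0 ye9 ze9) (ke xe1 ye9 ze1) (ke xe1 ye9 ze5) (ke xe1 ye9 ze9) (ke xe0 ye9 ze11) (ke xe1 ye9 ze11) (ke xe1 ye9 ze15) (ke xe1 ye9 ze19) (ke xe0 ye9 ze13)) (@D3.rec (fun _ => Pt) (ke xe1 ye10 ze0) (ke xe1 ye1 ze1) (ke xe1 ye10 ze5) (ke xe0 ye9 ze15) (ke xe1 ye8 ze6) (ke xe1 ye2 ze11) (ke xe1 ye0 ze7) (ke xe1 ye10 ze14) (ke xe0 ye9 ze18) (ke xe1 ye10 ze19) (ke xe0 ye9 ze19) (ke xe1 ye11 ze2) (ke xe1 ye11 ze3) (ke xe1 ye11 ze1) (ke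 xe1 ye11 ze11) (ke xe1 ye0 ze5) (ke xe1 ye0 ze3) (ke xe1 ye2 ze7) (ke xe1 ye2 ze1) (ke xe1 ye11 ze17) (ke xe0 ye10 ze4)) (@D3.rec (fun _ => Pt) (ke xe0 ye10 ze6) (ke xe1 ye1 ze18) (ke xe1 ye2 ze2) (ke xe1 ye2 ze10) (ke xe1 ye2 ze4) (ke xe1 ye3 ze1) (ke xe0 ye11 ze20) (ke xe1 ye1 ze17) (ke xe1 ye12 ze3) (ke xe0 ye10 ze17) (ke xe1 ye2 ze3) (ke xe1 ye1 ze5) (ke xe1 ye12 ze6) (ke xe0 ye11 ze2) (ke xe0 ye11 ze3) (ke xe0 ye11 ze1) (ke xe1 ye12 ze11) (ke xe1 ye12 ze12) (ke xe1 ye12 ze18) (ke xe1 ye3 ze0) (ke xe1 ye12 ze20)) (@D3.rec (fun _ => Pt) (ke xe1 ye2 ze19) (ke xe1 ye2 ze5) (ke xe0 ye12 ze1) (ke xe1 ye13 ze1) (ke xe1 ye13 ze5) (ke xe0 ye11 ze9) (ke xe1 ye13 ze9) (ke xe1 ye13 ze10) (ke xe0 ye11 ze13) (ke xe0 ye11 ze11)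 (ke xe0 ye11 ze12) (ke xe2 ye0 ze0) (ke xe1 ye3 ze14) (ke xe2 ye0 ze4) (ke xe1 ye3 ze12) (ke xe1 ye13 ze15) (ke xe1 ye13 ze16) (ke xe1 ye13 ze17) (ke xe2 ye0 ze16) (ke xe2 ye0 ze18) (ke xe2 ye1 ze0)) (@D3.rec (fun _ => Pt) (ke xe0 ye11 ze16) (ke xe2 ye1 ze3) (ke xe0 ye11 ze18) (ke xe1 ye12 ze1) (ke xe1 ye4 ze4) (ke xe1 ye4 ze12) (ke xe0 ye12 ze2) (ke xe2 ye1 ze6) (ke xe2 ye1 ze7) (ke xe2 ye1 ze5) (ke xe2 ye1 ze11) (ke xe1 ye4 ze11) (ke xe1 ye4 ze5) (ke xe2 ye1 ze16) (ke xe0 ye12 ze12) (ke xe2 ye1 ze18) (ke xe2 ye1 ze19) (ke xe2 ye2 ze1) (ke xe0 ye12 ze13) (ke xe2 ye2 ze4) (ke xe2 ye2 ze5)) (@D3.rec (fun _ => Pt) (ke xe0 ye12 ze17) (ke xe0 ye12 ze15) (ke xe0 ye12 ze16) (ke xe1 ye5 ze5) (ke xe2 ye2 ze16) (ke xe1 ye5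 ze3) (ke xe2 ye2 ze9) (ke xe2 ye2 ze10) (ke xe2 ye2 ze11) (ke xe2 ye3 ze6) (ke xe0 ye12 ze18) (ke xe2 ye3 ze8) (ke xe2 ye3 ze12) (ke xe2 ye3 ze14) (ke xe0 ye12 ze19) (ke xe2 ye3 ze17) (ke xe2 ye3 ze18) (ke xe0 ye13 ze2) (ke xe0 ye13 ze0) (ke xe0 ye13 ze1) (ke xe1 ye6 ze0)) (@D3.rec (fun _ => Pt) (ke xe1 ye5 ze20) (ke xe2 ye4 ze0) (ke xe2 ye4 ze1) (ke xe2 ye4 ze2) (ke xe1 ye7 ze5) (ke xe2 ye4 ze17) (ke xe0 ye13 ze3) (ke xe2 ye5 ze0) (ke xe2 ye5 ze1) (ke xe0 ye13 ze4) (ke xe2 ye5 ze6) (ke xe2 ye5 ze7) (ke xe2 ye5 ze5) (ke xe0 ye13 ze6) (ke xe0 ye13 ze7) (ke xe2 ye5 ze15) (ke xe1 ye6 ze18) (ke xe2 ye2 ze8) (ke xe1 ye6 ze16) (ke xe0 ye13 ze13) (ke xe0 ye13 ze14)) (@D3.rec (fun _ => Pt) (ke xe0 ye13 ze15) (ke xe2 ye2 ze12)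 (ke xe2 ye4 ze4) (ke xe2 ye6 ze9) (ke xe2 ye6 ze12) (ke xe1 ye6 ze4) (ke xe2 ye6 ze16) (ke xe2 ye6 ze1) (ke xe2 ye6 ze2) (ke xe1 ye7 ze10) (ke xe1 ye7 ze9) (ke xe2 ye7 ze1) (ke xe2 ye7 ze2) (ke xe2 ye7 ze7) (ke xe2 ye7 ze10) (ke xe2 ye7 ze14) (ke xe0 ye13 ze20) (ke xe2 ye7 ze16) (ke xe2 ye7 ze20) (ke xe2 ye8 ze2) (ke xe1 ye0 ze1)) (@D3.rec (fun _ => Pt) (ke xe2 ye8 ze3) (ke xe2 ye8 ze7) (ke xe1 ye11 ze14) (ke xe1 ye10 ze1) (ke xe1 ye8 ze4) (ke xe2 ye8 ze14) (ke xe1 ye1 ze4) (ke xe2 ye8 ze18) (ke xe2 ye9 ze0) (ke xe1 ye0 ze8) (ke xe2 ye9 ze3) (ke xe2 ye9 ze4) (ke xe2 ye9 ze8) (ke xe1 ye0 ze9) (ke xe1 ye9 ze3) (ke xe2 ye9 ze12) (ke xe1 ye0 ze10) (ke xe1 ye9 ze13) (ke xe2 ye9 ze16) (ke xe2 ye9 ze19) (ke xe1 ye0 ze11))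 (@D3.rec (fun _ => Pt) (ke xe2 ye10 ze2) (ke xe1 ye0 ze13) (ke xe2 ye10 ze6) (ke xe1 ye8 ze14) (ke xe2 ye10 ze11) (ke xe1 ye0 ze14) (ke xe2 ye10 ze13) (ke xe2 ye10 ze17) (ke xe2 ye10 ze18) (ke xe1 ye0 ze15) (ke xe2 ye11 ze1) (ke xe1 ye0 ze17) (ke xe2 ye11 ze5) (ke xe1 ye8 ze17) (ke xe2 ye11 ze9) (ke xe1 ye0 ze18) (ke xe2 ye11 ze10) (ke xe2 ye11 ze13) (ke xe2 ye11 ze15) (ke xe1 ye0 ze19) (ke xe2 ye11 ze19)) (@D3.rec (fun _ => Pt) (ke xe1 ye1 ze0) (ke xe1 ye8 ze3) (ke xe1 ye10 ze2) (ke xe2 ye12 ze3) (ke xe2 ye11 ze6) (ke xe1 ye1 ze2) (ke xe2 ye12 ze8) (ke xe2 ye11 ze4) (ke xe2 ye12 ze7) (ke xe1 ye12 ze4) (ke xe2 ye12 ze14) (ke xe1 ye12 ze2) (ke xe2 ye12 ze16) (ke xe2 ye1 ze20) (ke xe1 ye1 ze7) (ke xe2 ye12 ze19) (ke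 xe2 ye1 ze17) (ke xe2 ye3 ze20) (ke xe2 ye2 ze7) (ke xe1 ye1 ze9) (ke xe2 ye13 ze0)) (@D3.rec (fun _ => Pt) (ke xe2 ye2 ze2) (ke xe1 ye1 ze13) (ke xe1 ye1 ze11) (ke xe1 ye1 ze12) (ke xe1 ye11 ze6) (ke xe2 ye13 ze7) (ke xe1 ye11 ze4) (ke xe2 ye5 ze4) (ke xe2 ye3 ze13) (ke xe2 ye13 ze3) (ke xe2 ye13 ze11) (ke xe1 ye1 ze14) (ke xe2 ye13 ze12) (ke xe2 ye13 ze14) (ke xe1 ye8 ze2) (ke xe1 ye11 ze16) (ke xe1 ye11 ze15) (ke xe1 ye1 ze19) (ke xe1 ye11 ze18) (ke xe1 ye11 ze19) (ke xe1 ye11 ze20)) (@D3.rec (fun _ => Pt) (ke xe1 ye13 ze0) (ke xe1 ye4 ze3) (ke xe1 ye10 ze11) (ke xe1 ye2 ze8) (ke xe1 ye10 ze9) (ke xe2 ye6 ze0) (ke xe1 ye2 ze12) (ke xe3 ye0 ze1) (ke xe3 ye0 ze2) (ke xe3 ye0 ze8) (ke xe3 ye0 ze10) (ke xe1 ye2 ze16)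 (ke xe1 ye2 ze17) (ke xe3 ye0 ze14) (ke xe1 ye12 ze16) (ke xe3 ye0 ze18) (ke xe1 ye12 ze14) (ke xe3 ye1 ze2) (ke xe1 ye2 ze18) (ke xe3 ye1 ze5) (ke xe1 ye2 ze20)) (@D3.rec (fun _ => Pt) (ke xe1 ye12 ze0) (ke xe1 ye3 ze3) (ke xe3 ye1 ze6) (ke xe3 ye1 ze7) (ke xe2 ye0 ze7) (ke xe1 ye3 ze4) (ke xe3 ye1 ze12) (ke xe3 ye1 ze13) (ke xe2 ye2 ze3) (ke xe1 ye3 ze6) (ke xe1 ye3 ze7) (ke xe3 ye1 ze19) (ke xe1 ye13 ze14) (ke xe2 ye5 ze10) (ke xe1 ye13 ze12) (ke xe1 ye3 ze15) (ke xe1 ye3 ze16) (ke xe1 ye3 ze17) (ke xe3 ye2 ze5) (ke xe3 ye2 ze8) (ke xe3 ye2 ze12))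
def f_e_2 : D2 → D3 → Pt := @D2.rec (fun _ => D3 → Pt) (@D3.rec (fun _ => Pt) (ke xe1 ye3 ze11) (ke xe2 ye0 ze11) (ke xe3 ye2 ze16) (ke xe3 ye2 ze19) (ke xe1 ye3 ze13) (ke xe2 ye0 ze13) (ke xe3 ye3 ze2) (ke xe1 ye13 ze4) (ke xe2 ye2 ze20) (ke xe3 ye2 ze0) (ke xe3 ye2 ze1) (ke xe2 ye0 ze1) (ke xe2 ye0 ze14) (ke xe2 ye0 ze5) (ke xe2 ye0 ze12) (ke xe3 ye3 ze13) (ke xe1 ye3 ze18) (ke xe3 ye3 ze16) (ke xe1 ye3 ze19) (ke xe3 ye3 ze19) (ke xe3 ye4 ze0)) (@D3.rec (fun _ => Pt) (ke xe1 ye3 ze20) (ke xe3 ye4 ze6) (ke xe2 ye3 ze15) (ke xe1 ye4 ze1) (ke xe3 ye4 ze10) (ke xe1 ye4 ze9) (ke xe1 ye4 ze7) (ke xe1 ye4 ze8) (ke xe2 ye1 ze10) (ke xe3 ye4 ze18) (ke xe2 ye1 ze8) (ke xe1 ye4 ze10) (ke xe3 ye4 ze13) (ke xe3 ye4 ze14) (ke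 xe3 ye5 ze0) (ke xe3 ye5 ze5) (ke xe1 ye4 ze13) (ke xe1 ye10 ze16) (ke xe1 ye4 ze15) (ke xe1 ye4 ze16) (ke xe1 ye10 ze13)) (@D3.rec (fun _ => Pt) (ke xe2 ye2 ze19) (ke xe1 ye4 ze17) (ke xe1 ye11 ze0) (ke xe1 ye13 ze8) (ke xe1 ye4 ze19) (ke xe1 ye4 ze20) (ke xe3 ye5 ze17) (ke xe1 ye10 ze18) (ke xe1 ye6 ze17) (ke xe1 ye5 ze6) (ke xe1 ye5 ze7) (ke xe1 ye5 ze8) (ke xe1 ye7 ze1) (ke xe3 ye6 ze6) (ke xe3 ye6 ze8) (ke xe2 ye8 ze19) (ke xe1 ye5 ze4) (ke xe2 ye3 ze9) (ke xe3 ye6 ze13) (ke xe2 ye2 ze0) (ke xe2 ye0 ze8)) (@D3.rec (fun _ => Pt) (ke xe3 ye6 ze0) (ke xe3 ye6 ze1) (ke xe2 ye3 ze3) (ke xe2 ye3 ze2) (ke xe2 ye9 ze5) (ke xe3 ye7 ze0) (ke xe1 ye5 ze9) (ke xe3 ye7 ze2) (ke xe1 ye5 ze11) (ke xe2 ye2 ze17) (ke xe2 ye4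 ze7) (ke xe3 ye7 ze7) (ke xe1 ye5 ze12) (ke xe1 ye11 ze8) (ke xe1 ye5 ze13) (ke xe2 ye1 ze2) (ke xe3 ye7 ze11) (ke xe1 ye5 ze15) (ke xe1 ye5 ze16) (ke xe3 ye7 ze18) (ke xe1 ye10 ze17)) (@D3.rec (fun _ => Pt) (ke xe1 ye6 ze1) (ke xe1 ye6 ze2) (ke xe1 ye6 ze3) (ke xe3 ye5 ze9) (ke xe1 ye7 ze2) (ke xe3 ye8 ze7) (ke xe3 ye8 ze10) (ke xe2 ye3 ze10) (ke xe3 ye8 ze13) (ke xe2 ye12 ze17) (ke xe3 ye8 ze0) (ke xe2 ye4 ze12) (ke xe2 ye4 ze11) (ke xe2 ye4 ze16) (ke xe2 ye6 ze14) (ke xe2 ye6 ze15) (ke xe2 ye4 ze13) (ke xe1 ye6 ze5) (ke xe3 ye9 ze3) (ke xe3 ye9 ze4) (ke xe3 ye9 ze2)) (@D3.rec (fun _ => Pt) (ke xe1 ye6 ze7) (ke xe1 ye6 ze8) (ke xe3 ye9 ze11) (ke xe2 ye13 ze1) (ke xe1 ye11 ze7) (ke xe1 ye6 ze12) (ke xe1 ye6 ze10)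 (ke xe1 ye6 ze11) (ke xe3 ye9 ze17) (ke xe2 ye5 ze11) (ke xe1 ye13 ze13) (ke xe2 ye5 ze9) (ke xe3 ye9 ze14) (ke xe3 ye10 ze0) (ke xe3 ye10 ze2) (ke xe1 ye6 ze15) (ke xe3 ye10 ze3) (ke xe3 ye10 ze5) (ke xe3 ye5 ze19) (ke xe3 ye5 ze20) (ke xe2 ye6 ze18)) (@D3.rec (fun _ => Pt) (ke xe1 ye12 ze5) (ke xe1 ye7 ze7) (ke xe1 ye7 ze8) (ke xe3 ye6 ze2) (ke xe3 ye8 ze2) (ke xe3 ye6 ze4) (ke xe3 ye6 ze5) (ke xe3 ye8 ze5) (ke xe3 ye8 ze6) (ke xe1 ye7 ze3) (ke xe3 ye10 ze16) (ke xe3 ye10 ze20) (ke xe1 ye7 ze4) (ke xe3 ye11 ze1) (ke xe2 ye4 ze14) (ke xe2 ye4 ze15) (ke xe1 ye7 ze6) (ke xe3 ye11 ze3) (ke xe2 ye5 ze20) (ke xe3 ye11 ze5) (ke xe3 ye11 ze7)) (@D3.rec (fun _ => Pt) (ke xe3 ye11 ze10) (ke xe1 ye7 ze11) (ke xe1 ye7 ze12)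 (ke xe3 ye11 ze12) (ke xe3 ye11 ze11) (ke xe3 ye11 ze13) (ke xe3 ye11 ze17) (ke xe1 ye7 ze13) (ke xe2 ye7 ze18) (ke xe3 ye11 ze20) (ke xe1 ye7 ze14) (ke xe2 ye8 ze5) (ke xe3 ye12 ze2) (ke xe3 ye12 ze4) (ke xe1 ye7 ze15) (ke xe3 ye12 ze8) (ke xe1 ye7 ze17) (ke xe3 ye12 ze12) (ke xe2 ye7 ze8) (ke xe3 ye12 ze16) (ke xe1 ye7 ze18)) (@D3.rec (fun _ => Pt) (ke xe3 ye12 ze17) (ke xe2 ye10 ze20) (ke xe1 ye7 ze19) (ke xe1 ye8 ze0) (ke xe3 ye13 ze0) (ke xe2 ye7 ze11) (ke xe3 ye13 ze4) (ke xe1 ye8 ze1) (ke xe3 ye13 ze5) (ke xe2 ye11 ze11) (ke xe3 ye13 ze8) (ke xe2 ye12 ze0) (ke xe3 ye13 ze13) (ke xe3 ye13 ze1) (ke xe1 ye8 ze5) (ke xe3 ye13 ze16) (ke xe3 ye12 ze20) (ke xe3 ye13 ze18) (ke xe1 ye8 ze7) (ke xe2 ye2 ze15) (ke xe3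 ye6 ze17)) (@D3.rec (fun _ => Pt) (ke xe1 ye8 ze8) (ke xe3 ye6 ze15) (ke xe3 ye5 ze12) (ke xe1 ye8 ze10) (ke xe1 ye8 ze11) (ke xe2 ye3 ze4) (ke xe2 ye9 ze14) (ke xe4 ye0 ze8) (ke xe1 ye8 ze12) (ke xe2 ye10 ze3) (ke xe2 ye10 ze15) (ke xe4 ye0 ze14) (ke xe1 ye8 ze15) (ke xe2 ye11 ze2) (ke xe2 ye9 ze6) (ke xe4 ye0 ze20) (ke xe1 ye8 ze18) (ke xe4 ye1 ze2) (ke xe4 ye1 ze4) (ke xe1 ye8 ze19) (ke xe4 ye1 ze7)) (@D3.rec (fun _ => Pt) (ke xe4 ye1 ze8) (ke xe4 ye1 ze6) (ke xe1 ye9 ze0) (ke xe2 ye9 ze9) (ke xe4 ye1 ze15) (ke xe2 ye13 ze13) (ke xe1 ye9 ze2) (ke xe2 ye10 ze14) (ke xe4 ye1 ze19) (ke xe3 ye1 ze8) (ke xe4 ye1 ze20) (ke xe1 ye9 ze4) (ke xe4 ye2 ze0) (ke xe1 ye9 ze6) (ke xe2 ye10 ze7) (ke xe2 ye9 ze10) (ke xe4 ye2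 ze3) (ke xe1 ye9 ze7) (ke xe1 ye9 ze8) (ke xe4 ye2 ze7) (ke xe2 ye8 ze1)) (@D3.rec (fun _ => Pt) (ke xe4 ye2 ze6) (ke xe1 ye9 ze10) (ke xe2 ye9 ze13) (ke xe4 ye2 ze13) (ke xe1 ye10 ze7) (ke xe1 ye9 ze12) (ke xe1 ye10 ze4) (ke xe4 ye2 ze1) (ke xe4 ye2 ze18) (ke xe1 ye9 ze14) (ke xe1 ye9 ze16) (ke xe2 ye8 ze9) (ke xe4 ye3 ze1) (ke xe1 ye9 ze17) (ke xe4 ye3 ze6) (ke xe1 ye9 ze18) (ke xe4 ye3 ze10) (ke xe4 ye3 ze11) (ke xe4 ye3 ze9) (ke xe1 ye9 ze20) (ke xe3 ye1 ze15)) (@D3.rec (fun _ => Pt) (ke xe2 ye8 ze11) (ke xe4 ye3 ze18) (ke xe4 ye4 ze2) (ke xe1 ye10 ze3) (ke xe4 ye4 ze5) (ke xe4 ye4 ze6) (ke xe4 ye4 ze9) (ke xe1 ye10 ze8) (ke xe1 ye10 ze6) (ke xe3 ye12 ze13) (ke xe3 ye12 ze11) (ke xe4 ye4 ze11) (ke xe4 ye4 ze15)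 (ke xe4 ye4 ze18) (ke xe1 ye10 ze10) (ke xe4 ye4 ze19) (ke xe1 ye10 ze12) (ke xe2 ye4 ze9) (ke xe4 ye5 ze0) (ke xe1 ye10 ze15) (ke xe3 ye13 ze20)) (@D3.rec (fun _ => Pt) (ke xe1 ye10 ze20) (ke xe2 ye5 ze3) (ke xe4 ye5 ze3) (ke xe1 ye11 ze9) (ke xe4 ye4 ze12) (ke xe4 ye5 ze9) (ke xe4 ye5 ze12) (ke xe1 ye11 ze5) (ke xe4 ye5 ze15) (ke xe2 ye13 ze10) (ke xe2 ye13 ze9) (ke xe1 ye11 ze10) (ke xe1 ye11 ze12) (ke xe2 ye10 ze5) (ke xe1 ye11 ze13) (ke xe4 ye5 ze20) (ke xe2 ye13 ze16) (ke xe3 ye3 ze6) (ke xe3 ye1 ze20) (ke xe4 ye6 ze2) (ke xe3 ye10 ze8))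
def f_e_3 : D2 → D3 → Pt := @D2.rec (fun _ => D3 → Pt) (@D3.rec (fun _ => Pt) (ke xe3 ye10 ze9) (ke xe1 ye12 ze7) (ke xe1 ye12 ze8) (ke xe3 ye0 ze15) (ke xe3 ye0 ze6) (ke xe3 ye0 ze19) (ke xe3 ye0 ze4) (ke xe4 ye6 ze11) (ke xe1 ye12 ze9) (ke xe4 ye6 ze14) (ke xe1 ye12 ze10) (ke xe4 ye6 ze16) (ke xe4 ye6 ze19) (ke xe4 ye7 ze2) (ke xe1 ye12 ze13) (ke xe3 ye0 ze3) (ke xe4 ye7 ze5) (ke xe4 ye7 ze8) (ke xe1 ye12 ze15) (ke xe3 ye0 ze5) (ke xe4 ye7 ze12)) (@D3.rec (fun _ => Pt) (ke xe4 ye7 ze15) (ke xe4 ye7 ze16) (ke xe1 ye12 ze17) (ke xe4 ye8 ze1) (ke xe3 ye4 ze7) (ke xe1 ye12 ze19) (ke xe1 ye13 ze2) (ke xe1 ye13 ze3) (ke xe2 ye10 ze9) (ke xe3 ye3 ze3) (ke xe3 ye3 ze4) (ke xe3 ye5 ze13) (ke xe1 ye13 ze6) (ke xe1 ye13 ze7)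 (ke xe3 ye9 ze7) (ke xe2 ye11 ze20) (ke xe3 ye5 ze15) (ke xe4 ye8 ze12) (ke xe4 ye8 ze14) (ke xe1 ye13 ze11) (ke xe2 ye13 ze18)) (@D3.rec (fun _ => Pt) (ke xe2 ye0 ze9) (ke xe2 ye0 ze10) (ke xe3 ye2 ze14) (ke xe3 ye3 ze0) (ke xe4 ye8 ze20) (ke xe1 ye13 ze18) (ke xe3 ye3 ze8) (ke xe3 ye8 ze8) (ke xe1 ye13 ze19) (ke xe3 ye3 ze10) (ke xe4 ye9 ze2) (ke xe4 ye9 ze4) (ke xe1 ye13 ze20) (ke xe3 ye3 ze7) (ke xe3 ye2 ze2) (ke xe4 ye9 ze9) (ke xe2 ye0 ze2) (ke xe3 ye12 ze15) (ke xe3 ye7 ze15) (ke xe2 ye0 ze3) (ke xe3 ye3 ze9)) (@D3.rec (fun _ => Pt) (ke xe3 ye2 ze3) (ke xe3 ye5 ze11) (ke xe2 ye0 ze6) (ke xe3 ye1 ze9) (ke xe3 ye1 ze10) (ke xe4 ye9 ze15) (ke xe2 ye13 ze17) (ke xe3 ye2 ze13) (ke xe3 ye2 ze6) (ke xe3 ye2 ze20)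 (ke xe3 ye2 ze9) (ke xe3 ye3 ze17) (ke xe4 ye9 ze19) (ke xe2 ye0 ze15) (ke xe3 ye4 ze4) (ke xe4 ye10 ze3) (ke xe2 ye0 ze17) (ke xe3 ye3 ze11) (ke xe4 ye10 ze8) (ke xe2 ye0 ze19) (ke xe4 ye10 ze11)) (@D3.rec (fun _ => Pt) (ke xe2 ye0 ze20) (ke xe3 ye10 ze19) (ke xe4 ye10 ze14) (ke xe4 ye10 ze13) (ke xe3 ye3 ze14) (ke xe3 ye7 ze8) (ke xe2 ye1 ze1) (ke xe3 ye1 ze4) (ke xe3 ye7 ze12) (ke xe4 ye11 ze4) (ke xe2 ye1 ze4) (ke xe4 ye11 ze6) (ke xe4 ye11 ze7) (ke xe2 ye1 ze12) (ke xe2 ye1 ze13) (ke xe3 ye7 ze19) (ke xe4 ye11 ze12) (ke xe4 ye11 ze13) (ke xe2 ye1 ze9) (ke xe3 ye5 ze3) (ke xe4 ye7 ze9)) (@D3.rec (fun _ => Pt) (ke xe2 ye1 ze14) (ke xe3 ye5 ze2) (ke xe3 ye5 ze1) (ke xe3 ye4 ze19) (ke xe4 ye3 ze2) (ke xe2 ye1 ze15)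 (ke xe4 ye3 ze0) (ke xe4 ye11 ze16) (ke xe3 ye8 ze15) (ke xe2 ye4 ze3) (ke xe3 ye6 ze3) (ke xe3 ye3 ze1) (ke xe2 ye9 ze2) (ke xe3 ye1 ze11) (ke xe4 ye3 ze12) (ke xe3 ye1 ze16) (ke xe4 ye12 ze3) (ke xe2 ye2 ze6) (ke xe4 ye12 ze4) (ke xe2 ye5 ze18) (ke xe2 ye5 ze19)) (@D3.rec (fun _ => Pt) (ke xe2 ye3 ze0) (ke xe2 ye3 ze1) (ke xe2 ye6 ze3) (ke xe3 ye5 ze10) (ke xe2 ye6 ze5) (ke xe2 ye6 ze6) (ke xe2 ye2 ze13) (ke xe4 ye12 ze7) (ke xe2 ye2 ze14) (ke xe3 ye10 ze17) (ke xe4 ye11 ze14) (ke xe4 ye12 ze11) (ke xe4 ye12 ze15) (ke xe2 ye2 ze18) (ke xe4 ye12 ze17) (ke xe2 ye9 ze1) (ke xe4 ye12 ze19) (ke xe2 ye8 ze20) (ke xe3 ye11 ze4) (ke xe4 ye13 ze0) (ke xe4 ye13 ze2)) (@D3.rec (fun _ => Pt) (ke xe2 ye3 ze5) (ke xe4 ye13 ze3)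 (ke xe2 ye3 ze7) (ke xe3 ye8 ze1) (ke xe4 ye13 ze8) (ke xe4 ye13 ze11) (ke xe4 ye13 ze14) (ke xe2 ye3 ze11) (ke xe3 ye4 ze5) (ke xe4 ye13 ze16) (ke xe5 ye0 ze1) (ke xe2 ye3 ze16) (ke xe3 ye4 ze8) (ke xe5 ye0 ze2) (ke xe5 ye0 ze3) (ke xe3 ye2 ze18) (ke xe4 ye13 ze6) (ke xe5 ye0 ze9) (ke xe2 ye3 ze19) (ke xe3 ye4 ze15) (ke xe5 ye0 ze11)) (@D3.rec (fun _ => Pt) (ke xe2 ye4 ze10) (ke xe3 ye7 ze3) (ke xe2 ye6 ze4) (ke xe4 ye11 ze19) (ke xe4 ye11 ze20) (ke xe2 ye6 ze7) (ke xe2 ye6 ze8) (ke xe2 ye4 ze5) (ke xe3 ye2 ze7) (ke xe4 ye10 ze0) (ke xe2 ye4 ze6) (ke xe3 ye11 ze2) (ke xe5 ye1 ze0) (ke xe2 ye4 ze8) (ke xe5 ye1 ze2) (ke xe3 ye5 ze8) (ke xe4 ye7 ze11) (ke xe3 ye9 ze0) (ke xe3 ye9 ze1) (ke xe5 ye1 ze7) (ke xe4 ye0 ze0))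 (@D3.rec (fun _ => Pt) (ke xe3 ye8 ze17) (ke xe3 ye8 ze18) (ke xe2 ye4 ze20) (ke xe2 ye4 ze18) (ke xe2 ye4 ze19) (ke xe5 ye1 ze12) (ke xe3 ye9 ze8) (ke xe3 ye1 ze14) (ke xe3 ye9 ze6) (ke xe4 ye2 ze8) (ke xe5 ye1 ze16) (ke xe2 ye5 ze2) (ke xe4 ye6 ze0) (ke xe4 ye5 ze2) (ke xe2 ye5 ze12) (ke xe5 ye2 ze1) (ke xe5 ye1 ze4) (ke xe2 ye5 ze8) (ke xe3 ye10 ze4) (ke xe4 ye2 ze4) (ke xe4 ye12 ze6)) (@D3.rec (fun _ => Pt) (ke xe2 ye5 ze13) (ke xe5 ye2 ze4) (ke xe2 ye5 ze14) (ke xe2 ye5 ze16) (ke xe3 ye9 ze18) (ke xe2 ye5 ze17) (ke xe4 ye12 ze5) (ke xe5 ye2 ze7) (ke xe2 ye13 ze20) (ke xe3 ye0 ze0) (ke xe5 ye2 ze10) (ke xe4 ye12 ze2) (ke xe3 ye10 ze15) (ke xe4 ye8 ze5) (ke xe5 ye0 ze16) (ke xe3 ye10 ze12) (ke xe2 ye6 ze10) (ke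 xe3 ye6 ze9) (ke xe5 ye2 ze15) (ke xe3 ye4 ze1) (ke xe2 ye6 ze11)) (@D3.rec (fun _ => Pt) (ke xe5 ye2 ze17) (ke xe2 ye6 ze13) (ke xe3 ye8 ze11) (ke xe2 ye6 ze17) (ke xe3 ye6 ze18) (ke xe2 ye6 ze19) (ke xe5 ye3 ze0) (ke xe2 ye6 ze20) (ke xe5 ye3 ze1) (ke xe5 ye3 ze3) (ke xe2 ye7 ze0) (ke xe2 ye7 ze4) (ke xe2 ye7 ze3) (ke xe2 ye7 ze5) (ke xe4 ye5 ze17) (ke xe3 ye12 ze0) (ke xe5 ye3 ze8) (ke xe2 ye7 ze6) (ke xe3 ye12 ze9) (ke xe4 ye2 ze11) (ke xe2 ye7 ze9)) (@D3.rec (fun _ => Pt) (ke xe3 ye11 ze15) (ke xe5 ye3 ze14) (ke xe2 ye7 ze12) (ke xe5 ye3 ze17) (ke xe2 ye7 ze13) (ke xe5 ye3 ze19) (ke xe5 ye3 ze20) (ke xe5 ye3 ze18) (ke xe2 ye7 ze15) (ke xe3 ye11 ze18) (ke xe5 ye4 ze5) (ke xe2 ye12 ze10) (ke xe2 ye7 ze17) (ke xe2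 ye12 ze9) (ke xe5 ye4 ze6) (ke xe3 ye2 ze17) (ke xe2 ye7 ze19) (ke xe2 ye8 ze0) (ke xe4 ye0 ze16) (ke xe5 ye4 ze9) (ke xe2 ye8 ze16)) (@D3.rec (fun _ => Pt) (ke xe2 ye8 ze4) (ke xe2 ye8 ze13) (ke xe5 ye4 ze7) (ke xe5 ye4 ze13) (ke xe2 ye8 ze6) (ke xe2 ye8 ze8) (ke xe5 ye2 ze5) (ke xe5 ye4 ze17) (ke xe2 ye8 ze10) (ke xe5 ye4 ze20) (ke xe5 ye5 ze0) (ke xe4 ye8 ze6) (ke xe5 ye5 ze3) (ke xe2 ye8 ze12) (ke xe5 ye5 ze6) (ke xe5 ye5 ze7) (ke xe2 ye8 ze15) (ke xe5 ye5 ze12) (ke xe2 ye8 ze17) (ke xe4 ye4 ze20) (ke xe2 ye12 ze20))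
def f_e_4 : D2 → D3 → Pt := @D2.rec (fun _ => D3 → Pt) (@D3.rec (fun _ => Pt) (ke xe3 ye8 ze20) (ke xe5 ye5 ze15) (ke xe5 ye5 ze10) (ke xe4 ye5 ze5) (ke xe5 ye6 ze0) (ke xe5 ye6 ze3) (ke xe4 ye0 ze18) (ke xe5 ye6 ze7) (ke xe2 ye9 ze7) (ke xe5 ye6 ze9) (ke xe5 ye6 ze10) (ke xe4 ye1 ze14) (ke xe5 ye0 ze17) (ke xe5 ye6 ze17) (ke xe2 ye9 ze11) (ke xe5 ye6 ze20) (ke xe3 ye12 ze18) (ke xe4 ye0 ze19) (ke xe4 ye0 ze6) (ke xe4 ye0 ze17) (ke xe2 ye9 ze15)) (@D3.rec (fun _ => Pt) (ke xe5 ye7 ze4) (ke xe5 ye7 ze3) (ke xe2 ye9 ze17) (ke xe4 ye1 ze5) (ke xe2 ye9 ze18) (ke xe4 ye1 ze3) (ke xe2 ye10 ze1) (ke xe2 ye9 ze20) (ke xe2 ye10 ze0) (ke xe4 ye1 ze10) (ke xe4 ye1 ze9) (ke xe5 ye7 ze10) (ke xe5 ye7 ze11) (ke xe5 ye7 ze12) (ke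 xe4 ye0 ze11) (ke xe2 ye10 ze4) (ke xe4 ye5 ze18) (ke xe4 ye4 ze10) (ke xe5 ye4 ze0) (ke xe2 ye10 ze8) (ke xe2 ye10 ze10)) (@D3.rec (fun _ => Pt) (ke xe2 ye10 ze12) (ke xe2 ye11 ze7) (ke xe5 ye8 ze5) (ke xe2 ye10 ze16) (ke xe3 ye9 ze19) (ke xe5 ye8 ze6) (ke xe2 ye11 ze0) (ke xe2 ye10 ze19) (ke xe3 ye9 ze9) (ke xe5 ye8 ze8) (ke xe5 ye8 ze9) (ke xe3 ye11 ze19) (ke xe5 ye8 ze15) (ke xe2 ye11 ze3) (ke xe5 ye4 ze10) (ke xe5 ye8 ze3) (ke xe5 ye8 ze2) (ke xe5 ye9 ze1) (ke xe2 ye11 ze8) (ke xe5 ye9 ze4) (ke xe5 ye9 ze3)) (@D3.rec (fun _ => Pt) (ke xe3 ye5 ze6) (ke xe2 ye11 ze12) (ke xe3 ye5 ze4) (ke xe5 ye9 ze6) (ke xe5 ye9 ze9) (ke xe5 ye9 ze11) (ke xe2 ye11 ze14) (ke xe5 ye9 ze15) (ke xe5 ye9 ze16) (ke xe2 ye11 ze18) (ke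 xe2 ye11 ze16) (ke xe2 ye11 ze17) (ke xe3 ye5 ze14) (ke xe5 ye9 ze19) (ke xe5 ye1 ze8) (ke xe5 ye9 ze20) (ke xe4 ye8 ze9) (ke xe5 ye10 ze4) (ke xe2 ye12 ze1) (ke xe5 ye10 ze7) (ke xe5 ye10 ze8)) (@D3.rec (fun _ => Pt) (ke xe5 ye10 ze11) (ke xe5 ye8 ze11) (ke xe2 ye12 ze2) (ke xe5 ye6 ze12) (ke xe5 ye7 ze19) (ke xe2 ye12 ze4) (ke xe2 ye12 ze5) (ke xe4 ye4 ze8) (ke xe4 ye4 ze7) (ke xe2 ye12 ze6) (ke xe4 ye1 ze17) (ke xe2 ye12 ze11) (ke xe2 ye13 ze4) (ke xe5 ye7 ze9) (ke xe5 ye11 ze1) (ke xe2 ye12 ze12) (ke xe5 ye11 ze3) (ke xe5 ye11 ze4) (ke xe2 ye12 ze13) (ke xe2 ye12 ze15) (ke xe3 ye13 ze19)) (@D3.rec (fun _ => Pt) (ke xe2 ye12 ze18) (ke xe5 ye2 ze8) (ke xe3 ye9 ze13) (ke xe2 ye13 ze2) (ke xe5 ye2 ze12) (ke xe4 ye0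 ze3) (ke xe5 ye10 ze19) (ke xe5 ye10 ze20) (ke xe5 ye11 ze15) (ke xe2 ye13 ze5) (ke xe5 ye11 ze17) (ke xe5 ye9 ze10) (ke xe2 ye13 ze6) (ke xe5 ye9 ze5) (ke xe5 ye11 ze18) (ke xe2 ye13 ze8) (ke xe5 ye12 ze0) (ke xe3 ye11 ze14) (ke xe4 ye1 ze16) (ke xe5 ye12 ze4) (ke xe2 ye13 ze15)) (@D3.rec (fun _ => Pt) (ke xe3 ye9 ze12) (ke xe4 ye6 ze3) (ke xe2 ye13 ze19) (ke xe4 ye6 ze1) (ke xe5 ye12 ze8) (ke xe4 ye7 ze4) (ke xe4 ye7 ze10) (ke xe4 ye7 ze3) (ke xe4 ye6 ze17) (ke xe4 ye6 ze20) (ke xe4 ye7 ze13) (ke xe3 ye0 ze7) (ke xe4 ye7 ze20) (ke xe4 ye11 ze1) (ke xe3 ye0 ze9) (ke xe5 ye12 ze14) (ke xe3 ye0 ze11) (ke xe4 ye6 ze8) (ke xe4 ye13 ze9) (ke xe3 ye0 ze12) (ke xe4 ye6 ze9)) (@D3.rec (fun _ => Pt) (ke xe5 ye12 ze17) (ke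 xe5 ye12 ze18) (ke xe3 ye0 ze13) (ke xe4 ye6 ze7) (ke xe4 ye6 ze5) (ke xe3 ye0 ze16) (ke xe5 ye4 ze15) (ke xe4 ye11 ze15) (ke xe3 ye0 ze17) (ke xe3 ye4 ze20) (ke xe4 ye6 ze6) (ke xe3 ye8 ze16) (ke xe3 ye0 ze20) (ke xe4 ye6 ze10) (ke xe5 ye13 ze2) (ke xe3 ye1 ze0) (ke xe3 ye1 ze1) (ke xe4 ye12 ze14) (ke xe5 ye13 ze6) (ke xe4 ye9 ze17) (ke xe4 ye6 ze12)) (@D3.rec (fun _ => Pt) (ke xe4 ye10 ze19) (ke xe3 ye1 ze3) (ke xe4 ye10 ze4) (ke xe4 ye12 ze9) (ke xe4 ye11 ze9) (ke xe3 ye10 ze13) (ke xe3 ye13 ze11) (ke xe5 ye8 ze13) (ke xe5 ye1 ze13) (ke xe4 ye3 ze16) (ke xe5 ye2 ze13) (ke xe5 ye13 ze17) (ke xe3 ye1 ze17) (ke xe5 ye13 ze19) (ke xe3 ye1 ze18) (ke xe5 ye13 ze20) (ke xe4 ye9 ze7) (ke xe4 ye9 ze13) (ke xe6 ye0 ze3)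 (ke xe6 ye0 ze4) (ke xe3 ye2 ze4)) (@D3.rec (fun _ => Pt) (ke xe4 ye9 ze16) (ke xe6 ye0 ze5) (ke xe3 ye2 ze10) (ke xe4 ye11 ze8) (ke xe3 ye2 ze11) (ke xe4 ye11 ze5) (ke xe6 ye0 ze10) (ke xe4 ye8 ze16) (ke xe6 ye0 ze11) (ke xe3 ye2 ze15) (ke xe4 ye13 ze20) (ke xe5 ye0 ze5) (ke xe5 ye0 ze7) (ke xe4 ye8 ze17) (ke xe6 ye0 ze14) (ke xe3 ye3 ze5) (ke xe4 ye9 ze0) (ke xe4 ye7 ze19) (ke xe6 ye0 ze17) (ke xe3 ye3 ze12) (ke xe5 ye12 ze9)) (@D3.rec (fun _ => Pt) (ke xe3 ye8 ze9) (ke xe5 ye12 ze2) (ke xe6 ye1 ze0) (ke xe3 ye3 ze15) (ke xe4 ye8 ze2) (ke xe5 ye0 ze12) (ke xe5 ye0 ze18) (ke xe5 ye2 ze14) (ke xe3 ye3 ze18) (ke xe6 ye1 ze4) (ke xe6 ye0 ze16) (ke xe3 ye3 ze20) (ke xe5 ye3 ze2) (ke xe3 ye4 ze3) (ke xe3 ye4 ze2) (ke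 xe4 ye10 ze16) (ke xe4 ye10 ze15) (ke xe4 ye13 ze12) (ke xe4 ye13 ze15) (ke xe4 ye8 ze0) (ke xe4 ye13 ze17)) (@D3.rec (fun _ => Pt) (ke xe5 ye0 ze4) (ke xe4 ye6 ze13) (ke xe6 ye1 ze12) (ke xe6 ye1 ze11) (ke xe3 ye4 ze9) (ke xe4 ye9 ze5) (ke xe3 ye4 ze11) (ke xe3 ye4 ze12) (ke xe4 ye9 ze3) (ke xe4 ye8 ze4) (ke xe5 ye0 ze10) (ke xe6 ye2 ze1) (ke xe3 ye4 ze16) (ke xe3 ye4 ze17) (ke xe3 ye6 ze10) (ke xe4 ye7 ze7) (ke xe3 ye5 ze7) (ke xe5 ye1 ze3) (ke xe5 ye12 ze12) (ke xe3 ye8 ze3) (ke xe3 ye8 ze4)) (@D3.rec (fun _ => Pt) (ke xe5 ye5 ze1) (ke xe5 ye1 ze15) (ke xe3 ye10 ze11) (ke xe3 ye5 ze16) (ke xe3 ye5 ze18) (ke xe3 ye10 ze6) (ke xe3 ye9 ze20) (ke xe3 ye6 ze7) (ke xe6 ye2 ze2) (ke xe4 ye8 ze3) (ke xe5 ye12 ze11) (ke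 xe3 ye6 ze11) (ke xe4 ye12 ze18) (ke xe6 ye2 ze12) (ke xe4 ye7 ze17) (ke xe3 ye6 ze12) (ke xe6 ye2 ze14) (ke xe3 ye6 ze14) (ke xe4 ye12 ze12) (ke xe3 ye6 ze16) (ke xe5 ye2 ze20)) (@D3.rec (fun _ => Pt) (ke xe3 ye6 ze19) (ke xe6 ye2 ze17) (ke xe3 ye6 ze20) (ke xe3 ye7 ze1) (ke xe5 ye2 ze11) (ke xe6 ye2 ze18) (ke xe3 ye7 ze16) (ke xe5 ye0 ze13) (ke xe3 ye7 ze4) (ke xe4 ye6 ze18) (ke xe6 ye2 ze19) (ke xe3 ye7 ze5) (ke xe4 ye10 ze17) (ke xe6 ye3 ze0) (ke xe3 ye7 ze6) (ke xe4 ye10 ze18) (ke xe3 ye7 ze9) (ke xe4 ye10 ze20) (ke xe6 ye3 ze2) (ke xe6 ye3 ze3) (ke xe4 ye9 ze10))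
def f_e_5 : D2 → D3 → Pt := @D2.rec (fun _ => D3 → Pt) (@D3.rec (fun _ => Pt) (ke xe5 ye8 ze0) (ke xe3 ye7 ze10) (ke xe3 ye7 ze13) (ke xe3 ye7 ze14) (ke xe4 ye11 ze0) (ke xe4 ye9 ze11) (ke xe6 ye2 ze4) (ke xe4 ye9 ze12) (ke xe6 ye3 ze10) (ke xe3 ye7 ze17) (ke xe4 ye11 ze10) (ke xe3 ye7 ze20) (ke xe4 ye10 ze5) (ke xe4 ye13 ze7) (ke xe5 ye13 ze13) (ke xe6 ye2 ze6) (ke xe3 ye10 ze14) (ke xe4 ye0 ze12) (ke xe4 ye10 ze6) (ke xe5 ye2 ze19) (ke xe6 ye3 ze18)) (@D3.rec (fun _ => Pt) (ke xe3 ye8 ze12) (ke xe6 ye3 ze20) (ke xe3 ye8 ze14) (ke xe4 ye11 ze17) (ke xe3 ye9 ze16) (ke xe5 ye13 ze0) (ke xe5 ye11 ze2) (ke xe3 ye8 ze19) (ke xe4 ye3 ze14) (ke xe5 ye5 ze14) (ke xe5 ye7 ze0) (ke xe6 ye4 ze6) (ke xe3 ye9 ze5) (ke xe4 ye8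 ze8) (ke xe6 ye4 ze7) (ke xe4 ye12 ze1) (ke xe3 ye9 ze10) (ke xe5 ye12 ze5) (ke xe5 ye11 ze9) (ke xe6 ye4 ze11) (ke xe5 ye6 ze15)) (@D3.rec (fun _ => Pt) (ke xe6 ye4 ze14) (ke xe3 ye9 ze15) (ke xe6 ye4 ze0) (ke xe6 ye1 ze18) (ke xe3 ye10 ze1) (ke xe3 ye13 ze6) (ke xe5 ye13 ze7) (ke xe3 ye10 ze7) (ke xe4 ye5 ze1) (ke xe6 ye4 ze17) (ke xe3 ye10 ze10) (ke xe4 ye13 ze4) (ke xe4 ye5 ze4) (ke xe4 ye8 ze10) (ke xe4 ye10 ze7) (ke xe3 ye10 ze18) (ke xe6 ye4 ze18) (ke xe3 ye11 ze0) (ke xe6 ye3 ze13) (ke xe5 ye0 ze19) (ke xe4 ye12 ze20)) (@D3.rec (fun _ => Pt) (ke xe3 ye11 ze6) (ke xe3 ye11 ze8) (ke xe4 ye10 ze12) (ke xe3 ye11 ze9) (ke xe5 ye3 ze5) (ke xe5 ye3 ze4) (ke xe6 ye5 ze3) (ke xe5 ye3 ze13) (ke xe3 ye11 ze16) (ke xe6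 ye5 ze7) (ke xe6 ye5 ze8) (ke xe5 ye4 ze4) (ke xe6 ye5 ze12) (ke xe5 ye3 ze7) (ke xe3 ye12 ze1) (ke xe6 ye5 ze15) (ke xe6 ye5 ze14) (ke xe3 ye12 ze3) (ke xe3 ye12 ze7) (ke xe3 ye12 ze5) (ke xe3 ye12 ze6)) (@D3.rec (fun _ => Pt) (ke xe4 ye1 ze18) (ke xe6 ye5 ze19) (ke xe6 ye3 ze8) (ke xe6 ye5 ze20) (ke xe5 ye3 ze11) (ke xe3 ye12 ze10) (ke xe3 ye12 ze14) (ke xe3 ye13 ze2) (ke xe5 ye6 ze19) (ke xe3 ye12 ze19) (ke xe4 ye2 ze14) (ke xe5 ye7 ze8) (ke xe6 ye6 ze7) (ke xe3 ye13 ze3) (ke xe6 ye6 ze12) (ke xe4 ye7 ze6) (ke xe6 ye6 ze14) (ke xe3 ye13 ze7) (ke xe6 ye6 ze17) (ke xe6 ye6 ze18) (ke xe3 ye13 ze9)) (@D3.rec (fun _ => Pt) (ke xe3 ye13 ze10) (ke xe4 ye12 ze0) (ke xe6 ye6 ze20) (ke xe3 ye13 ze12) (ke xe6 ye5 ze10) (ke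 xe6 ye6 ze6) (ke xe3 ye13 ze14) (ke xe3 ye13 ze15) (ke xe5 ye5 ze9) (ke xe5 ye5 ze8) (ke xe4 ye0 ze2) (ke xe5 ye5 ze13) (ke xe3 ye13 ze17) (ke xe5 ye5 ze11) (ke xe5 ye1 ze9) (ke xe4 ye0 ze1) (ke xe6 ye7 ze4) (ke xe5 ye13 ze9) (ke xe5 ye11 ze10) (ke xe5 ye11 ze11) (ke xe6 ye7 ze9)) (@D3.rec (fun _ => Pt) (ke xe4 ye0 ze4) (ke xe6 ye6 ze13) (ke xe6 ye7 ze11) (ke xe4 ye0 ze5) (ke xe6 ye7 ze13) (ke xe5 ye7 ze7) (ke xe6 ye7 ze16) (ke xe4 ye0 ze7) (ke xe6 ye7 ze18) (ke xe4 ye0 ze9) (ke xe4 ye0 ze10) (ke xe5 ye6 ze13) (ke xe4 ye4 ze3) (ke xe5 ye6 ze11) (ke xe6 ye3 ze12) (ke xe5 ye1 ze20) (ke xe6 ye8 ze3) (ke xe4 ye0 ze13) (ke xe6 ye8 ze5) (ke xe5 ye4 ze8) (ke xe4 ye0 ze15)) (@D3.rec (fun _ => Pt) (ke xe5 ye1 ze10) (ke xe5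 ye7 ze2) (ke xe5 ye7 ze1) (ke xe4 ye1 ze1) (ke xe4 ye1 ze0) (ke xe6 ye8 ze8) (ke xe6 ye8 ze9) (ke xe5 ye6 ze5) (ke xe5 ye4 ze11) (ke xe4 ye4 ze13) (ke xe4 ye1 ze11) (ke xe4 ye1 ze12) (ke xe4 ye1 ze13) (ke xe5 ye12 ze1) (ke xe6 ye8 ze13) (ke xe5 ye8 ze4) (ke xe6 ye8 ze14) (ke xe5 ye7 ze18) (ke xe5 ye7 ze17) (ke xe4 ye4 ze4) (ke xe6 ye5 ze13)) (@D3.rec (fun _ => Pt) (ke xe5 ye0 ze0) (ke xe5 ye8 ze18) (ke xe4 ye2 ze16) (ke xe4 ye2 ze15) (ke xe5 ye7 ze15) (ke xe4 ye2 ze2) (ke xe4 ye2 ze5) (ke xe6 ye9 ze1) (ke xe4 ye2 ze9) (ke xe4 ye2 ze10) (ke xe6 ye9 ze3) (ke xe4 ye4 ze1) (ke xe6 ye8 ze0) (ke xe4 ye8 ze7) (ke xe6 ye9 ze8) (ke xe4 ye2 ze12) (ke xe6 ye3 ze17) (ke xe6 ye6 ze9) (ke xe5 ye8 ze1) (ke xe5 ye9 ze14) (ke xe6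 ye3 ze1)) (@D3.rec (fun _ => Pt) (ke xe6 ye2 ze16) (ke xe4 ye2 ze17) (ke xe6 ye1 ze7) (ke xe4 ye2 ze20) (ke xe4 ye2 ze19) (ke xe4 ye5 ze13) (ke xe4 ye3 ze3) (ke xe5 ye10 ze0) (ke xe6 ye6 ze3) (ke xe4 ye3 ze4) (ke xe4 ye5 ze11) (ke xe4 ye3 ze5) (ke xe6 ye8 ze17) (ke xe6 ye6 ze0) (ke xe5 ye8 ze19) (ke xe4 ye3 ze7) (ke xe4 ye3 ze8) (ke xe6 ye9 ze20) (ke xe6 ye4 ze5) (ke xe4 ye3 ze13) (ke xe4 ye3 ze15)) (@D3.rec (fun _ => Pt) (ke xe5 ye9 ze7) (ke xe6 ye4 ze2) (ke xe6 ye10 ze0) (ke xe6 ye10 ze2) (ke xe4 ye3 ze17) (ke xe6 ye10 ze5) (ke xe5 ye12 ze19) (ke xe4 ye3 ze19) (ke xe4 ye3 ze20) (ke xe5 ye10 ze10) (ke xe5 ye10 ze9) (ke xe4 ye4 ze0) (ke xe6 ye9 ze4) (ke xe6 ye7 ze10) (ke xe6 ye8 ze12) (ke xe6 ye9 ze6) (ke xe6 ye7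 ze2) (ke xe6 ye7 ze3) (ke xe6 ye4 ze3) (ke xe4 ye5 ze6) (ke xe4 ye5 ze7)) (@D3.rec (fun _ => Pt) (ke xe6 ye6 ze1) (ke xe4 ye4 ze14) (ke xe5 ye1 ze6) (ke xe4 ye4 ze16) (ke xe4 ye4 ze17) (ke xe6 ye10 ze1) (ke xe6 ye3 ze5) (ke xe5 ye11 ze7) (ke xe5 ye11 ze8) (ke xe5 ye1 ze18) (ke xe5 ye5 ze18) (ke xe5 ye5 ze19) (ke xe6 ye10 ze12) (ke xe6 ye10 ze13) (ke xe5 ye11 ze14) (ke xe4 ye5 ze8) (ke xe6 ye10 ze18) (ke xe4 ye5 ze10) (ke xe4 ye5 ze14) (ke xe6 ye6 ze11) (ke xe6 ye10 ze19)) (@D3.rec (fun _ => Pt) (ke xe4 ye5 ze16) (ke xe5 ye7 ze13) (ke xe4 ye10 ze1) (ke xe6 ye3 ze19) (ke xe4 ye5 ze19) (ke xe5 ye1 ze17) (ke xe5 ye12 ze6) (ke xe6 ye11 ze3) (ke xe4 ye6 ze4) (ke xe4 ye9 ze20) (ke xe5 ye12 ze15) (ke xe4 ye12 ze10) (ke xe4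 ye11 ze18) (ke xe6 ye11 ze5) (ke xe4 ye6 ze15) (ke xe5 ye12 ze10) (ke xe6 ye7 ze15) (ke xe4 ye7 ze0) (ke xe4 ye7 ze1) (ke xe5 ye10 ze6) (ke xe6 ye2 ze3)) (@D3.rec (fun _ => Pt) (ke xe5 ye1 ze5) (ke xe6 ye2 ze10) (ke xe4 ye7 ze14) (ke xe6 ye2 ze11) (ke xe6 ye11 ze7) (ke xe6 ye0 ze15) (ke xe4 ye7 ze18) (ke xe5 ye2 ze6) (ke xe6 ye1 ze8) (ke xe5 ye5 ze17) (ke xe6 ye1 ze1) (ke xe6 ye2 ze9) (ke xe6 ye1 ze17) (ke xe5 ye0 ze14) (ke xe6 ye10 ze10) (ke xe6 ye2 ze15) (ke xe6 ye11 ze15) (ke xe4 ye8 ze11) (ke xe6 ye3 ze15) (ke xe4 ye8 ze13) (ke xe4 ye8 ze15))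
def f_e_6 : D2 → D3 → Pt := @D2.rec (fun _ => D3 → Pt) (@D3.rec (fun _ => Pt) (ke xe6 ye0 ze1) (ke xe6 ye0 ze0) (ke xe6 ye11 ze16) (ke xe4 ye8 ze18) (ke xe4 ye8 ze19) (ke xe4 ye9 ze1) (ke xe6 ye5 ze6) (ke xe6 ye1 ze14) (ke xe6 ye11 ze17) (ke xe6 ye4 ze9) (ke xe4 ye9 ze6) (ke xe4 ye9 ze8) (ke xe6 ye3 ze6) (ke xe6 ye11 ze20) (ke xe4 ye9 ze14) (ke xe5 ye13 ze5) (ke xe4 ye10 ze10) (ke xe4 ye9 ze18) (ke xe6 ye11 ze4) (ke xe6 ye9 ze7) (ke xe6 ye12 ze2)) (@D3.rec (fun _ => Pt) (ke xe4 ye10 ze2) (ke xe5 ye13 ze10) (ke xe6 ye3 ze16) (ke xe6 ye1 ze5) (ke xe4 ye10 ze9) (ke xe6 ye1 ze3) (ke xe6 ye2 ze20) (ke xe5 ye9 ze2) (ke xe5 ye13 ze8) (ke xe6 ye3 ze4) (ke xe6 ye3 ze9) (ke xe4 ye11 ze3) (ke xe4 ye11 ze2) (ke xe6 ye12 ze4)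 (ke xe6 ye0 ze7) (ke xe6 ye10 ze6) (ke xe6 ye5 ze0) (ke xe5 ye13 ze12) (ke xe5 ye2 ze3) (ke xe6 ye3 ze11) (ke xe6 ye12 ze6)) (@D3.rec (fun _ => Pt) (ke xe6 ye11 ze12) (ke xe4 ye11 ze11) (ke xe4 ye12 ze8) (ke xe5 ye12 ze20) (ke xe5 ye0 ze6) (ke xe6 ye3 ze14) (ke xe5 ye0 ze15) (ke xe6 ye4 ze1) (ke xe6 ye12 ze7) (ke xe5 ye13 ze11) (ke xe5 ye13 ze1) (ke xe5 ye13 ze3) (ke xe4 ye12 ze13) (ke xe6 ye12 ze9) (ke xe4 ye12 ze16) (ke xe5 ye13 ze15) (ke xe5 ye9 ze0) (ke xe4 ye13 ze1) (ke xe4 ye13 ze5) (ke xe4 ye13 ze10) (ke xe6 ye1 ze6)) (@D3.rec (fun _ => Pt) (ke xe4 ye13 ze13) (ke xe5 ye8 ze20) (ke xe4 ye13 ze18) (ke xe4 ye13 ze19) (ke xe6 ye1 ze9) (ke xe5 ye11 ze6) (ke xe6 ye0 ze12) (ke xe6 ye8 ze19) (ke xe5 ye4 ze2) (ke xe6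 ye1 ze10) (ke xe5 ye0 ze8) (ke xe6 ye1 ze19) (ke xe5 ye6 ze14) (ke xe5 ye2 ze18) (ke xe6 ye2 ze5) (ke xe5 ye13 ze18) (ke xe6 ye1 ze2) (ke xe5 ye8 ze16) (ke xe5 ye0 ze20) (ke xe5 ye12 ze3) (ke xe5 ye1 ze1)) (@D3.rec (fun _ => Pt) (ke xe5 ye2 ze2) (ke xe6 ye2 ze7) (ke xe5 ye10 ze1) (ke xe5 ye10 ze18) (ke xe6 ye8 ze6) (ke xe5 ye9 ze18) (ke xe5 ye1 ze11) (ke xe5 ye1 ze14) (ke xe6 ye6 ze19) (ke xe6 ye0 ze9) (ke xe6 ye9 ze16) (ke xe5 ye1 ze19) (ke xe6 ye9 ze19) (ke xe6 ye11 ze19) (ke xe5 ye2 ze0) (ke xe6 ye9 ze11) (ke xe6 ye11 ze8) (ke xe5 ye2 ze9) (ke xe5 ye2 ze16) (ke xe6 ye12 ze15) (ke xe6 ye5 ze1)) (@D3.rec (fun _ => Pt) (ke xe6 ye1 ze16) (ke xe6 ye4 ze20) (ke xe6 ye5 ze18) (ke xe5 ye3 ze6) (ke xe6 ye13 ze1) (ke xe6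 ye5 ze16) (ke xe6 ye0 ze6) (ke xe5 ye3 ze9) (ke xe5 ye3 ze10) (ke xe6 ye5 ze11) (ke xe5 ye5 ze4) (ke xe6 ye5 ze9) (ke xe5 ye3 ze12) (ke xe5 ye7 ze20) (ke xe5 ye3 ze16) (ke xe5 ye3 ze15) (ke xe6 ye5 ze5) (ke xe6 ye12 ze12) (ke xe6 ye5 ze2) (ke xe5 ye4 ze1) (ke xe5 ye4 ze3)) (@D3.rec (fun _ => Pt) (ke xe5 ye9 ze13) (ke xe5 ye11 ze0) (ke xe6 ye12 ze13) (ke xe5 ye9 ze8) (ke xe6 ye6 ze5) (ke xe6 ye6 ze4) (ke xe5 ye5 ze5) (ke xe5 ye4 ze12) (ke xe6 ye8 ze2) (ke xe5 ye8 ze17) (ke xe6 ye6 ze16) (ke xe5 ye11 ze19) (ke xe5 ye4 ze14) (ke xe5 ye6 ze1) (ke xe5 ye4 ze16) (ke xe6 ye11 ze0) (ke xe6 ye6 ze10) (ke xe5 ye4 ze18) (ke xe5 ye4 ze19) (ke xe6 ye4 ze8) (ke xe5 ye5 ze2)) (@D3.rec (fun _ => Pt) (ke xe6 ye13 ze3) (ke xe6 ye11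 ze18) (ke xe5 ye10 ze16) (ke xe5 ye10 ze17) (ke xe5 ye5 ze16) (ke xe6 ye13 ze10) (ke xe6 ye11 ze9) (ke xe6 ye7 ze7) (ke xe6 ye10 ze16) (ke xe5 ye5 ze20) (ke xe5 ye10 ze13) (ke xe5 ye6 ze2) (ke xe6 ye7 ze14) (ke xe5 ye6 ze4) (ke xe6 ye7 ze12) (ke xe5 ye12 ze16) (ke xe5 ye6 ze6) (ke xe6 ye7 ze20) (ke xe5 ye6 ze8) (ke xe6 ye12 ze17) (ke xe6 ye7 ze17)) (@D3.rec (fun _ => Pt) (ke xe5 ye8 ze12) (ke xe6 ye12 ze14) (ke xe6 ye6 ze8) (ke xe5 ye6 ze16) (ke xe6 ye13 ze15) (ke xe5 ye6 ze18) (ke xe6 ye4 ze4) (ke xe6 ye11 ze1) (ke xe5 ye7 ze5) (ke xe5 ye7 ze6) (ke xe6 ye8 ze11) (ke xe6 ye8 ze10) (ke xe5 ye10 ze14) (ke xe5 ye7 ze14) (ke xe5 ye7 ze16) (ke xe6 ye9 ze0) (ke xe6 ye8 ze18) (ke xe5 ye9 ze12) (ke xe6 ye8 ze16) (ke xe6 ye3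 ze7) (ke xe6 ye9 ze10)) (@D3.rec (fun _ => Pt) (ke xe6 ye8 ze15) (ke xe5 ye8 ze7) (ke xe6 ye13 ze16) (ke xe5 ye8 ze10) (ke xe5 ye10 ze12) (ke xe6 ye13 ze13) (ke xe5 ye10 ze15) (ke xe6 ye0 ze19) (ke xe5 ye8 ze14) (ke xe6 ye12 ze16) (ke xe6 ye8 ze20) (ke xe6 ye4 ze15) (ke xe6 ye9 ze15) (ke xe6 ye10 ze14) (ke xe6 ye13 ze6) (ke xe6 ye9 ze12) (ke xe6 ye4 ze10) (ke xe6 ye9 ze18) (ke xe6 ye9 ze17) (ke xe6 ye4 ze12) (ke xe5 ye9 ze17)) (@D3.rec (fun _ => Pt) (ke xe5 ye10 ze2) (ke xe5 ye11 ze5) (ke xe5 ye10 ze3) (ke xe6 ye13 ze12) (ke xe6 ye11 ze6) (ke xe5 ye10 ze5) (ke xe6 ye1 ze15) (ke xe6 ye12 ze10) (ke xe6 ye13 ze17) (ke xe6 ye13 ze8) (ke xe5 ye13 ze14) (ke xe6 ye13 ze9) (ke xe5 ye11 ze12) (ke xe5 ye11 ze13) (ke xe6 ye9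 ze13) (ke xe6 ye10 ze15) (ke xe6 ye7 ze8) (ke xe6 ye12 ze5) (ke xe5 ye11 ze16) (ke xe5 ye11 ze20) (ke xe6 ye13 ze7)) (@D3.rec (fun _ => Pt) (ke xe6 ye6 ze15) (ke xe6 ye8 ze7) (ke xe6 ye11 ze14) (ke xe5 ye12 ze7) (ke xe6 ye0 ze18) (ke xe5 ye12 ze13) (ke xe6 ye10 ze4) (ke xe5 ye13 ze4) (ke xe6 ye4 ze16) (ke xe6 ye7 ze6) (ke xe6 ye12 ze1) (ke xe6 ye12 ze8) (ke xe6 ye2 ze0) (ke xe6 ye13 ze19) (ke xe6 ye11 ze2) (ke xe5 ye13 ze16) (ke xe6 ye0 ze2) (ke xe6 ye0 ze8) (ke xe6 ye7 ze1) (ke xe6 ye4 ze13) (ke xe6 ye0 ze13)) (@D3.rec (fun _ => Pt) (ke xe6 ye13 ze18) (ke xe6 ye11 ze10) (ke xe6 ye0 ze20) (ke xe6 ye12 ze11) (ke xe6 ye1 ze13) (ke xe6 ye10 ze17) (ke xe6 ye1 ze20) (ke xe6 ye2 ze8) (ke xe6 ye11 ze11) (ke xe6 ye2 ze13)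 (ke xe6 ye10 ze7) (ke xe6 ye12 ze3) (ke xe6 ye5 ze17) (ke xe6 ye6 ze2) (ke xe6 ye8 ze1) (ke xe6 ye4 ze19) (ke xe6 ye9 ze9) (ke xe6 ye7 ze19) (ke xe6 ye13 ze14) (ke xe6 ye12 ze20) (ke xe6 ye12 ze19)) (@D3.rec (fun _ => Pt) (ke xe6 ye13 ze5) (ke xe6 ye5 ze4) (ke xe6 ye13 ze4) (ke xe6 ye7 ze0) (ke xe6 ye13 ze2) (ke xe6 ye13 ze0) (ke xe6 ye9 ze14) (ke xe6 ye10 ze20) (ke xe6 ye10 ze9) (ke xe6 ye10 ze11) (ke xe6 ye7 ze5) (ke xe6 ye13 ze20) (ke xe6 ye10 ze3) (ke xe6 ye9 ze5) (ke xe6 ye12 ze18) (ke xe6 ye8 ze4) (ke xe6 ye9 ze2) (ke xe6 ye10 ze8) (ke xe6 ye12 ze0) (ke xe6 ye11 ze13) (ke xe6 ye13 ze11))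
def f_e : Pt → Pt := @Pt.rec (fun _ => Pt) (@D1.rec (fun _ => D2 → D3 → Pt) f_e_0 f_e_1 f_e_2 f_e_3 f_e_4 f_e_5 f_e_6)
def fi_e : Pt → Pt := f_e

theorem inv_chk_e : chkInv allPts beqPt f_e fi_e = true := by decide +kernel

end

end Cfsg.Agent.Helper28.S1683
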