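import Cfsg.Agent.Lib.Helper28.S1683.Defs

set_option autoImplicit false
set_option maxRecDepth 100000
set_option linter.all false

namespace Cfsg.Agent.Helper28.S1683

open Cfsg.Agent.Helper28
open Cfsg.Spor.He (Gen)

noncomputable section

abbrev kf := Pt.mk
abbrev xf0 := D1.c0
abbrev xf1 := D1.c1
abbrev xf2 := D1.c2
abbrev xf3 := D1.c3
abbrev xf4 := D1.c4
abbrev xf5 := D1.c5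
abbrev xf6 := D1.c6
abbrev yf0 := D2.c0
abbrev yf1 := D2.c1
abbrev yf2 := D2.c2
abbrev yf3 := D2.c3
abbrev yf4 := D2.c4
abbrev yf5 := D2.c5
abbrev yf6 := D2.c6
abbrev yf7 := D2.c7
abbrev yf8 := D2.c8
abbrev yf9 := D2.c9
abbrev yf10 := D2.c10
abbrev yf11 := D2.c11
abbrev yf12 := D2.c12
abbrev yf13 := D2.c13
abbrev zf0 := D3.c0
abbrev zf1 := D3.c1
abbrev zf2 := D3.c2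
abbrev zf3 := D3.c3
abbrev zf4 := D3.c4
abbrev zf5 := D3.c5
abbrev zf6 := D3.c6
abbrev zf7 := D3.c7
abbrev zf8 := D3.c8
abbrev zf9 := D3.c9
abbrev zf10 := D3.c10
abbrev zf11 := D3.c11
abbrev zf12 := D3.c12
abbrev zf13 := D3.c13
abbrev zf14 := D3.c14
abbrev zf15 := D3.c15
abbrev zf16 := D3.c16
abbrev zf17 := D3.c17
abbrev zf18 := D3.c18
abbrev zf19 := D3.c19
abbrev zf20 := D3.c20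
def f_f_0 : D2 → D3 → Pt := @D2.rec (fun _ => D3 → Pt) (@D3.rec (fun _ => Pt) (kf xf0 yf0 zf0) (kf xf0 yf0 zf1) (kf xf0 yf0 zf2) (kf xf0 yf0 zf3) (kf xf0 yf0 zf4) (kf xf0 yf0 zf11) (kf xf0 yf0 zf14) (kf xf0 yf0 zf7) (kf xf0 yf0 zf17) (kf xf0 yf1 zf0) (kf xf0 yf1 zf1) (kf xf0 yf0 zf5) (kf xf0 yf1 zf5) (kf xf0 yf1 zf6) (kf xf0 yf0 zf6) (kf xf0 yf1 zf10) (kf xf0 yf1 zf11) (kf xf0 yf0 zf8) (kf xf0 yf1 zf14) (kf xf0 yf1 zf17) (kf xf0 yf1 zf18)) (@D3.rec (fun _ => Pt) (kf xf0 yf0 zf9) (kf xf0 yf0 zf10) (kf xf0 yf2 zf1) (kf xf0 yf2 zf3) (kf xf0 yf2 zf6) (kf xf0 yf0 zf12) (kf xf0 yf0 zf13) (kf xf0 yf2 zf11) (kf xf0 yf2 zf13) (kf xf0 yf2 zf16) (kf xf0 yf0 zf15) (kf xf0 yf0 zf16) (kf xf0 yf2 zf20) (kf xf0 yf2 zf19) (kf xf0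 yf0 zf18) (kf xf0 yf3 zf4) (kf xf0 yf3 zf5) (kf xf0 yf0 zf19) (kf xf0 yf0 zf20) (kf xf0 yf1 zf19) (kf xf0 yf3 zf8)) (@D3.rec (fun _ => Pt) (kf xf0 yf3 zf11) (kf xf0 yf1 zf2) (kf xf0 yf3 zf15) (kf xf0 yf1 zf3) (kf xf0 yf3 zf19) (kf xf0 yf3 zf20) (kf xf0 yf1 zf4) (kf xf0 yf3 zf17) (kf xf0 yf2 zf8) (kf xf0 yf4 zf7) (kf xf0 yf4 zf10) (kf xf0 yf1 zf7) (kf xf0 yf4 zf14) (kf xf0 yf1 zf8) (kf xf0 yf4 zf17) (kf xf0 yf4 zf18) (kf xf0 yf1 zf9) (kf xf0 yf4 zf2) (kf xf0 yf2 zf18) (kf xf0 yf1 zf13) (kf xf0 yf1 zf12)) (@D3.rec (fun _ => Pt) (kf xf0 yf5 zf3) (kf xf0 yf5 zf4) (kf xf0 yf5 zf10) (kf xf0 yf3 zf6) (kf xf0 yf1 zf15) (kf xf0 yf1 zf16) (kf xf0 yf3 zf3) (kf xf0 yf5 zf15) (kf xf0 yf1 zf20) (kf xf0 yf5 zf19) (kf xf0 yf6 zf0)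 (kf xf0 yf2 zf0) (kf xf0 yf6 zf4) (kf xf0 yf6 zf2) (kf xf0 yf6 zf8) (kf xf0 yf2 zf2) (kf xf0 yf3 zf18) (kf xf0 yf2 zf7) (kf xf0 yf3 zf16) (kf xf0 yf2 zf4) (kf xf0 yf2 zf5)) (@D3.rec (fun _ => Pt) (kf xf0 yf6 zf16) (kf xf0 yf6 zf13) (kf xf0 yf2 zf17) (kf xf0 yf6 zf12) (kf xf0 yf7 zf0) (kf xf0 yf4 zf5) (kf xf0 yf7 zf5) (kf xf0 yf2 zf9) (kf xf0 yf7 zf10) (kf xf0 yf7 zf12) (kf xf0 yf2 zf10) (kf xf0 yf7 zf15) (kf xf0 yf6 zf18) (kf xf0 yf7 zf19) (kf xf0 yf2 zf12) (kf xf0 yf4 zf16) (kf xf0 yf4 zf15) (kf xf0 yf2 zf14) (kf xf0 yf2 zf15) (kf xf0 yf8 zf4) (kf xf0 yf6 zf20)) (@D3.rec (fun _ => Pt) (kf xf0 yf6 zf19) (kf xf0 yf6 zf17) (kf xf0 yf5 zf2) (kf xf0 yf3 zf0) (kf xf0 yf3 zf1) (kf xf0 yf5 zf9) (kf xf0 yf8 zf6) (kf xf0 yf8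 zf14) (kf xf0 yf8 zf8) (kf xf0 yf5 zf5) (kf xf0 yf3 zf2) (kf xf0 yf5 zf11) (kf xf0 yf5 zf12) (kf xf0 yf8 zf20) (kf xf0 yf9 zf1) (kf xf0 yf3 zf7) (kf xf0 yf9 zf5) (kf xf0 yf9 zf3) (kf xf0 yf9 zf7) (kf xf0 yf3 zf9) (kf xf0 yf9 zf12)) (@D3.rec (fun _ => Pt) (kf xf0 yf3 zf10) (kf xf0 yf6 zf3) (kf xf0 yf3 zf13) (kf xf0 yf6 zf1) (kf xf0 yf3 zf12) (kf xf0 yf9 zf15) (kf xf0 yf9 zf16) (kf xf0 yf10 zf1) (kf xf0 yf3 zf14) (kf xf0 yf6 zf14) (kf xf0 yf10 zf2) (kf xf0 yf10 zf3) (kf xf0 yf4 zf3) (kf xf0 yf4 zf1) (kf xf0 yf6 zf9) (kf xf0 yf6 zf15) (kf xf0 yf4 zf0) (kf xf0 yf5 zf1) (kf xf0 yf4 zf12) (kf xf0 yf5 zf0) (kf xf0 yf4 zf20)) (@D3.rec (fun _ => Pt) (kf xf0 yf4 zf4) (kf xf0 yf7 zf1) (kf xf0 yf10 zf19) (kf xf0 yf11 zf2) (kf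 xf0 yf11 zf4) (kf xf0 yf4 zf6) (kf xf0 yf11 zf7) (kf xf0 yf10 zf13) (kf xf0 yf11 zf11) (kf xf0 yf11 zf14) (kf xf0 yf4 zf8) (kf xf0 yf11 zf19) (kf xf0 yf4 zf9) (kf xf0 yf7 zf14) (kf xf0 yf7 zf13) (kf xf0 yf4 zf11) (kf xf0 yf9 zf18) (kf xf0 yf10 zf14) (kf xf0 yf10 zf11) (kf xf0 yf4 zf13) (kf xf0 yf8 zf2)) (@D3.rec (fun _ => Pt) (kf xf0 yf12 zf5) (kf xf0 yf10 zf7) (kf xf0 yf7 zf20) (kf xf0 yf8 zf3) (kf xf0 yf4 zf19) (kf xf0 yf12 zf10) (kf xf0 yf5 zf6) (kf xf0 yf12 zf15) (kf xf0 yf5 zf8) (kf xf0 yf8 zf11) (kf xf0 yf13 zf0) (kf xf0 yf8 zf9) (kf xf0 yf13 zf6) (kf xf0 yf13 zf9) (kf xf0 yf5 zf7) (kf xf0 yf13 zf12) (kf xf0 yf13 zf14) (kf xf0 yf8 zf17) (kf xf0 yf8 zf18) (kf xf0 yf13 zf18) (kf xf0 yf5 zf13)) (@D3.rec (fun _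 => Pt) (kf xf1 yf0 zf2) (kf xf0 yf5 zf14) (kf xf0 yf9 zf4) (kf xf0 yf5 zf17) (kf xf0 yf9 zf2) (kf xf0 yf5 zf16) (kf xf1 yf0 zf5) (kf xf0 yf5 zf18) (kf xf0 yf9 zf10) (kf xf1 yf0 zf9) (kf xf0 yf9 zf8) (kf xf1 yf0 zf17) (kf xf0 yf5 zf20) (kf xf1 yf0 zf3) (kf xf1 yf0 zf4) (kf xf0 yf6 zf5) (kf xf0 yf6 zf6) (kf xf0 yf9 zf17) (kf xf0 yf7 zf16) (kf xf1 yf1 zf11) (kf xf1 yf1 zf3)) (@D3.rec (fun _ => Pt) (kf xf1 yf1 zf15) (kf xf0 yf6 zf7) (kf xf0 yf6 zf10) (kf xf0 yf6 zf11) (kf xf1 yf1 zf17) (kf xf0 yf10 zf16) (kf xf1 yf2 zf1) (kf xf0 yf8 zf1) (kf xf0 yf10 zf8) (kf xf0 yf10 zf9) (kf xf0 yf10 zf18) (kf xf0 yf7 zf18) (kf xf0 yf10 zf15) (kf xf0 yf7 zf7) (kf xf0 yf7 zf17) (kf xf0 yf10 zf12) (kf xf0 yf10 zf5) (kf xf1 yf2 zf9) (kf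 xf0 yf10 zf10) (kf xf0 yf7 zf2) (kf xf0 yf10 zf20)) (@D3.rec (fun _ => Pt) (kf xf1 yf2 zf13) (kf xf1 yf2 zf16) (kf xf0 yf7 zf3) (kf xf1 yf3 zf0) (kf xf0 yf7 zf4) (kf xf0 yf11 zf6) (kf xf0 yf11 zf5) (kf xf0 yf7 zf6) (kf xf1 yf1 zf6) (kf xf1 yf3 zf6) (kf xf1 yf3 zf9) (kf xf0 yf7 zf8) (kf xf1 yf3 zf14) (kf xf1 yf3 zf16) (kf xf0 yf7 zf9) (kf xf0 yf11 zf17) (kf xf1 yf3 zf11) (kf xf0 yf11 zf15) (kf xf1 yf3 zf19) (kf xf0 yf7 zf11) (kf xf1 yf3 zf1)) (@D3.rec (fun _ => Pt) (kf xf1 yf2 zf2) (kf xf0 yf12 zf1) (kf xf1 yf4 zf7) (kf xf1 yf1 zf8) (kf xf1 yf0 zf7) (kf xf0 yf8 zf0) (kf xf0 yf12 zf6) (kf xf0 yf12 zf7) (kf xf0 yf12 zf9) (kf xf0 yf12 zf8) (kf xf0 yf8 zf5) (kf xf0 yf12 zf11) (kf xf1 yf4 zf15) (kf xf1 yf4 zf19) (kf xf1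 yf5 zf1) (kf xf0 yf8 zf7) (kf xf1 yf5 zf5) (kf xf1 yf5 zf7) (kf xf1 yf5 zf11) (kf xf1 yf5 zf15) (kf xf1 yf5 zf18)) (@D3.rec (fun _ => Pt) (kf xf0 yf8 zf10) (kf xf1 yf6 zf0) (kf xf1 yf6 zf2) (kf xf1 yf6 zf7) (kf xf1 yf6 zf10) (kf xf1 yf6 zf13) (kf xf0 yf8 zf12) (kf xf1 yf6 zf18) (kf xf1 yf6 zf20) (kf xf0 yf8 zf13) (kf xf0 yf13 zf11) (kf xf0 yf13 zf10) (kf xf0 yf8 zf15) (kf xf1 yf7 zf7) (kf xf0 yf8 zf16) (kf xf1 yf7 zf10) (kf xf0 yf13 zf16) (kf xf0 yf13 zf17) (kf xf0 yf8 zf19) (kf xf1 yf0 zf0) (kf xf1 yf7 zf13))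
def f_f_1 : D2 → D3 → Pt := @D2.rec (fun _ => D3 → Pt) (@D3.rec (fun _ => Pt) (kf xf0 yf13 zf19) (kf xf1 yf8 zf0) (kf xf0 yf9 zf0) (kf xf0 yf9 zf13) (kf xf0 yf9 zf14) (kf xf0 yf9 zf6) (kf xf1 yf0 zf6) (kf xf0 yf12 zf4) (kf xf1 yf8 zf10) (kf xf0 yf9 zf9) (kf xf1 yf8 zf17) (kf xf1 yf8 zf12) (kf xf1 yf8 zf13) (kf xf1 yf9 zf3) (kf xf1 yf9 zf6) (kf xf1 yf9 zf10) (kf xf1 yf9 zf11) (kf xf0 yf9 zf11) (kf xf1 yf9 zf12) (kf xf1 yf8 zf2) (kf xf1 yf1 zf16)) (@D3.rec (fun _ => Pt) (kf xf1 yf10 zf1) (kf xf1 yf8 zf4) (kf xf1 yf10 zf6) (kf xf0 yf9 zf20) (kf xf1 yf1 zf4) (kf xf1 yf2 zf11) (kf xf0 yf11 zf8) (kf xf1 yf10 zf15) (kf xf0 yf12 zf3) (kf xf1 yf10 zf20) (kf xf1 yf11 zf2) (kf xf0 yf9 zf19) (kf xf1 yf11 zf6) (kf xf1 yf11 zf8)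 (kf xf1 yf11 zf12) (kf xf0 yf10 zf0) (kf xf1 yf0 zf20) (kf xf0 yf10 zf4) (kf xf1 yf2 zf0) (kf xf1 yf11 zf15) (kf xf1 yf2 zf7)) (@D3.rec (fun _ => Pt) (kf xf1 yf1 zf18) (kf xf0 yf10 zf6) (kf xf0 yf12 zf0) (kf xf1 yf2 zf3) (kf xf1 yf11 zf20) (kf xf1 yf2 zf6) (kf xf1 yf2 zf5) (kf xf1 yf1 zf20) (kf xf1 yf12 zf3) (kf xf0 yf10 zf17) (kf xf1 yf2 zf10) (kf xf1 yf1 zf5) (kf xf1 yf12 zf7) (kf xf0 yf11 zf0) (kf xf1 yf2 zf19) (kf xf1 yf12 zf11) (kf xf0 yf11 zf1) (kf xf1 yf12 zf16) (kf xf1 yf12 zf13) (kf xf1 yf2 zf14) (kf xf1 yf12 zf10)) (@D3.rec (fun _ => Pt) (kf xf0 yf11 zf3) (kf xf0 yf11 zf20) (kf xf1 yf3 zf2) (kf xf1 yf13 zf2) (kf xf1 yf13 zf6) (kf xf1 yf13 zf9) (kf xf0 yf11 zf9) (kf xf1 yf13 zf14) (kf xf1 yf13 zf16) (kf xf0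 yf11 zf10) (kf xf1 yf3 zf12) (kf xf0 yf11 zf16) (kf xf1 yf3 zf10) (kf xf2 yf0 zf5) (kf xf0 yf11 zf12) (kf xf2 yf0 zf9) (kf xf0 yf11 zf13) (kf xf2 yf0 zf14) (kf xf2 yf0 zf11) (kf xf0 yf11 zf18) (kf xf1 yf13 zf20)) (@D3.rec (fun _ => Pt) (kf xf2 yf0 zf0) (kf xf2 yf0 zf17) (kf xf2 yf0 zf18) (kf xf1 yf13 zf0) (kf xf1 yf10 zf2) (kf xf1 yf4 zf12) (kf xf2 yf1 zf6) (kf xf0 yf12 zf2) (kf xf2 yf1 zf10) (kf xf2 yf1 zf12) (kf xf2 yf1 zf14) (kf xf1 yf11 zf19) (kf xf1 yf4 zf5) (kf xf2 yf1 zf17) (kf xf2 yf1 zf18) (kf xf0 yf12 zf12) (kf xf1 yf10 zf13) (kf xf2 yf2 zf2) (kf xf2 yf2 zf4) (kf xf0 yf12 zf13) (kf xf1 yf10 zf18)) (@D3.rec (fun _ => Pt) (kf xf2 yf2 zf10) (kf xf0 yf12 zf14) (kf xf1 yf5 zf3) (kf xf1 yf5 zf2) (kf xf2 yf2 zf17)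 (kf xf0 yf12 zf16) (kf xf2 yf3 zf0) (kf xf0 yf12 zf17) (kf xf2 yf3 zf3) (kf xf2 yf3 zf7) (kf xf2 yf3 zf8) (kf xf0 yf12 zf18) (kf xf1 yf11 zf9) (kf xf2 yf3 zf5) (kf xf2 yf3 zf17) (kf xf0 yf12 zf19) (kf xf2 yf3 zf20) (kf xf2 yf4 zf1) (kf xf0 yf12 zf20) (kf xf1 yf5 zf20) (kf xf1 yf5 zf19)) (@D3.rec (fun _ => Pt) (kf xf0 yf13 zf1) (kf xf2 yf4 zf9) (kf xf0 yf13 zf2) (kf xf2 yf4 zf12) (kf xf2 yf4 zf14) (kf xf2 yf4 zf18) (kf xf2 yf5 zf0) (kf xf0 yf13 zf3) (kf xf2 yf5 zf4) (kf xf2 yf5 zf6) (kf xf0 yf13 zf4) (kf xf2 yf5 zf11) (kf xf2 yf5 zf12) (kf xf0 yf13 zf5) (kf xf1 yf6 zf16) (kf xf2 yf5 zf8) (kf xf1 yf6 zf14) (kf xf2 yf5 zf19) (kf xf0 yf13 zf7) (kf xf2 yf6 zf1) (kf xf0 yf13 zf8)) (@D3.rec (fun _ => Pt) (kf xf1 yf7 zf9)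 (kf xf2 yf6 zf3) (kf xf2 yf6 zf8) (kf xf2 yf6 zf10) (kf xf2 yf4 zf6) (kf xf2 yf6 zf14) (kf xf1 yf9 zf7) (kf xf0 yf13 zf13) (kf xf2 yf6 zf18) (kf xf1 yf7 zf0) (kf xf0 yf13 zf15) (kf xf2 yf7 zf2) (kf xf2 yf7 zf1) (kf xf0 yf13 zf20) (kf xf2 yf7 zf11) (kf xf2 yf7 zf6) (kf xf2 yf7 zf7) (kf xf2 yf7 zf18) (kf xf2 yf8 zf0) (kf xf2 yf4 zf20) (kf xf2 yf8 zf3)) (@D3.rec (fun _ => Pt) (kf xf1 yf0 zf1) (kf xf2 yf8 zf4) (kf xf1 yf0 zf19) (kf xf1 yf10 zf0) (kf xf1 yf1 zf1) (kf xf2 yf8 zf15) (kf xf1 yf8 zf6) (kf xf2 yf8 zf19) (kf xf2 yf9 zf1) (kf xf2 yf9 zf3) (kf xf1 yf0 zf8) (kf xf2 yf3 zf4) (kf xf1 yf0 zf11) (kf xf1 yf0 zf12) (kf xf1 yf9 zf1) (kf xf2 yf9 zf13) (kf xf1 yf9 zf13) (kf xf1 yf0 zf10) (kf xf2 yf9 zf6) (kf xf2 yf9 zf20)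 (kf xf2 yf9 zf8)) (@D3.rec (fun _ => Pt) (kf xf2 yf10 zf3) (kf xf1 yf8 zf14) (kf xf2 yf10 zf7) (kf xf1 yf0 zf13) (kf xf2 yf10 zf12) (kf xf2 yf10 zf13) (kf xf1 yf0 zf14) (kf xf1 yf7 zf6) (kf xf2 yf10 zf19) (kf xf2 yf11 zf1) (kf xf1 yf0 zf15) (kf xf1 yf0 zf16) (kf xf1 yf0 zf18) (kf xf1 yf8 zf16) (kf xf2 yf11 zf4) (kf xf2 yf11 zf5) (kf xf1 yf10 zf4) (kf xf2 yf8 zf9) (kf xf2 yf11 zf16) (kf xf1 yf11 zf14) (kf xf2 yf12 zf0)) (@D3.rec (fun _ => Pt) (kf xf1 yf8 zf3) (kf xf1 yf1 zf0) (kf xf1 yf4 zf4) (kf xf2 yf12 zf4) (kf xf1 yf9 zf16) (kf xf2 yf12 zf8) (kf xf1 yf1 zf2) (kf xf2 yf11 zf9) (kf xf2 yf12 zf10) (kf xf1 yf10 zf9) (kf xf2 yf12 zf15) (kf xf1 yf12 zf2) (kf xf2 yf4 zf10) (kf xf1 yf4 zf16) (kf xf2 yf12 zf19) (kf xf1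 yf1 zf7) (kf xf2 yf1 zf16) (kf xf2 yf3 zf18) (kf xf1 yf4 zf20) (kf xf2 yf13 zf0) (kf xf1 yf1 zf9)) (@D3.rec (fun _ => Pt) (kf xf2 yf2 zf1) (kf xf2 yf3 zf13) (kf xf1 yf1 zf10) (kf xf1 yf11 zf4) (kf xf1 yf11 zf3) (kf xf2 yf3 zf10) (kf xf1 yf1 zf12) (kf xf2 yf5 zf1) (kf xf1 yf1 zf13) (kf xf1 yf5 zf12) (kf xf2 yf6 zf15) (kf xf2 yf13 zf12) (kf xf1 yf1 zf14) (kf xf2 yf13 zf13) (kf xf1 yf9 zf19) (kf xf1 yf1 zf19) (kf xf1 yf11 zf17) (kf xf1 yf11 zf16) (kf xf2 yf13 zf16) (kf xf1 yf4 zf11) (kf xf1 yf2 zf4)) (@D3.rec (fun _ => Pt) (kf xf1 yf12 zf1) (kf xf1 yf12 zf0) (kf xf1 yf10 zf11) (kf xf1 yf2 zf8) (kf xf1 yf12 zf4) (kf xf2 yf13 zf20) (kf xf3 yf0 zf1) (kf xf1 yf2 zf12) (kf xf3 yf0 zf6) (kf xf3 yf0 zf3) (kf xf1 yf2 zf20) (kf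 xf1 yf2 zf15) (kf xf1 yf12 zf14) (kf xf1 yf2 zf18) (kf xf1 yf12 zf12) (kf xf3 yf0 zf19) (kf xf1 yf2 zf17) (kf xf3 yf0 zf13) (kf xf3 yf0 zf14) (kf xf3 yf0 zf9) (kf xf3 yf0 zf10)) (@D3.rec (fun _ => Pt) (kf xf1 yf4 zf3) (kf xf3 yf1 zf6) (kf xf1 yf3 zf3) (kf xf2 yf10 zf9) (kf xf3 yf1 zf9) (kf xf3 yf1 zf12) (kf xf1 yf3 zf4) (kf xf3 yf1 zf15) (kf xf3 yf1 zf16) (kf xf1 yf3 zf5) (kf xf1 yf13 zf12) (kf xf2 yf2 zf6) (kf xf1 yf13 zf10) (kf xf2 yf6 zf5) (kf xf1 yf3 zf7) (kf xf3 yf2 zf0) (kf xf1 yf3 zf8) (kf xf2 yf0 zf12) (kf xf3 yf2 zf2) (kf xf3 yf2 zf9) (kf xf1 yf3 zf20))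
def f_f_2 : D2 → D3 → Pt := @D2.rec (fun _ => D3 → Pt) (@D3.rec (fun _ => Pt) (kf xf1 yf4 zf0) (kf xf2 yf0 zf16) (kf xf3 yf2 zf6) (kf xf3 yf2 zf20) (kf xf2 yf0 zf13) (kf xf1 yf3 zf13) (kf xf3 yf3 zf0) (kf xf3 yf3 zf3) (kf xf2 yf9 zf10) (kf xf1 yf3 zf15) (kf xf2 yf13 zf17) (kf xf1 yf3 zf18) (kf xf1 yf13 zf17) (kf xf2 yf0 zf4) (kf xf1 yf3 zf17) (kf xf3 yf3 zf7) (kf xf2 yf0 zf1) (kf xf1 yf4 zf1) (kf xf1 yf4 zf2) (kf xf3 yf2 zf10) (kf xf3 yf4 zf1)) (@D3.rec (fun _ => Pt) (kf xf3 yf2 zf12) (kf xf3 yf3 zf14) (kf xf3 yf4 zf7) (kf xf3 yf3 zf16) (kf xf3 yf4 zf11) (kf xf3 yf4 zf13) (kf xf1 yf4 zf6) (kf xf2 yf1 zf8) (kf xf2 yf1 zf7) (kf xf3 yf4 zf19) (kf xf1 yf4 zf8) (kf xf3 yf5 zf0) (kf xf1 yf4 zf9) (kf xf3 yf5 zf2) (kf xf1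 yf4 zf10) (kf xf3 yf5 zf6) (kf xf1 yf10 zf16) (kf xf1 yf4 zf13) (kf xf1 yf4 zf14) (kf xf2 yf1 zf20) (kf xf2 yf1 zf19)) (@D3.rec (fun _ => Pt) (kf xf3 yf5 zf12) (kf xf1 yf11 zf0) (kf xf1 yf4 zf17) (kf xf3 yf5 zf15) (kf xf1 yf4 zf18) (kf xf2 yf2 zf7) (kf xf1 yf13 zf11) (kf xf2 yf2 zf5) (kf xf3 yf5 zf20) (kf xf3 yf6 zf0) (kf xf1 yf5 zf0) (kf xf2 yf3 zf2) (kf xf3 yf6 zf2) (kf xf3 yf6 zf7) (kf xf3 yf6 zf9) (kf xf2 yf8 zf18) (kf xf2 yf3 zf9) (kf xf1 yf5 zf4) (kf xf3 yf6 zf11) (kf xf2 yf9 zf2) (kf xf2 yf10 zf15)) (@D3.rec (fun _ => Pt) (kf xf1 yf5 zf6) (kf xf3 yf6 zf17) (kf xf2 yf2 zf11) (kf xf1 yf5 zf8) (kf xf1 yf8 zf11) (kf xf1 yf5 zf13) (kf xf3 yf7 zf2) (kf xf1 yf5 zf9) (kf xf1 yf5 zf10) (kf xf2 yf2 zf16) (kf xf1 yf11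 zf5) (kf xf3 yf6 zf20) (kf xf2 yf13 zf3) (kf xf1 yf11 zf1) (kf xf3 yf7 zf0) (kf xf3 yf1 zf4) (kf xf3 yf7 zf14) (kf xf1 yf5 zf14) (kf xf1 yf10 zf17) (kf xf3 yf7 zf19) (kf xf1 yf5 zf16)) (@D3.rec (fun _ => Pt) (kf xf2 yf12 zf17) (kf xf1 yf5 zf17) (kf xf2 yf4 zf11) (kf xf3 yf8 zf1) (kf xf3 yf8 zf6) (kf xf3 yf8 zf8) (kf xf1 yf7 zf4) (kf xf2 yf13 zf7) (kf xf3 yf8 zf14) (kf xf1 yf6 zf1) (kf xf1 yf10 zf12) (kf xf2 yf4 zf2) (kf xf1 yf6 zf3) (kf xf3 yf8 zf17) (kf xf1 yf6 zf4) (kf xf2 yf13 zf11) (kf xf3 yf9 zf0) (kf xf3 yf9 zf3) (kf xf1 yf6 zf5) (kf xf3 yf9 zf8) (kf xf1 yf7 zf19)) (@D3.rec (fun _ => Pt) (kf xf1 yf6 zf6) (kf xf1 yf11 zf7) (kf xf3 yf9 zf5) (kf xf3 yf8 zf20) (kf xf1 yf6 zf8) (kf xf3 yf9 zf14) (kf xf1 yf6 zf9)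 (kf xf2 yf5 zf9) (kf xf1 yf6 zf15) (kf xf2 yf5 zf7) (kf xf3 yf6 zf4) (kf xf1 yf6 zf11) (kf xf1 yf6 zf12) (kf xf3 yf9 zf19) (kf xf3 yf9 zf16) (kf xf3 yf9 zf17) (kf xf3 yf10 zf4) (kf xf3 yf5 zf18) (kf xf2 yf6 zf6) (kf xf1 yf6 zf17) (kf xf2 yf6 zf2)) (@D3.rec (fun _ => Pt) (kf xf3 yf10 zf8) (kf xf1 yf6 zf19) (kf xf2 yf5 zf20) (kf xf1 yf7 zf1) (kf xf3 yf10 zf12) (kf xf1 yf13 zf13) (kf xf2 yf5 zf18) (kf xf3 yf6 zf16) (kf xf1 yf7 zf2) (kf xf3 yf10 zf16) (kf xf1 yf7 zf3) (kf xf3 yf8 zf9) (kf xf3 yf8 zf10) (kf xf3 yf11 zf2) (kf xf1 yf7 zf5) (kf xf1 yf11 zf10) (kf xf2 yf10 zf17) (kf xf2 yf10 zf16) (kf xf1 yf7 zf8) (kf xf3 yf11 zf6) (kf xf3 yf3 zf20)) (@D3.rec (fun _ => Pt) (kf xf3 yf11 zf11) (kf xf1 yf7 zf12) (kf xf1 yf7 zf11)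 (kf xf2 yf7 zf5) (kf xf3 yf11 zf10) (kf xf2 yf7 zf3) (kf xf1 yf7 zf15) (kf xf1 yf7 zf16) (kf xf2 yf7 zf16) (kf xf3 yf1 zf11) (kf xf2 yf8 zf5) (kf xf1 yf7 zf14) (kf xf3 yf11 zf15) (kf xf3 yf12 zf5) (kf xf3 yf11 zf17) (kf xf3 yf12 zf9) (kf xf2 yf7 zf8) (kf xf3 yf12 zf13) (kf xf1 yf7 zf17) (kf xf2 yf12 zf11) (kf xf3 yf12 zf17)) (@D3.rec (fun _ => Pt) (kf xf1 yf7 zf18) (kf xf3 yf9 zf9) (kf xf3 yf9 zf2) (kf xf1 yf7 zf20) (kf xf1 yf8 zf1) (kf xf2 yf7 zf10) (kf xf3 yf12 zf20) (kf xf3 yf13 zf0) (kf xf2 yf8 zf13) (kf xf1 yf9 zf17) (kf xf3 yf13 zf9) (kf xf2 yf11 zf19) (kf xf3 yf13 zf14) (kf xf2 yf8 zf8) (kf xf3 yf13 zf16) (kf xf1 yf8 zf5) (kf xf3 yf13 zf4) (kf xf3 yf13 zf19) (kf xf2 yf2 zf15) (kf xf1 yf8 zf7) (kf xf3 yf6 zf1))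 (@D3.rec (fun _ => Pt) (kf xf3 yf6 zf15) (kf xf1 yf8 zf8) (kf xf2 yf2 zf19) (kf xf1 yf8 zf9) (kf xf2 yf9 zf5) (kf xf2 yf9 zf4) (kf xf1 yf8 zf18) (kf xf4 yf0 zf9) (kf xf1 yf8 zf20) (kf xf2 yf10 zf2) (kf xf2 yf0 zf8) (kf xf4 yf0 zf15) (kf xf2 yf11 zf2) (kf xf1 yf8 zf15) (kf xf2 yf9 zf16) (kf xf4 yf1 zf0) (kf xf2 yf9 zf14) (kf xf4 yf0 zf18) (kf xf3 yf12 zf10) (kf xf4 yf1 zf7) (kf xf1 yf8 zf19)) (@D3.rec (fun _ => Pt) (kf xf4 yf1 zf10) (kf xf4 yf1 zf12) (kf xf2 yf9 zf9) (kf xf1 yf9 zf0) (kf xf2 yf12 zf6) (kf xf2 yf13 zf14) (kf xf2 yf10 zf14) (kf xf1 yf9 zf2) (kf xf4 yf1 zf17) (kf xf1 yf13 zf3) (kf xf3 yf12 zf15) (kf xf4 yf2 zf0) (kf xf1 yf9 zf4) (kf xf1 yf9 zf5) (kf xf2 yf10 zf6) (kf xf2 yf2 zf20) (kf xf2 yf6 zf17) (kf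 xf2 yf6 zf16) (kf xf4 yf2 zf7) (kf xf1 yf9 zf8) (kf xf4 yf2 zf8)) (@D3.rec (fun _ => Pt) (kf xf4 yf2 zf10) (kf xf1 yf9 zf9) (kf xf2 yf9 zf12) (kf xf2 yf11 zf7) (kf xf1 yf9 zf14) (kf xf1 yf9 zf15) (kf xf2 yf11 zf10) (kf xf2 yf11 zf3) (kf xf4 yf2 zf19) (kf xf1 yf10 zf7) (kf xf2 yf11 zf6) (kf xf2 yf11 zf13) (kf xf4 yf3 zf2) (kf xf2 yf11 zf11) (kf xf4 yf3 zf7) (kf xf4 yf3 zf10) (kf xf1 yf9 zf18) (kf xf3 yf5 zf14) (kf xf4 yf3 zf14) (kf xf2 yf8 zf11) (kf xf3 yf1 zf13)) (@D3.rec (fun _ => Pt) (kf xf1 yf9 zf20) (kf xf4 yf3 zf19) (kf xf4 yf4 zf3) (kf xf4 yf4 zf5) (kf xf1 yf10 zf3) (kf xf4 yf4 zf8) (kf xf2 yf10 zf4) (kf xf3 yf12 zf11) (kf xf1 yf10 zf5) (kf xf3 yf12 zf12) (kf xf1 yf10 zf8) (kf xf2 yf7 zf19) (kf xf4 yf4 zf14)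 (kf xf4 yf4 zf16) (kf xf4 yf4 zf19) (kf xf1 yf10 zf10) (kf xf3 yf8 zf0) (kf xf2 yf4 zf0) (kf xf3 yf6 zf19) (kf xf1 yf10 zf14) (kf xf2 yf13 zf9)) (@D3.rec (fun _ => Pt) (kf xf1 yf10 zf19) (kf xf4 yf0 zf0) (kf xf4 yf5 zf4) (kf xf2 yf3 zf12) (kf xf3 yf7 zf10) (kf xf4 yf5 zf10) (kf xf4 yf5 zf13) (kf xf2 yf4 zf7) (kf xf3 yf7 zf5) (kf xf2 yf12 zf20) (kf xf3 yf13 zf20) (kf xf2 yf4 zf15) (kf xf1 yf11 zf11) (kf xf1 yf11 zf13) (kf xf2 yf10 zf5) (kf xf4 yf6 zf0) (kf xf1 yf11 zf18) (kf xf2 yf0 zf10) (kf xf3 yf0 zf0) (kf xf4 yf6 zf3) (kf xf1 yf12 zf5))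
def f_f_3 : D2 → D3 → Pt := @D2.rec (fun _ => D3 → Pt) (@D3.rec (fun _ => Pt) (kf xf2 yf13 zf18) (kf xf1 yf12 zf6) (kf xf3 yf0 zf4) (kf xf1 yf12 zf9) (kf xf3 yf0 zf2) (kf xf3 yf0 zf18) (kf xf1 yf12 zf8) (kf xf4 yf6 zf7) (kf xf3 yf0 zf15) (kf xf1 yf12 zf19) (kf xf1 yf12 zf20) (kf xf4 yf6 zf5) (kf xf4 yf6 zf20) (kf xf1 yf12 zf17) (kf xf1 yf12 zf18) (kf xf3 yf0 zf8) (kf xf4 yf6 zf17) (kf xf4 yf7 zf9) (kf xf3 yf0 zf5) (kf xf1 yf12 zf15) (kf xf4 yf7 zf10)) (@D3.rec (fun _ => Pt) (kf xf4 yf7 zf0) (kf xf4 yf7 zf17) (kf xf4 yf7 zf2) (kf xf4 yf6 zf12) (kf xf2 yf3 zf15) (kf xf4 yf6 zf14) (kf xf1 yf13 zf1) (kf xf3 yf1 zf8) (kf xf3 yf1 zf7) (kf xf1 yf13 zf4) (kf xf4 yf8 zf6) (kf xf2 yf7 zf9) (kf xf1 yf13 zf5) (kf xf2 yf11 zf20)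 (kf xf3 yf10 zf13) (kf xf1 yf13 zf7) (kf xf1 yf13 zf8) (kf xf4 yf8 zf10) (kf xf3 yf4 zf17) (kf xf3 yf5 zf17) (kf xf3 yf10 zf9)) (@D3.rec (fun _ => Pt) (kf xf1 yf13 zf15) (kf xf3 yf3 zf6) (kf xf1 yf13 zf18) (kf xf3 yf3 zf2) (kf xf4 yf8 zf16) (kf xf3 yf2 zf14) (kf xf2 yf0 zf2) (kf xf3 yf8 zf7) (kf xf3 yf3 zf10) (kf xf1 yf13 zf19) (kf xf2 yf0 zf19) (kf xf4 yf9 zf5) (kf xf2 yf1 zf0) (kf xf3 yf3 zf13) (kf xf3 yf2 zf5) (kf xf4 yf7 zf19) (kf xf3 yf3 zf8) (kf xf4 yf1 zf20) (kf xf4 yf9 zf12) (kf xf3 yf3 zf9) (kf xf2 yf0 zf3)) (@D3.rec (fun _ => Pt) (kf xf2 yf0 zf6) (kf xf4 yf9 zf13) (kf xf3 yf2 zf3) (kf xf2 yf0 zf7) (kf xf3 yf13 zf11) (kf xf4 yf0 zf12) (kf xf3 yf2 zf1) (kf xf2 yf0 zf15) (kf xf3 yf2 zf16) (kf xf3 yf2 zf19)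 (kf xf3 yf2 zf8) (kf xf4 yf9 zf16) (kf xf3 yf4 zf3) (kf xf3 yf2 zf13) (kf xf2 yf1 zf1) (kf xf4 yf10 zf4) (kf xf2 yf1 zf3) (kf xf4 yf9 zf0) (kf xf4 yf10 zf7) (kf xf4 yf9 zf2) (kf xf2 yf6 zf20)) (@D3.rec (fun _ => Pt) (kf xf3 yf10 zf19) (kf xf2 yf0 zf20) (kf xf4 yf10 zf16) (kf xf3 yf3 zf12) (kf xf3 yf4 zf6) (kf xf4 yf10 zf19) (kf xf3 yf4 zf4) (kf xf2 yf1 zf2) (kf xf4 yf11 zf1) (kf xf4 yf9 zf6) (kf xf4 yf11 zf6) (kf xf2 yf1 zf4) (kf xf4 yf11 zf8) (kf xf2 yf1 zf5) (kf xf3 yf5 zf1) (kf xf3 yf7 zf18) (kf xf4 yf8 zf13) (kf xf3 yf1 zf18) (kf xf3 yf5 zf3) (kf xf2 yf1 zf9) (kf xf4 yf7 zf8)) (@D3.rec (fun _ => Pt) (kf xf2 yf1 zf11) (kf xf3 yf4 zf14) (kf xf2 yf1 zf13) (kf xf3 yf4 zf18) (kf xf4 yf3 zf1) (kf xf4 yf3 zf0) (kf xf2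 yf1 zf15) (kf xf3 yf7 zf20) (kf xf4 yf11 zf17) (kf xf3 yf7 zf3) (kf xf3 yf9 zf20) (kf xf4 yf8 zf17) (kf xf2 yf2 zf0) (kf xf3 yf11 zf20) (kf xf2 yf11 zf17) (kf xf2 yf2 zf3) (kf xf4 yf12 zf2) (kf xf3 yf1 zf19) (kf xf2 yf5 zf17) (kf xf3 yf6 zf5) (kf xf2 yf2 zf8)) (@D3.rec (fun _ => Pt) (kf xf2 yf2 zf9) (kf xf2 yf8 zf20) (kf xf2 yf2 zf12) (kf xf4 yf12 zf6) (kf xf2 yf5 zf10) (kf xf3 yf5 zf19) (kf xf4 yf12 zf7) (kf xf2 yf2 zf13) (kf xf3 yf10 zf17) (kf xf2 yf2 zf14) (kf xf4 yf12 zf9) (kf xf2 yf2 zf18) (kf xf4 yf12 zf10) (kf xf4 yf12 zf11) (kf xf4 yf12 zf18) (kf xf2 yf9 zf0) (kf xf2 yf6 zf7) (kf xf2 yf3 zf1) (kf xf4 yf12 zf20) (kf xf2 yf12 zf18) (kf xf2 yf3 zf11)) (@D3.rec (fun _ => Pt) (kf xf2 yf3 zf14) (kf xf4 yf13 zf5)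 (kf xf2 yf3 zf6) (kf xf3 yf5 zf9) (kf xf4 yf13 zf9) (kf xf2 yf13 zf8) (kf xf4 yf13 zf1) (kf xf4 yf13 zf2) (kf xf4 yf8 zf0) (kf xf4 yf13 zf19) (kf xf2 yf13 zf4) (kf xf5 yf0 zf3) (kf xf4 yf6 zf13) (kf xf3 yf13 zf6) (kf xf2 yf3 zf16) (kf xf5 yf0 zf7) (kf xf5 yf0 zf6) (kf xf5 yf0 zf10) (kf xf3 yf4 zf15) (kf xf2 yf3 zf19) (kf xf3 yf5 zf7)) (@D3.rec (fun _ => Pt) (kf xf2 yf12 zf16) (kf xf2 yf4 zf3) (kf xf3 yf10 zf15) (kf xf5 yf0 zf13) (kf xf3 yf10 zf6) (kf xf4 yf12 zf19) (kf xf2 yf4 zf4) (kf xf3 yf2 zf7) (kf xf2 yf4 zf5) (kf xf2 yf6 zf11) (kf xf2 yf6 zf12) (kf xf3 yf11 zf1) (kf xf5 yf1 zf1) (kf xf5 yf1 zf2) (kf xf2 yf4 zf8) (kf xf5 yf1 zf3) (kf xf5 yf1 zf5) (kf xf2 yf4 zf13) (kf xf4 yf8 zf9) (kf xf4 yf3 zf15) (kf xf2 yf5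 zf3)) (@D3.rec (fun _ => Pt) (kf xf2 yf4 zf16) (kf xf4 yf3 zf16) (kf xf2 yf8 zf2) (kf xf2 yf4 zf17) (kf xf3 yf9 zf6) (kf xf2 yf5 zf2) (kf xf3 yf9 zf4) (kf xf4 yf8 zf5) (kf xf2 yf4 zf19) (kf xf2 yf8 zf1) (kf xf5 yf1 zf11) (kf xf5 yf1 zf12) (kf xf4 yf5 zf20) (kf xf5 yf1 zf9) (kf xf2 yf5 zf5) (kf xf5 yf1 zf20) (kf xf2 yf5 zf14) (kf xf2 yf5 zf15) (kf xf3 yf10 zf3) (kf xf2 yf5 zf13) (kf xf3 yf5 zf10)) (@D3.rec (fun _ => Pt) (kf xf4 yf2 zf4) (kf xf5 yf2 zf2) (kf xf5 yf1 zf4) (kf xf3 yf9 zf18) (kf xf2 yf5 zf16) (kf xf4 yf12 zf4) (kf xf3 yf8 zf4) (kf xf5 yf2 zf8) (kf xf2 yf6 zf0) (kf xf3 yf1 zf20) (kf xf5 yf2 zf9) (kf xf4 yf12 zf3) (kf xf2 yf6 zf4) (kf xf3 yf1 zf14) (kf xf4 yf0 zf1) (kf xf3 yf8 zf2) (kf xf2 yf6 zf9) (kf xf3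 yf6 zf8) (kf xf5 yf0 zf18) (kf xf3 yf4 zf0) (kf xf4 yf10 zf0)) (@D3.rec (fun _ => Pt) (kf xf5 yf2 zf19) (kf xf3 yf8 zf11) (kf xf2 yf6 zf13) (kf xf4 yf2 zf3) (kf xf5 yf2 zf20) (kf xf5 yf3 zf0) (kf xf2 yf6 zf19) (kf xf4 yf10 zf11) (kf xf5 yf3 zf2) (kf xf4 yf5 zf17) (kf xf2 yf7 zf4) (kf xf2 yf7 zf0) (kf xf3 yf11 zf13) (kf xf3 yf11 zf12) (kf xf5 yf3 zf3) (kf xf2 yf7 zf12) (kf xf5 yf3 zf9) (kf xf2 yf7 zf14) (kf xf3 yf12 zf8) (kf xf4 yf8 zf7) (kf xf3 yf5 zf13)) (@D3.rec (fun _ => Pt) (kf xf3 yf12 zf2) (kf xf5 yf3 zf15) (kf xf3 yf12 zf0) (kf xf5 yf3 zf13) (kf xf5 yf3 zf19) (kf xf2 yf7 zf13) (kf xf5 yf4 zf0) (kf xf5 yf4 zf2) (kf xf3 yf11 zf18) (kf xf2 yf7 zf15) (kf xf2 yf9 zf18) (kf xf2 yf12 zf7) (kf xf2 yf12 zf9) (kf xf2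 yf7 zf17) (kf xf4 yf1 zf3) (kf xf2 yf10 zf10) (kf xf4 yf4 zf11) (kf xf2 yf7 zf20) (kf xf5 yf1 zf10) (kf xf3 yf13 zf2) (kf xf2 yf8 zf6)) (@D3.rec (fun _ => Pt) (kf xf2 yf8 zf7) (kf xf3 yf13 zf5) (kf xf3 yf12 zf19) (kf xf5 yf4 zf14) (kf xf2 yf8 zf16) (kf xf3 yf13 zf1) (kf xf3 yf7 zf13) (kf xf5 yf4 zf18) (kf xf5 yf4 zf20) (kf xf2 yf8 zf10) (kf xf4 yf12 zf0) (kf xf3 yf3 zf4) (kf xf5 yf5 zf4) (kf xf5 yf5 zf6) (kf xf2 yf8 zf12) (kf xf5 yf5 zf9) (kf xf2 yf8 zf14) (kf xf5 yf5 zf13) (kf xf4 yf4 zf20) (kf xf2 yf8 zf17) (kf xf2 yf13 zf10))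
def f_f_4 : D2 → D3 → Pt := @D2.rec (fun _ => D3 → Pt) (@D3.rec (fun _ => Pt) (kf xf2 yf13 zf1) (kf xf3 yf10 zf14) (kf xf4 yf5 zf18) (kf xf5 yf5 zf19) (kf xf5 yf6 zf1) (kf xf5 yf6 zf4) (kf xf4 yf1 zf2) (kf xf5 yf6 zf8) (kf xf5 yf6 zf9) (kf xf2 yf9 zf7) (kf xf5 yf6 zf13) (kf xf4 yf4 zf4) (kf xf3 yf3 zf5) (kf xf5 yf6 zf18) (kf xf5 yf6 zf20) (kf xf2 yf9 zf11) (kf xf5 yf7 zf0) (kf xf5 yf7 zf1) (kf xf2 yf9 zf17) (kf xf5 yf7 zf2) (kf xf5 yf7 zf4)) (@D3.rec (fun _ => Pt) (kf xf2 yf9 zf15) (kf xf5 yf7 zf6) (kf xf4 yf0 zf6) (kf xf3 yf12 zf14) (kf xf5 yf4 zf5) (kf xf5 yf4 zf6) (kf xf5 yf7 zf11) (kf xf2 yf9 zf19) (kf xf4 yf1 zf9) (kf xf4 yf1 zf8) (kf xf2 yf10 zf0) (kf xf5 yf7 zf16) (kf xf2 yf10 zf1) (kf xf5 yf7 zf18) (kf xf5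 yf7 zf19) (kf xf4 yf4 zf9) (kf xf5 yf5 zf10) (kf xf2 yf10 zf8) (kf xf5 yf3 zf20) (kf xf4 yf4 zf10) (kf xf3 yf2 zf17)) (@D3.rec (fun _ => Pt) (kf xf2 yf10 zf11) (kf xf4 yf2 zf13) (kf xf5 yf8 zf3) (kf xf3 yf11 zf3) (kf xf3 yf10 zf0) (kf xf4 yf6 zf4) (kf xf5 yf8 zf9) (kf xf2 yf10 zf18) (kf xf2 yf10 zf20) (kf xf5 yf8 zf12) (kf xf2 yf11 zf0) (kf xf5 yf8 zf13) (kf xf4 yf2 zf16) (kf xf4 yf2 zf1) (kf xf5 yf8 zf17) (kf xf5 yf8 zf5) (kf xf4 yf2 zf12) (kf xf5 yf9 zf2) (kf xf5 yf9 zf4) (kf xf2 yf11 zf8) (kf xf5 yf4 zf15)) (@D3.rec (fun _ => Pt) (kf xf3 yf5 zf5) (kf xf3 yf5 zf4) (kf xf2 yf11 zf12) (kf xf4 yf13 zf4) (kf xf5 yf9 zf10) (kf xf5 yf9 zf12) (kf xf5 yf9 zf15) (kf xf2 yf11 zf14) (kf xf4 yf12 zf1) (kf xf5 yf1 zf8) (kf xf2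 yf11 zf15) (kf xf4 yf3 zf12) (kf xf4 yf3 zf11) (kf xf5 yf10 zf1) (kf xf2 yf11 zf18) (kf xf3 yf8 zf19) (kf xf3 yf9 zf1) (kf xf5 yf10 zf5) (kf xf5 yf10 zf7) (kf xf2 yf12 zf1) (kf xf5 yf10 zf10)) (@D3.rec (fun _ => Pt) (kf xf5 yf10 zf13) (kf xf5 yf10 zf15) (kf xf5 yf6 zf12) (kf xf2 yf12 zf2) (kf xf4 yf0 zf11) (kf xf2 yf12 zf3) (kf xf4 yf4 zf7) (kf xf4 yf4 zf6) (kf xf2 yf12 zf5) (kf xf4 yf1 zf15) (kf xf4 yf1 zf19) (kf xf3 yf12 zf16) (kf xf5 yf0 zf1) (kf xf5 yf7 zf8) (kf xf2 yf12 zf12) (kf xf5 yf11 zf1) (kf xf2 yf12 zf13) (kf xf5 yf11 zf5) (kf xf5 yf11 zf3) (kf xf2 yf12 zf14) (kf xf3 yf13 zf18)) (@D3.rec (fun _ => Pt) (kf xf4 yf13 zf0) (kf xf5 yf2 zf7) (kf xf5 yf5 zf14) (kf xf5 yf2 zf12) (kf xf2 yf13 zf2) (kf xf5 yf11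 zf11) (kf xf5 yf0 zf0) (kf xf4 yf10 zf20) (kf xf5 yf11 zf16) (kf xf5 yf11 zf17) (kf xf2 yf13 zf5) (kf xf5 yf9 zf9) (kf xf5 yf9 zf5) (kf xf2 yf13 zf6) (kf xf4 yf13 zf10) (kf xf4 yf13 zf11) (kf xf4 yf10 zf17) (kf xf3 yf11 zf9) (kf xf4 yf0 zf2) (kf xf5 yf12 zf5) (kf xf3 yf9 zf12)) (@D3.rec (fun _ => Pt) (kf xf2 yf13 zf15) (kf xf4 yf6 zf2) (kf xf4 yf6 zf1) (kf xf2 yf13 zf19) (kf xf4 yf2 zf5) (kf xf3 yf0 zf11) (kf xf4 yf7 zf12) (kf xf3 yf0 zf7) (kf xf4 yf7 zf5) (kf xf4 yf6 zf19) (kf xf5 yf12 zf10) (kf xf4 yf7 zf3) (kf xf3 yf1 zf3) (kf xf3 yf7 zf12) (kf xf3 yf1 zf5) (kf xf5 yf12 zf9) (kf xf4 yf7 zf4) (kf xf3 yf0 zf16) (kf xf4 yf13 zf8) (kf xf4 yf6 zf9) (kf xf3 yf0 zf12)) (@D3.rec (fun _ => Pt) (kf xf3 yf1 zf0) (kf xf5 yf12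 zf19) (kf xf3 yf1 zf2) (kf xf4 yf6 zf11) (kf xf4 yf6 zf16) (kf xf4 yf6 zf8) (kf xf5 yf9 zf3) (kf xf5 yf12 zf20) (kf xf3 yf4 zf20) (kf xf3 yf0 zf17) (kf xf3 yf0 zf20) (kf xf5 yf13 zf0) (kf xf4 yf6 zf6) (kf xf5 yf12 zf15) (kf xf5 yf13 zf3) (kf xf5 yf12 zf17) (kf xf4 yf12 zf14) (kf xf3 yf1 zf1) (kf xf5 yf13 zf7) (kf xf3 yf2 zf15) (kf xf4 yf8 zf1)) (@D3.rec (fun _ => Pt) (kf xf3 yf7 zf8) (kf xf4 yf7 zf20) (kf xf4 yf10 zf3) (kf xf4 yf11 zf14) (kf xf5 yf2 zf3) (kf xf3 yf9 zf7) (kf xf3 yf1 zf10) (kf xf3 yf11 zf19) (kf xf5 yf0 zf14) (kf xf3 yf8 zf18) (kf xf3 yf1 zf17) (kf xf5 yf13 zf15) (kf xf5 yf2 zf13) (kf xf3 yf4 zf16) (kf xf4 yf11 zf13) (kf xf4 yf9 zf11) (kf xf3 yf2 zf4) (kf xf3 yf5 zf11) (kf xf6 yf0 zf0) (kf xf4 yf12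 zf16) (kf xf4 yf9 zf7)) (@D3.rec (fun _ => Pt) (kf xf3 yf3 zf17) (kf xf6 yf0 zf7) (kf xf3 yf3 zf19) (kf xf4 yf11 zf7) (kf xf4 yf11 zf5) (kf xf3 yf2 zf11) (kf xf3 yf4 zf9) (kf xf4 yf8 zf20) (kf xf5 yf13 zf5) (kf xf4 yf9 zf17) (kf xf6 yf0 zf12) (kf xf4 yf8 zf15) (kf xf3 yf2 zf18) (kf xf3 yf3 zf1) (kf xf5 yf6 zf14) (kf xf5 yf0 zf17) (kf xf3 yf3 zf11) (kf xf4 yf9 zf9) (kf xf4 yf10 zf10) (kf xf4 yf10 zf13) (kf xf5 yf12 zf14)) (@D3.rec (fun _ => Pt) (kf xf3 yf10 zf20) (kf xf5 yf5 zf17) (kf xf6 yf1 zf1) (kf xf4 yf8 zf2) (kf xf3 yf3 zf15) (kf xf4 yf11 zf18) (kf xf5 yf2 zf15) (kf xf3 yf3 zf18) (kf xf5 yf2 zf14) (kf xf6 yf1 zf5) (kf xf4 yf9 zf18) (kf xf3 yf11 zf7) (kf xf5 yf3 zf1) (kf xf4 yf9 zf19) (kf xf4 yf10 zf15) (kf xf4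 yf10 zf14) (kf xf3 yf4 zf2) (kf xf4 yf5 zf16) (kf xf6 yf1 zf8) (kf xf3 yf4 zf5) (kf xf4 yf5 zf7)) (@D3.rec (fun _ => Pt) (kf xf6 yf1 zf11) (kf xf3 yf4 zf8) (kf xf6 yf0 zf8) (kf xf5 yf0 zf4) (kf xf6 yf0 zf10) (kf xf4 yf9 zf4) (kf xf3 yf4 zf10) (kf xf4 yf9 zf3) (kf xf3 yf4 zf12) (kf xf6 yf1 zf18) (kf xf5 yf0 zf9) (kf xf5 yf13 zf18) (kf xf5 yf13 zf19) (kf xf4 yf8 zf14) (kf xf4 yf8 zf3) (kf xf6 yf2 zf3) (kf xf5 yf0 zf11) (kf xf3 yf5 zf8) (kf xf4 yf10 zf5) (kf xf4 yf13 zf7) (kf xf4 yf12 zf5)) (@D3.rec (fun _ => Pt) (kf xf3 yf13 zf10) (kf xf4 yf3 zf8) (kf xf3 yf5 zf16) (kf xf3 yf10 zf11) (kf xf3 yf10 zf5) (kf xf4 yf11 zf20) (kf xf3 yf6 zf3) (kf xf3 yf6 zf6) (kf xf6 yf2 zf9) (kf xf3 yf6 zf10) (kf xf3 yf6 zf12) (kf xf3 yf6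 zf13) (kf xf4 yf12 zf17) (kf xf6 yf2 zf10) (kf xf4 yf7 zf16) (kf xf5 yf12 zf11) (kf xf4 yf8 zf19) (kf xf4 yf12 zf12) (kf xf3 yf6 zf14) (kf xf3 yf8 zf5) (kf xf3 yf6 zf18)) (@D3.rec (fun _ => Pt) (kf xf4 yf5 zf0) (kf xf3 yf7 zf6) (kf xf3 yf7 zf7) (kf xf6 yf2 zf18) (kf xf4 yf3 zf3) (kf xf3 yf7 zf1) (kf xf6 yf2 zf4) (kf xf4 yf11 zf19) (kf xf4 yf6 zf18) (kf xf3 yf7 zf4) (kf xf4 yf5 zf14) (kf xf4 yf5 zf15) (kf xf5 yf12 zf0) (kf xf5 yf4 zf12) (kf xf6 yf2 zf17) (kf xf5 yf13 zf8) (kf xf6 yf3 zf3) (kf xf5 yf10 zf20) (kf xf5 yf4 zf16) (kf xf3 yf7 zf9) (kf xf6 yf3 zf6))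
def f_f_5 : D2 → D3 → Pt := @D2.rec (fun _ => D3 → Pt) (@D3.rec (fun _ => Pt) (kf xf4 yf5 zf6) (kf xf4 yf4 zf12) (kf xf5 yf2 zf5) (kf xf3 yf7 zf11) (kf xf4 yf11 zf3) (kf xf5 yf13 zf20) (kf xf3 yf7 zf16) (kf xf3 yf7 zf15) (kf xf6 yf3 zf11) (kf xf4 yf11 zf10) (kf xf3 yf7 zf17) (kf xf4 yf11 zf16) (kf xf5 yf12 zf12) (kf xf3 yf8 zf3) (kf xf4 yf8 zf8) (kf xf5 yf1 zf18) (kf xf5 yf5 zf15) (kf xf4 yf9 zf15) (kf xf3 yf10 zf18) (kf xf5 yf2 zf17) (kf xf6 yf3 zf19)) (@D3.rec (fun _ => Pt) (kf xf6 yf3 zf20) (kf xf3 yf8 zf12) (kf xf3 yf8 zf13) (kf xf3 yf8 zf15) (kf xf3 yf10 zf2) (kf xf3 yf8 zf16) (kf xf5 yf10 zf2) (kf xf5 yf9 zf20) (kf xf4 yf3 zf9) (kf xf3 yf9 zf13) (kf xf3 yf12 zf18) (kf xf3 yf9 zf10) (kf xf3 yf9 zf11) (kf xf5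 yf13 zf13) (kf xf6 yf4 zf5) (kf xf5 yf9 zf16) (kf xf6 yf4 zf6) (kf xf5 yf12 zf4) (kf xf5 yf0 zf15) (kf xf6 yf4 zf12) (kf xf3 yf9 zf15)) (@D3.rec (fun _ => Pt) (kf xf6 yf3 zf13) (kf xf5 yf6 zf15) (kf xf3 yf10 zf1) (kf xf4 yf8 zf4) (kf xf6 yf4 zf0) (kf xf5 yf0 zf2) (kf xf5 yf13 zf6) (kf xf4 yf5 zf1) (kf xf3 yf10 zf7) (kf xf3 yf10 zf10) (kf xf6 yf4 zf17) (kf xf5 yf9 zf6) (kf xf4 yf5 zf3) (kf xf4 yf8 zf12) (kf xf4 yf10 zf8) (kf xf4 yf10 zf6) (kf xf6 yf1 zf2) (kf xf5 yf0 zf19) (kf xf6 yf4 zf14) (kf xf3 yf11 zf0) (kf xf3 yf11 zf4)) (@D3.rec (fun _ => Pt) (kf xf3 yf11 zf5) (kf xf4 yf10 zf12) (kf xf3 yf11 zf8) (kf xf3 yf11 zf14) (kf xf6 yf4 zf20) (kf xf6 yf5 zf1) (kf xf6 yf5 zf4) (kf xf5 yf3 zf17) (kf xf6 yf5 zf7) (kf xf3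 yf11 zf16) (kf xf6 yf5 zf11) (kf xf5 yf5 zf5) (kf xf6 yf5 zf13) (kf xf3 yf12 zf3) (kf xf6 yf5 zf15) (kf xf3 yf12 zf1) (kf xf6 yf5 zf17) (kf xf5 yf3 zf7) (kf xf6 yf3 zf8) (kf xf3 yf12 zf4) (kf xf4 yf1 zf18)) (@D3.rec (fun _ => Pt) (kf xf3 yf12 zf6) (kf xf6 yf6 zf2) (kf xf3 yf12 zf7) (kf xf6 yf6 zf5) (kf xf6 yf6 zf6) (kf xf4 yf1 zf4) (kf xf4 yf1 zf5) (kf xf5 yf4 zf9) (kf xf6 yf4 zf4) (kf xf5 yf4 zf7) (kf xf6 yf6 zf9) (kf xf5 yf7 zf9) (kf xf4 yf13 zf13) (kf xf6 yf6 zf12) (kf xf3 yf13 zf3) (kf xf4 yf2 zf20) (kf xf4 yf13 zf18) (kf xf6 yf6 zf17) (kf xf3 yf13 zf7) (kf xf6 yf2 zf7) (kf xf3 yf13 zf8)) (@D3.rec (fun _ => Pt) (kf xf5 yf5 zf1) (kf xf5 yf5 zf0) (kf xf6 yf7 zf0) (kf xf6 yf5 zf10) (kf xf3 yf13 zf12) (kf xf5 yf3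 zf11) (kf xf3 yf13 zf13) (kf xf5 yf5 zf8) (kf xf5 yf5 zf7) (kf xf3 yf13 zf15) (kf xf4 yf1 zf16) (kf xf5 yf5 zf12) (kf xf5 yf5 zf11) (kf xf3 yf13 zf17) (kf xf4 yf5 zf2) (kf xf5 yf0 zf16) (kf xf5 yf12 zf1) (kf xf4 yf10 zf1) (kf xf6 yf7 zf8) (kf xf4 yf0 zf3) (kf xf5 yf10 zf0)) (@D3.rec (fun _ => Pt) (kf xf6 yf6 zf13) (kf xf4 yf0 zf4) (kf xf6 yf7 zf12) (kf xf6 yf7 zf13) (kf xf4 yf0 zf5) (kf xf5 yf10 zf14) (kf xf6 yf7 zf17) (kf xf6 yf7 zf18) (kf xf4 yf0 zf7) (kf xf4 yf0 zf8) (kf xf5 yf6 zf11) (kf xf5 yf6 zf10) (kf xf4 yf4 zf2) (kf xf4 yf0 zf10) (kf xf4 yf9 zf14) (kf xf5 yf2 zf1) (kf xf6 yf8 zf4) (kf xf6 yf8 zf5) (kf xf4 yf0 zf13) (kf xf6 yf8 zf6) (kf xf4 yf0 zf14)) (@D3.rec (fun _ => Pt) (kf xf4 yf0 zf16) (kf xf4 yf0 zf17)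 (kf xf4 yf0 zf19) (kf xf6 yf8 zf9) (kf xf4 yf0 zf20) (kf xf6 yf8 zf10) (kf xf4 yf1 zf1) (kf xf6 yf8 zf12) (kf xf4 yf4 zf13) (kf xf5 yf4 zf11) (kf xf6 yf8 zf14) (kf xf4 yf1 zf6) (kf xf5 yf7 zf17) (kf xf6 yf7 zf4) (kf xf6 yf8 zf16) (kf xf5 yf8 zf19) (kf xf4 yf1 zf11) (kf xf5 yf7 zf12) (kf xf4 yf1 zf13) (kf xf4 yf1 zf14) (kf xf6 yf5 zf12)) (@D3.rec (fun _ => Pt) (kf xf5 yf10 zf19) (kf xf6 yf4 zf15) (kf xf5 yf8 zf15) (kf xf4 yf2 zf2) (kf xf5 yf9 zf14) (kf xf4 yf2 zf15) (kf xf5 yf12 zf8) (kf xf5 yf12 zf7) (kf xf6 yf8 zf0) (kf xf4 yf2 zf6) (kf xf6 yf9 zf5) (kf xf6 yf9 zf6) (kf xf4 yf2 zf9) (kf xf4 yf2 zf11) (kf xf5 yf8 zf20) (kf xf5 yf8 zf2) (kf xf6 yf9 zf9) (kf xf4 yf2 zf14) (kf xf6 yf9 zf11) (kf xf5 yf7 zf15) (kf xf5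 yf8 zf14)) (@D3.rec (fun _ => Pt) (kf xf5 yf11 zf19) (kf xf6 yf1 zf7) (kf xf4 yf2 zf17) (kf xf4 yf7 zf6) (kf xf4 yf2 zf18) (kf xf4 yf5 zf12) (kf xf5 yf2 zf11) (kf xf6 yf7 zf9) (kf xf6 yf9 zf14) (kf xf4 yf5 zf11) (kf xf4 yf3 zf4) (kf xf6 yf8 zf17) (kf xf4 yf3 zf5) (kf xf6 yf9 zf18) (kf xf5 yf8 zf4) (kf xf4 yf3 zf6) (kf xf5 yf1 zf15) (kf xf6 yf9 zf16) (kf xf6 yf4 zf7) (kf xf6 yf4 zf2) (kf xf5 yf1 zf7)) (@D3.rec (fun _ => Pt) (kf xf5 yf5 zf20) (kf xf4 yf3 zf13) (kf xf5 yf1 zf6) (kf xf6 yf10 zf3) (kf xf6 yf10 zf5) (kf xf4 yf3 zf17) (kf xf5 yf12 zf18) (kf xf4 yf3 zf18) (kf xf5 yf10 zf9) (kf xf5 yf10 zf8) (kf xf4 yf3 zf20) (kf xf6 yf7 zf10) (kf xf6 yf10 zf8) (kf xf4 yf4 zf0) (kf xf5 yf6 zf5) (kf xf4 yf4 zf1) (kf xf5 yf10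 zf16) (kf xf6 yf10 zf11) (kf xf6 yf1 zf20) (kf xf5 yf8 zf0) (kf xf4 yf13 zf17)) (@D3.rec (fun _ => Pt) (kf xf6 yf6 zf16) (kf xf4 yf4 zf15) (kf xf6 yf10 zf0) (kf xf4 yf4 zf18) (kf xf6 yf10 zf1) (kf xf4 yf4 zf17) (kf xf6 yf6 zf15) (kf xf5 yf11 zf8) (kf xf5 yf11 zf7) (kf xf6 yf2 zf6) (kf xf6 yf10 zf16) (kf xf4 yf5 zf5) (kf xf6 yf3 zf7) (kf xf6 yf1 zf9) (kf xf6 yf7 zf7) (kf xf6 yf10 zf18) (kf xf4 yf5 zf8) (kf xf4 yf5 zf9) (kf xf6 yf2 zf19) (kf xf5 yf9 zf0) (kf xf6 yf1 zf6)) (@D3.rec (fun _ => Pt) (kf xf4 yf13 zf12) (kf xf5 yf5 zf16) (kf xf5 yf13 zf9) (kf xf6 yf3 zf18) (kf xf5 yf1 zf17) (kf xf4 yf5 zf19) (kf xf6 yf10 zf15) (kf xf5 yf8 zf7) (kf xf5 yf8 zf6) (kf xf4 yf6 zf15) (kf xf4 yf6 zf10) (kf xf4 yf12 zf15) (kf xf5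 yf0 zf12) (kf xf6 yf11 zf4) (kf xf4 yf9 zf20) (kf xf4 yf7 zf13) (kf xf6 yf11 zf6) (kf xf4 yf7 zf15) (kf xf5 yf10 zf6) (kf xf4 yf7 zf1) (kf xf4 yf7 zf7)) (@D3.rec (fun _ => Pt) (kf xf4 yf7 zf11) (kf xf6 yf2 zf12) (kf xf6 yf2 zf11) (kf xf4 yf7 zf14) (kf xf6 yf11 zf8) (kf xf4 yf9 zf8) (kf xf5 yf2 zf6) (kf xf4 yf7 zf18) (kf xf4 yf13 zf15) (kf xf5 yf12 zf2) (kf xf6 yf1 zf0) (kf xf6 yf2 zf2) (kf xf6 yf0 zf9) (kf xf5 yf1 zf13) (kf xf6 yf10 zf10) (kf xf4 yf8 zf11) (kf xf6 yf10 zf7) (kf xf6 yf2 zf15) (kf xf4 yf11 zf11) (kf xf4 yf11 zf12) (kf xf5 yf0 zf5))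
def f_f_6 : D2 → D3 → Pt := @D2.rec (fun _ => D3 → Pt) (@D3.rec (fun _ => Pt) (kf xf4 yf8 zf18) (kf xf6 yf0 zf3) (kf xf6 yf2 zf13) (kf xf6 yf0 zf1) (kf xf6 yf2 zf14) (kf xf6 yf1 zf14) (kf xf6 yf11 zf18) (kf xf4 yf9 zf1) (kf xf4 yf11 zf2) (kf xf5 yf13 zf12) (kf xf4 yf11 zf4) (kf xf6 yf0 zf15) (kf xf4 yf9 zf10) (kf xf6 yf8 zf1) (kf xf6 yf3 zf12) (kf xf6 yf0 zf11) (kf xf6 yf0 zf17) (kf xf6 yf0 zf16) (kf xf6 yf11 zf5) (kf xf6 yf7 zf6) (kf xf6 yf12 zf1)) (@D3.rec (fun _ => Pt) (kf xf5 yf13 zf10) (kf xf4 yf10 zf2) (kf xf5 yf2 zf16) (kf xf6 yf1 zf4) (kf xf6 yf1 zf3) (kf xf4 yf10 zf9) (kf xf5 yf11 zf20) (kf xf5 yf9 zf1) (kf xf4 yf10 zf18) (kf xf5 yf11 zf13) (kf xf6 yf12 zf4) (kf xf4 yf11 zf0) (kf xf6 yf11 zf17) (kf xf6 yf3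 zf9) (kf xf6 yf0 zf5) (kf xf6 yf1 zf15) (kf xf6 yf11 zf12) (kf xf6 yf4 zf9) (kf xf4 yf11 zf9) (kf xf6 yf3 zf10) (kf xf5 yf10 zf18)) (@D3.rec (fun _ => Pt) (kf xf6 yf5 zf0) (kf xf6 yf3 zf15) (kf xf5 yf13 zf11) (kf xf4 yf11 zf15) (kf xf4 yf13 zf6) (kf xf6 yf3 zf14) (kf xf5 yf11 zf9) (kf xf5 yf4 zf19) (kf xf6 yf12 zf8) (kf xf4 yf12 zf8) (kf xf4 yf12 zf13) (kf xf5 yf13 zf2) (kf xf5 yf13 zf1) (kf xf6 yf0 zf2) (kf xf6 yf0 zf4) (kf xf5 yf13 zf17) (kf xf6 yf6 zf11) (kf xf4 yf13 zf14) (kf xf4 yf13 zf3) (kf xf5 yf11 zf18) (kf xf6 yf10 zf19)) (@D3.rec (fun _ => Pt) (kf xf6 yf6 zf7) (kf xf6 yf9 zf8) (kf xf6 yf6 zf14) (kf xf4 yf13 zf16) (kf xf6 yf10 zf13) (kf xf6 yf11 zf0) (kf xf4 yf13 zf20) (kf xf5 yf11 zf12) (kf xf5 yf3 zf18)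 (kf xf6 yf1 zf13) (kf xf6 yf1 zf19) (kf xf5 yf0 zf8) (kf xf6 yf0 zf14) (kf xf5 yf2 zf0) (kf xf6 yf2 zf5) (kf xf6 yf2 zf1) (kf xf6 yf4 zf18) (kf xf6 yf12 zf16) (kf xf5 yf12 zf3) (kf xf5 yf0 zf20) (kf xf5 yf1 zf0)) (@D3.rec (fun _ => Pt) (kf xf5 yf2 zf4) (kf xf6 yf6 zf18) (kf xf5 yf9 zf19) (kf xf6 yf12 zf6) (kf xf5 yf4 zf8) (kf xf5 yf1 zf14) (kf xf5 yf1 zf16) (kf xf5 yf9 zf18) (kf xf6 yf12 zf17) (kf xf6 yf1 zf17) (kf xf6 yf9 zf20) (kf xf6 yf9 zf19) (kf xf5 yf1 zf19) (kf xf6 yf12 zf15) (kf xf5 yf2 zf18) (kf xf5 yf8 zf1) (kf xf6 yf11 zf7) (kf xf5 yf2 zf10) (kf xf6 yf3 zf16) (kf xf6 yf11 zf19) (kf xf5 yf3 zf4)) (@D3.rec (fun _ => Pt) (kf xf6 yf2 zf0) (kf xf5 yf3 zf5) (kf xf6 yf13 zf0) (kf xf6 yf13 zf1) (kf xf5 yf3 zf6)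 (kf xf6 yf13 zf4) (kf xf6 yf7 zf1) (kf xf5 yf3 zf8) (kf xf6 yf5 zf9) (kf xf6 yf5 zf8) (kf xf5 yf5 zf3) (kf xf5 yf3 zf10) (kf xf5 yf7 zf20) (kf xf5 yf3 zf12) (kf xf6 yf12 zf12) (kf xf5 yf3 zf14) (kf xf6 yf13 zf2) (kf xf5 yf3 zf16) (kf xf6 yf13 zf5) (kf xf6 yf12 zf13) (kf xf6 yf6 zf4)) (@D3.rec (fun _ => Pt) (kf xf6 yf9 zf17) (kf xf6 yf6 zf10) (kf xf5 yf4 zf1) (kf xf6 yf13 zf6) (kf xf6 yf5 zf20) (kf xf5 yf4 zf3) (kf xf5 yf4 zf4) (kf xf6 yf3 zf0) (kf xf6 yf12 zf18) (kf xf5 yf4 zf10) (kf xf6 yf6 zf1) (kf xf6 yf2 zf16) (kf xf5 yf4 zf13) (kf xf5 yf6 zf0) (kf xf6 yf3 zf2) (kf xf5 yf11 zf6) (kf xf5 yf11 zf0) (kf xf5 yf4 zf17) (kf xf6 yf4 zf1) (kf xf6 yf7 zf19) (kf xf6 yf13 zf3)) (@D3.rec (fun _ => Pt) (kf xf5 yf5 zf2) (kf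 xf6 yf5 zf6) (kf xf6 yf7 zf2) (kf xf6 yf13 zf9) (kf xf5 yf7 zf13) (kf xf6 yf11 zf1) (kf xf6 yf0 zf19) (kf xf5 yf11 zf14) (kf xf5 yf5 zf18) (kf xf5 yf9 zf7) (kf xf5 yf10 zf11) (kf xf6 yf7 zf14) (kf xf5 yf6 zf2) (kf xf5 yf6 zf3) (kf xf6 yf7 zf11) (kf xf6 yf10 zf4) (kf xf6 yf7 zf20) (kf xf5 yf6 zf6) (kf xf5 yf6 zf7) (kf xf6 yf6 zf19) (kf xf6 yf7 zf16)) (@D3.rec (fun _ => Pt) (kf xf5 yf8 zf8) (kf xf6 yf0 zf13) (kf xf6 yf13 zf14) (kf xf6 yf13 zf15) (kf xf5 yf6 zf16) (kf xf5 yf6 zf17) (kf xf5 yf6 zf19) (kf xf6 yf13 zf10) (kf xf6 yf8 zf11) (kf xf5 yf7 zf3) (kf xf5 yf7 zf5) (kf xf6 yf8 zf8) (kf xf5 yf7 zf7) (kf xf6 yf8 zf18) (kf xf5 yf7 zf10) (kf xf6 yf9 zf12) (kf xf5 yf7 zf14) (kf xf5 yf9 zf11) (kf xf6 yf8 zf13) (kf xf6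 yf10 zf12) (kf xf6 yf12 zf20)) (@D3.rec (fun _ => Pt) (kf xf6 yf9 zf15) (kf xf6 yf11 zf3) (kf xf6 yf11 zf2) (kf xf6 yf13 zf13) (kf xf6 yf13 zf17) (kf xf5 yf8 zf10) (kf xf5 yf8 zf11) (kf xf6 yf11 zf9) (kf xf6 yf3 zf1) (kf xf5 yf8 zf16) (kf xf6 yf12 zf19) (kf xf5 yf8 zf18) (kf xf6 yf8 zf15) (kf xf6 yf13 zf7) (kf xf5 yf9 zf8) (kf xf6 yf9 zf0) (kf xf5 yf9 zf17) (kf xf6 yf6 zf0) (kf xf5 yf9 zf13) (kf xf6 yf4 zf11) (kf xf6 yf4 zf10)) (@D3.rec (fun _ => Pt) (kf xf5 yf11 zf2) (kf xf5 yf11 zf4) (kf xf6 yf13 zf12) (kf xf5 yf10 zf3) (kf xf6 yf7 zf15) (kf xf5 yf10 zf4) (kf xf6 yf10 zf6) (kf xf5 yf13 zf16) (kf xf5 yf10 zf12) (kf xf6 yf10 zf9) (kf xf5 yf13 zf14) (kf xf5 yf10 zf17) (kf xf6 yf8 zf19) (kf xf6 yf3 zf4) (kf xf6 yf10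 zf20) (kf xf5 yf12 zf6) (kf xf5 yf11 zf10) (kf xf6 yf12 zf3) (kf xf5 yf11 zf15) (kf xf6 yf2 zf20) (kf xf6 yf10 zf14)) (@D3.rec (fun _ => Pt) (kf xf6 yf3 zf5) (kf xf6 yf7 zf5) (kf xf6 yf9 zf2) (kf xf6 yf9 zf1) (kf xf5 yf12 zf13) (kf xf6 yf0 zf18) (kf xf5 yf12 zf16) (kf xf6 yf4 zf16) (kf xf5 yf13 zf4) (kf xf6 yf9 zf7) (kf xf6 yf12 zf2) (kf xf6 yf12 zf7) (kf xf6 yf1 zf16) (kf xf6 yf13 zf19) (kf xf6 yf13 zf16) (kf xf6 yf12 zf10) (kf xf6 yf12 zf9) (kf xf6 yf1 zf12) (kf xf6 yf0 zf6) (kf xf6 yf4 zf19) (kf xf6 yf12 zf14)) (@D3.rec (fun _ => Pt) (kf xf6 yf13 zf11) (kf xf6 yf0 zf20) (kf xf6 yf11 zf10) (kf xf6 yf10 zf17) (kf xf6 yf1 zf10) (kf xf6 yf12 zf11) (kf xf6 yf4 zf3) (kf xf6 yf11 zf11) (kf xf6 yf2 zf8) (kf xf6 yf11 zf16)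 (kf xf6 yf11 zf15) (kf xf6 yf12 zf5) (kf xf6 yf5 zf14) (kf xf6 yf5 zf19) (kf xf6 yf11 zf20) (kf xf6 yf4 zf13) (kf xf6 yf3 zf17) (kf xf6 yf4 zf8) (kf xf6 yf6 zf8) (kf xf6 yf9 zf10) (kf xf6 yf8 zf20)) (@D3.rec (fun _ => Pt) (kf xf6 yf5 zf2) (kf xf6 yf5 zf3) (kf xf6 yf5 zf16) (kf xf6 yf6 zf20) (kf xf6 yf5 zf5) (kf xf6 yf5 zf18) (kf xf6 yf6 zf3) (kf xf6 yf9 zf13) (kf xf6 yf13 zf8) (kf xf6 yf7 zf3) (kf xf6 yf8 zf7) (kf xf6 yf12 zf0) (kf xf6 yf10 zf2) (kf xf6 yf9 zf3) (kf xf6 yf8 zf2) (kf xf6 yf8 zf3) (kf xf6 yf11 zf14) (kf xf6 yf9 zf4) (kf xf6 yf13 zf20) (kf xf6 yf11 zf13) (kf xf6 yf13 zf18))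
def f_f : Pt → Pt := @Pt.rec (fun _ => Pt) (@D1.rec (fun _ => D2 → D3 → Pt) f_f_0 f_f_1 f_f_2 f_f_3 f_f_4 f_f_5 f_f_6)
def fi_f : Pt → Pt := f_f

theorem inv_chk_f : chkInv allPts beqPt f_f fi_f = true := by decide +kernel

end

end Cfsg.Agent.Helper28.S1683
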