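import Cfsg.Agent.Lib.Helper28.S1683.Certs

set_option autoImplicit false
set_option maxRecDepth 100000
set_option linter.all false

namespace Cfsg.Agent.Helper28.S1683

open Cfsg.Agent.Helper28
open Cfsg.Spor.He (Gen)

noncomputable section

def hw_0 : HWord rels S := ⟨subW_0, subH_0⟩
def hwi_0 : HWord rels S := ⟨[(Gen.a, false)], hword_inv rels S subW_0 subH_0⟩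
def hw_1 : HWord rels S := ⟨subW_1, subH_1⟩
def hwi_1 : HWord rels S := ⟨[(Gen.c, false)], hword_inv rels S subW_1 subH_1⟩
def hw_2 : HWord rels S := ⟨subW_2, subH_2⟩
def hwi_2 : HWord rels S := ⟨[(Gen.d, false)], hword_inv rels S subW_2 subH_2⟩
def hw_3 : HWord rels S := ⟨subW_3, subH_3⟩
def hwi_3 : HWord rels S := ⟨[(Gen.e, false)], hword_inv rels S subW_3 subH_3⟩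
def hw_4 : HWord rels S := ⟨subW_4, subH_4⟩
def hwi_4 : HWord rels S := ⟨[(Gen.f, false)], hword_inv rels S subW_4 subH_4⟩
def hw_5 : HWord rels S := ⟨subW_5, subH_5⟩
def hwi_5 : HWord rels S := ⟨[(Gen.b, false), (Gen.a, false), (Gen.b, false), (Gen.a, false)], hword_inv rels S subW_5 subH_5⟩
def hw_6 : HWord rels S := ⟨subW_6, subH_6⟩
def hwi_6 : HWord rels S := ⟨[(Gen.e, false), (Gen.d, false), (Gen.c, false), (Gen.b, false), (Gen.e, false), (Gen.d, false), (Gen.c, false), (Gen.b, false), (Gen.e, false), (Gen.d, false), (Gen.c, false), (Gen.b, false), (Gen.e, false), (Gen.d, false), (Gen.c, false), (Gen.b, false), (Gen.e, false), (Gen.d, false), (Gen.c, false), (Gen.b, false), (Gen.e, false), (Gen.d, false), (Gen.c,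 false), (Gen.b, false), (Gen.e, false), (Gen.d, false), (Gen.c, false), (Gen.b, false)], hword_inv rels S subW_6 subH_6⟩
def lab_0 : D2 → D3 → Nat := @D2.rec (fun _ => D3 → Nat) (@D3.rec (fun _ => Nat) 0 1 2 1 1 2 1 1 1 2 2 2 1 1 1 1 1 1 1 2 2) (@D3.rec (fun _ => Nat) 2 2 2 1 1 1 1 1 1 1 1 1 1 1 1 2 2 2 2 2 2) (@D3.rec (fun _ => Nat) 2 2 1 1 3 1 1 1 1 1 1 1 1 1 3 1 1 1 1 1 1) (@D3.rec (fun _ => Nat) 1 1 4 2 2 2 2 2 2 2 2 2 1 2 1 1 3 1 3 3 1) (@D3.rec (fun _ => Nat) 3 1 1 1 1 1 1 1 1 1 1 2 1 1 1 3 3 3 1 3 1) (@D3.rec (fun _ => Nat) 1 1 1 1 1 4 4 1 1 4 4 2 2 2 2 2 1 2 2 2 1) (@D3.rec (fun _ => Nat) 2 1 2 1 1 2 2 2 1 3 1 3 1 1 3 3 3 1 1 1 1) (@D3.rec (fun _ => Nat) 1 2 1 1 1 1 2 1 1 1 1 2 1 2 2 2 1 1 1 1 3) (@D3.rec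 (fun _ => Nat) 1 3 3 3 3 1 4 1 1 4 4 4 1 1 1 1 1 4 4 2 2) (@D3.rec (fun _ => Nat) 1 2 1 2 1 1 2 2 1 2 1 1 1 2 1 2 2 1 1 2 2) (@D3.rec (fun _ => Nat) 2 2 1 3 1 1 1 3 3 3 1 1 1 1 1 1 1 2 1 1 3) (@D3.rec (fun _ => Nat) 1 1 1 2 1 2 2 2 1 1 1 1 1 1 1 2 1 2 2 2 1) (@D3.rec (fun _ => Nat) 2 2 1 1 1 1 3 3 1 1 1 3 4 1 1 1 1 1 4 4 4) (@D3.rec (fun _ => Nat) 4 1 4 1 1 1 1 1 1 1 1 1 1 1 1 1 4 4 2 1 2)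
def lab_1 : D2 → D3 → Nat := @D2.rec (fun _ => D3 → Nat) (@D3.rec (fun _ => Nat) 1 1 1 2 1 2 1 1 2 2 1 2 2 2 1 1 1 1 1 2 2) (@D3.rec (fun _ => Nat) 3 1 2 2 1 3 1 1 1 2 2 2 1 2 2 2 2 1 1 4 1) (@D3.rec (fun _ => Nat) 1 1 2 4 3 1 1 1 2 2 4 3 1 1 2 1 1 1 1 2 2) (@D3.rec (fun _ => Nat) 2 1 2 1 1 1 1 1 1 1 1 1 1 1 1 1 1 1 1 2 1) (@D3.rec (fun _ => Nat) 1 2 2 1 2 4 1 1 1 1 1 3 4 4 4 4 1 1 1 1 1) (@D3.rec (fun _ => Nat) 1 1 1 1 1 1 1 1 1 4 4 4 1 4 4 4 1 4 4 1 1) (@D3.rec (fun _ => Nat) 1 4 4 1 1 1 1 1 2 1 1 1 1 1 1 1 1 1 1 1 1) (@D3.rec (fun _ => Nat) 1 1 1 1 1 1 1 1 1 1 1 4 4 2 1 2 2 2 1 1 1) (@D3.rec (fun _ => Nat) 1 1 2 3 1 2 1 1 2 2 2 1 2 2 2 1 1 1 1 2 2) (@D3.rec (fun _ => Nat) 2 2 2 2 1 1 1 1 1 1 1 1 1 1 1 1 2 4 2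 2 3) (@D3.rec (fun _ => Nat) 3 3 2 1 2 2 2 1 2 4 1 3 1 1 1 1 4 1 1 2 2) (@D3.rec (fun _ => Nat) 1 2 2 1 1 1 1 2 2 1 2 2 2 2 2 4 4 4 4 3 3) (@D3.rec (fun _ => Nat) 1 1 3 2 4 1 1 1 1 1 2 1 1 1 1 1 1 1 1 2 2) (@D3.rec (fun _ => Nat) 1 1 1 1 1 1 1 3 1 1 1 1 1 1 1 1 1 1 1 1 1)
def lab_2 : D2 → D3 → Nat := @D2.rec (fun _ => D3 → Nat) (@D3.rec (fun _ => Nat) 1 1 1 1 1 1 1 1 1 1 1 1 1 1 1 1 1 2 2 3 1) (@D3.rec (fun _ => Nat) 1 1 2 2 2 1 1 1 1 1 1 1 1 1 1 4 4 4 4 1 1) (@D3.rec (fun _ => Nat) 1 1 1 1 1 1 1 1 1 1 1 1 1 1 1 1 1 1 1 1 1) (@D3.rec (fun _ => Nat) 1 1 1 1 1 4 4 4 4 1 1 1 1 2 4 2 4 4 1 1 1) (@D3.rec (fun _ => Nat) 4 4 1 4 1 1 1 1 4 4 1 1 1 1 1 2 1 1 1 3 1) (@D3.rec (fun _ => Nat) 1 2 1 2 2 1 1 1 1 1 1 1 1 1 1 1 4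 1 1 1 1) (@D3.rec (fun _ => Nat) 1 1 1 1 1 1 1 1 1 1 1 1 1 1 1 2 1 1 1 1 1) (@D3.rec (fun _ => Nat) 4 4 4 1 4 1 2 2 2 1 1 1 1 2 2 2 2 2 2 1 1) (@D3.rec (fun _ => Nat) 1 1 1 1 1 1 1 1 2 4 2 3 1 2 2 2 1 1 1 1 1) (@D3.rec (fun _ => Nat) 2 2 1 2 1 1 1 2 2 2 1 1 1 1 1 1 1 3 2 2 2) (@D3.rec (fun _ => Nat) 2 2 2 2 2 2 2 2 2 1 1 1 1 1 2 1 1 1 1 1 1) (@D3.rec (fun _ => Nat) 1 1 1 1 1 1 2 1 1 1 2 4 4 4 2 2 2 1 2 3 3) (@D3.rec (fun _ => Nat) 3 2 1 1 1 2 2 2 2 2 2 1 4 1 1 1 1 4 1 1 2) (@D3.rec (fun _ => Nat) 2 2 1 1 2 1 1 1 1 2 2 2 2 2 2 2 4 1 1 4 1)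
def lab_3 : D2 → D3 → Nat := @D2.rec (fun _ => D3 → Nat) (@D3.rec (fun _ => Nat) 1 1 1 1 1 1 1 1 1 2 2 1 1 1 1 1 1 1 1 1 1) (@D3.rec (fun _ => Nat) 3 1 1 1 2 2 1 1 1 1 3 1 1 3 3 3 1 1 1 1 1) (@D3.rec (fun _ => Nat) 1 1 1 1 1 1 1 1 1 1 3 1 1 1 1 1 1 1 1 1 1) (@D3.rec (fun _ => Nat) 1 1 1 1 3 1 1 1 1 1 1 3 1 1 1 2 2 3 3 3 1) (@D3.rec (fun _ => Nat) 1 1 1 1 1 1 1 2 2 2 2 2 1 1 1 1 1 1 1 1 1) (@D3.rec (fun _ => Nat) 1 1 1 1 4 4 4 4 4 4 1 1 1 1 1 1 1 1 1 1 1) (@D3.rec (fun _ => Nat) 1 1 1 1 1 1 1 1 1 1 1 1 1 1 1 2 1 1 1 1 1) (@D3.rec (fun _ => Nat) 4 4 4 4 1 1 1 1 1 1 2 4 2 4 4 1 4 1 1 1 4) (@D3.rec (fun _ => Nat) 1 4 1 4 1 1 1 1 1 1 1 1 1 4 4 4 1 1 3 1 2) (@D3.rec (fun _ => Nat) 1 3 1 1 3 1 3 3 3 1 1 1 2 2 1 1 1 1 4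 1 1) (@D3.rec (fun _ => Nat) 1 1 1 4 4 1 1 1 1 1 1 1 1 3 1 1 1 1 3 1 1) (@D3.rec (fun _ => Nat) 1 1 1 1 1 1 1 1 1 2 4 4 1 1 2 1 2 2 2 1 1) (@D3.rec (fun _ => Nat) 1 1 1 3 2 2 2 2 2 2 2 2 2 2 2 1 1 1 1 1 1) (@D3.rec (fun _ => Nat) 1 2 1 1 1 2 4 2 2 2 1 3 1 1 1 2 2 1 1 1 2)
def lab_4 : D2 → D3 → Nat := @D2.rec (fun _ => D3 → Nat) (@D3.rec (fun _ => Nat) 2 1 2 1 1 1 3 2 2 2 1 2 1 1 1 1 1 1 3 1 1) (@D3.rec (fun _ => Nat) 1 1 3 2 2 2 2 2 2 2 2 2 2 1 2 2 2 2 2 2 1) (@D3.rec (fun _ => Nat) 1 1 2 1 1 1 1 1 1 1 1 1 1 1 1 2 1 1 1 1 1) (@D3.rec (fun _ => Nat) 4 4 4 4 1 2 2 2 1 2 2 1 1 2 2 1 3 2 2 2 1) (@D3.rec (fun _ => Nat) 1 1 1 1 2 1 2 2 2 2 2 1 2 2 4 4 1 1 1 1 1) (@D3.rec (fun _ => Nat) 1 1 2 1 1 1 2 1 1 1 1 1 1 1 1 1 1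 2 2 2 2) (@D3.rec (fun _ => Nat) 2 4 4 4 1 1 1 1 1 1 3 1 1 2 2 1 1 1 1 1 1) (@D3.rec (fun _ => Nat) 3 1 1 1 1 1 1 1 1 1 1 1 1 3 3 3 1 1 1 1 1) (@D3.rec (fun _ => Nat) 1 1 2 1 1 3 3 1 3 3 1 1 1 1 1 1 1 1 1 1 1) (@D3.rec (fun _ => Nat) 3 3 3 1 1 1 2 1 3 1 1 1 1 1 1 1 3 1 3 1 1) (@D3.rec (fun _ => Nat) 1 1 2 2 2 2 3 3 3 1 3 1 1 1 1 1 1 1 1 1 1) (@D3.rec (fun _ => Nat) 2 2 1 2 2 1 2 1 1 1 1 1 1 1 1 1 4 4 2 4 1) (@D3.rec (fun _ => Nat) 1 1 1 1 1 1 1 1 1 1 1 1 1 3 1 1 1 1 1 1 1) (@D3.rec (fun _ => Nat) 1 1 1 4 4 4 4 4 1 1 1 1 1 1 1 1 1 1 1 1 1)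
def lab_5 : D2 → D3 → Nat := @D2.rec (fun _ => D3 → Nat) (@D3.rec (fun _ => Nat) 2 2 4 4 2 1 4 1 1 1 1 4 2 4 3 1 1 1 3 1 1) (@D3.rec (fun _ => Nat) 1 1 4 4 1 1 1 1 2 2 1 1 1 3 1 1 1 2 1 2 1) (@D3.rec (fun _ => Nat) 1 1 1 1 1 4 1 1 1 1 1 4 1 1 3 3 1 1 1 1 1) (@D3.rec (fun _ => Nat) 1 1 1 2 1 1 1 3 2 2 1 2 1 3 1 1 1 3 2 2 2) (@D3.rec (fun _ => Nat) 2 2 2 1 2 2 2 1 1 1 1 2 1 1 1 1 1 2 2 1 2) (@D3.rec (fun _ => Nat) 1 1 1 1 1 2 1 2 2 2 2 1 1 1 2 1 2 1 1 1 1) (@D3.rec (fun _ => Nat) 1 1 1 1 1 3 1 2 2 2 1 1 1 1 1 1 1 1 1 1 1) (@D3.rec (fun _ => Nat) 1 1 1 1 1 1 1 3 2 2 2 2 1 2 1 2 2 1 1 2 1) (@D3.rec (fun _ => Nat) 2 1 1 2 2 2 1 1 1 1 1 1 1 1 1 1 1 1 1 2 1) (@D3.rec (fun _ => Nat) 1 1 1 1 1 1 4 1 1 1 1 2 2 1 2 2 1 2 1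 2 1) (@D3.rec (fun _ => Nat) 1 2 1 1 2 2 1 2 1 1 1 1 1 1 3 1 1 2 2 2 1) (@D3.rec (fun _ => Nat) 2 4 1 1 1 1 1 1 1 1 1 1 1 1 1 1 1 1 1 1 1) (@D3.rec (fun _ => Nat) 1 2 1 1 2 2 4 1 1 1 3 1 2 1 1 3 3 3 1 1 1) (@D3.rec (fun _ => Nat) 1 3 3 3 1 3 1 1 1 1 2 1 1 3 3 1 1 1 1 1 1)
def lab_6 : D2 → D3 → Nat := @D2.rec (fun _ => D3 → Nat) (@D3.rec (fun _ => Nat) 1 1 1 1 1 3 3 3 1 1 2 3 1 1 1 3 3 3 1 1 1) (@D3.rec (fun _ => Nat) 2 2 1 1 1 1 1 1 1 1 1 2 1 1 3 2 1 1 1 1 2) (@D3.rec (fun _ => Nat) 1 1 1 1 4 4 1 1 1 1 3 3 3 1 1 1 1 1 4 1 1) (@D3.rec (fun _ => Nat) 1 1 1 1 1 1 1 1 2 1 1 1 1 1 4 1 1 1 1 1 1) (@D3.rec (fun _ => Nat) 1 1 2 2 1 1 1 1 2 1 2 2 2 1 1 1 1 1 1 1 1) (@D3.rec (fun _ => Nat) 1 1 1 1 1 1 3 2 1 1 1 1 1 1 1 1 1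 1 1 2 1) (@D3.rec (fun _ => Nat) 1 2 2 1 1 1 2 1 1 1 2 1 1 1 1 1 2 2 1 2 1) (@D3.rec (fun _ => Nat) 1 3 1 2 2 1 1 1 1 1 1 1 1 1 1 3 1 1 2 2 1) (@D3.rec (fun _ => Nat) 1 1 1 1 1 1 1 1 1 1 1 1 3 1 2 1 1 2 1 1 1) (@D3.rec (fun _ => Nat) 1 1 1 1 1 1 1 1 1 1 1 1 1 1 1 1 2 1 1 2 2) (@D3.rec (fun _ => Nat) 1 1 1 1 3 2 2 1 1 1 3 2 1 1 1 4 1 1 1 1 1) (@D3.rec (fun _ => Nat) 1 1 1 1 1 1 3 1 1 1 1 1 1 3 1 1 1 1 3 1 1) (@D3.rec (fun _ => Nat) 1 1 1 1 1 1 2 1 1 1 1 1 1 2 1 1 1 2 1 1 1) (@D3.rec (fun _ => Nat) 1 1 1 1 1 1 1 1 1 2 1 1 1 1 1 1 1 1 1 3 1)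
def lab : Pt → Nat := @Pt.rec (fun _ => Nat) (@D1.rec (fun _ => D2 → D3 → Nat) lab_0 lab_1 lab_2 lab_3 lab_4 lab_5 lab_6)
def odep_0 : D2 → D3 → Nat := @D2.rec (fun _ => D3 → Nat) (@D3.rec (fun _ => Nat) 0 0 0 1 9 1 2 8 10 2 2 2 3 3 3 9 11 9 12 3 3) (@D3.rec (fun _ => Nat) 3 3 11 4 4 4 4 13 8 10 8 10 12 11 12 4 4 4 4 4 11) (@D3.rec (fun _ => Nat) 10 10 5 5 0 5 5 5 5 13 14 13 9 7 6 9 9 7 11 11 12) (@D3.rec (fun _ => Nat) 12 10 0 5 5 5 5 10 10 11 9 9 13 9 6 6 1 6 2 1 6) (@D3.rec (fun _ => Nat) 1 6 6 6 7 6 14 13 15 14 14 8 14 10 8 5 6 7 8 5 8) (@D3.rec (fun _ => Nat) 8 8 12 12 10 1 1 13 11 1 1 6 6 11 9 9 13 9 10 10 14) (@D3.rec (fun _ => Nat) 8 12 8 13 14 9 8 8 7 2 7 2 7 7 3 2 2 7 13 7 7) (@D3.rec (fun _ => Nat) 8 3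 7 15 14 14 8 14 14 15 14 9 13 7 8 9 14 13 13 9 4) (@D3.rec (fun _ => Nat) 9 4 5 8 6 11 2 13 11 2 2 2 14 14 14 9 12 2 2 10 10) (@D3.rec (fun _ => Nat) 14 8 12 8 13 14 9 9 13 10 14 15 15 7 11 9 7 15 13 8 9) (@D3.rec (fun _ => Nat) 9 7 8 3 8 8 10 3 3 3 9 12 8 13 12 8 9 4 8 8 4) (@D3.rec (fun _ => Nat) 15 14 14 9 13 7 8 9 14 15 15 13 14 15 14 8 13 9 10 10 12) (@D3.rec (fun _ => Nat) 6 10 13 14 14 9 7 7 9 10 10 8 3 14 14 14 9 12 3 3 3) (@D3.rec (fun _ => Nat) 3 10 3 13 15 14 13 8 13 14 8 7 8 13 13 9 3 3 9 13 10)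
def odep_1 : D2 → D3 → Nat := @D2.rec (fun _ => D3 → Nat) (@D3.rec (fun _ => Nat) 14 15 15 7 11 9 15 13 8 9 14 9 10 8 13 15 15 15 14 7 6) (@D3.rec (fun _ => Nat) 6 10 9 8 16 5 13 12 13 7 9 7 13 9 9 8 6 9 9 4 9) (@D3.rec (fun _ => Nat) 9 10 6 8 4 11 11 9 5 5 7 5 15 14 8 15 13 14 13 9 10) (@D3.rec (fun _ => Nat) 10 12 10 13 13 15 14 15 16 14 13 12 14 14 14 14 14 14 14 9 12) (@D3.rec (fun _ => Nat) 14 9 10 13 5 5 14 12 10 14 14 6 5 4 4 4 10 12 14 13 8) (@D3.rec (fun _ => Nat) 13 14 8 7 10 8 13 13 9 4 4 4 13 4 3 4 11 4 4 11 12) (@D3.rec (fun _ => Nat) 11 4 4 10 13 14 13 14 7 15 14 15 13 13 7 12 6 9 7 14 14) (@D3.rec (fun _ => Nat) 9 15 9 8 9 13 12 12 8 8 8 4 4 9 14 9 10 8 13 15 15) (@D3.rec (fun _ => Nat) 15 14 7 6 10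 9 16 13 7 9 7 13 8 10 8 13 15 15 15 8 9) (@D3.rec (fun _ => Nat) 7 7 9 8 12 14 14 11 15 14 14 16 15 15 14 14 9 3 6 7 5) (@D3.rec (fun _ => Nat) 7 7 5 11 10 10 8 14 9 7 15 6 12 11 13 11 5 13 7 8 6) (@D3.rec (fun _ => Nat) 14 9 8 12 11 14 12 9 8 14 9 9 8 9 7 4 4 4 9 5 5) (@D3.rec (fun _ => Nat) 12 12 6 6 6 14 16 14 14 14 9 14 13 12 14 14 14 12 14 9 10) (@D3.rec (fun _ => Nat) 13 14 12 10 13 13 13 2 14 15 14 13 14 16 15 15 15 14 15 12 11)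
def odep_2 : D2 → D3 → Nat := @D2.rec (fun _ => D3 → Nat) (@D3.rec (fun _ => Nat) 13 13 14 14 14 14 13 13 13 15 14 13 15 13 14 14 14 8 10 3 11) (@D3.rec (fun _ => Nat) 13 14 10 9 4 15 13 9 10 11 11 15 13 11 13 3 4 5 5 11 12) (@D3.rec (fun _ => Nat) 12 13 13 13 13 7 12 6 9 14 14 9 15 9 8 11 11 11 9 13 12) (@D3.rec (fun _ => Nat) 12 8 8 8 12 5 4 5 5 12 13 13 12 8 4 9 2 4 12 12 12) (@D3.rec (fun _ => Nat) 5 5 11 5 10 13 10 12 3 5 11 12 11 14 14 7 14 14 14 3 14) (@D3.rec (fun _ => Nat) 14 8 15 6 8 14 15 14 13 14 16 15 12 12 11 13 2 5 10 10 8) (@D3.rec (fun _ => Nat) 15 13 9 15 10 16 11 10 10 9 9 10 10 12 14 8 13 11 7 9 9) (@D3.rec (fun _ => Nat) 3 4 4 4 3 4 8 10 8 13 15 15 15 8 9 7 7 9 8 12 14) (@D3.rec (fun _ => Nat)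 14 15 14 16 15 15 14 14 9 3 6 5 11 10 10 8 14 15 12 12 8) (@D3.rec (fun _ => Nat) 8 6 14 8 12 11 14 7 9 7 12 12 14 14 15 15 14 7 9 9 7) (@D3.rec (fun _ => Nat) 9 8 6 8 8 10 10 10 9 11 11 13 13 14 10 11 10 12 14 15 14) (@D3.rec (fun _ => Nat) 13 15 14 16 14 15 10 16 13 13 10 3 2 3 5 7 5 14 7 6 4) (@D3.rec (fun _ => Nat) 6 4 10 12 10 4 9 9 9 10 9 13 6 14 14 14 13 6 10 12 9) (@D3.rec (fun _ => Nat) 7 5 15 13 9 11 10 13 13 10 10 8 8 9 9 7 10 13 13 5 15)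
def odep_3 : D2 → D3 → Nat := @D2.rec (fun _ => D3 → Nat) (@D3.rec (fun _ => Nat) 14 15 14 13 15 13 14 14 14 8 10 15 12 11 13 13 14 14 14 14 13) (@D3.rec (fun _ => Nat) 4 11 13 15 10 9 13 9 10 13 2 14 12 3 3 3 13 14 12 14 14) (@D3.rec (fun _ => Nat) 15 15 15 13 15 14 14 11 13 13 2 10 12 12 14 13 13 10 13 13 13) (@D3.rec (fun _ => Nat) 13 12 14 12 3 14 14 13 14 12 14 2 13 13 13 7 9 3 4 2 10) (@D3.rec (fun _ => Nat) 12 10 13 14 14 14 13 9 8 5 5 3 9 14 10 14 10 11 10 12 12) (@D3.rec (fun _ => Nat) 14 11 12 11 2 2 4 4 6 6 11 13 13 14 14 12 12 13 5 10 10) (@D3.rec (fun _ => Nat) 13 9 15 10 16 11 10 10 9 9 12 10 10 10 12 7 11 7 9 9 13) (@D3.rec (fun _ => Nat) 4 3 5 6 13 13 14 12 14 11 9 3 8 1 3 12 5 13 13 13 5) (@D3.rec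 (fun _ => Nat) 12 6 11 6 12 11 11 12 12 11 11 13 11 3 4 6 13 14 3 15 6) (@D3.rec (fun _ => Nat) 13 4 15 13 4 14 5 4 4 15 15 14 6 5 13 14 12 14 3 11 12) (@D3.rec (fun _ => Nat) 12 12 12 2 3 6 12 11 15 15 13 11 11 4 15 12 10 10 6 11 11) (@D3.rec (fun _ => Nat) 13 13 13 12 10 10 10 10 11 7 3 3 5 5 7 14 7 9 7 12 14) (@D3.rec (fun _ => Nat) 15 14 14 6 9 7 9 8 6 8 8 10 10 10 9 11 13 14 13 16 14) (@D3.rec (fun _ => Nat) 15 10 16 13 13 10 2 5 7 5 14 4 10 12 10 4 9 14 14 14 9)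
def odep_4 : D2 → D3 → Nat := @D2.rec (fun _ => D3 → Nat) (@D3.rec (fun _ => Nat) 5 15 9 11 10 14 6 6 8 6 9 6 13 11 13 11 13 15 7 14 14) (@D3.rec (fun _ => Nat) 14 14 6 10 9 10 8 8 9 9 8 8 7 8 5 9 10 10 9 9 10) (@D3.rec (fun _ => Nat) 13 15 9 11 11 13 13 15 15 13 12 13 15 16 13 9 15 13 12 13 12) (@D3.rec (fun _ => Nat) 3 3 1 3 9 6 6 4 14 7 6 13 14 7 6 14 5 5 5 3 9) (@D3.rec (fun _ => Nat) 11 11 11 9 5 11 3 4 5 9 10 13 9 9 6 5 15 13 13 13 13) (@D3.rec (fun _ => Nat) 11 12 4 15 15 12 9 12 12 12 10 9 11 9 14 12 13 7 9 7 7) (@D3.rec (fun _ => Nat) 6 5 4 5 14 15 13 13 14 14 3 13 14 7 9 15 14 14 11 13 13) (@D3.rec (fun _ => Nat) 3 10 12 12 14 13 11 13 13 13 13 12 14 4 5 3 12 10 13 14 15) (@D3.rec (fun _ => Nat) 14 14 8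 14 10 3 3 11 4 4 13 14 13 11 13 14 15 13 13 14 15) (@D3.rec (fun _ => Nat) 2 3 1 9 11 9 4 14 3 12 11 13 14 12 15 13 1 13 3 12 14) (@D3.rec (fun _ => Nat) 12 12 6 8 8 10 4 5 5 14 3 11 12 13 13 12 13 14 15 13 12) (@D3.rec (fun _ => Nat) 8 8 11 6 6 10 4 8 10 11 14 9 11 12 13 12 3 5 9 7 11) (@D3.rec (fun _ => Nat) 14 15 11 12 6 11 11 11 13 13 11 11 13 6 11 11 13 13 13 12 10) (@D3.rec (fun _ => Nat) 10 14 12 3 2 4 6 7 12 12 14 12 14 15 13 15 11 13 11 10 12)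
def odep_5 : D2 → D3 → Nat := @D2.rec (fun _ => D3 → Nat) (@D3.rec (fun _ => Nat) 8 10 2 4 7 13 4 13 15 14 14 4 9 7 5 12 14 12 5 14 11) (@D3.rec (fun _ => Nat) 11 10 4 5 13 13 15 14 6 5 12 15 13 5 13 15 15 5 12 4 13) (@D3.rec (fun _ => Nat) 14 13 12 11 11 3 12 12 12 14 13 2 14 12 6 5 14 13 13 14 11) (@D3.rec (fun _ => Nat) 11 12 12 7 6 6 13 5 8 6 9 6 14 6 14 13 13 5 8 8 9) (@D3.rec (fun _ => Nat) 8 8 7 8 5 9 9 15 13 16 13 9 15 12 13 12 10 6 4 14 6) (@D3.rec (fun _ => Nat) 13 14 12 11 9 5 11 3 4 5 9 14 13 15 4 15 9 12 12 10 9) (@D3.rec (fun _ => Nat) 11 9 13 13 13 5 9 7 5 7 9 10 10 10 14 12 13 12 10 12 12) (@D3.rec (fun _ => Nat) 12 14 15 13 15 13 13 5 8 9 7 7 9 9 7 9 7 10 9 4 14) (@D3.rec (fun _ => Nat) 9 12 14 8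 8 9 12 14 12 12 11 12 12 12 13 15 12 12 12 8 14) (@D3.rec (fun _ => Nat) 15 13 14 11 13 10 3 9 8 8 10 7 5 9 7 5 14 3 13 6 13) (@D3.rec (fun _ => Nat) 8 6 15 10 6 4 10 4 8 9 10 11 12 12 6 10 12 2 3 8 13) (@D3.rec (fun _ => Nat) 8 6 15 14 13 14 12 12 12 11 13 11 15 11 13 13 11 11 13 14 14) (@D3.rec (fun _ => Nat) 14 8 13 9 6 6 6 15 13 15 2 12 10 14 15 3 4 2 11 9 14) (@D3.rec (fun _ => Nat) 12 5 5 6 14 3 13 13 15 13 8 14 9 4 5 14 12 14 10 12 14)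
def odep_6 : D2 → D3 → Nat := @D2.rec (fun _ => D3 → Nat) (@D3.rec (fun _ => Nat) 12 13 14 12 14 3 4 4 12 10 5 4 12 12 14 4 4 4 14 11 9) (@D3.rec (fun _ => Nat) 7 7 14 14 13 14 15 14 14 11 9 7 11 10 4 5 7 10 12 15 2) (@D3.rec (fun _ => Nat) 8 10 14 13 5 8 11 15 15 14 5 6 6 13 13 13 14 13 4 13 15) (@D3.rec (fun _ => Nat) 15 13 10 10 12 13 12 14 7 10 14 14 13 14 8 11 13 12 10 10 10) (@D3.rec (fun _ => Nat) 12 15 5 4 12 13 14 12 4 11 5 3 3 12 14 11 14 14 14 13 7) (@D3.rec (fun _ => Nat) 7 7 12 14 12 13 4 7 9 10 10 10 14 13 14 14 12 12 13 7 9) (@D3.rec (fun _ => Nat) 8 9 7 7 10 9 4 14 12 12 8 15 13 10 9 13 7 5 14 3 12) (@D3.rec (fun _ => Nat) 13 5 12 2 8 14 11 13 11 10 12 12 12 12 11 4 8 10 6 4 9) (@D3.rec (fun _ =>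 Nat) 11 13 13 12 12 11 11 14 12 12 12 11 6 8 6 6 8 6 9 15 11) (@D3.rec (fun _ => Nat) 7 13 12 12 11 10 11 12 14 11 11 11 6 7 9 7 4 9 10 2 4) (@D3.rec (fun _ => Nat) 14 14 10 11 5 5 5 13 11 13 5 1 14 12 8 7 12 10 12 15 8) (@D3.rec (fun _ => Nat) 13 13 11 14 13 13 5 13 13 12 8 15 8 6 12 11 13 12 5 12 12) (@D3.rec (fun _ => Nat) 10 9 8 10 9 10 3 14 14 14 12 10 13 6 13 13 11 5 11 10 10) (@D3.rec (fun _ => Nat) 11 13 11 13 12 12 8 7 13 1 13 10 11 11 12 11 13 10 9 6 9)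
def odep : Pt → Nat := @Pt.rec (fun _ => Nat) (@D1.rec (fun _ => D2 → D3 → Nat) odep_0 odep_1 odep_2 odep_3 odep_4 odep_5 odep_6)
def ow_0 : D2 → D3 → (HWord rels S) := @D2.rec (fun _ => D3 → (HWord rels S)) (@D3.rec (fun _ => (HWord rels S)) hw_0 hw_0 hw_0 hwi_1 hw_6 hwi_2 hwi_2 hw_6 hwi_4 hwi_1 hwi_3 hwi_4 hwi_1 hwi_3 hwi_4 hwi_4 hwi_4 hwi_1 hwi_6 hwi_2 hwi_3) (@D3.rec (fun _ => (HWord rels S)) hwi_4 hwi_4 hwi_2 hwi_2 hwi_3 hwi_4 hwi_4 hwi_6 hwi_4 hwi_4 hwi_2 hwi_3 hw_6 hw_6 hw_6 hwi_1 hwi_3 hwi_4 hwi_4 hwi_2 hwi_2) (@D3.rec (fun _ => (HWord rels S)) hwi_4 hwi_2 hwi_3 hwi_4 hw_0 hwi_5 hwi_4 hwi_2 hwi_2 hw_6 hw_6 hw_6 hwi_4 hwi_2 hwi_5 hwi_5 hwi_3 hwi_1 hwi_2 hwi_6 hwi_6) (@D3.rec (fun _ => (HWord rels S)) hw_6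 hwi_6 hw_0 hwi_3 hwi_4 hwi_2 hwi_5 hwi_4 hwi_2 hwi_4 hwi_4 hwi_6 hwi_6 hwi_4 hwi_2 hwi_4 hwi_3 hwi_2 hwi_4 hwi_4 hwi_5) (@D3.rec (fun _ => (HWord rels S)) hwi_5 hwi_2 hwi_1 hwi_3 hwi_3 hwi_1 hwi_6 hwi_6 hw_6 hwi_4 hw_6 hwi_3 hwi_4 hwi_2 hwi_3 hwi_5 hwi_2 hwi_5 hwi_5 hwi_1 hwi_5) (@D3.rec (fun _ => (HWord rels S)) hwi_3 hwi_1 hwi_2 hwi_6 hw_6 hwi_0 hwi_1 hwi_6 hwi_6 hwi_3 hwi_4 hwi_2 hwi_2 hwi_4 hwi_4 hw_6 hw_6 hwi_4 hwi_4 hwi_6 hwi_6) (@D3.rec (fun _ => (HWord rels S)) hw_6 hw_6 hw_6 hwi_4 hwi_4 hwi_2 hwi_4 hwi_4 hwi_4 hwi_5 hwi_2 hwi_2 hwi_3 hwi_5 hwi_2 hwi_2 hwi_5 hwi_1 hwi_6 hwi_3 hwi_5) (@D3.rec (fun _ => (HWord rels S)) hwi_5 hw_6 hwi_2 hwi_6 hwi_4 hwi_6 hwi_3 hwi_4 hwi_4 hwi_4 hwi_2 hwi_3 hwi_6 hwi_2 hwi_4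 hwi_4 hwi_4 hwi_4 hwi_4 hwi_5 hwi_2) (@D3.rec (fun _ => (HWord rels S)) hwi_2 hwi_4 hwi_4 hwi_3 hwi_4 hwi_3 hwi_4 hw_6 hw_6 hwi_1 hwi_2 hwi_3 hwi_6 hw_6 hwi_4 hwi_4 hw_6 hwi_2 hwi_2 hwi_4 hw_6) (@D3.rec (fun _ => (HWord rels S)) hw_6 hwi_6 hwi_6 hwi_6 hwi_4 hwi_4 hwi_2 hw_6 hw_6 hwi_4 hw_6 hwi_5 hwi_6 hwi_6 hwi_6 hw_6 hwi_6 hwi_2 hwi_2 hwi_4 hwi_4) (@D3.rec (fun _ => (HWord rels S)) hwi_4 hw_6 hwi_2 hwi_4 hwi_1 hwi_3 hwi_5 hwi_1 hwi_1 hwi_3 hwi_3 hwi_6 hwi_2 hw_6 hw_6 hwi_2 hwi_3 hwi_6 hwi_1 hwi_3 hwi_3) (@D3.rec (fun _ => (HWord rels S)) hwi_4 hwi_4 hwi_2 hwi_3 hw_6 hwi_2 hwi_4 hwi_4 hwi_4 hwi_6 hwi_4 hwi_2 hwi_3 hwi_1 hwi_6 hwi_1 hwi_1 hwi_4 hwi_4 hwi_4 hw_6) (@D3.rec (fun _ => (HWord rels S)) hwi_1 hwi_2 hwi_4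 hwi_4 hwi_4 hwi_3 hwi_2 hwi_2 hwi_2 hwi_3 hwi_1 hwi_1 hwi_2 hw_6 hwi_6 hwi_4 hwi_4 hwi_6 hwi_2 hwi_1 hwi_3) (@D3.rec (fun _ => (HWord rels S)) hwi_4 hwi_2 hwi_5 hwi_5 hw_6 hwi_6 hwi_2 hwi_4 hwi_6 hwi_1 hwi_4 hwi_6 hw_6 hw_6 hwi_4 hwi_4 hwi_1 hwi_1 hwi_6 hwi_6 hwi_4)
def ow_1 : D2 → D3 → (HWord rels S) := @D2.rec (fun _ => D3 → (HWord rels S)) (@D3.rec (fun _ => (HWord rels S)) hwi_6 hwi_5 hw_6 hw_6 hw_6 hwi_6 hwi_2 hwi_6 hwi_4 hwi_1 hwi_1 hwi_4 hwi_1 hwi_3 hwi_6 hwi_4 hwi_1 hwi_1 hwi_6 hwi_2 hw_6) (@D3.rec (fun _ => (HWord rels S)) hwi_6 hwi_6 hwi_4 hwi_6 hwi_2 hw_6 hwi_2 hwi_1 hw_6 hwi_4 hwi_4 hw_6 hwi_3 hwi_4 hwi_4 hw_6 hwi_6 hwi_1 hwi_1 hwi_1 hwi_3) (@D3.rec (fun _ => (HWord rels S)) hwi_1 hwi_3 hwi_1 hw_6 hwi_2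 hw_6 hwi_6 hwi_5 hwi_6 hw_6 hw_6 hwi_6 hwi_1 hw_6 hwi_1 hwi_4 hwi_2 hwi_3 hwi_1 hwi_4 hwi_4) (@D3.rec (fun _ => (HWord rels S)) hwi_4 hwi_6 hwi_2 hwi_4 hwi_2 hwi_2 hwi_2 hwi_3 hwi_6 hwi_3 hwi_2 hwi_1 hwi_4 hwi_5 hwi_2 hwi_2 hwi_5 hwi_2 hwi_5 hwi_1 hwi_2) (@D3.rec (fun _ => (HWord rels S)) hwi_3 hwi_4 hwi_1 hw_6 hwi_2 hwi_2 hwi_4 hwi_2 hwi_6 hwi_5 hwi_5 hwi_4 hw_6 hwi_6 hwi_3 hwi_2 hwi_2 hwi_1 hw_6 hwi_2 hwi_4) (@D3.rec (fun _ => (HWord rels S)) hw_6 hwi_1 hwi_4 hw_6 hwi_2 hwi_6 hwi_6 hwi_4 hwi_4 hwi_1 hwi_3 hwi_4 hwi_3 hwi_2 hwi_6 hwi_4 hwi_1 hwi_2 hwi_4 hwi_3 hwi_3) (@D3.rec (fun _ => (HWord rels S)) hwi_2 hwi_1 hwi_5 hwi_2 hwi_5 hwi_5 hwi_1 hwi_5 hwi_6 hwi_5 hwi_2 hwi_3 hwi_5 hwi_5 hwi_4 hwi_1 hwi_6 hwi_2 hw_6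 hwi_6 hwi_4) (@D3.rec (fun _ => (HWord rels S)) hwi_4 hwi_2 hwi_2 hw_6 hwi_6 hwi_1 hwi_4 hwi_2 hwi_4 hwi_6 hw_6 hwi_2 hwi_2 hwi_1 hwi_1 hwi_4 hwi_1 hwi_3 hw_6 hwi_4 hwi_1) (@D3.rec (fun _ => (HWord rels S)) hwi_1 hw_6 hwi_2 hw_6 hw_6 hwi_4 hwi_2 hwi_5 hwi_4 hwi_4 hwi_6 hwi_3 hwi_2 hwi_3 hwi_4 hwi_2 hwi_3 hwi_4 hw_6 hwi_4 hwi_5) (@D3.rec (fun _ => (HWord rels S)) hwi_3 hwi_1 hwi_2 hwi_5 hwi_6 hw_6 hwi_4 hwi_2 hwi_3 hwi_5 hwi_2 hwi_3 hwi_1 hwi_1 hwi_6 hw_6 hwi_6 hwi_2 hwi_4 hw_6 hwi_2) (@D3.rec (fun _ => (HWord rels S)) hw_6 hwi_4 hwi_2 hwi_4 hwi_2 hwi_6 hwi_6 hwi_4 hw_6 hw_6 hwi_4 hw_6 hwi_1 hwi_2 hwi_3 hwi_1 hwi_5 hwi_5 hwi_6 hwi_4 hw_6) (@D3.rec (fun _ => (HWord rels S)) hwi_3 hwi_4 hwi_6 hwi_2 hwi_2 hwi_3 hwi_3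 hwi_4 hw_6 hwi_3 hwi_4 hwi_4 hwi_6 hwi_6 hwi_6 hwi_1 hwi_6 hw_6 hwi_6 hwi_1 hwi_4) (@D3.rec (fun _ => (HWord rels S)) hw_6 hwi_6 hwi_6 hw_6 hw_6 hwi_2 hw_6 hwi_5 hwi_2 hwi_5 hwi_1 hwi_3 hwi_2 hwi_1 hwi_4 hwi_5 hwi_2 hwi_2 hwi_3 hwi_4 hwi_1) (@D3.rec (fun _ => (HWord rels S)) hwi_6 hwi_4 hwi_2 hw_6 hwi_2 hwi_4 hwi_3 hw_6 hwi_1 hwi_3 hwi_1 hwi_1 hwi_6 hwi_1 hw_6 hwi_6 hwi_5 hwi_5 hwi_2 hwi_1 hwi_2)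
def ow_2 : D2 → D3 → (HWord rels S) := @D2.rec (fun _ => D3 → (HWord rels S)) (@D3.rec (fun _ => (HWord rels S)) hwi_3 hwi_1 hwi_3 hwi_3 hwi_1 hwi_3 hwi_1 hwi_4 hwi_4 hwi_2 hwi_4 hwi_5 hwi_2 hwi_1 hwi_6 hwi_3 hwi_1 hwi_2 hwi_3 hwi_4 hwi_4) (@D3.rec (fun _ => (HWord rels S)) hwi_3 hwi_3 hwi_3 hwi_5 hwi_4 hwi_2 hwi_3 hw_6 hwi_4 hw_6 hwi_4 hwi_1 hwi_5 hwi_6 hwi_5 hw_6 hwi_5 hwi_1 hwi_3 hwi_3 hwi_3) (@D3.rec (fun _ => (HWord rels S)) hwi_1 hwi_3 hwi_1 hwi_5 hwi_5 hwi_4 hwi_1 hw_6 hwi_2 hw_6 hwi_4 hwi_4 hwi_2 hwi_2 hwi_6 hwi_1 hwi_3 hwi_2 hw_6 hwi_3 hwi_4) (@D3.rec (fun _ => (HWord rels S)) hwi_2 hwi_4 hw_6 hwi_6 hwi_3 hwi_2 hw_6 hwi_4 hwi_4 hwi_3 hwi_3 hwi_3 hwi_2 hwi_6 hw_6 hwi_2 hw_6 hwi_4 hwi_5 hwi_2 hwi_1) (@D3.rec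 (fun _ => (HWord rels S)) hwi_5 hwi_4 hwi_3 hwi_2 hwi_3 hwi_3 hwi_4 hwi_2 hwi_6 hwi_1 hwi_1 hwi_3 hwi_2 hwi_5 hwi_5 hw_6 hwi_5 hwi_5 hwi_5 hwi_6 hwi_2) (@D3.rec (fun _ => (HWord rels S)) hwi_1 hw_6 hwi_5 hw_6 hwi_4 hwi_5 hwi_3 hwi_1 hwi_1 hw_6 hwi_1 hwi_6 hwi_5 hwi_5 hwi_2 hwi_3 hwi_6 hw_6 hwi_1 hwi_2 hwi_6) (@D3.rec (fun _ => (HWord rels S)) hw_6 hwi_3 hwi_4 hwi_2 hwi_2 hwi_2 hwi_1 hwi_1 hwi_2 hwi_6 hwi_4 hwi_6 hw_6 hwi_2 hwi_1 hwi_6 hwi_4 hwi_1 hw_6 hw_6 hwi_6) (@D3.rec (fun _ => (HWord rels S)) hwi_6 hw_6 hwi_6 hwi_6 hw_6 hw_6 hwi_2 hwi_3 hwi_1 hwi_2 hwi_3 hwi_4 hwi_2 hwi_4 hwi_5 hwi_3 hwi_1 hwi_2 hwi_5 hw_6 hwi_6) (@D3.rec (fun _ => (HWord rels S)) hwi_4 hwi_3 hwi_5 hwi_3 hwi_1 hwi_1 hw_6 hwi_6 hw_6 hwi_2 hwi_4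 hwi_2 hwi_4 hwi_2 hw_6 hw_6 hwi_4 hwi_4 hwi_1 hwi_5 hw_6) (@D3.rec (fun _ => (HWord rels S)) hwi_4 hwi_6 hwi_3 hw_6 hwi_2 hwi_2 hw_6 hwi_1 hwi_3 hwi_4 hwi_3 hwi_1 hwi_3 hwi_4 hwi_4 hwi_4 hwi_6 hwi_6 hwi_4 hwi_2 hwi_2) (@D3.rec (fun _ => (HWord rels S)) hwi_5 hwi_5 hwi_2 hwi_2 hwi_1 hw_6 hw_6 hwi_6 hwi_5 hwi_4 hw_6 hw_6 hwi_4 hwi_1 hwi_2 hwi_2 hwi_1 hwi_3 hwi_2 hwi_2 hwi_2) (@D3.rec (fun _ => (HWord rels S)) hwi_5 hwi_3 hwi_2 hwi_1 hwi_2 hwi_5 hwi_2 hwi_3 hw_6 hw_6 hwi_2 hwi_6 hwi_4 hw_6 hwi_4 hwi_4 hwi_6 hwi_2 hwi_4 hwi_2 hwi_4) (@D3.rec (fun _ => (HWord rels S)) hwi_2 hwi_4 hwi_4 hwi_4 hwi_6 hwi_3 hwi_4 hw_6 hw_6 hwi_2 hwi_6 hwi_4 hwi_6 hwi_6 hwi_4 hw_6 hwi_3 hwi_5 hwi_4 hwi_3 hwi_2) (@D3.rec (fun _ => (HWord rels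 S)) hwi_6 hwi_6 hwi_2 hwi_2 hw_6 hwi_4 hwi_4 hwi_2 hwi_3 hwi_2 hwi_2 hwi_4 hw_6 hw_6 hwi_6 hwi_4 hwi_4 hwi_6 hw_6 hwi_6 hwi_2)
def ow_3 : D2 → D3 → (HWord rels S) := @D2.rec (fun _ => D3 → (HWord rels S)) (@D3.rec (fun _ => (HWord rels S)) hwi_4 hwi_5 hwi_5 hwi_5 hwi_2 hwi_1 hw_6 hwi_3 hwi_1 hwi_2 hwi_3 hwi_2 hwi_1 hwi_2 hwi_3 hwi_1 hwi_3 hwi_3 hwi_1 hwi_3 hwi_1) (@D3.rec (fun _ => (HWord rels S)) hwi_4 hwi_4 hwi_3 hwi_2 hwi_4 hwi_5 hwi_3 hwi_6 hwi_4 hwi_3 hwi_6 hwi_4 hwi_2 hwi_6 hwi_6 hwi_4 hwi_1 hwi_4 hwi_2 hwi_3 hwi_6) (@D3.rec (fun _ => (HWord rels S)) hwi_5 hwi_4 hwi_3 hwi_5 hw_6 hwi_2 hwi_2 hwi_2 hwi_3 hwi_1 hwi_6 hwi_4 hwi_3 hwi_2 hwi_2 hwi_3 hwi_1 hw_6 hwi_3 hwi_2 hwi_3) (@D3.rec (fun _ => (HWord rels S))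 hwi_1 hwi_2 hwi_3 hwi_2 hw_6 hwi_4 hw_6 hwi_3 hwi_1 hwi_2 hwi_5 hwi_4 hwi_3 hwi_2 hwi_2 hwi_1 hwi_3 hwi_4 hwi_2 hwi_4 hwi_4) (@D3.rec (fun _ => (HWord rels S)) hwi_4 hwi_6 hwi_6 hwi_3 hwi_4 hwi_4 hwi_2 hwi_2 hwi_5 hwi_4 hwi_4 hw_6 hwi_6 hwi_5 hw_6 hwi_2 hwi_6 hwi_2 hwi_6 hwi_4 hwi_2) (@D3.rec (fun _ => (HWord rels S)) hwi_1 hwi_4 hwi_4 hwi_4 hw_6 hwi_6 hwi_4 hw_6 hwi_2 hwi_3 hwi_3 hwi_3 hwi_1 hwi_2 hwi_2 hwi_5 hwi_5 hwi_3 hwi_6 hwi_1 hwi_2) (@D3.rec (fun _ => (HWord rels S)) hwi_3 hwi_4 hwi_2 hwi_2 hwi_2 hwi_1 hwi_3 hwi_2 hw_6 hwi_4 hwi_2 hwi_4 hw_6 hwi_6 hwi_2 hw_6 hwi_1 hwi_6 hwi_6 hw_6 hwi_3) (@D3.rec (fun _ => (HWord rels S)) hwi_6 hwi_6 hwi_4 hwi_2 hwi_3 hwi_3 hwi_3 hwi_2 hwi_5 hwi_4 hw_6 hwi_6 hwi_1 hw_6 hwi_4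 hwi_2 hwi_2 hwi_1 hwi_3 hwi_2 hwi_6) (@D3.rec (fun _ => (HWord rels S)) hwi_3 hwi_2 hwi_3 hwi_1 hw_6 hwi_3 hwi_3 hwi_2 hwi_3 hwi_4 hwi_4 hwi_6 hwi_4 hw_6 hwi_4 hwi_2 hwi_3 hwi_1 hw_6 hwi_5 hwi_6) (@D3.rec (fun _ => (HWord rels S)) hwi_5 hwi_6 hwi_3 hwi_5 hw_6 hwi_3 hwi_4 hw_6 hwi_4 hwi_2 hw_6 hwi_4 hwi_6 hwi_2 hwi_5 hwi_4 hwi_2 hwi_3 hwi_4 hwi_5 hwi_3) (@D3.rec (fun _ => (HWord rels S)) hwi_1 hwi_6 hwi_3 hw_6 hwi_4 hwi_6 hwi_6 hwi_2 hwi_5 hwi_4 hwi_5 hwi_1 hwi_2 hwi_6 hwi_2 hwi_3 hwi_4 hwi_4 hwi_3 hw_6 hw_6) (@D3.rec (fun _ => (HWord rels S)) hwi_1 hwi_3 hwi_4 hwi_3 hw_6 hwi_6 hwi_4 hw_6 hwi_2 hwi_6 hw_6 hwi_6 hw_6 hwi_6 hw_6 hwi_2 hwi_1 hwi_3 hwi_5 hwi_1 hwi_3) (@D3.rec (fun _ => (HWord rels S)) hwi_3 hwi_4 hwi_2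 hw_6 hwi_2 hwi_2 hwi_5 hwi_5 hwi_2 hwi_5 hwi_1 hwi_6 hwi_2 hw_6 hwi_5 hwi_6 hwi_6 hwi_1 hwi_5 hwi_1 hwi_2) (@D3.rec (fun _ => (HWord rels S)) hwi_5 hwi_2 hwi_3 hwi_6 hwi_6 hwi_6 hwi_4 hwi_4 hwi_4 hw_6 hwi_2 hwi_4 hwi_4 hwi_4 hw_6 hwi_3 hwi_6 hw_6 hwi_4 hwi_6 hwi_2)
def ow_4 : D2 → D3 → (HWord rels S) := @D2.rec (fun _ => D3 → (HWord rels S)) (@D3.rec (fun _ => (HWord rels S)) hw_6 hwi_2 hwi_6 hwi_4 hwi_4 hwi_4 hwi_6 hwi_2 hwi_3 hwi_1 hwi_6 hwi_3 hwi_2 hwi_2 hwi_3 hwi_1 hwi_1 hwi_4 hw_6 hwi_2 hwi_2) (@D3.rec (fun _ => (HWord rels S)) hwi_6 hwi_4 hw_6 hwi_1 hwi_2 hwi_5 hwi_1 hwi_3 hwi_2 hwi_5 hwi_5 hwi_3 hwi_5 hw_6 hwi_1 hwi_3 hwi_3 hwi_1 hwi_5 hwi_1 hwi_6) (@D3.rec (fun _ => (HWord rels S)) hwi_2 hwi_1 hwi_1 hwi_3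 hwi_1 hwi_2 hwi_1 hwi_4 hwi_4 hwi_3 hwi_5 hwi_3 hwi_2 hwi_4 hwi_1 hwi_3 hwi_3 hw_6 hwi_6 hwi_2 hwi_6) (@D3.rec (fun _ => (HWord rels S)) hwi_4 hwi_4 hwi_6 hwi_4 hwi_6 hwi_2 hwi_4 hwi_6 hwi_2 hwi_4 hw_6 hwi_2 hwi_4 hwi_4 hwi_6 hwi_3 hwi_4 hwi_4 hwi_4 hwi_6 hw_6) (@D3.rec (fun _ => (HWord rels S)) hwi_6 hwi_2 hwi_4 hwi_6 hwi_5 hw_6 hwi_2 hwi_2 hwi_3 hwi_2 hwi_5 hwi_2 hwi_1 hwi_1 hw_6 hwi_6 hw_6 hwi_6 hw_6 hwi_6 hw_6) (@D3.rec (fun _ => (HWord rels S)) hwi_4 hw_6 hwi_6 hwi_4 hwi_2 hwi_4 hwi_4 hwi_1 hwi_4 hwi_4 hwi_6 hwi_4 hwi_4 hw_6 hwi_5 hwi_2 hwi_2 hwi_6 hwi_1 hwi_4 hwi_4) (@D3.rec (fun _ => (HWord rels S)) hw_6 hwi_4 hw_6 hw_6 hwi_4 hwi_3 hwi_5 hwi_3 hwi_1 hwi_5 hwi_4 hwi_2 hwi_2 hwi_1 hwi_3 hwi_6 hwi_2 hwi_2 hwi_2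 hwi_3 hwi_1) (@D3.rec (fun _ => (HWord rels S)) hw_6 hwi_4 hwi_3 hwi_2 hwi_2 hwi_1 hwi_6 hwi_3 hwi_2 hwi_3 hwi_1 hwi_2 hwi_3 hwi_4 hwi_2 hwi_4 hwi_4 hw_6 hw_6 hwi_3 hwi_1) (@D3.rec (fun _ => (HWord rels S)) hwi_3 hwi_2 hwi_5 hwi_2 hw_6 hw_6 hwi_4 hwi_1 hwi_6 hwi_4 hwi_3 hwi_6 hwi_4 hwi_4 hwi_3 hwi_5 hw_6 hwi_3 hwi_4 hwi_6 hwi_4) (@D3.rec (fun _ => (HWord rels S)) hw_6 hw_6 hw_6 hwi_4 hwi_4 hw_6 hw_6 hwi_6 hwi_6 hwi_2 hwi_6 hwi_5 hwi_3 hwi_2 hwi_5 hwi_4 hwi_6 hwi_2 hwi_2 hwi_2 hw_6) (@D3.rec (fun _ => (HWord rels S)) hwi_4 hwi_1 hwi_2 hwi_3 hwi_1 hw_6 hwi_2 hwi_2 hwi_3 hwi_6 hwi_2 hwi_4 hwi_6 hwi_2 hwi_4 hwi_1 hw_6 hwi_4 hwi_4 hwi_2 hwi_1) (@D3.rec (fun _ => (HWord rels S)) hwi_3 hwi_3 hw_6 hwi_2 hwi_4 hwi_6 hwi_6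 hw_6 hwi_4 hwi_6 hwi_5 hwi_2 hw_6 hwi_3 hwi_3 hwi_2 hw_6 hwi_2 hwi_2 hwi_3 hwi_6) (@D3.rec (fun _ => (HWord rels S)) hwi_2 hwi_1 hwi_5 hwi_1 hw_6 hw_6 hwi_2 hwi_3 hwi_1 hwi_2 hwi_4 hwi_4 hw_6 hwi_1 hwi_6 hwi_6 hwi_1 hwi_3 hwi_4 hwi_3 hwi_4) (@D3.rec (fun _ => (HWord rels S)) hwi_6 hwi_5 hwi_2 hw_6 hwi_6 hwi_4 hwi_2 hwi_1 hwi_2 hwi_3 hwi_3 hwi_2 hwi_5 hwi_2 hwi_1 hwi_1 hwi_4 hwi_5 hwi_4 hw_6 hw_6)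
def ow_5 : D2 → D3 → (HWord rels S) := @D2.rec (fun _ => D3 → (HWord rels S)) (@D3.rec (fun _ => (HWord rels S)) hwi_2 hwi_6 hwi_6 hwi_4 hwi_2 hwi_1 hwi_2 hwi_2 hw_6 hwi_3 hwi_1 hwi_6 hwi_2 hwi_1 hwi_6 hwi_3 hwi_2 hwi_2 hwi_3 hwi_6 hwi_4) (@D3.rec (fun _ => (HWord rels S)) hwi_4 hwi_6 hwi_4 hwi_2 hwi_3 hwi_3 hwi_6 hwi_4 hw_6 hwi_2 hwi_5 hwi_3 hwi_2 hw_6 hwi_6 hw_6 hwi_4 hwi_6 hwi_3 hwi_4 hwi_3) (@D3.rec (fun _ => (HWord rels S)) hw_6 hwi_4 hwi_2 hwi_4 hw_6 hwi_4 hwi_1 hwi_6 hwi_4 hwi_5 hwi_1 hw_6 hwi_2 hwi_2 hwi_3 hwi_2 hwi_6 hwi_5 hwi_1 hw_6 hwi_4) (@D3.rec (fun _ => (HWord rels S)) hwi_4 hw_6 hwi_4 hw_6 hwi_6 hw_6 hwi_4 hw_6 hwi_3 hwi_1 hw_6 hwi_5 hwi_4 hwi_6 hwi_6 hw_6 hwi_4 hwi_6 hwi_1 hwi_3 hwi_2) (@D3.rec (fun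 _ => (HWord rels S)) hwi_5 hwi_3 hwi_5 hwi_6 hwi_1 hwi_3 hwi_1 hwi_1 hwi_3 hwi_4 hwi_1 hwi_3 hwi_3 hw_6 hwi_2 hw_6 hw_6 hwi_4 hw_6 hwi_2 hwi_6) (@D3.rec (fun _ => (HWord rels S)) hwi_2 hwi_4 hw_6 hwi_4 hw_6 hwi_2 hwi_6 hwi_2 hwi_2 hwi_3 hwi_1 hw_6 hwi_6 hwi_6 hw_6 hwi_4 hwi_4 hwi_1 hwi_4 hw_6 hwi_4) (@D3.rec (fun _ => (HWord rels S)) hwi_4 hwi_6 hwi_4 hwi_4 hw_6 hw_6 hwi_6 hwi_3 hwi_2 hwi_3 hw_6 hwi_4 hw_6 hwi_4 hwi_5 hwi_2 hwi_6 hwi_3 hwi_2 hwi_2 hwi_3) (@D3.rec (fun _ => (HWord rels S)) hwi_1 hw_6 hwi_6 hwi_4 hw_6 hwi_4 hwi_6 hwi_6 hwi_1 hwi_5 hwi_2 hwi_1 hwi_6 hwi_3 hw_6 hwi_3 hwi_3 hwi_4 hwi_4 hwi_1 hw_6) (@D3.rec (fun _ => (HWord rels S)) hwi_3 hwi_1 hwi_2 hwi_1 hwi_2 hwi_5 hwi_2 hwi_5 hwi_2 hwi_1 hwi_4 hwi_3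 hwi_3 hwi_3 hw_6 hwi_4 hwi_2 hwi_1 hwi_1 hwi_3 hwi_6) (@D3.rec (fun _ => (HWord rels S)) hwi_6 hwi_6 hwi_1 hw_6 hwi_4 hwi_6 hwi_4 hw_6 hw_6 hw_6 hwi_4 hwi_3 hwi_2 hw_6 hwi_2 hw_6 hwi_1 hw_6 hwi_4 hwi_4 hwi_2) (@D3.rec (fun _ => (HWord rels S)) hwi_6 hwi_6 hwi_3 hwi_6 hwi_4 hwi_6 hw_6 hw_6 hwi_6 hwi_4 hwi_4 hw_6 hwi_4 hwi_4 hwi_4 hwi_2 hwi_6 hwi_4 hwi_4 hwi_2 hwi_3) (@D3.rec (fun _ => (HWord rels S)) hwi_2 hwi_6 hwi_4 hwi_6 hw_6 hwi_1 hwi_6 hw_6 hwi_6 hwi_2 hwi_4 hwi_6 hwi_6 hwi_2 hwi_2 hwi_4 hwi_6 hw_6 hwi_1 hw_6 hwi_1) (@D3.rec (fun _ => (HWord rels S)) hwi_3 hwi_2 hwi_5 hw_6 hwi_4 hw_6 hwi_2 hwi_5 hwi_4 hwi_6 hw_6 hwi_4 hwi_6 hwi_6 hwi_4 hwi_6 hwi_6 hwi_6 hwi_4 hwi_6 hwi_3) (@D3.rec (fun _ => (HWord rels S)) hwi_2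 hwi_2 hw_6 hwi_2 hw_6 hw_6 hwi_4 hwi_6 hwi_3 hwi_3 hwi_3 hwi_5 hwi_2 hw_6 hw_6 hwi_3 hw_6 hwi_4 hwi_2 hwi_4 hwi_1)
def ow_6 : D2 → D3 → (HWord rels S) := @D2.rec (fun _ => D3 → (HWord rels S)) (@D3.rec (fun _ => (HWord rels S)) hw_6 hwi_6 hwi_2 hwi_6 hw_6 hwi_6 hw_6 hwi_4 hwi_4 hwi_2 hwi_6 hw_6 hwi_4 hwi_6 hwi_4 hwi_6 hwi_1 hwi_3 hw_6 hwi_2 hw_6) (@D3.rec (fun _ => (HWord rels S)) hwi_3 hwi_2 hw_6 hwi_4 hw_6 hw_6 hwi_4 hwi_5 hwi_1 hwi_2 hwi_6 hwi_3 hwi_6 hwi_6 hwi_4 hw_6 hwi_6 hwi_3 hwi_4 hwi_6 hwi_6) (@D3.rec (fun _ => (HWord rels S)) hwi_4 hwi_3 hwi_3 hwi_2 hwi_2 hwi_2 hwi_2 hw_6 hwi_6 hwi_1 hwi_6 hwi_1 hwi_2 hwi_2 hwi_5 hwi_1 hwi_6 hwi_1 hwi_4 hwi_1 hwi_1) (@D3.rec (fun _ => (HWord rels S)) hwi_4 hwi_6 hwi_4 hwi_6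 hwi_3 hw_6 hwi_2 hw_6 hwi_1 hw_6 hwi_2 hwi_2 hwi_1 hwi_3 hwi_2 hwi_3 hwi_6 hwi_2 hwi_4 hwi_6 hw_6) (@D3.rec (fun _ => (HWord rels S)) hwi_4 hwi_4 hw_6 hwi_4 hwi_3 hwi_1 hwi_1 hw_6 hw_6 hwi_3 hwi_4 hwi_4 hwi_6 hwi_6 hwi_4 hwi_1 hwi_4 hwi_1 hwi_4 hwi_4 hwi_4) (@D3.rec (fun _ => (HWord rels S)) hw_6 hwi_4 hwi_4 hwi_4 hwi_6 hwi_4 hwi_6 hwi_3 hwi_6 hwi_4 hwi_6 hwi_4 hw_6 hwi_6 hwi_4 hwi_6 hwi_4 hw_6 hwi_4 hwi_2 hw_6) (@D3.rec (fun _ => (HWord rels S)) hwi_6 hwi_3 hwi_3 hwi_6 hwi_4 hwi_4 hwi_1 hwi_2 hwi_4 hwi_1 hwi_3 hw_6 hwi_4 hw_6 hwi_6 hwi_4 hwi_2 hwi_6 hwi_1 hwi_6 hwi_6) (@D3.rec (fun _ => (HWord rels S)) hwi_4 hwi_4 hw_6 hwi_4 hwi_2 hwi_6 hwi_2 hwi_2 hw_6 hwi_4 hwi_4 hwi_4 hw_6 hwi_6 hwi_6 hw_6 hw_6 hwi_4 hwi_3 hwi_4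 hwi_4) (@D3.rec (fun _ => (HWord rels S)) hwi_2 hwi_4 hw_6 hwi_4 hwi_6 hwi_3 hwi_2 hwi_4 hwi_4 hw_6 hwi_6 hw_6 hwi_4 hwi_6 hwi_2 hwi_6 hwi_4 hwi_3 hwi_4 hw_6 hwi_2) (@D3.rec (fun _ => (HWord rels S)) hw_6 hwi_1 hwi_4 hwi_4 hwi_4 hw_6 hwi_3 hwi_3 hw_6 hwi_2 hwi_2 hwi_1 hw_6 hw_6 hwi_4 hwi_6 hwi_4 hwi_4 hwi_4 hw_6 hwi_6) (@D3.rec (fun _ => (HWord rels S)) hwi_1 hwi_5 hw_6 hwi_4 hwi_4 hw_6 hwi_6 hwi_4 hw_6 hwi_6 hwi_6 hw_6 hwi_6 hwi_3 hwi_6 hw_6 hwi_6 hw_6 hw_6 hwi_3 hw_6) (@D3.rec (fun _ => (HWord rels S)) hwi_1 hwi_6 hw_6 hw_6 hwi_6 hw_6 hwi_4 hwi_6 hwi_2 hwi_3 hw_6 hwi_4 hwi_4 hw_6 hwi_6 hwi_6 hw_6 hwi_4 hwi_4 hw_6 hw_6) (@D3.rec (fun _ => (HWord rels S)) hw_6 hwi_6 hwi_6 hwi_6 hw_6 hwi_6 hw_6 hw_6 hwi_6 hwi_6 hwi_4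 hw_6 hwi_6 hwi_2 hwi_4 hwi_4 hwi_2 hwi_4 hwi_6 hwi_2 hwi_2) (@D3.rec (fun _ => (HWord rels S)) hwi_6 hw_6 hw_6 hwi_4 hwi_6 hw_6 hwi_4 hwi_6 hw_6 hwi_6 hw_6 hwi_6 hwi_4 hwi_6 hw_6 hw_6 hwi_4 hwi_6 hwi_6 hwi_6 hw_6)
def ow : Pt → (HWord rels S) := @Pt.rec (fun _ => (HWord rels S)) (@D1.rec (fun _ => D2 → D3 → (HWord rels S)) ow_0 ow_1 ow_2 ow_3 ow_4 ow_5 ow_6)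
theorem lab_chk_0 : chkLabF allPts lab subF_0 = true := by decide +kernel
theorem lab_chk_1 : chkLabF allPts lab subF_1 = true := by decide +kernel
theorem lab_chk_2 : chkLabF allPts lab subF_2 = true := by decide +kernel
theorem lab_chk_3 : chkLabF allPts lab subF_3 = true := by decide +kernel
theorem lab_chk_4 : chkLabF allPts lab subF_4 = true := by decide +kernel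
theorem lab_chk_5 : chkLabF allPts lab subF_5 = true := by decide +kernel
theorem lab_chk_6 : chkLabF allPts lab subF_6 = true := by decide +kernel
def root_0 : Pt := (Pt.mk D1.c0 D2.c0 D3.c0)
theorem conn_chk_0 : chkConn rels S fwd inv allPts beqPt lab odep ow root_0 0 = true := by decide +kernel
theorem count_chk_0 : countPts (fun b => Nat.beq (lab b) 0) = 1 := by decide +kernel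
def root_1 : Pt := (Pt.mk D1.c0 D2.c0 D3.c1)
theorem conn_chk_1 : chkConn rels S fwd inv allPts beqPt lab odep ow root_1 1 = true := by decide +kernel
theorem count_chk_1 : countPts (fun b => Nat.beq (lab b) 1) = 1360 := by decide +kernel
def root_2 : Pt := (Pt.mk D1.c0 D2.c0 D3.c2)
theorem conn_chk_2 : chkConn rels S fwd inv allPts beqPt lab odep ow root_2 2 = true := by decide +kernel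
theorem count_chk_2 : countPts (fun b => Nat.beq (lab b) 2) = 425 := by decide +kernel
def root_3 : Pt := (Pt.mk D1.c0 D2.c2 D3.c4)
theorem conn_chk_3 : chkConn rels S fwd inv allPts beqPt lab odep ow root_3 3 = true := by decide +kernel
theorem count_chk_3 : countPts (fun b => Nat.beq (lab b) 3) = 136 := by decide +kernel
def root_4 : Pt := (Pt.mk D1.c0 D2.c3 D3.c2)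
theorem conn_chk_4 : chkConn rels S fwd inv allPts beqPt lab odep ow root_4 4 = true := by decide +kernel
theorem count_chk_4 : countPts (fun b => Nat.beq (lab b) 4) = 136 := by decide +kernel

end

end Cfsg.Agent.Helper28.S1683
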