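import Cfsg.Agent.Lib.Helper28.S1683.Levels

set_option autoImplicit false
set_option maxRecDepth 100000
set_option linter.all false

namespace Cfsg.Agent.Helper28.S1683

open Cfsg.Agent.Helper28
open Cfsg.Spor.He (Gen)

noncomputable section

abbrev sl_at : Gen × Bool := (Gen.a, true)
abbrev sl_af : Gen × Bool := (Gen.a, false)
abbrev sl_bt : Gen × Bool := (Gen.b, true)
abbrev sl_bf : Gen × Bool := (Gen.b, false)
abbrev sl_ct : Gen × Bool := (Gen.c, true)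
abbrev sl_cf : Gen × Bool := (Gen.c, false)
abbrev sl_dt : Gen × Bool := (Gen.d, true)
abbrev sl_df : Gen × Bool := (Gen.d, false)
abbrev sl_et : Gen × Bool := (Gen.e, true)
abbrev sl_ef : Gen × Bool := (Gen.e, false)
abbrev sl_ft : Gen × Bool := (Gen.f, true)
abbrev sl_ff : Gen × Bool := (Gen.f, false)
abbrev sl_gt : Gen × Bool := (Gen.g, true)
abbrev sl_gf : Gen × Bool := (Gen.g, false)
theorem relone_inv (rels : Set (FreeGroup Gen)) (w : Word Gen) (h : wG rels w = 1) :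
    wG rels (FreeGroup.invRev w) = 1 := by
  rw [wG_invRev, h, inv_one]

abbrev ed (l : Gen × Bool) (c : Qt rels S) : Qt rels S := edge rels S l c
abbrev sp1 : Pt := (Pt.mk D1.c0 D2.c0 D3.c1)
abbrev sq1 : Qt rels S := P sp1
abbrev sp3 : Pt := (Pt.mk D1.c0 D2.c0 D3.c3)
abbrev sq3 : Qt rels S := P sp3
abbrev sp4 : Pt := (Pt.mk D1.c0 D2.c0 D3.c4)
abbrev sq4 : Qt rels S := P sp4
abbrev sp6 : Pt := (Pt.mk D1.c0 D2.c0 D3.c6)
abbrev sq6 : Qt rels S := P sp6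
abbrev sp7 : Pt := (Pt.mk D1.c0 D2.c0 D3.c7)
abbrev sq7 : Qt rels S := P sp7
abbrev sp8 : Pt := (Pt.mk D1.c0 D2.c0 D3.c8)
abbrev sq8 : Qt rels S := P sp8
abbrev sp12 : Pt := (Pt.mk D1.c0 D2.c0 D3.c12)
abbrev sq12 : Qt rels S := P sp12
abbrev sp13 : Pt := (Pt.mk D1.c0 D2.c0 D3.c13)
abbrev sq13 : Qt rels S := P sp13
abbrev sp14 : Pt := (Pt.mk D1.c0 D2.c0 D3.c14)
abbrev sq14 : Qt rels S := P sp14
abbrev sp15 : Pt := (Pt.mk D1.c0 D2.c0 D3.c15)
abbrev sq15 : Qt rels S := P sp15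
abbrev sp16 : Pt := (Pt.mk D1.c0 D2.c0 D3.c16)
abbrev sq16 : Qt rels S := P sp16
abbrev sp17 : Pt := (Pt.mk D1.c0 D2.c0 D3.c17)
abbrev sq17 : Qt rels S := P sp17
abbrev sp24 : Pt := (Pt.mk D1.c0 D2.c1 D3.c3)
abbrev sq24 : Qt rels S := P sp24
abbrev sp25 : Pt := (Pt.mk D1.c0 D2.c1 D3.c4)
abbrev sq25 : Qt rels S := P sp25
abbrev sp26 : Pt := (Pt.mk D1.c0 D2.c1 D3.c5)
abbrev sq26 : Qt rels S := P sp26
abbrev sp27 : Pt := (Pt.mk D1.c0 D2.c1 D3.c6)
abbrev sq27 : Qt rels S := P sp27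
abbrev sp29 : Pt := (Pt.mk D1.c0 D2.c1 D3.c8)
abbrev sq29 : Qt rels S := P sp29
abbrev sp30 : Pt := (Pt.mk D1.c0 D2.c1 D3.c9)
abbrev sq30 : Qt rels S := P sp30
abbrev sp31 : Pt := (Pt.mk D1.c0 D2.c1 D3.c10)
abbrev sq31 : Qt rels S := P sp31
abbrev sp32 : Pt := (Pt.mk D1.c0 D2.c1 D3.c11)
abbrev sq32 : Qt rels S := P sp32
abbrev sp42 : Pt := (Pt.mk D1.c0 D2.c2 D3.c0)
abbrev sq42 : Qt rels S := P sp42
abbrev sp44 : Pt := (Pt.mk D1.c0 D2.c2 D3.c2)
abbrev sq44 : Qt rels S := P sp44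
abbrev sp46 : Pt := (Pt.mk D1.c0 D2.c2 D3.c4)
abbrev sq46 : Qt rels S := P sp46
abbrev sp47 : Pt := (Pt.mk D1.c0 D2.c2 D3.c5)
abbrev sq47 : Qt rels S := P sp47
abbrev sp48 : Pt := (Pt.mk D1.c0 D2.c2 D3.c6)
abbrev sq48 : Qt rels S := P sp48
abbrev sp49 : Pt := (Pt.mk D1.c0 D2.c2 D3.c7)
abbrev sq49 : Qt rels S := P sp49
abbrev sp54 : Pt := (Pt.mk D1.c0 D2.c2 D3.c12)
abbrev sq54 : Qt rels S := P sp54
abbrev sp55 : Pt := (Pt.mk D1.c0 D2.c2 D3.c13)
abbrev sq55 : Qt rels S := P sp55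
abbrev sp56 : Pt := (Pt.mk D1.c0 D2.c2 D3.c14)
abbrev sq56 : Qt rels S := P sp56
abbrev sp57 : Pt := (Pt.mk D1.c0 D2.c2 D3.c15)
abbrev sq57 : Qt rels S := P sp57
abbrev sp58 : Pt := (Pt.mk D1.c0 D2.c2 D3.c16)
abbrev sq58 : Qt rels S := P sp58
abbrev sp59 : Pt := (Pt.mk D1.c0 D2.c2 D3.c17)
abbrev sq59 : Qt rels S := P sp59
abbrev sp60 : Pt := (Pt.mk D1.c0 D2.c2 D3.c18)
abbrev sq60 : Qt rels S := P sp60
abbrev sp72 : Pt := (Pt.mk D1.c0 D2.c3 D3.c9)
abbrev sq72 : Qt rels S := P sp72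
abbrev sp75 : Pt := (Pt.mk D1.c0 D2.c3 D3.c12)
abbrev sq75 : Qt rels S := P sp75
abbrev sp77 : Pt := (Pt.mk D1.c0 D2.c3 D3.c14)
abbrev sq77 : Qt rels S := P sp77
abbrev sp78 : Pt := (Pt.mk D1.c0 D2.c3 D3.c15)
abbrev sq78 : Qt rels S := P sp78
abbrev sp82 : Pt := (Pt.mk D1.c0 D2.c3 D3.c19)
abbrev sq82 : Qt rels S := P sp82
abbrev sp83 : Pt := (Pt.mk D1.c0 D2.c3 D3.c20)
abbrev sq83 : Qt rels S := P sp83
abbrev sp84 : Pt := (Pt.mk D1.c0 D2.c4 D3.c0)
abbrev sq84 : Qt rels S := P sp84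
abbrev sp85 : Pt := (Pt.mk D1.c0 D2.c4 D3.c1)
abbrev sq85 : Qt rels S := P sp85
abbrev sp87 : Pt := (Pt.mk D1.c0 D2.c4 D3.c3)
abbrev sq87 : Qt rels S := P sp87
abbrev sp88 : Pt := (Pt.mk D1.c0 D2.c4 D3.c4)
abbrev sq88 : Qt rels S := P sp88
abbrev sp98 : Pt := (Pt.mk D1.c0 D2.c4 D3.c14)
abbrev sq98 : Qt rels S := P sp98
abbrev sp99 : Pt := (Pt.mk D1.c0 D2.c4 D3.c15)
abbrev sq99 : Qt rels S := P sp99
abbrev sp100 : Pt := (Pt.mk D1.c0 D2.c4 D3.c16)
abbrev sq100 : Qt rels S := P sp100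
abbrev sp101 : Pt := (Pt.mk D1.c0 D2.c4 D3.c17)
abbrev sq101 : Qt rels S := P sp101
abbrev sp104 : Pt := (Pt.mk D1.c0 D2.c4 D3.c20)
abbrev sq104 : Qt rels S := P sp104
abbrev sp105 : Pt := (Pt.mk D1.c0 D2.c5 D3.c0)
abbrev sq105 : Qt rels S := P sp105
abbrev sp106 : Pt := (Pt.mk D1.c0 D2.c5 D3.c1)
abbrev sq106 : Qt rels S := P sp106
abbrev sp107 : Pt := (Pt.mk D1.c0 D2.c5 D3.c2)
abbrev sq107 : Qt rels S := P sp107
abbrev sp123 : Pt := (Pt.mk D1.c0 D2.c5 D3.c18)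
abbrev sq123 : Qt rels S := P sp123
abbrev sp130 : Pt := (Pt.mk D1.c0 D2.c6 D3.c4)
abbrev sq130 : Qt rels S := P sp130
abbrev sp134 : Pt := (Pt.mk D1.c0 D2.c6 D3.c8)
abbrev sq134 : Qt rels S := P sp134
abbrev sp136 : Pt := (Pt.mk D1.c0 D2.c6 D3.c10)
abbrev sq136 : Qt rels S := P sp136
abbrev sp138 : Pt := (Pt.mk D1.c0 D2.c6 D3.c12)
abbrev sq138 : Qt rels S := P sp138
abbrev sp141 : Pt := (Pt.mk D1.c0 D2.c6 D3.c15)
abbrev sq141 : Qt rels S := P sp141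
abbrev sp142 : Pt := (Pt.mk D1.c0 D2.c6 D3.c16)
abbrev sq142 : Qt rels S := P sp142
abbrev sp143 : Pt := (Pt.mk D1.c0 D2.c6 D3.c17)
abbrev sq143 : Qt rels S := P sp143
abbrev sp147 : Pt := (Pt.mk D1.c0 D2.c7 D3.c0)
abbrev sq147 : Qt rels S := P sp147
abbrev sp166 : Pt := (Pt.mk D1.c0 D2.c7 D3.c19)
abbrev sq166 : Qt rels S := P sp166
abbrev sp168 : Pt := (Pt.mk D1.c0 D2.c8 D3.c0)
abbrev sq168 : Qt rels S := P sp168
abbrev sp170 : Pt := (Pt.mk D1.c0 D2.c8 D3.c2)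
abbrev sq170 : Qt rels S := P sp170
abbrev sp171 : Pt := (Pt.mk D1.c0 D2.c8 D3.c3)
abbrev sq171 : Qt rels S := P sp171
abbrev sp172 : Pt := (Pt.mk D1.c0 D2.c8 D3.c4)
abbrev sq172 : Qt rels S := P sp172
abbrev sp173 : Pt := (Pt.mk D1.c0 D2.c8 D3.c5)
abbrev sq173 : Qt rels S := P sp173
abbrev sp194 : Pt := (Pt.mk D1.c0 D2.c9 D3.c5)
abbrev sq194 : Qt rels S := P sp194
abbrev sp196 : Pt := (Pt.mk D1.c0 D2.c9 D3.c7)
abbrev sq196 : Qt rels S := P sp196
abbrev sp201 : Pt := (Pt.mk D1.c0 D2.c9 D3.c12)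
abbrev sq201 : Qt rels S := P sp201
abbrev sp206 : Pt := (Pt.mk D1.c0 D2.c9 D3.c17)
abbrev sq206 : Qt rels S := P sp206
abbrev sp212 : Pt := (Pt.mk D1.c0 D2.c10 D3.c2)
abbrev sq212 : Qt rels S := P sp212
abbrev sp214 : Pt := (Pt.mk D1.c0 D2.c10 D3.c4)
abbrev sq214 : Qt rels S := P sp214
abbrev sp215 : Pt := (Pt.mk D1.c0 D2.c10 D3.c5)
abbrev sq215 : Qt rels S := P sp215
abbrev sp216 : Pt := (Pt.mk D1.c0 D2.c10 D3.c6)
abbrev sq216 : Qt rels S := P sp216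
abbrev sp218 : Pt := (Pt.mk D1.c0 D2.c10 D3.c8)
abbrev sq218 : Qt rels S := P sp218
abbrev sp219 : Pt := (Pt.mk D1.c0 D2.c10 D3.c9)
abbrev sq219 : Qt rels S := P sp219
abbrev sp220 : Pt := (Pt.mk D1.c0 D2.c10 D3.c10)
abbrev sq220 : Qt rels S := P sp220
abbrev sp226 : Pt := (Pt.mk D1.c0 D2.c10 D3.c16)
abbrev sq226 : Qt rels S := P sp226
abbrev sp257 : Pt := (Pt.mk D1.c0 D2.c12 D3.c5)
abbrev sq257 : Qt rels S := P sp257
abbrev sp258 : Pt := (Pt.mk D1.c0 D2.c12 D3.c6)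
abbrev sq258 : Qt rels S := P sp258
abbrev sp259 : Pt := (Pt.mk D1.c0 D2.c12 D3.c7)
abbrev sq259 : Qt rels S := P sp259
abbrev sp260 : Pt := (Pt.mk D1.c0 D2.c12 D3.c8)
abbrev sq260 : Qt rels S := P sp260
abbrev sp261 : Pt := (Pt.mk D1.c0 D2.c12 D3.c9)
abbrev sq261 : Qt rels S := P sp261
abbrev sp262 : Pt := (Pt.mk D1.c0 D2.c12 D3.c10)
abbrev sq262 : Qt rels S := P sp262
abbrev sp263 : Pt := (Pt.mk D1.c0 D2.c12 D3.c11)
abbrev sq263 : Qt rels S := P sp263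
abbrev sp300 : Pt := (Pt.mk D1.c1 D2.c0 D3.c6)
abbrev sq300 : Qt rels S := P sp300
abbrev sp319 : Pt := (Pt.mk D1.c1 D2.c1 D3.c4)
abbrev sq319 : Qt rels S := P sp319
abbrev sp332 : Pt := (Pt.mk D1.c1 D2.c1 D3.c17)
abbrev sq332 : Qt rels S := P sp332
abbrev sp333 : Pt := (Pt.mk D1.c1 D2.c1 D3.c18)
abbrev sq333 : Qt rels S := P sp333
abbrev sp335 : Pt := (Pt.mk D1.c1 D2.c1 D3.c20)
abbrev sq335 : Qt rels S := P sp335
abbrev sp336 : Pt := (Pt.mk D1.c1 D2.c2 D3.c0)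
abbrev sq336 : Qt rels S := P sp336
abbrev sp337 : Pt := (Pt.mk D1.c1 D2.c2 D3.c1)
abbrev sq337 : Qt rels S := P sp337
abbrev sp339 : Pt := (Pt.mk D1.c1 D2.c2 D3.c3)
abbrev sq339 : Qt rels S := P sp339
abbrev sp340 : Pt := (Pt.mk D1.c1 D2.c2 D3.c4)
abbrev sq340 : Qt rels S := P sp340
abbrev sp343 : Pt := (Pt.mk D1.c1 D2.c2 D3.c7)
abbrev sq343 : Qt rels S := P sp343
abbrev sp389 : Pt := (Pt.mk D1.c1 D2.c4 D3.c11)
abbrev sq389 : Qt rels S := P sp389
abbrev sp468 : Pt := (Pt.mk D1.c1 D2.c8 D3.c6)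
abbrev sq468 : Qt rels S := P sp468
abbrev sp513 : Pt := (Pt.mk D1.c1 D2.c10 D3.c9)
abbrev sq513 : Qt rels S := P sp513
abbrev sp515 : Pt := (Pt.mk D1.c1 D2.c10 D3.c11)
abbrev sq515 : Qt rels S := P sp515
abbrev sp543 : Pt := (Pt.mk D1.c1 D2.c11 D3.c18)
abbrev sq543 : Qt rels S := P sp543
abbrev sp544 : Pt := (Pt.mk D1.c1 D2.c11 D3.c19)
abbrev sq544 : Qt rels S := P sp544
abbrev sp545 : Pt := (Pt.mk D1.c1 D2.c11 D3.c20)
abbrev sq545 : Qt rels S := P sp545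
abbrev sp877 : Pt := (Pt.mk D1.c2 D2.c13 D3.c16)
abbrev sq877 : Qt rels S := P sp877
def s0_v0 : Qt rels S := ed sl_ct sq59
def s0_v1 : Qt rels S := ed sl_gt s0_v0
def s0_v2 : Qt rels S := ed sl_ft s0_v1
def s0_v3 : Qt rels S := ed sl_dt s0_v2
def s0_v4 : Qt rels S := ed sl_ct s0_v3
def s0_v5 : Qt rels S := ed sl_dt sq7
def s0_v6 : Qt rels S := ed sl_gt s0_v5
def s0_v7 : Qt rels S := ed sl_dt s0_v6
def s0_v8 : Qt rels S := ed sl_ct s0_v5
def s0_v9 : Qt rels S := ed sl_gt s0_v8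
def s0_v14 : Qt rels S := ed sl_ct sq29
def s0_v17 : Qt rels S := ed sl_ct s0_v7
def s0_v18 : Qt rels S := ed sl_et s0_v7
def s0_v19 : Qt rels S := ed sl_ft s0_v7
def s0_v28 : Qt rels S := ed sl_ft s0_v17
def s0_v29 : Qt rels S := ed sl_dt s0_v28
def s0_v30 : Qt rels S := ed sl_ct s0_v29
def s0_v31 : Qt rels S := ed sl_gt s0_v30
def s0_v32 : Qt rels S := ed sl_ct sq57
def s0_v33 : Qt rels S := ed sl_gt s0_v32
def s0_v34 : Qt rels S := ed sl_ft s0_v33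
def s0_v35 : Qt rels S := ed sl_dt s0_v34
def s0_v37 : Qt rels S := ed sl_dt s0_v17
def s0_v38 : Qt rels S := ed sl_gt s0_v37
def s0_v41 : Qt rels S := ed sl_dt s0_v4
def s0_v42 : Qt rels S := ed sl_ct s0_v41
def s0_v43 : Qt rels S := ed sl_ft s0_v42
def s0_v44 : Qt rels S := ed sl_dt s0_v43
def s0_v45 : Qt rels S := ed sl_ct s0_v44
def s0_v46 : Qt rels S := ed sl_gt s0_v45
def s0_v47 : Qt rels S := ed sl_ft s0_v46
def s0_v48 : Qt rels S := ed sl_dt s0_v47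
def s0_v49 : Qt rels S := ed sl_ct s0_v48
def s0_v58 : Qt rels S := ed sl_ft sq59
def s0_v60 : Qt rels S := ed sl_gt sq261
def s0_v61 : Qt rels S := ed sl_ft s0_v60
def s0_v65 : Qt rels S := ed sl_ct sq104
def s0_v66 : Qt rels S := ed sl_gt s0_v65
def s0_v67 : Qt rels S := ed sl_ft s0_v66
def s0_v68 : Qt rels S := ed sl_dt s0_v67
def s0_v69 : Qt rels S := ed sl_ct s0_v68
def s0_v80 : Qt rels S := ed sl_gt sq218
def s0_v85 : Qt rels S := ed sl_ft sq85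
def s0_v88 : Qt rels S := ed sl_ct s0_v2
def s0_v89 : Qt rels S := ed sl_gt s0_v88
def s0_v90 : Qt rels S := ed sl_dt sq105
def s0_v91 : Qt rels S := ed sl_ct s0_v90
def s0_v93 : Qt rels S := ed sl_et sq85
def s0_v94 : Qt rels S := ed sl_gt s0_v2
def s0_v104 : Qt rels S := ed sl_ft s0_v8
def s0_v105 : Qt rels S := ed sl_dt s0_v104
def s0_v106 : Qt rels S := ed sl_ct s0_v105
def s0_v107 : Qt rels S := ed sl_gt s0_v106
def s0_v108 : Qt rels S := ed sl_ft s0_v107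
def s0_v109 : Qt rels S := ed sl_dt s0_v108
def s0_v110 : Qt rels S := ed sl_ct s0_v109
def s0_v116 : Qt rels S := ed sl_ct sq54
def s0_v117 : Qt rels S := ed sl_ct sq55
def s0_v118 : Qt rels S := ed sl_ct sq56
def s0_v130 : Qt rels S := ed sl_gt sq104
def s0_v131 : Qt rels S := ed sl_dt sq261
def s0_v132 : Qt rels S := ed sl_ct s0_v131
def s0_v145 : Qt rels S := ed sl_ft sq515
def s0_v146 : Qt rels S := ed sl_dt s0_v145
def s0_v147 : Qt rels S := ed sl_ct s0_v146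
def s0_v148 : Qt rels S := ed sl_gt s0_v147
def s0_v177 : Qt rels S := ed sl_ct s0_v38
def s0_v182 : Qt rels S := ed sl_ft sq141
def s0_v191 : Qt rels S := ed sl_ct s0_v47
def s0_v192 : Qt rels S := ed sl_gt s0_v191
def s0_v193 : Qt rels S := ed sl_ft s0_v192
def s0_v194 : Qt rels S := ed sl_dt s0_v193
def s0_v195 : Qt rels S := ed sl_ct s0_v194
def s0_v196 : Qt rels S := ed sl_gt s0_v29
def s0_v197 : Qt rels S := ed sl_dt s0_v196
def s0_v198 : Qt rels S := ed sl_ct s0_v37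
def s0_v206 : Qt rels S := ed sl_gt sq343
def s0_v244 : Qt rels S := ed sl_ct sq98
def s0_v245 : Qt rels S := ed sl_ct sq99
def s0_v250 : Qt rels S := ed sl_ct sq170
def s0_v251 : Qt rels S := ed sl_gt s0_v250
def s0_v269 : Qt rels S := ed sl_et sq168
def s0_v270 : Qt rels S := ed sl_gt sq170
def s0_v288 : Qt rels S := ed sl_ct sq101
def s0_v300 : Qt rels S := ed sl_dt sq172
def s0_v311 : Qt rels S := ed sl_dt s0_v288
def s0_v312 : Qt rels S := ed sl_ct s0_v311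
def s0_v313 : Qt rels S := ed sl_gt s0_v312
def s0_v316 : Qt rels S := ed sl_ct sq105
def s0_v317 : Qt rels S := ed sl_et sq106
def s0_v337 : Qt rels S := ed sl_gt sq468
def s0_v398 : Qt rels S := ed sl_ft s0_v198
def s0_v399 : Qt rels S := ed sl_dt s0_v398
def s0_v400 : Qt rels S := ed sl_ct s0_v399
def s0_v401 : Qt rels S := ed sl_gt s0_v400
def s0_v402 : Qt rels S := ed sl_ft s0_v401
def s0_v403 : Qt rels S := ed sl_dt s0_v402
def s0_v407 : Qt rels S := ed sl_gt sq214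
def s0_v408 : Qt rels S := ed sl_ft s0_v407
def s0_v417 : Qt rels S := ed sl_ct sq138
def s0_v435 : Qt rels S := ed sl_ct s0_v85
def s0_v436 : Qt rels S := ed sl_dt s0_v435
def s0_v437 : Qt rels S := ed sl_ct s0_v436
def s0_v438 : Qt rels S := ed sl_dt s0_v437
def s0_v439 : Qt rels S := ed sl_ct s0_v438
def s0_v440 : Qt rels S := ed sl_et sq212
def s0_v441 : Qt rels S := ed sl_dt s0_v440
def s0_v464 : Qt rels S := ed sl_ct s0_v197
def s0_v465 : Qt rels S := ed sl_et s0_v197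
def s0_v466 : Qt rels S := ed sl_ft s0_v197
def s0_v467 : Qt rels S := ed sl_dt s0_v466
def s0_v468 : Qt rels S := ed sl_ct s0_v467
def s0_v469 : Qt rels S := ed sl_gt s0_v468
def s0_v470 : Qt rels S := ed sl_ft s0_v469
def s0_v510 : Qt rels S := ed sl_ft sq226
def s0_v594 : Qt rels S := ed sl_dt sq260
def s0_v632 : Qt rels S := ed sl_ct sq389
def s0_v633 : Qt rels S := ed sl_dt s0_v632
def s0_v634 : Qt rels S := ed sl_ct s0_v633
def s0_v637 : Qt rels S := ed sl_ct s0_v61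
def s0_v639 : Qt rels S := ed sl_ct sq262
def s0_v645 : Qt rels S := ed sl_et sq257
def s0_v646 : Qt rels S := ed sl_dt s0_v645
def s0_v661 : Qt rels S := ed sl_et s0_v130
def s0_v662 : Qt rels S := ed sl_ft s0_v130
def s0_v664 : Qt rels S := ed sl_dt s0_v662
def s0_v665 : Qt rels S := ed sl_ct s0_v664
def s0_v666 : Qt rels S := ed sl_gt s0_v665
def s0_v667 : Qt rels S := ed sl_ft s0_v666
def s0_v668 : Qt rels S := ed sl_dt s0_v667
def s0_v669 : Qt rels S := ed sl_ct s0_v668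
def s0_v670 : Qt rels S := ed sl_gt s0_v669
def s0_v671 : Qt rels S := ed sl_ft s0_v670
def s0_v672 : Qt rels S := ed sl_dt s0_v671
def s0_v673 : Qt rels S := ed sl_ct s0_v672
def s0_v674 : Qt rels S := ed sl_dt s0_v91
def s0_v675 : Qt rels S := ed sl_ct s0_v674
def s0_v676 : Qt rels S := ed sl_dt s0_v675
def s0_v677 : Qt rels S := ed sl_ct s0_v676
def s0_v678 : Qt rels S := ed sl_dt s0_v677
def s0_v683 : Qt rels S := ed sl_ft s0_v250
def s0_v684 : Qt rels S := ed sl_dt s0_v683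
def s0_v685 : Qt rels S := ed sl_ct s0_v684
def s0_v686 : Qt rels S := ed sl_gt s0_v685
def s0_v687 : Qt rels S := ed sl_ft s0_v686
def s0_v688 : Qt rels S := ed sl_dt s0_v687
def s0_v689 : Qt rels S := ed sl_ct s0_v688
def s0_v779 : Qt rels S := ed sl_et sq206
def s0_v848 : Qt rels S := ed sl_et sq226
def s0_v872 : Qt rels S := ed sl_ct sq219
def s0_v873 : Qt rels S := ed sl_ct s0_v182
def s0_v875 : Qt rels S := ed sl_et sq220
def s0_v876 : Qt rels S := ed sl_ft sq220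
def s0_v877 : Qt rels S := ed sl_bf sq468
def s0_v878 : Qt rels S := ed sl_cf s0_v877
def s0_v879 : Qt rels S := ed sl_af s0_v878
def s0_v880 : Qt rels S := ed sl_dt s0_v876
def s0_v881 : Qt rels S := ed sl_gt s0_v470
def s0_v882 : Qt rels S := ed sl_ft s0_v881
def s0_v883 : Qt rels S := ed sl_dt s0_v882
def s0_v884 : Qt rels S := ed sl_ct s0_v883
def s0_v885 : Qt rels S := ed sl_gt s0_v884
def s0_v886 : Qt rels S := ed sl_ft s0_v885
def s0_v887 : Qt rels S := ed sl_dt s0_v886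
def s0_v888 : Qt rels S := ed sl_ct s0_v887
def s0_v1092 : Qt rels S := ed sl_gt s0_v300
def s0_v1093 : Qt rels S := ed sl_dt s0_v1092
def s0_v1118 : Qt rels S := ed sl_et s0_v594
def s0_v1119 : Qt rels S := ed sl_ft s0_v594
def s0_v1123 : Qt rels S := ed sl_dt s0_v1119
def s0_v1165 : Qt rels S := ed sl_ct sq259
def s0_v1166 : Qt rels S := ed sl_et sq260
def s0_v1170 : Qt rels S := ed sl_dt s0_v1166
def s0_v1171 : Qt rels S := ed sl_gt s0_v667
def s0_v1172 : Qt rels S := ed sl_ft s0_v1171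
def s0_v1173 : Qt rels S := ed sl_dt s0_v1172
def s0_v1174 : Qt rels S := ed sl_ct s0_v1173
def s0_v1175 : Qt rels S := ed sl_gt s0_v1174
def s0_v1176 : Qt rels S := ed sl_ft s0_v1175
def s0_v1177 : Qt rels S := ed sl_dt s0_v1176
def s0_v1178 : Qt rels S := ed sl_ct s0_v1177
def s0_v1179 : Qt rels S := ed sl_gt s0_v1178
def s0_v1183 : Qt rels S := ed sl_et sq263
def s0_v1329 : Qt rels S := ed sl_ct s0_v779
def s0_v1330 : Qt rels S := ed sl_ct s0_v148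
def s0_v1334 : Qt rels S := ed sl_af s0_v877
def s0_v1393 : Qt rels S := ed sl_ct s0_v440
def s0_v1411 : Qt rels S := ed sl_dt s0_v80
def s0_v1416 : Qt rels S := ed sl_et s0_v689
def s0_v1432 : Qt rels S := ed sl_bt s0_v873
def s0_v1433 : Qt rels S := ed sl_bt s0_v80
def s0_v1434 : Qt rels S := ed sl_dt s0_v872
def s0_v1435 : Qt rels S := ed sl_et s0_v1434
def s0_v1436 : Qt rels S := ed sl_dt s0_v1435
def s0_v1437 : Qt rels S := ed sl_dt s0_v873
def s0_v1438 : Qt rels S := ed sl_ft s0_v1437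
def s0_v1439 : Qt rels S := ed sl_gt s0_v1411
def s0_v1440 : Qt rels S := ed sl_dt s0_v1439
def s0_v1461 : Qt rels S := ed sl_ct s0_v1433
def s0_v1462 : Qt rels S := ed sl_bf s0_v337
def s0_v1463 : Qt rels S := ed sl_cf s0_v1462
def s0_v1464 : Qt rels S := ed sl_af s0_v1463
def s0_v1551 : Qt rels S := ed sl_ct s0_v848
def s0_v1814 : Qt rels S := ed sl_bt sq389
def s0_v1816 : Qt rels S := ed sl_dt s0_v1165
def s0_v1817 : Qt rels S := ed sl_et s0_v1816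
def s0_v1818 : Qt rels S := ed sl_dt s0_v1817
def s0_v1851 : Qt rels S := ed sl_dt s0_v639
def s0_v1859 : Qt rels S := ed sl_ft s0_v633
def s0_v1860 : Qt rels S := ed sl_dt s0_v1859
def s0_v1861 : Qt rels S := ed sl_ct s0_v1860
def s0_v1862 : Qt rels S := ed sl_gt s0_v1861
def s0_v1863 : Qt rels S := ed sl_ft s0_v1862
def s0_v1864 : Qt rels S := ed sl_dt s0_v1863
def s0_v1865 : Qt rels S := ed sl_ct s0_v1864
def s0_v2304 : Qt rels S := ed sl_bt s0_v1330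
def s0_v2313 : Qt rels S := ed sl_af s0_v1462
def s0_v2586 : Qt rels S := ed sl_at sq543
def s0_v2589 : Qt rels S := ed sl_ct sq543
def s0_v2601 : Qt rels S := ed sl_dt s0_v879
def s0_v2602 : Qt rels S := ed sl_et s0_v2601
def s0_v2603 : Qt rels S := ed sl_dt s0_v2602
def s0_v2604 : Qt rels S := ed sl_dt s0_v1432
def s0_v2605 : Qt rels S := ed sl_ft s0_v2604
def s0_v2606 : Qt rels S := ed sl_dt s0_v1433
def s0_v2607 : Qt rels S := ed sl_gt s0_v2606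
def s0_v2608 : Qt rels S := ed sl_dt s0_v2607
def s0_v2609 : Qt rels S := ed sl_et s0_v1432
def s0_v2610 : Qt rels S := ed sl_ft s0_v1433
def s0_v2611 : Qt rels S := ed sl_ft s0_v1464
def s0_v2624 : Qt rels S := ed sl_ct s0_v1436
def s0_v2625 : Qt rels S := ed sl_et sq545
def s0_v2626 : Qt rels S := ed sl_et s0_v1177
def s0_v2627 : Qt rels S := ed sl_ft s0_v1177
def s0_v2631 : Qt rels S := ed sl_dt s0_v2627
def s0_v2632 : Qt rels S := ed sl_ct s0_v2631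
def s0_v3171 : Qt rels S := ed sl_ct sq877
def s0_v3172 : Qt rels S := ed sl_bt s0_v3171
def s0_v3177 : Qt rels S := ed sl_af s0_v3172
def s0_v3178 : Qt rels S := ed sl_bf s0_v3177
def s0_v3179 : Qt rels S := ed sl_cf s0_v3178
def s0_v3180 : Qt rels S := ed sl_af s0_v3179
def s0_v4175 : Qt rels S := ed sl_et s0_v2304
def s0_v4176 : Qt rels S := ed sl_ft s0_v1461
def s0_v4177 : Qt rels S := ed sl_ft s0_v2313
def s0_v4178 : Qt rels S := ed sl_gt s0_v2589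
def s0_v4179 : Qt rels S := ed sl_ft s0_v4178
def s0_v4180 : Qt rels S := ed sl_dt s0_v4179
def s0_v4181 : Qt rels S := ed sl_ct s0_v4180
def s0_v4630 : Qt rels S := ed sl_at s0_v2608
def s0_v4632 : Qt rels S := ed sl_et s0_v2608
def s0_v4633 : Qt rels S := ed sl_ft s0_v2608
def s0_v4635 : Qt rels S := ed sl_dt s0_v4633
def s0_v4636 : Qt rels S := ed sl_ct s0_v4635
def relWi_0_s0 : Word Gen := [sl_af, sl_af]
theorem relone_inv_0_s0 : wG rels relWi_0_s0 = 1 :=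
  relone_inv rels relW_0 relone_0
def relWi_2_s0 : Word Gen := [sl_cf, sl_af, sl_cf, sl_af]
theorem relone_inv_2_s0 : wG rels relWi_2_s0 = 1 :=
  relone_inv rels relW_2 relone_2
def relWi_4_s0 : Word Gen := [sl_ef, sl_af, sl_ef, sl_af]
theorem relone_inv_4_s0 : wG rels relWi_4_s0 = 1 :=
  relone_inv rels relW_4 relone_4
def relWi_5_s0 : Word Gen := [sl_ff, sl_af, sl_ff, sl_af]
theorem relone_inv_5_s0 : wG rels relWi_5_s0 = 1 :=
  relone_inv rels relW_5 relone_5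
def relWi_6_s0 : Word Gen := [sl_gf, sl_af, sl_gf, sl_af]
theorem relone_inv_6_s0 : wG rels relWi_6_s0 = 1 :=
  relone_inv rels relW_6 relone_6
def relWi_7_s0 : Word Gen := [sl_bf, sl_bf]
theorem relone_inv_7_s0 : wG rels relWi_7_s0 = 1 :=
  relone_inv rels relW_7 relone_7
def relWi_8_s0 : Word Gen := [sl_cf, sl_bf, sl_cf, sl_bf, sl_cf, sl_bf]
theorem relone_inv_8_s0 : wG rels relWi_8_s0 = 1 :=
  relone_inv rels relW_8 relone_8
def relWi_9_s0 : Word Gen := [sl_df, sl_bf, sl_df, sl_bf]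
theorem relone_inv_9_s0 : wG rels relWi_9_s0 = 1 :=
  relone_inv rels relW_9 relone_9
def relWi_10_s0 : Word Gen := [sl_ef, sl_bf, sl_ef, sl_bf]
theorem relone_inv_10_s0 : wG rels relWi_10_s0 = 1 :=
  relone_inv rels relW_10 relone_10
def relWi_11_s0 : Word Gen := [sl_ff, sl_bf, sl_ff, sl_bf]
theorem relone_inv_11_s0 : wG rels relWi_11_s0 = 1 :=
  relone_inv rels relW_11 relone_11
def relWi_12_s0 : Word Gen := [sl_gf, sl_bf, sl_gf, sl_bf]
theorem relone_inv_12_s0 : wG rels relWi_12_s0 = 1 :=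
  relone_inv rels relW_12 relone_12
def relWi_13_s0 : Word Gen := [sl_cf, sl_cf]
theorem relone_inv_13_s0 : wG rels relWi_13_s0 = 1 :=
  relone_inv rels relW_13 relone_13
def relWi_15_s0 : Word Gen := [sl_ef, sl_cf, sl_ef, sl_cf]
theorem relone_inv_15_s0 : wG rels relWi_15_s0 = 1 :=
  relone_inv rels relW_15 relone_15
def relWi_16_s0 : Word Gen := [sl_ff, sl_cf, sl_ff, sl_cf]
theorem relone_inv_16_s0 : wG rels relWi_16_s0 = 1 :=
  relone_inv rels relW_16 relone_16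
def relWi_17_s0 : Word Gen := [sl_gf, sl_cf, sl_gf, sl_cf]
theorem relone_inv_17_s0 : wG rels relWi_17_s0 = 1 :=
  relone_inv rels relW_17 relone_17
def relWi_18_s0 : Word Gen := [sl_df, sl_df]
theorem relone_inv_18_s0 : wG rels relWi_18_s0 = 1 :=
  relone_inv rels relW_18 relone_18
def relWi_19_s0 : Word Gen := [sl_ef, sl_df, sl_ef, sl_df, sl_ef, sl_df]
theorem relone_inv_19_s0 : wG rels relWi_19_s0 = 1 :=
  relone_inv rels relW_19 relone_19
def relWi_20_s0 : Word Gen := [sl_ff, sl_df, sl_ff, sl_df, sl_ff, sl_df]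
theorem relone_inv_20_s0 : wG rels relWi_20_s0 = 1 :=
  relone_inv rels relW_20 relone_20
def relWi_21_s0 : Word Gen := [sl_gf, sl_df, sl_gf, sl_df, sl_gf, sl_df]
theorem relone_inv_21_s0 : wG rels relWi_21_s0 = 1 :=
  relone_inv rels relW_21 relone_21
def relWi_22_s0 : Word Gen := [sl_ef, sl_ef]
theorem relone_inv_22_s0 : wG rels relWi_22_s0 = 1 :=
  relone_inv rels relW_22 relone_22
def relWi_23_s0 : Word Gen := [sl_ff, sl_ef, sl_ff, sl_ef]
theorem relone_inv_23_s0 : wG rels relWi_23_s0 = 1 :=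
  relone_inv rels relW_23 relone_23
def relWi_24_s0 : Word Gen := [sl_gf, sl_ef, sl_gf, sl_ef]
theorem relone_inv_24_s0 : wG rels relWi_24_s0 = 1 :=
  relone_inv rels relW_24 relone_24
def relWi_25_s0 : Word Gen := [sl_ff, sl_ff]
theorem relone_inv_25_s0 : wG rels relWi_25_s0 = 1 :=
  relone_inv rels relW_25 relone_25
def relWi_26_s0 : Word Gen := [sl_gf, sl_ff, sl_gf, sl_ff, sl_gf, sl_ff, sl_gf, sl_ff]
theorem relone_inv_26_s0 : wG rels relWi_26_s0 = 1 :=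
  relone_inv rels relW_26 relone_26
def relWi_27_s0 : Word Gen := [sl_gf, sl_gf]
theorem relone_inv_27_s0 : wG rels relWi_27_s0 = 1 :=
  relone_inv rels relW_27 relone_27
def relWi_28_s0 : Word Gen := [sl_ft, sl_gt, sl_ft, sl_gt, sl_ef]
theorem relone_inv_28_s0 : wG rels relWi_28_s0 = 1 :=
  relone_inv rels relW_28 relone_28
def relWi_29_s0 : Word Gen := [sl_at, sl_bt, sl_ct, sl_at, sl_bt, sl_ct, sl_at, sl_bt, sl_ct, sl_ef]
theorem relone_inv_29_s0 : wG rels relWi_29_s0 = 1 :=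
  relone_inv rels relW_29 relone_29
def relWi_31_s0 : Word Gen := [sl_gf, sl_ff, sl_df, sl_cf, sl_gf, sl_ff, sl_df, sl_cf, sl_gf, sl_ff, sl_df, sl_cf, sl_gf, sl_ff, sl_df, sl_cf]
theorem relone_inv_31_s0 : wG rels relWi_31_s0 = 1 :=
  relone_inv rels relW_31 relone_31
theorem s0_rot0 : wG rels [sl_cf, sl_cf] = 1 :=
  wG_of_rotate rels relWi_13_s0 [sl_cf, sl_cf] 0 (by decide +kernel) relone_inv_13_s0
theorem s0_rot1 : wG rels [sl_gf, sl_gf] = 1 :=
  wG_of_rotate rels relWi_27_s0 [sl_gf, sl_gf] 0 (by decide +kernel) relone_inv_27_s0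
theorem s0_rot2 : wG rels [sl_ct, sl_gt, sl_ct, sl_gt] = 1 :=
  wG_of_rotate rels relW_17 [sl_ct, sl_gt, sl_ct, sl_gt] 0 (by decide +kernel) relone_17
theorem s0_rot3 : wG rels [sl_df, sl_df] = 1 :=
  wG_of_rotate rels relWi_18_s0 [sl_df, sl_df] 0 (by decide +kernel) relone_inv_18_s0
theorem s0_rot4 : wG rels [sl_gf, sl_ff, sl_df, sl_cf, sl_gf, sl_ff, sl_df, sl_cf, sl_gf, sl_ff, sl_df, sl_cf, sl_gf, sl_ff, sl_df, sl_cf] = 1 :=
  wG_of_rotate rels relWi_31_s0 [sl_gf, sl_ff, sl_df, sl_cf, sl_gf, sl_ff, sl_df, sl_cf, sl_gf, sl_ff, sl_df, sl_cf, sl_gf, sl_ff, sl_df, sl_cf] 0 (by decide +kernel) relone_inv_31_s0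
theorem s0_rot5 : wG rels [sl_gt, sl_ct, sl_gt, sl_ct] = 1 :=
  wG_of_rotate rels relW_17 [sl_gt, sl_ct, sl_gt, sl_ct] 1 (by decide +kernel) relone_17
theorem s0_rot6 : wG rels [sl_gt, sl_gt] = 1 :=
  wG_of_rotate rels relW_27 [sl_gt, sl_gt] 0 (by decide +kernel) relone_27
theorem s0_rot7 : wG rels [sl_af, sl_gf, sl_af, sl_gf] = 1 :=
  wG_of_rotate rels relWi_6_s0 [sl_af, sl_gf, sl_af, sl_gf] 1 (by decide +kernel) relone_inv_6_s0
theorem s0_rot8 : wG rels [sl_bf, sl_gf, sl_bf, sl_gf] = 1 :=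
  wG_of_rotate rels relWi_12_s0 [sl_bf, sl_gf, sl_bf, sl_gf] 1 (by decide +kernel) relone_inv_12_s0
theorem s0_rot9 : wG rels [sl_gf, sl_cf, sl_gf, sl_cf] = 1 :=
  wG_of_rotate rels relWi_17_s0 [sl_gf, sl_cf, sl_gf, sl_cf] 0 (by decide +kernel) relone_inv_17_s0
theorem s0_rot10 : wG rels [sl_at, sl_dt, sl_at, sl_dt] = 1 :=
  wG_of_rotate rels relW_3 [sl_at, sl_dt, sl_at, sl_dt] 0 (by decide +kernel) relone_3
theorem s0_rot11 : wG rels [sl_gf, sl_df, sl_gf, sl_df, sl_gf, sl_df] = 1 :=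
  wG_of_rotate rels relWi_21_s0 [sl_gf, sl_df, sl_gf, sl_df, sl_gf, sl_df] 0 (by decide +kernel) relone_inv_21_s0
theorem s0_rot12 : wG rels [sl_at, sl_ct, sl_at, sl_ct] = 1 :=
  wG_of_rotate rels relW_2 [sl_at, sl_ct, sl_at, sl_ct] 0 (by decide +kernel) relone_2
theorem s0_rot13 : wG rels [sl_ef, sl_ef] = 1 :=
  wG_of_rotate rels relWi_22_s0 [sl_ef, sl_ef] 0 (by decide +kernel) relone_inv_22_s0
theorem s0_rot14 : wG rels [sl_ft, sl_gt, sl_ft, sl_gt, sl_ef] = 1 :=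
  wG_of_rotate rels relWi_28_s0 [sl_ft, sl_gt, sl_ft, sl_gt, sl_ef] 0 (by decide +kernel) relone_inv_28_s0
theorem s0_rot15 : wG rels [sl_ff, sl_ff] = 1 :=
  wG_of_rotate rels relWi_25_s0 [sl_ff, sl_ff] 0 (by decide +kernel) relone_inv_25_s0
theorem s0_rot16 : wG rels [sl_gt, sl_ef, sl_ft, sl_gt, sl_ft] = 1 :=
  wG_of_rotate rels relWi_28_s0 [sl_gt, sl_ef, sl_ft, sl_gt, sl_ft] 3 (by decide +kernel) relone_inv_28_s0
theorem s0_rot17 : wG rels [sl_ef, sl_ff, sl_ef, sl_ff] = 1 :=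
  wG_of_rotate rels relWi_23_s0 [sl_ef, sl_ff, sl_ef, sl_ff] 1 (by decide +kernel) relone_inv_23_s0
theorem s0_rot18 : wG rels [sl_gf, sl_ff, sl_gf, sl_ff, sl_gf, sl_ff, sl_gf, sl_ff] = 1 :=
  wG_of_rotate rels relWi_26_s0 [sl_gf, sl_ff, sl_gf, sl_ff, sl_gf, sl_ff, sl_gf, sl_ff] 0 (by decide +kernel) relone_inv_26_s0
theorem s0_rot19 : wG rels [sl_et, sl_gf, sl_ff, sl_gf, sl_ff] = 1 :=
  wG_of_rotate rels relW_28 [sl_et, sl_gf, sl_ff, sl_gf, sl_ff] 0 (by decide +kernel) relone_28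
theorem s0_rot20 : wG rels [sl_bf, sl_ef, sl_bf, sl_ef] = 1 :=
  wG_of_rotate rels relWi_10_s0 [sl_bf, sl_ef, sl_bf, sl_ef] 1 (by decide +kernel) relone_inv_10_s0
theorem s0_rot21 : wG rels [sl_gt, sl_bt, sl_gt, sl_bt] = 1 :=
  wG_of_rotate rels relW_12 [sl_gt, sl_bt, sl_gt, sl_bt] 1 (by decide +kernel) relone_12
theorem s0_rot22 : wG rels [sl_gf, sl_ff, sl_et, sl_gf, sl_ff] = 1 :=
  wG_of_rotate rels relW_28 [sl_gf, sl_ff, sl_et, sl_gf, sl_ff] 3 (by decide +kernel) relone_28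
theorem s0_rot23 : wG rels [sl_ef, sl_gf, sl_ef, sl_gf] = 1 :=
  wG_of_rotate rels relWi_24_s0 [sl_ef, sl_gf, sl_ef, sl_gf] 1 (by decide +kernel) relone_inv_24_s0
theorem s0_rot24 : wG rels [sl_ff, sl_df, sl_cf, sl_gf, sl_ff, sl_df, sl_cf, sl_gf, sl_ff, sl_df, sl_cf, sl_gf, sl_ff, sl_df, sl_cf, sl_gf] = 1 :=
  wG_of_rotate rels relWi_31_s0 [sl_ff, sl_df, sl_cf, sl_gf, sl_ff, sl_df, sl_cf, sl_gf, sl_ff, sl_df, sl_cf, sl_gf, sl_ff, sl_df, sl_cf, sl_gf] 1 (by decide +kernel) relone_inv_31_s0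
theorem s0_rot25 : wG rels [sl_ft, sl_ft] = 1 :=
  wG_of_rotate rels relW_25 [sl_ft, sl_ft] 0 (by decide +kernel) relone_25
theorem s0_rot26 : wG rels [sl_cf, sl_gf, sl_ff, sl_df, sl_cf, sl_gf, sl_ff, sl_df, sl_cf, sl_gf, sl_ff, sl_df, sl_cf, sl_gf, sl_ff, sl_df] = 1 :=
  wG_of_rotate rels relWi_31_s0 [sl_cf, sl_gf, sl_ff, sl_df, sl_cf, sl_gf, sl_ff, sl_df, sl_cf, sl_gf, sl_ff, sl_df, sl_cf, sl_gf, sl_ff, sl_df] 3 (by decide +kernel) relone_inv_31_s0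
theorem s0_rot27 : wG rels [sl_dt, sl_gt, sl_dt, sl_gt, sl_dt, sl_gt] = 1 :=
  wG_of_rotate rels relW_21 [sl_dt, sl_gt, sl_dt, sl_gt, sl_dt, sl_gt] 0 (by decide +kernel) relone_21
theorem s0_rot28 : wG rels [sl_at, sl_ft, sl_at, sl_ft] = 1 :=
  wG_of_rotate rels relW_5 [sl_at, sl_ft, sl_at, sl_ft] 0 (by decide +kernel) relone_5
theorem s0_rot29 : wG rels [sl_at, sl_gt, sl_at, sl_gt] = 1 :=
  wG_of_rotate rels relW_6 [sl_at, sl_gt, sl_at, sl_gt] 0 (by decide +kernel) relone_6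
theorem s0_rot30 : wG rels [sl_bf, sl_df, sl_bf, sl_df] = 1 :=
  wG_of_rotate rels relWi_9_s0 [sl_bf, sl_df, sl_bf, sl_df] 1 (by decide +kernel) relone_inv_9_s0
theorem s0_rot31 : wG rels [sl_bt, sl_at, sl_bt, sl_at, sl_bt, sl_at, sl_bt, sl_at] = 1 :=
  wG_of_rotate rels relW_1 [sl_bt, sl_at, sl_bt, sl_at, sl_bt, sl_at, sl_bt, sl_at] 1 (by decide +kernel) relone_1
theorem s0_rot32 : wG rels [sl_dt, sl_ft, sl_dt, sl_ft, sl_dt, sl_ft] = 1 :=
  wG_of_rotate rels relW_20 [sl_dt, sl_ft, sl_dt, sl_ft, sl_dt, sl_ft] 0 (by decide +kernel) relone_20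
theorem s0_rot33 : wG rels [sl_ff, sl_cf, sl_ff, sl_cf] = 1 :=
  wG_of_rotate rels relWi_16_s0 [sl_ff, sl_cf, sl_ff, sl_cf] 0 (by decide +kernel) relone_inv_16_s0
theorem s0_rot34 : wG rels [sl_ef, sl_cf, sl_ef, sl_cf] = 1 :=
  wG_of_rotate rels relWi_15_s0 [sl_ef, sl_cf, sl_ef, sl_cf] 0 (by decide +kernel) relone_inv_15_s0
theorem s0_rot35 : wG rels [sl_et, sl_dt, sl_et, sl_dt, sl_et, sl_dt] = 1 :=
  wG_of_rotate rels relW_19 [sl_et, sl_dt, sl_et, sl_dt, sl_et, sl_dt] 1 (by decide +kernel) relone_19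
theorem s0_rot36 : wG rels [sl_ef, sl_af, sl_ef, sl_af] = 1 :=
  wG_of_rotate rels relWi_4_s0 [sl_ef, sl_af, sl_ef, sl_af] 0 (by decide +kernel) relone_inv_4_s0
theorem s0_rot37 : wG rels [sl_ff, sl_et, sl_gf, sl_ff, sl_gf] = 1 :=
  wG_of_rotate rels relW_28 [sl_ff, sl_et, sl_gf, sl_ff, sl_gf] 4 (by decide +kernel) relone_28
theorem s0_rot38 : wG rels [sl_et, sl_ft, sl_et, sl_ft] = 1 :=
  wG_of_rotate rels relW_23 [sl_et, sl_ft, sl_et, sl_ft] 0 (by decide +kernel) relone_23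
theorem s0_rot39 : wG rels [sl_ef, sl_df, sl_ef, sl_df, sl_ef, sl_df] = 1 :=
  wG_of_rotate rels relWi_19_s0 [sl_ef, sl_df, sl_ef, sl_df, sl_ef, sl_df] 0 (by decide +kernel) relone_inv_19_s0
theorem s0_rot40 : wG rels [sl_et, sl_et] = 1 :=
  wG_of_rotate rels relW_22 [sl_et, sl_et] 0 (by decide +kernel) relone_22
theorem s0_rot41 : wG rels [sl_af, sl_ef, sl_af, sl_ef] = 1 :=
  wG_of_rotate rels relWi_4_s0 [sl_af, sl_ef, sl_af, sl_ef] 1 (by decide +kernel) relone_inv_4_s0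
theorem s0_rot42 : wG rels [sl_df, sl_ef, sl_df, sl_ef, sl_df, sl_ef] = 1 :=
  wG_of_rotate rels relWi_19_s0 [sl_df, sl_ef, sl_df, sl_ef, sl_df, sl_ef] 1 (by decide +kernel) relone_inv_19_s0
theorem s0_rot43 : wG rels [sl_cf, sl_gf, sl_cf, sl_gf] = 1 :=
  wG_of_rotate rels relWi_17_s0 [sl_cf, sl_gf, sl_cf, sl_gf] 1 (by decide +kernel) relone_inv_17_s0
theorem s0_rot44 : wG rels [sl_df, sl_gf, sl_df, sl_gf, sl_df, sl_gf] = 1 :=
  wG_of_rotate rels relWi_21_s0 [sl_df, sl_gf, sl_df, sl_gf, sl_df, sl_gf] 1 (by decide +kernel) relone_inv_21_s0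
theorem s0_rot45 : wG rels [sl_df, sl_cf, sl_df, sl_cf, sl_df, sl_cf, sl_df, sl_cf, sl_at, sl_df, sl_cf] = 1 :=
  wG_of_rotate rels relW_30 [sl_df, sl_cf, sl_df, sl_cf, sl_df, sl_cf, sl_df, sl_cf, sl_at, sl_df, sl_cf] 3 (by decide +kernel) relone_30
theorem s0_rot46 : wG rels [sl_ff, sl_gf, sl_ff, sl_et, sl_gf] = 1 :=
  wG_of_rotate rels relW_28 [sl_ff, sl_gf, sl_ff, sl_et, sl_gf] 2 (by decide +kernel) relone_28
theorem s0_rot47 : wG rels [sl_at, sl_et, sl_at, sl_et] = 1 :=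
  wG_of_rotate rels relW_4 [sl_at, sl_et, sl_at, sl_et] 0 (by decide +kernel) relone_4
theorem s0_rot48 : wG rels [sl_dt, sl_et, sl_dt, sl_et, sl_dt, sl_et] = 1 :=
  wG_of_rotate rels relW_19 [sl_dt, sl_et, sl_dt, sl_et, sl_dt, sl_et] 0 (by decide +kernel) relone_19
theorem s0_rot49 : wG rels [sl_ft, sl_gt, sl_ft, sl_gt, sl_ft, sl_gt, sl_ft, sl_gt] = 1 :=
  wG_of_rotate rels relW_26 [sl_ft, sl_gt, sl_ft, sl_gt, sl_ft, sl_gt, sl_ft, sl_gt] 0 (by decide +kernel) relone_26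
theorem s0_rot50 : wG rels [sl_bf, sl_ff, sl_bf, sl_ff] = 1 :=
  wG_of_rotate rels relWi_11_s0 [sl_bf, sl_ff, sl_bf, sl_ff] 1 (by decide +kernel) relone_inv_11_s0
theorem s0_rot51 : wG rels [sl_df, sl_ff, sl_df, sl_ff, sl_df, sl_ff] = 1 :=
  wG_of_rotate rels relWi_20_s0 [sl_df, sl_ff, sl_df, sl_ff, sl_df, sl_ff] 1 (by decide +kernel) relone_inv_20_s0
theorem s0_rot52 : wG rels [sl_bt, sl_gt, sl_bt, sl_gt] = 1 :=
  wG_of_rotate rels relW_12 [sl_bt, sl_gt, sl_bt, sl_gt] 0 (by decide +kernel) relone_12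
theorem s0_rot53 : wG rels [sl_ff, sl_ef, sl_ff, sl_ef] = 1 :=
  wG_of_rotate rels relWi_23_s0 [sl_ff, sl_ef, sl_ff, sl_ef] 0 (by decide +kernel) relone_inv_23_s0
theorem s0_rot54 : wG rels [sl_gf, sl_ef, sl_gf, sl_ef] = 1 :=
  wG_of_rotate rels relWi_24_s0 [sl_gf, sl_ef, sl_gf, sl_ef] 0 (by decide +kernel) relone_inv_24_s0
theorem s0_rot55 : wG rels [sl_af, sl_ff, sl_af, sl_ff] = 1 :=
  wG_of_rotate rels relWi_5_s0 [sl_af, sl_ff, sl_af, sl_ff] 1 (by decide +kernel) relone_inv_5_s0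
theorem s0_rot56 : wG rels [sl_gt, sl_at, sl_gt, sl_at] = 1 :=
  wG_of_rotate rels relW_6 [sl_gt, sl_at, sl_gt, sl_at] 1 (by decide +kernel) relone_6
theorem s0_rot57 : wG rels [sl_cf, sl_ff, sl_cf, sl_ff] = 1 :=
  wG_of_rotate rels relWi_16_s0 [sl_cf, sl_ff, sl_cf, sl_ff] 1 (by decide +kernel) relone_inv_16_s0
theorem s0_rot58 : wG rels [sl_ct, sl_et, sl_ct, sl_et] = 1 :=
  wG_of_rotate rels relW_15 [sl_ct, sl_et, sl_ct, sl_et] 0 (by decide +kernel) relone_15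
theorem s0_rot59 : wG rels [sl_ft, sl_at, sl_ft, sl_at] = 1 :=
  wG_of_rotate rels relW_5 [sl_ft, sl_at, sl_ft, sl_at] 1 (by decide +kernel) relone_5
theorem s0_rot60 : wG rels [sl_ff, sl_df, sl_ff, sl_df, sl_ff, sl_df] = 1 :=
  wG_of_rotate rels relWi_20_s0 [sl_ff, sl_df, sl_ff, sl_df, sl_ff, sl_df] 0 (by decide +kernel) relone_inv_20_s0
theorem s0_rot61 : wG rels [sl_dt, sl_dt] = 1 :=
  wG_of_rotate rels relW_18 [sl_dt, sl_dt] 0 (by decide +kernel) relone_18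
theorem s0_rot62 : wG rels [sl_gt, sl_dt, sl_gt, sl_dt, sl_gt, sl_dt] = 1 :=
  wG_of_rotate rels relW_21 [sl_gt, sl_dt, sl_gt, sl_dt, sl_gt, sl_dt] 1 (by decide +kernel) relone_21
theorem s0_rot63 : wG rels [sl_af, sl_cf, sl_af, sl_cf] = 1 :=
  wG_of_rotate rels relWi_2_s0 [sl_af, sl_cf, sl_af, sl_cf] 1 (by decide +kernel) relone_inv_2_s0
theorem s0_rot64 : wG rels [sl_dt, sl_at, sl_dt, sl_at] = 1 :=
  wG_of_rotate rels relW_3 [sl_dt, sl_at, sl_dt, sl_at] 1 (by decide +kernel) relone_3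
theorem s0_rot65 : wG rels [sl_cf, sl_df, sl_cf, sl_df, sl_cf, sl_df, sl_cf, sl_df, sl_cf, sl_at, sl_df] = 1 :=
  wG_of_rotate rels relW_30 [sl_cf, sl_df, sl_cf, sl_df, sl_cf, sl_df, sl_cf, sl_df, sl_cf, sl_at, sl_df] 2 (by decide +kernel) relone_30
theorem s0_rot66 : wG rels [sl_ft, sl_ct, sl_ft, sl_ct] = 1 :=
  wG_of_rotate rels relW_16 [sl_ft, sl_ct, sl_ft, sl_ct] 1 (by decide +kernel) relone_16
theorem s0_rot67 : wG rels [sl_bt, sl_bt] = 1 :=
  wG_of_rotate rels relW_7 [sl_bt, sl_bt] 0 (by decide +kernel) relone_7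
theorem s0_rot68 : wG rels [sl_ct, sl_ct] = 1 :=
  wG_of_rotate rels relW_13 [sl_ct, sl_ct] 0 (by decide +kernel) relone_13
theorem s0_rot69 : wG rels [sl_bf, sl_cf, sl_bf, sl_cf, sl_bf, sl_cf] = 1 :=
  wG_of_rotate rels relWi_8_s0 [sl_bf, sl_cf, sl_bf, sl_cf, sl_bf, sl_cf] 1 (by decide +kernel) relone_inv_8_s0
theorem s0_rot70 : wG rels [sl_at, sl_at] = 1 :=
  wG_of_rotate rels relW_0 [sl_at, sl_at] 0 (by decide +kernel) relone_0
theorem s0_rot71 : wG rels [sl_bt, sl_ct, sl_ef, sl_at, sl_bt, sl_ct, sl_at, sl_bt, sl_ct, sl_at] = 1 :=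
  wG_of_rotate rels relWi_29_s0 [sl_bt, sl_ct, sl_ef, sl_at, sl_bt, sl_ct, sl_at, sl_bt, sl_ct, sl_at] 7 (by decide +kernel) relone_inv_29_s0
theorem s0_rot72 : wG rels [sl_ef, sl_bf, sl_ef, sl_bf] = 1 :=
  wG_of_rotate rels relWi_10_s0 [sl_ef, sl_bf, sl_ef, sl_bf] 0 (by decide +kernel) relone_inv_10_s0
theorem s0_rot73 : wG rels [sl_ef, sl_ft, sl_gt, sl_ft, sl_gt] = 1 :=
  wG_of_rotate rels relWi_28_s0 [sl_ef, sl_ft, sl_gt, sl_ft, sl_gt] 4 (by decide +kernel) relone_inv_28_s0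
theorem s0_rot74 : wG rels [sl_bf, sl_bf] = 1 :=
  wG_of_rotate rels relWi_7_s0 [sl_bf, sl_bf] 0 (by decide +kernel) relone_inv_7_s0
theorem s0_rot75 : wG rels [sl_ff, sl_bf, sl_ff, sl_bf] = 1 :=
  wG_of_rotate rels relWi_11_s0 [sl_ff, sl_bf, sl_ff, sl_bf] 0 (by decide +kernel) relone_inv_11_s0
theorem s0_rot76 : wG rels [sl_gf, sl_bf, sl_gf, sl_bf] = 1 :=
  wG_of_rotate rels relWi_12_s0 [sl_gf, sl_bf, sl_gf, sl_bf] 0 (by decide +kernel) relone_inv_12_s0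
theorem s0_rot77 : wG rels [sl_ft, sl_et, sl_ft, sl_et] = 1 :=
  wG_of_rotate rels relW_23 [sl_ft, sl_et, sl_ft, sl_et] 1 (by decide +kernel) relone_23
theorem s0_rot78 : wG rels [sl_ct, sl_at, sl_ct, sl_at] = 1 :=
  wG_of_rotate rels relW_2 [sl_ct, sl_at, sl_ct, sl_at] 1 (by decide +kernel) relone_2
theorem s0_rot79 : wG rels [sl_af, sl_af] = 1 :=
  wG_of_rotate rels relWi_0_s0 [sl_af, sl_af] 0 (by decide +kernel) relone_inv_0_s0
theorem s0_rot80 : wG rels [sl_bt, sl_et, sl_bt, sl_et] = 1 :=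
  wG_of_rotate rels relW_10 [sl_bt, sl_et, sl_bt, sl_et] 0 (by decide +kernel) relone_10
theorem s0_rot81 : wG rels [sl_bt, sl_dt, sl_bt, sl_dt] = 1 :=
  wG_of_rotate rels relW_9 [sl_bt, sl_dt, sl_bt, sl_dt] 0 (by decide +kernel) relone_9
theorem s0_rot82 : wG rels [sl_bt, sl_ft, sl_bt, sl_ft] = 1 :=
  wG_of_rotate rels relW_11 [sl_bt, sl_ft, sl_bt, sl_ft] 0 (by decide +kernel) relone_11
theorem s0_rot83 : wG rels [sl_ct, sl_ft, sl_ct, sl_ft] = 1 :=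
  wG_of_rotate rels relW_16 [sl_ct, sl_ft, sl_ct, sl_ft] 0 (by decide +kernel) relone_16
theorem s0_rot84 : wG rels [sl_cf, sl_bf, sl_cf, sl_bf, sl_cf, sl_bf] = 1 :=
  wG_of_rotate rels relWi_8_s0 [sl_cf, sl_bf, sl_cf, sl_bf, sl_cf, sl_bf] 0 (by decide +kernel) relone_inv_8_s0
theorem s0_rot85 : wG rels [sl_df, sl_bf, sl_df, sl_bf] = 1 :=
  wG_of_rotate rels relWi_9_s0 [sl_df, sl_bf, sl_df, sl_bf] 0 (by decide +kernel) relone_inv_9_s0
theorem s0_rot86 : wG rels [sl_gf, sl_af, sl_gf, sl_af] = 1 :=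
  wG_of_rotate rels relWi_6_s0 [sl_gf, sl_af, sl_gf, sl_af] 0 (by decide +kernel) relone_inv_6_s0
theorem s0_rot87 : wG rels [sl_at, sl_df, sl_cf, sl_df, sl_cf, sl_df, sl_cf, sl_df, sl_cf, sl_df, sl_cf] = 1 :=
  wG_of_rotate rels relW_30 [sl_at, sl_df, sl_cf, sl_df, sl_cf, sl_df, sl_cf, sl_df, sl_cf, sl_df, sl_cf] 0 (by decide +kernel) relone_30
theorem s0_rot88 : wG rels [sl_bf, sl_af, sl_cf, sl_bf, sl_af, sl_et, sl_cf, sl_bf, sl_af, sl_cf] = 1 :=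
  wG_of_rotate rels relW_29 [sl_bf, sl_af, sl_cf, sl_bf, sl_af, sl_et, sl_cf, sl_bf, sl_af, sl_cf] 5 (by decide +kernel) relone_29
theorem s0_rot89 : wG rels [sl_ct, sl_bt, sl_ct, sl_bt, sl_ct, sl_bt] = 1 :=
  wG_of_rotate rels relW_8 [sl_ct, sl_bt, sl_ct, sl_bt, sl_ct, sl_bt] 1 (by decide +kernel) relone_8

section Seed0
variable (IH : ∀ y q, lvl y q < 27 → EntryOK rels S fwd inv o plet idx y q)
include IH

theorem s0_f13 : ed sl_ct sq3 = sq1 :=
  real_edge rels S fwd inv o lvl plet idx 27 IH Gen.c sp3 sp1 rfl rfl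
theorem s0_f33 : ed sl_gt sq1 = sq4 :=
  real_edge rels S fwd inv o lvl plet idx 27 IH Gen.g sp1 sp4 rfl rfl
theorem s0_f36 : ed sl_dt sq3 = sq6 :=
  real_edge rels S fwd inv o lvl plet idx 27 IH Gen.d sp3 sp6 rfl rfl
theorem s0_f37 : ed sl_ct sq6 = sq12 :=
  real_edge rels S fwd inv o lvl plet idx 27 IH Gen.c sp6 sp12 rfl rfl
theorem s0_f38 : ed sl_dt sq12 = sq24 :=
  real_edge rels S fwd inv o lvl plet idx 27 IH Gen.d sp12 sp24 rfl rfl
theorem s0_f41 : ed sl_ct sq12 = sq6 :=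
  real_edge rels S fwd inv o lvl plet idx 27 IH Gen.c sp12 sp6 rfl rfl
theorem s0_f42 : ed sl_dt sq6 = sq3 :=
  real_edge rels S fwd inv o lvl plet idx 27 IH Gen.d sp6 sp3 rfl rfl
theorem s0_f44 : ed sl_ft sq3 = sq3 :=
  real_edge rels S fwd inv o lvl plet idx 27 IH Gen.f sp3 sp3 rfl rfl
theorem s0_f45 : ed sl_ct sq4 = sq7 :=
  real_edge rels S fwd inv o lvl plet idx 27 IH Gen.c sp4 sp7 rfl rfl
theorem s0_f46 : ed sl_gt sq7 = sq3 :=
  real_edge rels S fwd inv o lvl plet idx 27 IH Gen.g sp7 sp3 rfl rfl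
theorem s0_f47 : ed sl_dt sq4 = sq8 :=
  real_edge rels S fwd inv o lvl plet idx 27 IH Gen.d sp4 sp8 rfl rfl
theorem s0_f48 : ed sl_gt sq8 = sq8 :=
  real_edge rels S fwd inv o lvl plet idx 27 IH Gen.g sp8 sp8 rfl rfl
theorem s0_f49 : ed sl_dt sq8 = sq4 :=
  real_edge rels S fwd inv o lvl plet idx 27 IH Gen.d sp8 sp4 rfl rfl
theorem s0_f51 : ed sl_ft sq4 = sq4 :=
  real_edge rels S fwd inv o lvl plet idx 27 IH Gen.f sp4 sp4 rfl rfl
theorem s0_f52 : ed sl_ct sq8 = sq15 :=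
  real_edge rels S fwd inv o lvl plet idx 27 IH Gen.c sp8 sp15 rfl rfl
theorem s0_f53 : ed sl_gt sq15 = sq15 :=
  real_edge rels S fwd inv o lvl plet idx 27 IH Gen.g sp15 sp15 rfl rfl
theorem s0_f54 : ed sl_ft sq15 = sq31 :=
  real_edge rels S fwd inv o lvl plet idx 27 IH Gen.f sp15 sp31 rfl rfl
theorem s0_f55 : ed sl_dt sq31 = sq59 :=
  real_edge rels S fwd inv o lvl plet idx 27 IH Gen.d sp31 sp59 rfl rfl
theorem s0_f56 : ed sl_ft sq14 = sq6 :=
  real_edge rels S fwd inv o lvl plet idx 27 IH Gen.f sp14 sp6 rfl rfl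
theorem s0_f57 : ed sl_ct sq59 = s0_v0 :=
  rfl
theorem s0_f58 : ed sl_at sq59 = sq59 :=
  real_edge rels S fwd inv o lvl plet idx 27 IH Gen.a sp59 sp59 rfl rfl
theorem s0_f57r : ed sl_cf s0_v0 = sq59 :=
  edge_flip (s0_f57 IH)
theorem s0_f61 : ed sl_cf sq59 = s0_v0 :=
  gap_rel s0_rot0 (path_edge (s0_f57r IH) (path_nil s0_v0))
theorem s0_f62 : ed sl_ct sq17 = sq31 :=
  real_edge rels S fwd inv o lvl plet idx 27 IH Gen.c sp17 sp31 rfl rfl
theorem s0_f63 : ed sl_dt sq17 = sq17 :=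
  real_edge rels S fwd inv o lvl plet idx 27 IH Gen.d sp17 sp17 rfl rfl
theorem s0_f64 : ed sl_ct sq31 = sq17 :=
  real_edge rels S fwd inv o lvl plet idx 27 IH Gen.c sp31 sp17 rfl rfl
theorem s0_f65 : ed sl_dt sq59 = sq31 :=
  real_edge rels S fwd inv o lvl plet idx 27 IH Gen.d sp59 sp31 rfl rfl
theorem s0_f66 : ed sl_et sq105 = sq59 :=
  real_edge rels S fwd inv o lvl plet idx 27 IH Gen.e sp105 sp59 rfl rfl
theorem s0_f67 : ed sl_gt sq106 = sq59 :=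
  real_edge rels S fwd inv o lvl plet idx 27 IH Gen.g sp106 sp59 rfl rfl
theorem s0_f68 : ed sl_et sq59 = sq105 :=
  real_edge rels S fwd inv o lvl plet idx 27 IH Gen.e sp59 sp105 rfl rfl
theorem s0_f69 : ed sl_at sq105 = sq105 :=
  real_edge rels S fwd inv o lvl plet idx 27 IH Gen.a sp105 sp105 rfl rfl
theorem s0_f86 : ed sl_dt sq47 = sq25 :=
  real_edge rels S fwd inv o lvl plet idx 27 IH Gen.d sp47 sp25 rfl rfl
theorem s0_f87 : ed sl_ct sq25 = sq13 :=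
  real_edge rels S fwd inv o lvl plet idx 27 IH Gen.c sp25 sp13 rfl rfl
theorem s0_f89 : ed sl_et sq13 = sq6 :=
  real_edge rels S fwd inv o lvl plet idx 27 IH Gen.e sp13 sp6 rfl rfl
theorem s0_f93 : ed sl_gt sq59 = sq106 :=
  real_edge rels S fwd inv o lvl plet idx 27 IH Gen.g sp59 sp106 rfl rfl
theorem s0_f96 : ed sl_gt s0_v0 = s0_v1 :=
  rfl
theorem s0_f96r : ed sl_gf s0_v1 = s0_v0 :=
  edge_flip (s0_f96 IH)
theorem s0_f98 : ed sl_gf s0_v0 = s0_v1 :=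
  gap_rel s0_rot1 (path_edge (s0_f96r IH) (path_nil s0_v1))
theorem s0_f98r : ed sl_gt s0_v1 = s0_v0 :=
  edge_flip (s0_f98 IH)
theorem s0_f61r : ed sl_ct s0_v0 = sq59 :=
  edge_flip (s0_f61 IH)
theorem s0_f100 : ed sl_ct sq106 = s0_v1 :=
  gap_rel s0_rot2 (path_edge (s0_f93 IH) (path_edge (s0_f61r IH) (path_edge (s0_f98r IH) (path_nil s0_v1))))
theorem s0_f106 : ed sl_ft s0_v1 = s0_v2 :=
  rfl
theorem s0_f109 : ed sl_dt s0_v2 = s0_v3 :=
  rfl
theorem s0_f109r : ed sl_df s0_v3 = s0_v2 :=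
  edge_flip (s0_f109 IH)
theorem s0_f110 : ed sl_df s0_v2 = s0_v3 :=
  gap_rel s0_rot3 (path_edge (s0_f109r IH) (path_nil s0_v3))
theorem s0_f112 : ed sl_ct s0_v3 = s0_v4 :=
  rfl
theorem s0_f112r : ed sl_cf s0_v4 = s0_v3 :=
  edge_flip (s0_f112 IH)
theorem s0_f113 : ed sl_cf s0_v3 = s0_v4 :=
  gap_rel s0_rot0 (path_edge (s0_f112r IH) (path_nil s0_v4))
theorem s0_f106r : ed sl_ff s0_v2 = s0_v1 :=
  edge_flip (s0_f106 IH)
theorem s0_f55r : ed sl_df sq59 = sq31 :=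
  edge_flip (s0_f55 IH)
theorem s0_f54r : ed sl_ff sq31 = sq15 :=
  edge_flip (s0_f54 IH)
theorem s0_f53r : ed sl_gf sq15 = sq15 :=
  edge_flip (s0_f53 IH)
theorem s0_f52r : ed sl_cf sq15 = sq8 :=
  edge_flip (s0_f52 IH)
theorem s0_f47r : ed sl_df sq8 = sq4 :=
  edge_flip (s0_f47 IH)
theorem s0_f51r : ed sl_ff sq4 = sq4 :=
  edge_flip (s0_f51 IH)
theorem s0_f33r : ed sl_gf sq4 = sq1 :=
  edge_flip (s0_f33 IH)
theorem s0_f13r : ed sl_cf sq1 = sq3 :=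
  edge_flip (s0_f13 IH)
theorem s0_f42r : ed sl_df sq3 = sq6 :=
  edge_flip (s0_f42 IH)
theorem s0_f56r : ed sl_ff sq6 = sq14 :=
  edge_flip (s0_f56 IH)
theorem s0_f114 : ed sl_gf sq14 = s0_v4 :=
  gap_rel s0_rot4 (path_edge (s0_f56r IH) (path_edge (s0_f42r IH) (path_edge (s0_f13r IH) (path_edge (s0_f33r IH) (path_edge (s0_f51r IH) (path_edge (s0_f47r IH) (path_edge (s0_f52r IH) (path_edge (s0_f53r IH) (path_edge (s0_f54r IH) (path_edge (s0_f55r IH) (path_edge (s0_f57r IH) (path_edge (s0_f96r IH) (path_edge (s0_f106r IH) (path_edge (s0_f109r IH) (path_edge (s0_f112r IH) (path_nil s0_v4))))))))))))))))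
theorem s0_f115 : ed sl_at sq14 = sq14 :=
  real_edge rels S fwd inv o lvl plet idx 27 IH Gen.a sp14 sp14 rfl rfl
theorem s0_f116 : ed sl_bt sq14 = sq14 :=
  real_edge rels S fwd inv o lvl plet idx 27 IH Gen.b sp14 sp14 rfl rfl
theorem s0_f117 : ed sl_ct sq14 = sq26 :=
  real_edge rels S fwd inv o lvl plet idx 27 IH Gen.c sp14 sp26 rfl rfl
theorem s0_f114r : ed sl_gt s0_v4 = sq14 :=
  edge_flip (s0_f114 IH)
theorem s0_f118 : ed sl_gt sq26 = s0_v3 :=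
  gap_rel s0_rot5 (path_edge (s0_f117 IH) (path_edge (s0_f114r IH) (path_edge (s0_f112 IH) (path_nil s0_v3))))
theorem s0_f119 : ed sl_dt sq14 = sq14 :=
  real_edge rels S fwd inv o lvl plet idx 27 IH Gen.d sp14 sp14 rfl rfl
theorem s0_f121 : ed sl_gt sq14 = s0_v4 :=
  gap_rel s0_rot6 (path_edge (s0_f114r IH) (path_nil s0_v4))
theorem s0_f121r : ed sl_gf s0_v4 = sq14 :=
  edge_flip (s0_f121 IH)
theorem s0_f115r : ed sl_af sq14 = sq14 :=
  edge_flip (s0_f115 IH)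
theorem s0_f122 : ed sl_af s0_v4 = s0_v4 :=
  gap_rel s0_rot7 (path_edge (s0_f114 IH) (path_edge (s0_f115r IH) (path_edge (s0_f121r IH) (path_nil s0_v4))))
theorem s0_f116r : ed sl_bf sq14 = sq14 :=
  edge_flip (s0_f116 IH)
theorem s0_f123 : ed sl_bf s0_v4 = s0_v4 :=
  gap_rel s0_rot8 (path_edge (s0_f114 IH) (path_edge (s0_f116r IH) (path_edge (s0_f121r IH) (path_nil s0_v4))))
theorem s0_f124 : ed sl_ct sq26 = sq14 :=
  real_edge rels S fwd inv o lvl plet idx 27 IH Gen.c sp26 sp14 rfl rfl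
theorem s0_f124r : ed sl_cf sq14 = sq26 :=
  edge_flip (s0_f124 IH)
theorem s0_f125 : ed sl_gf sq26 = s0_v3 :=
  gap_rel s0_rot9 (path_edge (s0_f124r IH) (path_edge (s0_f121r IH) (path_edge (s0_f113 IH) (path_nil s0_v3))))
theorem s0_f127 : ed sl_ft sq6 = sq14 :=
  real_edge rels S fwd inv o lvl plet idx 27 IH Gen.f sp6 sp14 rfl rfl
theorem s0_f129 : ed sl_dt sq49 = sq26 :=
  real_edge rels S fwd inv o lvl plet idx 27 IH Gen.d sp49 sp26 rfl rfl
theorem s0_f134 : ed sl_dt sq26 = sq49 :=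
  real_edge rels S fwd inv o lvl plet idx 27 IH Gen.d sp26 sp49 rfl rfl
theorem s0_f135 : ed sl_gt sq49 = sq88 :=
  real_edge rels S fwd inv o lvl plet idx 27 IH Gen.g sp49 sp88 rfl rfl
theorem s0_f136 : ed sl_et sq26 = sq48 :=
  real_edge rels S fwd inv o lvl plet idx 27 IH Gen.e sp26 sp48 rfl rfl
theorem s0_f139 : ed sl_gt sq24 = sq46 :=
  real_edge rels S fwd inv o lvl plet idx 27 IH Gen.g sp24 sp46 rfl rfl
theorem s0_f144 : ed sl_gt sq88 = sq49 :=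
  real_edge rels S fwd inv o lvl plet idx 27 IH Gen.g sp88 sp49 rfl rfl
theorem s0_f163 : ed sl_at sq7 = sq7 :=
  real_edge rels S fwd inv o lvl plet idx 27 IH Gen.a sp7 sp7 rfl rfl
theorem s0_f165 : ed sl_gt sq3 = sq7 :=
  real_edge rels S fwd inv o lvl plet idx 27 IH Gen.g sp3 sp7 rfl rfl
theorem s0_f169 : ed sl_dt sq7 = s0_v5 :=
  rfl
theorem s0_f170 : ed sl_ct sq15 = sq8 :=
  real_edge rels S fwd inv o lvl plet idx 27 IH Gen.c sp15 sp8 rfl rfl
theorem s0_f171 : ed sl_dt sq29 = sq15 :=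
  real_edge rels S fwd inv o lvl plet idx 27 IH Gen.d sp29 sp15 rfl rfl
theorem s0_f169r : ed sl_df s0_v5 = sq7 :=
  edge_flip (s0_f169 IH)
theorem s0_f172 : ed sl_df sq7 = s0_v5 :=
  gap_rel s0_rot3 (path_edge (s0_f169r IH) (path_nil s0_v5))
theorem s0_f172r : ed sl_dt s0_v5 = sq7 :=
  edge_flip (s0_f172 IH)
theorem s0_f177 : ed sl_at s0_v5 = s0_v5 :=
  gap_rel s0_rot10 (path_edge (s0_f169 IH) (path_edge (s0_f163 IH) (path_edge (s0_f172r IH) (path_nil s0_v5))))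
theorem s0_f179 : ed sl_dt sq15 = sq29 :=
  real_edge rels S fwd inv o lvl plet idx 27 IH Gen.d sp15 sp29 rfl rfl
theorem s0_f181 : ed sl_gt s0_v5 = s0_v6 :=
  rfl
theorem s0_f185 : ed sl_dt s0_v6 = s0_v7 :=
  rfl
theorem s0_f185r : ed sl_df s0_v7 = s0_v6 :=
  edge_flip (s0_f185 IH)
theorem s0_f186 : ed sl_df s0_v6 = s0_v7 :=
  gap_rel s0_rot3 (path_edge (s0_f185r IH) (path_nil s0_v7))
theorem s0_f181r : ed sl_gf s0_v6 = s0_v5 :=
  edge_flip (s0_f181 IH)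
theorem s0_f165r : ed sl_gf sq7 = sq3 :=
  edge_flip (s0_f165 IH)
theorem s0_f187 : ed sl_gf sq6 = s0_v7 :=
  gap_rel s0_rot11 (path_edge (s0_f42r IH) (path_edge (s0_f165r IH) (path_edge (s0_f169r IH) (path_edge (s0_f181r IH) (path_edge (s0_f185r IH) (path_nil s0_v7))))))
theorem s0_f187r : ed sl_gt s0_v7 = sq6 :=
  edge_flip (s0_f187 IH)
theorem s0_f188 : ed sl_gt sq6 = s0_v7 :=
  gap_rel s0_rot6 (path_edge (s0_f187r IH) (path_nil s0_v7))
theorem s0_f191 : ed sl_ft sq27 = sq13 :=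
  real_edge rels S fwd inv o lvl plet idx 27 IH Gen.f sp27 sp13 rfl rfl
theorem s0_f196 : ed sl_ct s0_v5 = s0_v8 :=
  rfl
theorem s0_f196r : ed sl_cf s0_v8 = s0_v5 :=
  edge_flip (s0_f196 IH)
theorem s0_f197 : ed sl_cf s0_v5 = s0_v8 :=
  gap_rel s0_rot0 (path_edge (s0_f196r IH) (path_nil s0_v8))
theorem s0_f197r : ed sl_ct s0_v8 = s0_v5 :=
  edge_flip (s0_f197 IH)
theorem s0_f198 : ed sl_at s0_v8 = s0_v8 :=
  gap_rel s0_rot12 (path_edge (s0_f196 IH) (path_edge (s0_f177 IH) (path_edge (s0_f197r IH) (path_nil s0_v8))))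
theorem s0_f199 : ed sl_gt s0_v8 = s0_v9 :=
  rfl
theorem s0_f199r : ed sl_gf s0_v9 = s0_v8 :=
  edge_flip (s0_f199 IH)
theorem s0_f201 : ed sl_gf s0_v8 = s0_v9 :=
  gap_rel s0_rot1 (path_edge (s0_f199r IH) (path_nil s0_v9))
theorem s0_f201r : ed sl_gt s0_v9 = s0_v8 :=
  edge_flip (s0_f201 IH)
theorem s0_f203 : ed sl_ct s0_v6 = s0_v9 :=
  gap_rel s0_rot2 (path_edge (s0_f181 IH) (path_edge (s0_f197r IH) (path_edge (s0_f201r IH) (path_nil s0_v9))))
theorem s0_f222 : ed sl_ct sq29 = s0_v14 :=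
  rfl
theorem s0_f222r : ed sl_cf s0_v14 = sq29 :=
  edge_flip (s0_f222 IH)
theorem s0_f225 : ed sl_cf sq29 = s0_v14 :=
  gap_rel s0_rot0 (path_edge (s0_f222r IH) (path_nil s0_v14))
theorem s0_f227 : ed sl_ft sq55 = sq29 :=
  real_edge rels S fwd inv o lvl plet idx 27 IH Gen.f sp55 sp29 rfl rfl
theorem s0_f236 : ed sl_ft sq31 = sq15 :=
  real_edge rels S fwd inv o lvl plet idx 27 IH Gen.f sp31 sp15 rfl rfl
theorem s0_f237 : ed sl_gt sq58 = sq31 :=
  real_edge rels S fwd inv o lvl plet idx 27 IH Gen.g sp58 sp31 rfl rfl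
theorem s0_f238 : ed sl_ct sq32 = sq58 :=
  real_edge rels S fwd inv o lvl plet idx 27 IH Gen.c sp32 sp58 rfl rfl
theorem s0_f239 : ed sl_dt sq60 = sq32 :=
  real_edge rels S fwd inv o lvl plet idx 27 IH Gen.d sp60 sp32 rfl rfl
theorem s0_f240 : ed sl_ft sq60 = sq60 :=
  real_edge rels S fwd inv o lvl plet idx 27 IH Gen.f sp60 sp60 rfl rfl
theorem s0_f241 : ed sl_gt sq60 = sq60 :=
  real_edge rels S fwd inv o lvl plet idx 27 IH Gen.g sp60 sp60 rfl rfl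
theorem s0_f242 : ed sl_ct sq107 = sq60 :=
  real_edge rels S fwd inv o lvl plet idx 27 IH Gen.c sp107 sp60 rfl rfl
theorem s0_f243 : ed sl_dt sq173 = sq107 :=
  real_edge rels S fwd inv o lvl plet idx 27 IH Gen.d sp173 sp107 rfl rfl
theorem s0_f247 : ed sl_ft sq29 = sq55 :=
  real_edge rels S fwd inv o lvl plet idx 27 IH Gen.f sp29 sp55 rfl rfl
theorem s0_f248 : ed sl_gt sq29 = sq56 :=
  real_edge rels S fwd inv o lvl plet idx 27 IH Gen.g sp29 sp56 rfl rfl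
theorem s0_f254 : ed sl_dt sq101 = sq171 :=
  real_edge rels S fwd inv o lvl plet idx 27 IH Gen.d sp101 sp171 rfl rfl
theorem s0_f255 : ed sl_ct sq171 = sq258 :=
  real_edge rels S fwd inv o lvl plet idx 27 IH Gen.c sp171 sp258 rfl rfl
theorem s0_f265 : ed sl_dt sq16 = sq16 :=
  real_edge rels S fwd inv o lvl plet idx 27 IH Gen.d sp16 sp16 rfl rfl
theorem s0_f267 : ed sl_ft sq8 = sq17 :=
  real_edge rels S fwd inv o lvl plet idx 27 IH Gen.f sp8 sp17 rfl rfl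
theorem s0_f268 : ed sl_ft sq17 = sq8 :=
  real_edge rels S fwd inv o lvl plet idx 27 IH Gen.f sp17 sp8 rfl rfl
theorem s0_f303 : ed sl_ct s0_v7 = s0_v17 :=
  rfl
theorem s0_f303r : ed sl_cf s0_v17 = s0_v7 :=
  edge_flip (s0_f303 IH)
theorem s0_f188r : ed sl_gf s0_v7 = sq6 :=
  edge_flip (s0_f188 IH)
theorem s0_f41r : ed sl_cf sq6 = sq12 :=
  edge_flip (s0_f41 IH)
theorem s0_f305 : ed sl_gf sq12 = s0_v17 :=
  gap_rel s0_rot9 (path_edge (s0_f41r IH) (path_edge (s0_f188r IH) (path_edge (s0_f303r IH) (path_nil s0_v17))))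
theorem s0_f308 : ed sl_et sq12 = sq25 :=
  real_edge rels S fwd inv o lvl plet idx 27 IH Gen.e sp12 sp25 rfl rfl
theorem s0_f305r : ed sl_gt s0_v17 = sq12 :=
  edge_flip (s0_f305 IH)
theorem s0_f309 : ed sl_gt sq12 = s0_v17 :=
  gap_rel s0_rot6 (path_edge (s0_f305r IH) (path_nil s0_v17))
theorem s0_f312 : ed sl_ft sq48 = sq25 :=
  real_edge rels S fwd inv o lvl plet idx 27 IH Gen.f sp48 sp25 rfl rfl
theorem s0_f313 : ed sl_gt sq32 = sq17 :=
  real_edge rels S fwd inv o lvl plet idx 27 IH Gen.g sp32 sp17 rfl rfl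
theorem s0_f314 : ed sl_ct sq58 = sq32 :=
  real_edge rels S fwd inv o lvl plet idx 27 IH Gen.c sp58 sp32 rfl rfl
theorem s0_f315 : ed sl_dt sq104 = sq58 :=
  real_edge rels S fwd inv o lvl plet idx 27 IH Gen.d sp104 sp58 rfl rfl
theorem s0_f316 : ed sl_et s0_v7 = s0_v18 :=
  rfl
theorem s0_f316r : ed sl_ef s0_v18 = s0_v7 :=
  edge_flip (s0_f316 IH)
theorem s0_f317 : ed sl_ef s0_v7 = s0_v18 :=
  gap_rel s0_rot13 (path_edge (s0_f316r IH) (path_nil s0_v18))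
theorem s0_f319 : ed sl_ft s0_v4 = s0_v18 :=
  gap_rel s0_rot14 (path_edge (s0_f121 IH) (path_edge (s0_f127 IH) (path_edge (s0_f187r IH) (path_edge (s0_f316r IH) (path_nil s0_v18)))))
theorem s0_f319r : ed sl_ff s0_v18 = s0_v4 :=
  edge_flip (s0_f319 IH)
theorem s0_f320 : ed sl_ff s0_v4 = s0_v18 :=
  gap_rel s0_rot15 (path_edge (s0_f319r IH) (path_nil s0_v18))
theorem s0_f320r : ed sl_ft s0_v18 = s0_v4 :=
  edge_flip (s0_f320 IH)
theorem s0_f89r : ed sl_ef sq6 = sq13 :=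
  edge_flip (s0_f89 IH)
theorem s0_f323 : ed sl_gt sq13 = s0_v18 :=
  gap_rel s0_rot16 (path_edge (s0_f89r IH) (path_edge (s0_f56 IH) (path_edge (s0_f114r IH) (path_edge (s0_f320r IH) (path_nil s0_v18)))))
theorem s0_f324 : ed sl_ft sq83 = sq47 :=
  real_edge rels S fwd inv o lvl plet idx 27 IH Gen.f sp83 sp47 rfl rfl
theorem s0_f327 : ed sl_ft s0_v7 = s0_v19 :=
  rfl
theorem s0_f327r : ed sl_ff s0_v19 = s0_v7 :=
  edge_flip (s0_f327 IH)
theorem s0_f328 : ed sl_ef s0_v4 = s0_v19 :=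
  gap_rel s0_rot17 (path_edge (s0_f319r IH) (path_edge (s0_f317 IH) (path_edge (s0_f327r IH) (path_nil s0_v19))))
theorem s0_f329 : ed sl_ff s0_v7 = s0_v19 :=
  gap_rel s0_rot15 (path_edge (s0_f327r IH) (path_nil s0_v19))
theorem s0_f323r : ed sl_gf s0_v18 = sq13 :=
  edge_flip (s0_f323 IH)
theorem s0_f191r : ed sl_ff sq13 = sq27 :=
  edge_flip (s0_f191 IH)
theorem s0_f330 : ed sl_gf sq27 = s0_v19 :=
  gap_rel s0_rot18 (path_edge (s0_f191r IH) (path_edge (s0_f323r IH) (path_edge (s0_f320 IH) (path_edge (s0_f114 IH) (path_edge (s0_f56r IH) (path_edge (s0_f188r IH) (path_edge (s0_f327r IH) (path_nil s0_v19))))))))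
theorem s0_f331 : ed sl_et s0_v4 = s0_v19 :=
  gap_rel s0_rot19 (path_edge (s0_f114 IH) (path_edge (s0_f56r IH) (path_edge (s0_f188r IH) (path_edge (s0_f327r IH) (path_nil s0_v19)))))
theorem s0_f331r : ed sl_ef s0_v19 = s0_v4 :=
  edge_flip (s0_f331 IH)
theorem s0_f333 : ed sl_bf s0_v19 = s0_v19 :=
  gap_rel s0_rot20 (path_edge (s0_f328 IH) (path_edge (s0_f123 IH) (path_edge (s0_f331r IH) (path_nil s0_v19))))
theorem s0_f334 : ed sl_bt sq27 = sq27 :=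
  real_edge rels S fwd inv o lvl plet idx 27 IH Gen.b sp27 sp27 rfl rfl
theorem s0_f333r : ed sl_bt s0_v19 = s0_v19 :=
  edge_flip (s0_f333 IH)
theorem s0_f330r : ed sl_gt s0_v19 = sq27 :=
  edge_flip (s0_f330 IH)
theorem s0_f335 : ed sl_gt sq27 = s0_v19 :=
  gap_rel s0_rot21 (path_edge (s0_f334 IH) (path_edge (s0_f330r IH) (path_edge (s0_f333r IH) (path_nil s0_v19))))
theorem s0_f337 : ed sl_ct sq48 = sq27 :=
  real_edge rels S fwd inv o lvl plet idx 27 IH Gen.c sp48 sp27 rfl rfl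
theorem s0_f339 : ed sl_dt sq85 = sq48 :=
  real_edge rels S fwd inv o lvl plet idx 27 IH Gen.d sp85 sp48 rfl rfl
theorem s0_f378 : ed sl_ft s0_v17 = s0_v28 :=
  rfl
theorem s0_f378r : ed sl_ff s0_v28 = s0_v17 :=
  edge_flip (s0_f378 IH)
theorem s0_f309r : ed sl_gf s0_v17 = sq12 :=
  edge_flip (s0_f309 IH)
theorem s0_f312r : ed sl_ff sq25 = sq48 :=
  edge_flip (s0_f312 IH)
theorem s0_f382 : ed sl_gf sq48 = s0_v28 :=
  gap_rel s0_rot22 (path_edge (s0_f312r IH) (path_edge (s0_f308 IH) (path_edge (s0_f309r IH) (path_edge (s0_f378r IH) (path_nil s0_v28)))))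
theorem s0_f383 : ed sl_at sq48 = sq48 :=
  real_edge rels S fwd inv o lvl plet idx 27 IH Gen.a sp48 sp48 rfl rfl
theorem s0_f386 : ed sl_dt sq48 = sq85 :=
  real_edge rels S fwd inv o lvl plet idx 27 IH Gen.d sp48 sp85 rfl rfl
theorem s0_f382r : ed sl_gt s0_v28 = sq48 :=
  edge_flip (s0_f382 IH)
theorem s0_f387 : ed sl_gt sq48 = s0_v28 :=
  gap_rel s0_rot6 (path_edge (s0_f382r IH) (path_nil s0_v28))
theorem s0_f388 : ed sl_dt sq25 = sq47 :=
  real_edge rels S fwd inv o lvl plet idx 27 IH Gen.d sp25 sp47 rfl rfl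
theorem s0_f387r : ed sl_gf s0_v28 = sq48 :=
  edge_flip (s0_f387 IH)
theorem s0_f383r : ed sl_af sq48 = sq48 :=
  edge_flip (s0_f383 IH)
theorem s0_f391 : ed sl_af s0_v28 = s0_v28 :=
  gap_rel s0_rot7 (path_edge (s0_f382 IH) (path_edge (s0_f383r IH) (path_edge (s0_f387r IH) (path_nil s0_v28))))
theorem s0_f136r : ed sl_ef sq48 = sq26 :=
  edge_flip (s0_f136 IH)
theorem s0_f393 : ed sl_ef s0_v3 = s0_v28 :=
  gap_rel s0_rot23 (path_edge (s0_f125 IH) (path_edge (s0_f136r IH) (path_edge (s0_f387r IH) (path_nil s0_v28))))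
theorem s0_f395 : ed sl_dt s0_v28 = s0_v29 :=
  rfl
theorem s0_f395r : ed sl_df s0_v29 = s0_v28 :=
  edge_flip (s0_f395 IH)
theorem s0_f396 : ed sl_df s0_v28 = s0_v29 :=
  gap_rel s0_rot3 (path_edge (s0_f395r IH) (path_nil s0_v29))
theorem s0_f396r : ed sl_dt s0_v29 = s0_v28 :=
  edge_flip (s0_f396 IH)
theorem s0_f391r : ed sl_at s0_v28 = s0_v28 :=
  edge_flip (s0_f391 IH)
theorem s0_f397 : ed sl_at s0_v29 = s0_v29 :=
  gap_rel s0_rot10 (path_edge (s0_f395 IH) (path_edge (s0_f391r IH) (path_edge (s0_f396r IH) (path_nil s0_v29))))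
theorem s0_f398 : ed sl_ct s0_v29 = s0_v30 :=
  rfl
theorem s0_f401 : ed sl_gt s0_v30 = s0_v31 :=
  rfl
theorem s0_f401r : ed sl_gf s0_v31 = s0_v30 :=
  edge_flip (s0_f401 IH)
theorem s0_f402 : ed sl_gf s0_v30 = s0_v31 :=
  gap_rel s0_rot1 (path_edge (s0_f401r IH) (path_nil s0_v31))
theorem s0_f398r : ed sl_cf s0_v30 = s0_v29 :=
  edge_flip (s0_f398 IH)
theorem s0_f37r : ed sl_cf sq12 = sq6 :=
  edge_flip (s0_f37 IH)
theorem s0_f36r : ed sl_df sq6 = sq3 :=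
  edge_flip (s0_f36 IH)
theorem s0_f44r : ed sl_ff sq3 = sq3 :=
  edge_flip (s0_f44 IH)
theorem s0_f46r : ed sl_gf sq3 = sq7 :=
  edge_flip (s0_f46 IH)
theorem s0_f45r : ed sl_cf sq7 = sq4 :=
  edge_flip (s0_f45 IH)
theorem s0_f49r : ed sl_df sq4 = sq8 :=
  edge_flip (s0_f49 IH)
theorem s0_f268r : ed sl_ff sq8 = sq17 :=
  edge_flip (s0_f268 IH)
theorem s0_f313r : ed sl_gf sq17 = sq32 :=
  edge_flip (s0_f313 IH)
theorem s0_f314r : ed sl_cf sq32 = sq58 :=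
  edge_flip (s0_f314 IH)
theorem s0_f315r : ed sl_df sq58 = sq104 :=
  edge_flip (s0_f315 IH)
theorem s0_f403 : ed sl_ff sq104 = s0_v31 :=
  gap_rel s0_rot24 (path_edge (s0_f315r IH) (path_edge (s0_f314r IH) (path_edge (s0_f313r IH) (path_edge (s0_f268r IH) (path_edge (s0_f49r IH) (path_edge (s0_f45r IH) (path_edge (s0_f46r IH) (path_edge (s0_f44r IH) (path_edge (s0_f36r IH) (path_edge (s0_f37r IH) (path_edge (s0_f309r IH) (path_edge (s0_f378r IH) (path_edge (s0_f395r IH) (path_edge (s0_f398r IH) (path_edge (s0_f401r IH) (path_nil s0_v31))))))))))))))))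
theorem s0_f404 : ed sl_at sq104 = sq104 :=
  real_edge rels S fwd inv o lvl plet idx 27 IH Gen.a sp104 sp104 rfl rfl
theorem s0_f406 : ed sl_ft sq58 = sq30 :=
  real_edge rels S fwd inv o lvl plet idx 27 IH Gen.f sp58 sp30 rfl rfl
theorem s0_f407 : ed sl_dt sq30 = sq57 :=
  real_edge rels S fwd inv o lvl plet idx 27 IH Gen.d sp30 sp57 rfl rfl
theorem s0_f403r : ed sl_ft s0_v31 = sq104 :=
  edge_flip (s0_f403 IH)
theorem s0_f410 : ed sl_ft sq104 = s0_v31 :=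
  gap_rel s0_rot25 (path_edge (s0_f403r IH) (path_nil s0_v31))
theorem s0_f413 : ed sl_dt sq58 = sq104 :=
  real_edge rels S fwd inv o lvl plet idx 27 IH Gen.d sp58 sp104 rfl rfl
theorem s0_f414 : ed sl_ft sq30 = sq58 :=
  real_edge rels S fwd inv o lvl plet idx 27 IH Gen.f sp30 sp58 rfl rfl
theorem s0_f424 : ed sl_dt sq257 = sq166 :=
  real_edge rels S fwd inv o lvl plet idx 27 IH Gen.d sp257 sp166 rfl rfl
theorem s0_f432 : ed sl_ct sq16 = sq30 :=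
  real_edge rels S fwd inv o lvl plet idx 27 IH Gen.c sp16 sp30 rfl rfl
theorem s0_f435 : ed sl_ft sq32 = sq16 :=
  real_edge rels S fwd inv o lvl plet idx 27 IH Gen.f sp32 sp16 rfl rfl
theorem s0_f437 : ed sl_gt sq17 = sq32 :=
  real_edge rels S fwd inv o lvl plet idx 27 IH Gen.g sp17 sp32 rfl rfl
theorem s0_f441 : ed sl_gt sq31 = sq58 :=
  real_edge rels S fwd inv o lvl plet idx 27 IH Gen.g sp31 sp58 rfl rfl
theorem s0_f442 : ed sl_gt sq100 = sq55 :=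
  real_edge rels S fwd inv o lvl plet idx 27 IH Gen.g sp100 sp55 rfl rfl
theorem s0_f443 : ed sl_ct sq57 = s0_v32 :=
  rfl
theorem s0_f462 : ed sl_gt s0_v32 = s0_v33 :=
  rfl
theorem s0_f469 : ed sl_gt sq166 = sq172 :=
  real_edge rels S fwd inv o lvl plet idx 27 IH Gen.g sp166 sp172 rfl rfl
theorem s0_f486 : ed sl_ft s0_v33 = s0_v34 :=
  rfl
theorem s0_f506 : ed sl_dt s0_v34 = s0_v35 :=
  rfl
theorem s0_f506r : ed sl_df s0_v35 = s0_v34 :=
  edge_flip (s0_f506 IH)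
theorem s0_f486r : ed sl_ff s0_v34 = s0_v33 :=
  edge_flip (s0_f486 IH)
theorem s0_f462r : ed sl_gf s0_v33 = s0_v32 :=
  edge_flip (s0_f462 IH)
theorem s0_f443r : ed sl_cf s0_v32 = sq57 :=
  edge_flip (s0_f443 IH)
theorem s0_f407r : ed sl_df sq57 = sq30 :=
  edge_flip (s0_f407 IH)
theorem s0_f406r : ed sl_ff sq30 = sq58 :=
  edge_flip (s0_f406 IH)
theorem s0_f441r : ed sl_gf sq58 = sq31 :=
  edge_flip (s0_f441 IH)
theorem s0_f62r : ed sl_cf sq31 = sq17 :=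
  edge_flip (s0_f62 IH)
theorem s0_f63r : ed sl_df sq17 = sq17 :=
  edge_flip (s0_f63 IH)
theorem s0_f267r : ed sl_ff sq17 = sq8 :=
  edge_flip (s0_f267 IH)
theorem s0_f48r : ed sl_gf sq8 = sq8 :=
  edge_flip (s0_f48 IH)
theorem s0_f170r : ed sl_cf sq8 = sq15 :=
  edge_flip (s0_f170 IH)
theorem s0_f171r : ed sl_df sq15 = sq29 :=
  edge_flip (s0_f171 IH)
theorem s0_f227r : ed sl_ff sq29 = sq55 :=
  edge_flip (s0_f227 IH)
theorem s0_f442r : ed sl_gf sq55 = sq100 :=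
  edge_flip (s0_f442 IH)
theorem s0_f508 : ed sl_cf sq100 = s0_v35 :=
  gap_rel s0_rot26 (path_edge (s0_f442r IH) (path_edge (s0_f227r IH) (path_edge (s0_f171r IH) (path_edge (s0_f170r IH) (path_edge (s0_f48r IH) (path_edge (s0_f267r IH) (path_edge (s0_f63r IH) (path_edge (s0_f62r IH) (path_edge (s0_f441r IH) (path_edge (s0_f406r IH) (path_edge (s0_f407r IH) (path_edge (s0_f443r IH) (path_edge (s0_f462r IH) (path_edge (s0_f486r IH) (path_edge (s0_f506r IH) (path_nil s0_v35))))))))))))))))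
theorem s0_f514 : ed sl_ft sq100 = sq99 :=
  real_edge rels S fwd inv o lvl plet idx 27 IH Gen.f sp100 sp99 rfl rfl
theorem s0_f521 : ed sl_dt sq170 = sq100 :=
  real_edge rels S fwd inv o lvl plet idx 27 IH Gen.d sp170 sp100 rfl rfl
theorem s0_f594 : ed sl_gt sq42 = sq75 :=
  real_edge rels S fwd inv o lvl plet idx 27 IH Gen.g sp42 sp75 rfl rfl
theorem s0_f615 : ed sl_dt s0_v17 = s0_v37 :=
  rfl
theorem s0_f615r : ed sl_df s0_v37 = s0_v17 :=
  edge_flip (s0_f615 IH)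
theorem s0_f616 : ed sl_df s0_v17 = s0_v37 :=
  gap_rel s0_rot3 (path_edge (s0_f615r IH) (path_nil s0_v37))
theorem s0_f618 : ed sl_gt s0_v37 = s0_v38 :=
  rfl
theorem s0_f618r : ed sl_gf s0_v38 = s0_v37 :=
  edge_flip (s0_f618 IH)
theorem s0_f620 : ed sl_gf s0_v37 = s0_v38 :=
  gap_rel s0_rot1 (path_edge (s0_f618r IH) (path_nil s0_v38))
theorem s0_f620r : ed sl_gt s0_v38 = s0_v37 :=
  edge_flip (s0_f620 IH)
theorem s0_f616r : ed sl_dt s0_v37 = s0_v17 :=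
  edge_flip (s0_f616 IH)
theorem s0_f622 : ed sl_dt sq46 = s0_v38 :=
  gap_rel s0_rot27 (path_edge (s0_f139 IH) (path_edge (s0_f38 IH) (path_edge (s0_f305r IH) (path_edge (s0_f616r IH) (path_edge (s0_f620r IH) (path_nil s0_v38))))))
theorem s0_f627 : ed sl_ft sq82 = sq46 :=
  real_edge rels S fwd inv o lvl plet idx 27 IH Gen.f sp82 sp46 rfl rfl
theorem s0_f628 : ed sl_dt sq141 = sq82 :=
  real_edge rels S fwd inv o lvl plet idx 27 IH Gen.d sp141 sp82 rfl rfl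
theorem s0_f629 : ed sl_gt sq78 = sq82 :=
  real_edge rels S fwd inv o lvl plet idx 27 IH Gen.g sp78 sp82 rfl rfl
theorem s0_f630 : ed sl_ct sq78 = sq78 :=
  real_edge rels S fwd inv o lvl plet idx 27 IH Gen.c sp78 sp78 rfl rfl
theorem s0_f631 : ed sl_dt sq136 = sq78 :=
  real_edge rels S fwd inv o lvl plet idx 27 IH Gen.d sp136 sp78 rfl rfl
theorem s0_f632 : ed sl_ft sq212 = sq136 :=
  real_edge rels S fwd inv o lvl plet idx 27 IH Gen.f sp212 sp136 rfl rfl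
theorem s0_f633 : ed sl_gt sq333 = sq212 :=
  real_edge rels S fwd inv o lvl plet idx 27 IH Gen.g sp333 sp212 rfl rfl
theorem s0_f649 : ed sl_gt sq47 = sq84 :=
  real_edge rels S fwd inv o lvl plet idx 27 IH Gen.g sp47 sp84 rfl rfl
theorem s0_f652 : ed sl_dt sq44 = sq77 :=
  real_edge rels S fwd inv o lvl plet idx 27 IH Gen.d sp44 sp77 rfl rfl
theorem s0_f653 : ed sl_ct sq77 = sq47 :=
  real_edge rels S fwd inv o lvl plet idx 27 IH Gen.c sp77 sp47 rfl rfl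
theorem s0_f659 : ed sl_dt s0_v4 = s0_v41 :=
  rfl
theorem s0_f659r : ed sl_df s0_v41 = s0_v4 :=
  edge_flip (s0_f659 IH)
theorem s0_f660 : ed sl_df s0_v4 = s0_v41 :=
  gap_rel s0_rot3 (path_edge (s0_f659r IH) (path_nil s0_v41))
theorem s0_f119r : ed sl_df sq14 = sq14 :=
  edge_flip (s0_f119 IH)
theorem s0_f661 : ed sl_gf s0_v41 = s0_v41 :=
  gap_rel s0_rot11 (path_edge (s0_f660 IH) (path_edge (s0_f114 IH) (path_edge (s0_f119r IH) (path_edge (s0_f121r IH) (path_edge (s0_f659r IH) (path_nil s0_v41))))))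
theorem s0_f660r : ed sl_dt s0_v41 = s0_v4 :=
  edge_flip (s0_f660 IH)
theorem s0_f122r : ed sl_at s0_v4 = s0_v4 :=
  edge_flip (s0_f122 IH)
theorem s0_f662 : ed sl_at s0_v41 = s0_v41 :=
  gap_rel s0_rot10 (path_edge (s0_f659 IH) (path_edge (s0_f122r IH) (path_edge (s0_f660r IH) (path_nil s0_v41))))
theorem s0_f664 : ed sl_ct s0_v41 = s0_v42 :=
  rfl
theorem s0_f664r : ed sl_cf s0_v42 = s0_v41 :=
  edge_flip (s0_f664 IH)
theorem s0_f665 : ed sl_cf s0_v41 = s0_v42 :=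
  gap_rel s0_rot0 (path_edge (s0_f664r IH) (path_nil s0_v42))
theorem s0_f666 : ed sl_gf s0_v42 = s0_v42 :=
  gap_rel s0_rot9 (path_edge (s0_f665 IH) (path_edge (s0_f661 IH) (path_edge (s0_f664r IH) (path_nil s0_v42))))
theorem s0_f665r : ed sl_ct s0_v42 = s0_v41 :=
  edge_flip (s0_f665 IH)
theorem s0_f667 : ed sl_at s0_v42 = s0_v42 :=
  gap_rel s0_rot12 (path_edge (s0_f664 IH) (path_edge (s0_f662 IH) (path_edge (s0_f665r IH) (path_nil s0_v42))))
theorem s0_f668 : ed sl_ft s0_v42 = s0_v43 :=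
  rfl
theorem s0_f668r : ed sl_ff s0_v43 = s0_v42 :=
  edge_flip (s0_f668 IH)
theorem s0_f669 : ed sl_ff s0_v42 = s0_v43 :=
  gap_rel s0_rot15 (path_edge (s0_f668r IH) (path_nil s0_v43))
theorem s0_f669r : ed sl_ft s0_v43 = s0_v42 :=
  edge_flip (s0_f669 IH)
theorem s0_f670 : ed sl_at s0_v43 = s0_v43 :=
  gap_rel s0_rot28 (path_edge (s0_f668 IH) (path_edge (s0_f667 IH) (path_edge (s0_f669r IH) (path_nil s0_v43))))
theorem s0_f671 : ed sl_dt s0_v43 = s0_v44 :=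
  rfl
theorem s0_f671r : ed sl_df s0_v44 = s0_v43 :=
  edge_flip (s0_f671 IH)
theorem s0_f672 : ed sl_df s0_v43 = s0_v44 :=
  gap_rel s0_rot3 (path_edge (s0_f671r IH) (path_nil s0_v44))
theorem s0_f672r : ed sl_dt s0_v44 = s0_v43 :=
  edge_flip (s0_f672 IH)
theorem s0_f673 : ed sl_at s0_v44 = s0_v44 :=
  gap_rel s0_rot10 (path_edge (s0_f671 IH) (path_edge (s0_f670 IH) (path_edge (s0_f672r IH) (path_nil s0_v44))))
theorem s0_f674 : ed sl_ct s0_v44 = s0_v45 :=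
  rfl
theorem s0_f674r : ed sl_cf s0_v45 = s0_v44 :=
  edge_flip (s0_f674 IH)
theorem s0_f675 : ed sl_cf s0_v44 = s0_v45 :=
  gap_rel s0_rot0 (path_edge (s0_f674r IH) (path_nil s0_v45))
theorem s0_f675r : ed sl_ct s0_v45 = s0_v44 :=
  edge_flip (s0_f675 IH)
theorem s0_f676 : ed sl_at s0_v45 = s0_v45 :=
  gap_rel s0_rot12 (path_edge (s0_f674 IH) (path_edge (s0_f673 IH) (path_edge (s0_f675r IH) (path_nil s0_v45))))
theorem s0_f677 : ed sl_gt s0_v45 = s0_v46 :=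
  rfl
theorem s0_f677r : ed sl_gf s0_v46 = s0_v45 :=
  edge_flip (s0_f677 IH)
theorem s0_f678 : ed sl_gf s0_v45 = s0_v46 :=
  gap_rel s0_rot1 (path_edge (s0_f677r IH) (path_nil s0_v46))
theorem s0_f678r : ed sl_gt s0_v46 = s0_v45 :=
  edge_flip (s0_f678 IH)
theorem s0_f679 : ed sl_at s0_v46 = s0_v46 :=
  gap_rel s0_rot29 (path_edge (s0_f677 IH) (path_edge (s0_f676 IH) (path_edge (s0_f678r IH) (path_nil s0_v46))))
theorem s0_f680 : ed sl_ft s0_v46 = s0_v47 :=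
  rfl
theorem s0_f680r : ed sl_ff s0_v47 = s0_v46 :=
  edge_flip (s0_f680 IH)
theorem s0_f681 : ed sl_ff s0_v46 = s0_v47 :=
  gap_rel s0_rot15 (path_edge (s0_f680r IH) (path_nil s0_v47))
theorem s0_f681r : ed sl_ft s0_v47 = s0_v46 :=
  edge_flip (s0_f681 IH)
theorem s0_f682 : ed sl_at s0_v47 = s0_v47 :=
  gap_rel s0_rot28 (path_edge (s0_f680 IH) (path_edge (s0_f679 IH) (path_edge (s0_f681r IH) (path_nil s0_v47))))
theorem s0_f683 : ed sl_dt s0_v47 = s0_v48 :=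
  rfl
theorem s0_f683r : ed sl_df s0_v48 = s0_v47 :=
  edge_flip (s0_f683 IH)
theorem s0_f684 : ed sl_df s0_v47 = s0_v48 :=
  gap_rel s0_rot3 (path_edge (s0_f683r IH) (path_nil s0_v48))
theorem s0_f686 : ed sl_ct s0_v48 = s0_v49 :=
  rfl
theorem s0_f686r : ed sl_cf s0_v49 = s0_v48 :=
  edge_flip (s0_f686 IH)
theorem s0_f87r : ed sl_cf sq13 = sq25 :=
  edge_flip (s0_f87 IH)
theorem s0_f86r : ed sl_df sq25 = sq47 :=
  edge_flip (s0_f86 IH)
theorem s0_f324r : ed sl_ff sq47 = sq83 :=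
  edge_flip (s0_f324 IH)
theorem s0_f688 : ed sl_gf sq83 = s0_v49 :=
  gap_rel s0_rot4 (path_edge (s0_f324r IH) (path_edge (s0_f86r IH) (path_edge (s0_f87r IH) (path_edge (s0_f323r IH) (path_edge (s0_f320 IH) (path_edge (s0_f659r IH) (path_edge (s0_f664r IH) (path_edge (s0_f666 IH) (path_edge (s0_f668r IH) (path_edge (s0_f671r IH) (path_edge (s0_f674r IH) (path_edge (s0_f677r IH) (path_edge (s0_f680r IH) (path_edge (s0_f683r IH) (path_edge (s0_f686r IH) (path_nil s0_v49))))))))))))))))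
theorem s0_f693 : ed sl_ct sq83 = sq134 :=
  real_edge rels S fwd inv o lvl plet idx 27 IH Gen.c sp83 sp134 rfl rfl
theorem s0_f694 : ed sl_gt sq134 = sq142 :=
  real_edge rels S fwd inv o lvl plet idx 27 IH Gen.g sp134 sp142 rfl rfl
theorem s0_f697 : ed sl_ft sq84 = sq142 :=
  real_edge rels S fwd inv o lvl plet idx 27 IH Gen.f sp84 sp142 rfl rfl
theorem s0_f688r : ed sl_gt s0_v49 = sq83 :=
  edge_flip (s0_f688 IH)
theorem s0_f703 : sq142 = s0_v48 :=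
  (loop_rel s0_rot5 (path_edge (s0_f694 IH) (path_edge (s0_f693 IH) (path_edge (s0_f688r IH) (path_edge (s0_f686 IH) (path_nil s0_v48)))))).symm
theorem s0_f705 : ed sl_bt sq142 = sq194 :=
  real_edge rels S fwd inv o lvl plet idx 27 IH Gen.b sp142 sp194 rfl rfl
theorem s0_f711 : ed sl_dt sq212 = sq134 :=
  real_edge rels S fwd inv o lvl plet idx 27 IH Gen.d sp212 sp134 rfl rfl
theorem s0_f714 : ed sl_ft sq47 = sq83 :=
  real_edge rels S fwd inv o lvl plet idx 27 IH Gen.f sp47 sp83 rfl rfl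
theorem s0_f725 : ed sl_ct sq134 = sq83 :=
  real_edge rels S fwd inv o lvl plet idx 27 IH Gen.c sp134 sp83 rfl rfl
theorem s0_f726 : ed sl_ft sq136 = sq212 :=
  real_edge rels S fwd inv o lvl plet idx 27 IH Gen.f sp136 sp212 rfl rfl
theorem s0_f741 : ed sl_ct sq130 = sq201 :=
  real_edge rels S fwd inv o lvl plet idx 27 IH Gen.c sp130 sp201 rfl rfl
theorem s0_f757 : ed sl_gt sq212 = sq333 :=
  real_edge rels S fwd inv o lvl plet idx 27 IH Gen.g sp212 sp333 rfl rfl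
theorem s0_f762 : ed sl_ft sq78 = sq44 :=
  real_edge rels S fwd inv o lvl plet idx 27 IH Gen.f sp78 sp44 rfl rfl
theorem s0_f763 : ed sl_gt sq82 = sq78 :=
  real_edge rels S fwd inv o lvl plet idx 27 IH Gen.g sp82 sp78 rfl rfl
theorem s0_f764 : ed sl_ct sq82 = sq82 :=
  real_edge rels S fwd inv o lvl plet idx 27 IH Gen.c sp82 sp82 rfl rfl
theorem s0_f769 : ed sl_dt sq194 = sq300 :=
  real_edge rels S fwd inv o lvl plet idx 27 IH Gen.d sp194 sp300 rfl rfl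
theorem s0_f769r : ed sl_df sq300 = sq194 :=
  edge_flip (s0_f769 IH)
theorem s0_f705r : ed sl_bf sq194 = sq142 :=
  edge_flip (s0_f705 IH)
theorem s0_f770 : ed sl_bf s0_v47 = sq300 :=
  gap_rel s0_rot30 (path_edge (s0_f683r IH) (path_eq (s0_f703 IH) (path_edge (s0_f705r IH) (path_edge (s0_f769r IH) (path_nil sq300)))))
theorem s0_f771 : ed sl_at sq206 = sq300 :=
  real_edge rels S fwd inv o lvl plet idx 27 IH Gen.a sp206 sp300 rfl rfl
theorem s0_f772 : ed sl_bt sq141 = sq206 :=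
  real_edge rels S fwd inv o lvl plet idx 27 IH Gen.b sp141 sp206 rfl rfl
theorem s0_f773 : ed sl_at sq141 = sq141 :=
  real_edge rels S fwd inv o lvl plet idx 27 IH Gen.a sp141 sp141 rfl rfl
theorem s0_f774 : ed sl_bt sq206 = sq141 :=
  real_edge rels S fwd inv o lvl plet idx 27 IH Gen.b sp206 sp141 rfl rfl
theorem s0_f775 : ed sl_at sq300 = sq206 :=
  real_edge rels S fwd inv o lvl plet idx 27 IH Gen.a sp300 sp206 rfl rfl
theorem s0_f770r : ed sl_bt sq300 = s0_v47 :=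
  edge_flip (s0_f770 IH)
theorem s0_f776 : ed sl_bt s0_v47 = sq300 :=
  gap_rel s0_rot31 (path_edge (s0_f682 IH) (path_edge (s0_f770r IH) (path_edge (s0_f771 IH) (path_edge (s0_f772 IH) (path_edge (s0_f773 IH) (path_edge (s0_f774 IH) (path_edge (s0_f775 IH) (path_nil sq300))))))))
theorem s0_f779 : ed sl_bt sq513 = sq319 :=
  real_edge rels S fwd inv o lvl plet idx 27 IH Gen.b sp513 sp319 rfl rfl
theorem s0_f780 : ed sl_ct sq339 = sq513 :=
  real_edge rels S fwd inv o lvl plet idx 27 IH Gen.c sp339 sp513 rfl rfl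
theorem s0_f781 : ed sl_ct sq300 = sq468 :=
  real_edge rels S fwd inv o lvl plet idx 27 IH Gen.c sp300 sp468 rfl rfl
theorem s0_f783 : ed sl_ct sq206 = sq319 :=
  real_edge rels S fwd inv o lvl plet idx 27 IH Gen.c sp206 sp319 rfl rfl
theorem s0_f807 : ed sl_ft sq88 = sq147 :=
  real_edge rels S fwd inv o lvl plet idx 27 IH Gen.f sp88 sp147 rfl rfl
theorem s0_f808 : ed sl_dt sq147 = sq226 :=
  real_edge rels S fwd inv o lvl plet idx 27 IH Gen.d sp147 sp226 rfl rfl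
theorem s0_f809 : ed sl_ct sq226 = sq343 :=
  real_edge rels S fwd inv o lvl plet idx 27 IH Gen.c sp226 sp343 rfl rfl
theorem s0_f850 : ed sl_ft sq59 = s0_v58 :=
  rfl
theorem s0_f850r : ed sl_ff s0_v58 = sq59 :=
  edge_flip (s0_f850 IH)
theorem s0_f852 : ed sl_ff sq59 = s0_v58 :=
  gap_rel s0_rot15 (path_edge (s0_f850r IH) (path_nil s0_v58))
theorem s0_f852r : ed sl_ft s0_v58 = sq59 :=
  edge_flip (s0_f852 IH)
theorem s0_f853 : ed sl_at s0_v58 = s0_v58 :=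
  gap_rel s0_rot28 (path_edge (s0_f850 IH) (path_edge (s0_f58 IH) (path_edge (s0_f852r IH) (path_nil s0_v58))))
theorem s0_f854 : ed sl_dt sq55 = s0_v58 :=
  gap_rel s0_rot32 (path_edge (s0_f247 IH) (path_edge (s0_f179 IH) (path_edge (s0_f236 IH) (path_edge (s0_f65 IH) (path_edge (s0_f852r IH) (path_nil s0_v58))))))
theorem s0_f855 : ed sl_gt sq30 = sq30 :=
  real_edge rels S fwd inv o lvl plet idx 27 IH Gen.g sp30 sp30 rfl rfl
theorem s0_f858 : ed sl_et sq98 = sq55 :=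
  real_edge rels S fwd inv o lvl plet idx 27 IH Gen.e sp98 sp55 rfl rfl
theorem s0_f859 : ed sl_dt sq168 = sq98 :=
  real_edge rels S fwd inv o lvl plet idx 27 IH Gen.d sp168 sp98 rfl rfl
theorem s0_f872 : ed sl_dt sq32 = sq60 :=
  real_edge rels S fwd inv o lvl plet idx 27 IH Gen.d sp32 sp60 rfl rfl
theorem s0_f873 : ed sl_ct sq60 = sq107 :=
  real_edge rels S fwd inv o lvl plet idx 27 IH Gen.c sp60 sp107 rfl rfl
theorem s0_f875 : ed sl_ft sq107 = sq107 :=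
  real_edge rels S fwd inv o lvl plet idx 27 IH Gen.f sp107 sp107 rfl rfl
theorem s0_f876 : ed sl_dt sq107 = sq173 :=
  real_edge rels S fwd inv o lvl plet idx 27 IH Gen.d sp107 sp173 rfl rfl
theorem s0_f877 : ed sl_ct sq173 = sq261 :=
  real_edge rels S fwd inv o lvl plet idx 27 IH Gen.c sp173 sp261 rfl rfl
theorem s0_f878 : ed sl_gt sq261 = s0_v60 :=
  rfl
theorem s0_f879 : ed sl_at sq261 = sq261 :=
  real_edge rels S fwd inv o lvl plet idx 27 IH Gen.a sp261 sp261 rfl rfl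
theorem s0_f881 : ed sl_gt sq263 = sq173 :=
  real_edge rels S fwd inv o lvl plet idx 27 IH Gen.g sp263 sp173 rfl rfl
theorem s0_f878r : ed sl_gf s0_v60 = sq261 :=
  edge_flip (s0_f878 IH)
theorem s0_f883 : ed sl_gf sq261 = s0_v60 :=
  gap_rel s0_rot1 (path_edge (s0_f878r IH) (path_nil s0_v60))
theorem s0_f886 : ed sl_ct sq261 = sq173 :=
  real_edge rels S fwd inv o lvl plet idx 27 IH Gen.c sp261 sp173 rfl rfl
theorem s0_f887 : ed sl_gt sq173 = sq263 :=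
  real_edge rels S fwd inv o lvl plet idx 27 IH Gen.g sp173 sp263 rfl rfl
theorem s0_f883r : ed sl_gt s0_v60 = sq261 :=
  edge_flip (s0_f883 IH)
theorem s0_f888 : ed sl_ct sq263 = s0_v60 :=
  gap_rel s0_rot2 (path_edge (s0_f887 IH) (path_edge (s0_f886 IH) (path_edge (s0_f883r IH) (path_nil s0_v60))))
theorem s0_f892 : ed sl_ft s0_v60 = s0_v61 :=
  rfl
theorem s0_f930 : ed sl_et sq58 = sq31 :=
  real_edge rels S fwd inv o lvl plet idx 27 IH Gen.e sp58 sp31 rfl rfl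
theorem s0_f934 : ed sl_ct sq104 = s0_v65 :=
  rfl
theorem s0_f934r : ed sl_cf s0_v65 = sq104 :=
  edge_flip (s0_f934 IH)
theorem s0_f936 : ed sl_cf sq104 = s0_v65 :=
  gap_rel s0_rot0 (path_edge (s0_f934r IH) (path_nil s0_v65))
theorem s0_f936r : ed sl_ct s0_v65 = sq104 :=
  edge_flip (s0_f936 IH)
theorem s0_f941 : ed sl_at s0_v65 = s0_v65 :=
  gap_rel s0_rot12 (path_edge (s0_f934 IH) (path_edge (s0_f404 IH) (path_edge (s0_f936r IH) (path_nil s0_v65))))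
theorem s0_f946 : ed sl_gt s0_v65 = s0_v66 :=
  rfl
theorem s0_f946r : ed sl_gf s0_v66 = s0_v65 :=
  edge_flip (s0_f946 IH)
theorem s0_f947 : ed sl_gf s0_v65 = s0_v66 :=
  gap_rel s0_rot1 (path_edge (s0_f946r IH) (path_nil s0_v66))
theorem s0_f947r : ed sl_gt s0_v66 = s0_v65 :=
  edge_flip (s0_f947 IH)
theorem s0_f948 : ed sl_at s0_v66 = s0_v66 :=
  gap_rel s0_rot29 (path_edge (s0_f946 IH) (path_edge (s0_f941 IH) (path_edge (s0_f947r IH) (path_nil s0_v66))))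
theorem s0_f949 : ed sl_ft s0_v66 = s0_v67 :=
  rfl
theorem s0_f949r : ed sl_ff s0_v67 = s0_v66 :=
  edge_flip (s0_f949 IH)
theorem s0_f950 : ed sl_ff s0_v66 = s0_v67 :=
  gap_rel s0_rot15 (path_edge (s0_f949r IH) (path_nil s0_v67))
theorem s0_f950r : ed sl_ft s0_v67 = s0_v66 :=
  edge_flip (s0_f950 IH)
theorem s0_f951 : ed sl_at s0_v67 = s0_v67 :=
  gap_rel s0_rot28 (path_edge (s0_f949 IH) (path_edge (s0_f948 IH) (path_edge (s0_f950r IH) (path_nil s0_v67))))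
theorem s0_f952 : ed sl_dt s0_v67 = s0_v68 :=
  rfl
theorem s0_f952r : ed sl_df s0_v68 = s0_v67 :=
  edge_flip (s0_f952 IH)
theorem s0_f953 : ed sl_df s0_v67 = s0_v68 :=
  gap_rel s0_rot3 (path_edge (s0_f952r IH) (path_nil s0_v68))
theorem s0_f955 : ed sl_ct s0_v68 = s0_v69 :=
  rfl
theorem s0_f955r : ed sl_cf s0_v69 = s0_v68 :=
  edge_flip (s0_f955 IH)
theorem s0_f413r : ed sl_df sq104 = sq58 :=
  edge_flip (s0_f413 IH)
theorem s0_f414r : ed sl_ff sq58 = sq30 :=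
  edge_flip (s0_f414 IH)
theorem s0_f855r : ed sl_gf sq30 = sq30 :=
  edge_flip (s0_f855 IH)
theorem s0_f432r : ed sl_cf sq30 = sq16 :=
  edge_flip (s0_f432 IH)
theorem s0_f265r : ed sl_df sq16 = sq16 :=
  edge_flip (s0_f265 IH)
theorem s0_f435r : ed sl_ff sq16 = sq32 :=
  edge_flip (s0_f435 IH)
theorem s0_f437r : ed sl_gf sq32 = sq17 :=
  edge_flip (s0_f437 IH)
theorem s0_f64r : ed sl_cf sq17 = sq31 :=
  edge_flip (s0_f64 IH)
theorem s0_f65r : ed sl_df sq31 = sq59 :=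
  edge_flip (s0_f65 IH)
theorem s0_f957 : ed sl_gf s0_v58 = s0_v69 :=
  gap_rel s0_rot4 (path_edge (s0_f852 IH) (path_edge (s0_f65r IH) (path_edge (s0_f64r IH) (path_edge (s0_f437r IH) (path_edge (s0_f435r IH) (path_edge (s0_f265r IH) (path_edge (s0_f432r IH) (path_edge (s0_f855r IH) (path_edge (s0_f414r IH) (path_edge (s0_f413r IH) (path_edge (s0_f934r IH) (path_edge (s0_f946r IH) (path_edge (s0_f949r IH) (path_edge (s0_f952r IH) (path_edge (s0_f955r IH) (path_nil s0_v69))))))))))))))))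
theorem s0_f957r : ed sl_gt s0_v69 = s0_v58 :=
  edge_flip (s0_f957 IH)
theorem s0_f958 : ed sl_gt s0_v58 = s0_v69 :=
  gap_rel s0_rot6 (path_edge (s0_f957r IH) (path_nil s0_v69))
theorem s0_f958r : ed sl_gf s0_v69 = s0_v58 :=
  edge_flip (s0_f958 IH)
theorem s0_f853r : ed sl_af s0_v58 = s0_v58 :=
  edge_flip (s0_f853 IH)
theorem s0_f959 : ed sl_af s0_v69 = s0_v69 :=
  gap_rel s0_rot7 (path_edge (s0_f957 IH) (path_edge (s0_f853r IH) (path_edge (s0_f958r IH) (path_nil s0_v69))))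
theorem s0_f1075 : ed sl_dt sq123 = sq72 :=
  real_edge rels S fwd inv o lvl plet idx 27 IH Gen.d sp123 sp72 rfl rfl
theorem s0_f1076 : ed sl_ct sq72 = sq42 :=
  real_edge rels S fwd inv o lvl plet idx 27 IH Gen.c sp72 sp42 rfl rfl
theorem s0_f1099 : ed sl_dt sq206 = sq130 :=
  real_edge rels S fwd inv o lvl plet idx 27 IH Gen.d sp206 sp130 rfl rfl
theorem s0_f1120 : ed sl_ft sq75 = sq130 :=
  real_edge rels S fwd inv o lvl plet idx 27 IH Gen.f sp75 sp130 rfl rfl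
theorem s0_f1121 : ed sl_dt sq130 = sq206 :=
  real_edge rels S fwd inv o lvl plet idx 27 IH Gen.d sp130 sp206 rfl rfl
theorem s0_f1226 : ed sl_gt sq218 = s0_v80 :=
  rfl
theorem s0_f1227 : ed sl_at sq218 = sq218 :=
  real_edge rels S fwd inv o lvl plet idx 27 IH Gen.a sp218 sp218 rfl rfl
theorem s0_f1228 : ed sl_bt sq339 = sq218 :=
  real_edge rels S fwd inv o lvl plet idx 27 IH Gen.b sp339 sp218 rfl rfl
theorem s0_f1229 : ed sl_gt sq220 = sq141 :=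
  real_edge rels S fwd inv o lvl plet idx 27 IH Gen.g sp220 sp141 rfl rfl
theorem s0_f1231 : ed sl_dt sq340 = sq218 :=
  real_edge rels S fwd inv o lvl plet idx 27 IH Gen.d sp340 sp218 rfl rfl
theorem s0_f1235 : ed sl_ct sq218 = sq141 :=
  real_edge rels S fwd inv o lvl plet idx 27 IH Gen.c sp218 sp141 rfl rfl
theorem s0_f1236 : ed sl_gt sq141 = sq220 :=
  real_edge rels S fwd inv o lvl plet idx 27 IH Gen.g sp141 sp220 rfl rfl
theorem s0_f1238 : ed sl_dt sq218 = sq340 :=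
  real_edge rels S fwd inv o lvl plet idx 27 IH Gen.d sp218 sp340 rfl rfl
theorem s0_f1239 : ed sl_dt sq216 = sq220 :=
  real_edge rels S fwd inv o lvl plet idx 27 IH Gen.d sp216 sp220 rfl rfl
theorem s0_f1240 : ed sl_ft sq337 = sq216 :=
  real_edge rels S fwd inv o lvl plet idx 27 IH Gen.f sp337 sp216 rfl rfl
theorem s0_f1247 : ed sl_dt sq220 = sq216 :=
  real_edge rels S fwd inv o lvl plet idx 27 IH Gen.d sp220 sp216 rfl rfl
theorem s0_f1272 : ed sl_ft sq85 = s0_v85 :=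
  rfl
theorem s0_f1276 : ed sl_ct sq143 = sq85 :=
  real_edge rels S fwd inv o lvl plet idx 27 IH Gen.c sp143 sp85 rfl rfl
theorem s0_f1272r : ed sl_ff s0_v85 = sq85 :=
  edge_flip (s0_f1272 IH)
theorem s0_f1278 : ed sl_ff sq85 = s0_v85 :=
  gap_rel s0_rot15 (path_edge (s0_f1272r IH) (path_nil s0_v85))
theorem s0_f1278r : ed sl_ft s0_v85 = sq85 :=
  edge_flip (s0_f1278 IH)
theorem s0_f1283 : ed sl_dt sq83 = s0_v85 :=
  gap_rel s0_rot32 (path_edge (s0_f714 IH) (path_edge (s0_f388 IH) (path_edge (s0_f312 IH) (path_edge (s0_f339 IH) (path_edge (s0_f1278r IH) (path_nil s0_v85))))))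
theorem s0_f1285 : ed sl_ct sq332 = sq212 :=
  real_edge rels S fwd inv o lvl plet idx 27 IH Gen.c sp332 sp212 rfl rfl
theorem s0_f1295 : ed sl_ct sq212 = sq332 :=
  real_edge rels S fwd inv o lvl plet idx 27 IH Gen.c sp212 sp332 rfl rfl
theorem s0_f1310 : ed sl_ct s0_v2 = s0_v88 :=
  rfl
theorem s0_f1310r : ed sl_cf s0_v88 = s0_v2 :=
  edge_flip (s0_f1310 IH)
theorem s0_f1311 : ed sl_cf s0_v2 = s0_v88 :=
  gap_rel s0_rot0 (path_edge (s0_f1310r IH) (path_nil s0_v88))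
theorem s0_f100r : ed sl_cf s0_v1 = sq106 :=
  edge_flip (s0_f100 IH)
theorem s0_f1312 : ed sl_ff sq106 = s0_v88 :=
  gap_rel s0_rot33 (path_edge (s0_f100r IH) (path_edge (s0_f106r IH) (path_edge (s0_f1310r IH) (path_nil s0_v88))))
theorem s0_f1312r : ed sl_ft s0_v88 = sq106 :=
  edge_flip (s0_f1312 IH)
theorem s0_f1313 : ed sl_ft sq106 = s0_v88 :=
  gap_rel s0_rot25 (path_edge (s0_f1312r IH) (path_nil s0_v88))
theorem s0_f1313r : ed sl_ff s0_v88 = sq106 :=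
  edge_flip (s0_f1313 IH)
theorem s0_f93r : ed sl_gf sq106 = sq59 :=
  edge_flip (s0_f93 IH)
theorem s0_f1315 : ed sl_et s0_v69 = s0_v88 :=
  gap_rel s0_rot19 (path_edge (s0_f957 IH) (path_edge (s0_f852 IH) (path_edge (s0_f93r IH) (path_edge (s0_f1313r IH) (path_nil s0_v88)))))
theorem s0_f1315r : ed sl_ef s0_v88 = s0_v69 :=
  edge_flip (s0_f1315 IH)
theorem s0_f1317 : ed sl_ef s0_v68 = s0_v2 :=
  gap_rel s0_rot34 (path_edge (s0_f955r IH) (path_edge (s0_f1315r IH) (path_edge (s0_f1311 IH) (path_nil s0_v2))))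
theorem s0_f393r : ed sl_et s0_v28 = s0_v3 :=
  edge_flip (s0_f393 IH)
theorem s0_f110r : ed sl_dt s0_v3 = s0_v2 :=
  edge_flip (s0_f110 IH)
theorem s0_f1317r : ed sl_et s0_v2 = s0_v68 :=
  edge_flip (s0_f1317 IH)
theorem s0_f953r : ed sl_dt s0_v68 = s0_v67 :=
  edge_flip (s0_f953 IH)
theorem s0_f1319 : ed sl_et s0_v67 = s0_v29 :=
  gap_rel s0_rot35 (path_edge (s0_f953r IH) (path_edge (s0_f1317r IH) (path_edge (s0_f110r IH) (path_edge (s0_f393r IH) (path_edge (s0_f396r IH) (path_nil s0_v29))))))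
theorem s0_f397r : ed sl_af s0_v29 = s0_v29 :=
  edge_flip (s0_f397 IH)
theorem s0_f1319r : ed sl_ef s0_v29 = s0_v67 :=
  edge_flip (s0_f1319 IH)
theorem s0_f951r : ed sl_af s0_v67 = s0_v67 :=
  edge_flip (s0_f951 IH)
theorem s0_f1320 : ed sl_ef s0_v67 = s0_v29 :=
  gap_rel s0_rot36 (path_edge (s0_f951r IH) (path_edge (s0_f1319r IH) (path_edge (s0_f397r IH) (path_nil s0_v29))))
theorem s0_f1321 : ed sl_gt s0_v88 = s0_v89 :=
  rfl
theorem s0_f1321r : ed sl_gf s0_v89 = s0_v88 :=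
  edge_flip (s0_f1321 IH)
theorem s0_f1323 : ed sl_gf s0_v88 = s0_v89 :=
  gap_rel s0_rot1 (path_edge (s0_f1321r IH) (path_nil s0_v89))
theorem s0_f1324 : ed sl_ff sq105 = s0_v89 :=
  gap_rel s0_rot37 (path_edge (s0_f68 IH) (path_edge (s0_f93r IH) (path_edge (s0_f1313r IH) (path_edge (s0_f1321r IH) (path_nil s0_v89)))))
theorem s0_f1324r : ed sl_ft s0_v89 = sq105 :=
  edge_flip (s0_f1324 IH)
theorem s0_f1326 : ed sl_et s0_v58 = s0_v89 :=
  gap_rel s0_rot38 (path_edge (s0_f850 IH) (path_edge (s0_f66 IH) (path_edge (s0_f1324r IH) (path_nil s0_v89))))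
theorem s0_f1327 : ed sl_ft sq105 = s0_v89 :=
  gap_rel s0_rot25 (path_edge (s0_f1324r IH) (path_nil s0_v89))
theorem s0_f1329 : ed sl_dt sq105 = s0_v90 :=
  rfl
theorem s0_f1329r : ed sl_df s0_v90 = sq105 :=
  edge_flip (s0_f1329 IH)
theorem s0_f1330 : ed sl_df sq105 = s0_v90 :=
  gap_rel s0_rot3 (path_edge (s0_f1329r IH) (path_nil s0_v90))
theorem s0_f68r : ed sl_ef sq105 = sq59 :=
  edge_flip (s0_f68 IH)
theorem s0_f930r : ed sl_ef sq31 = sq58 :=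
  edge_flip (s0_f930 IH)
theorem s0_f1331 : ed sl_ef sq104 = s0_v90 :=
  gap_rel s0_rot39 (path_edge (s0_f315r IH) (path_edge (s0_f930r IH) (path_edge (s0_f55r IH) (path_edge (s0_f68r IH) (path_edge (s0_f1329r IH) (path_nil s0_v90))))))
theorem s0_f1331r : ed sl_et s0_v90 = sq104 :=
  edge_flip (s0_f1331 IH)
theorem s0_f1332 : ed sl_et sq104 = s0_v90 :=
  gap_rel s0_rot40 (path_edge (s0_f1331r IH) (path_nil s0_v90))
theorem s0_f1334 : ed sl_ct s0_v90 = s0_v91 :=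
  rfl
theorem s0_f1334r : ed sl_cf s0_v91 = s0_v90 :=
  edge_flip (s0_f1334 IH)
theorem s0_f1332r : ed sl_ef s0_v90 = sq104 :=
  edge_flip (s0_f1332 IH)
theorem s0_f1336 : ed sl_ef s0_v65 = s0_v91 :=
  gap_rel s0_rot34 (path_edge (s0_f936 IH) (path_edge (s0_f1332r IH) (path_edge (s0_f1334r IH) (path_nil s0_v91))))
theorem s0_f1336r : ed sl_et s0_v91 = s0_v65 :=
  edge_flip (s0_f1336 IH)
theorem s0_f1337 : ed sl_et s0_v65 = s0_v91 :=
  gap_rel s0_rot40 (path_edge (s0_f1336r IH) (path_nil s0_v91))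
theorem s0_f1337r : ed sl_ef s0_v91 = s0_v65 :=
  edge_flip (s0_f1337 IH)
theorem s0_f941r : ed sl_af s0_v65 = s0_v65 :=
  edge_flip (s0_f941 IH)
theorem s0_f1338 : ed sl_af s0_v91 = s0_v91 :=
  gap_rel s0_rot41 (path_edge (s0_f1336 IH) (path_edge (s0_f941r IH) (path_edge (s0_f1337r IH) (path_nil s0_v91))))
theorem s0_f1347 : ed sl_et sq87 = sq49 :=
  real_edge rels S fwd inv o lvl plet idx 27 IH Gen.e sp87 sp49 rfl rfl
theorem s0_f1348 : ed sl_et sq85 = s0_v93 :=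
  rfl
theorem s0_f1348r : ed sl_ef s0_v93 = sq85 :=
  edge_flip (s0_f1348 IH)
theorem s0_f386r : ed sl_df sq85 = sq48 :=
  edge_flip (s0_f386 IH)
theorem s0_f129r : ed sl_df sq26 = sq49 :=
  edge_flip (s0_f129 IH)
theorem s0_f1347r : ed sl_ef sq49 = sq87 :=
  edge_flip (s0_f1347 IH)
theorem s0_f1349 : ed sl_df sq87 = s0_v93 :=
  gap_rel s0_rot42 (path_edge (s0_f1347r IH) (path_edge (s0_f129r IH) (path_edge (s0_f136r IH) (path_edge (s0_f386r IH) (path_edge (s0_f1348r IH) (path_nil s0_v93))))))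
theorem s0_f1350 : ed sl_ef sq85 = s0_v93 :=
  gap_rel s0_rot13 (path_edge (s0_f1348r IH) (path_nil s0_v93))
theorem s0_f1369 : ed sl_gt sq147 = sq138 :=
  real_edge rels S fwd inv o lvl plet idx 27 IH Gen.g sp147 sp138 rfl rfl
theorem s0_f1372 : ed sl_ft sq87 = sq138 :=
  real_edge rels S fwd inv o lvl plet idx 27 IH Gen.f sp87 sp138 rfl rfl
theorem s0_f1373 : ed sl_dt sq138 = sq215 :=
  real_edge rels S fwd inv o lvl plet idx 27 IH Gen.d sp138 sp215 rfl rfl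
theorem s0_f1375 : ed sl_gt s0_v2 = s0_v94 :=
  rfl
theorem s0_f1375r : ed sl_gf s0_v94 = s0_v2 :=
  edge_flip (s0_f1375 IH)
theorem s0_f1376 : ed sl_cf s0_v89 = s0_v94 :=
  gap_rel s0_rot43 (path_edge (s0_f1323 IH) (path_edge (s0_f1311 IH) (path_edge (s0_f1375r IH) (path_nil s0_v94))))
theorem s0_f118r : ed sl_gf s0_v3 = sq26 :=
  edge_flip (s0_f118 IH)
theorem s0_f144r : ed sl_gf sq49 = sq88 :=
  edge_flip (s0_f144 IH)
theorem s0_f1377 : ed sl_df sq88 = s0_v94 :=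
  gap_rel s0_rot44 (path_edge (s0_f144r IH) (path_edge (s0_f129r IH) (path_edge (s0_f118r IH) (path_edge (s0_f110 IH) (path_edge (s0_f1375r IH) (path_nil s0_v94))))))
theorem s0_f1378 : ed sl_gf s0_v2 = s0_v94 :=
  gap_rel s0_rot1 (path_edge (s0_f1375r IH) (path_nil s0_v94))
theorem s0_f1378r : ed sl_gt s0_v94 = s0_v2 :=
  edge_flip (s0_f1378 IH)
theorem s0_f125r : ed sl_gt s0_v3 = sq26 :=
  edge_flip (s0_f125 IH)
theorem s0_f1381 : ed sl_dt sq88 = s0_v94 :=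
  gap_rel s0_rot27 (path_edge (s0_f135 IH) (path_edge (s0_f134 IH) (path_edge (s0_f125r IH) (path_edge (s0_f109 IH) (path_edge (s0_f1378r IH) (path_nil s0_v94))))))
theorem s0_f1385 : ed sl_ft sq147 = sq88 :=
  real_edge rels S fwd inv o lvl plet idx 27 IH Gen.f sp147 sp88 rfl rfl
theorem s0_f1386 : ed sl_dt sq226 = sq147 :=
  real_edge rels S fwd inv o lvl plet idx 27 IH Gen.d sp226 sp147 rfl rfl
theorem s0_f1387 : ed sl_gt sq138 = sq147 :=
  real_edge rels S fwd inv o lvl plet idx 27 IH Gen.g sp138 sp147 rfl rfl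
theorem s0_f1440 : ed sl_at sq143 = sq143 :=
  real_edge rels S fwd inv o lvl plet idx 27 IH Gen.a sp143 sp143 rfl rfl
theorem s0_f1458 : ed sl_ft s0_v8 = s0_v104 :=
  rfl
theorem s0_f1458r : ed sl_ff s0_v104 = s0_v8 :=
  edge_flip (s0_f1458 IH)
theorem s0_f1460 : ed sl_ff s0_v8 = s0_v104 :=
  gap_rel s0_rot15 (path_edge (s0_f1458r IH) (path_nil s0_v104))
theorem s0_f1460r : ed sl_ft s0_v104 = s0_v8 :=
  edge_flip (s0_f1460 IH)
theorem s0_f1461 : ed sl_at s0_v104 = s0_v104 :=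
  gap_rel s0_rot28 (path_edge (s0_f1458 IH) (path_edge (s0_f198 IH) (path_edge (s0_f1460r IH) (path_nil s0_v104))))
theorem s0_f1467 : ed sl_dt s0_v104 = s0_v105 :=
  rfl
theorem s0_f1467r : ed sl_df s0_v105 = s0_v104 :=
  edge_flip (s0_f1467 IH)
theorem s0_f1468 : ed sl_df s0_v104 = s0_v105 :=
  gap_rel s0_rot3 (path_edge (s0_f1467r IH) (path_nil s0_v105))
theorem s0_f1468r : ed sl_dt s0_v105 = s0_v104 :=
  edge_flip (s0_f1468 IH)
theorem s0_f1469 : ed sl_at s0_v105 = s0_v105 :=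
  gap_rel s0_rot10 (path_edge (s0_f1467 IH) (path_edge (s0_f1461 IH) (path_edge (s0_f1468r IH) (path_nil s0_v105))))
theorem s0_f1470 : ed sl_ct s0_v105 = s0_v106 :=
  rfl
theorem s0_f1470r : ed sl_cf s0_v106 = s0_v105 :=
  edge_flip (s0_f1470 IH)
theorem s0_f1471 : ed sl_cf s0_v105 = s0_v106 :=
  gap_rel s0_rot0 (path_edge (s0_f1470r IH) (path_nil s0_v106))
theorem s0_f1471r : ed sl_ct s0_v106 = s0_v105 :=
  edge_flip (s0_f1471 IH)
theorem s0_f1472 : ed sl_at s0_v106 = s0_v106 :=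
  gap_rel s0_rot12 (path_edge (s0_f1470 IH) (path_edge (s0_f1469 IH) (path_edge (s0_f1471r IH) (path_nil s0_v106))))
theorem s0_f1473 : ed sl_gt s0_v106 = s0_v107 :=
  rfl
theorem s0_f1473r : ed sl_gf s0_v107 = s0_v106 :=
  edge_flip (s0_f1473 IH)
theorem s0_f1474 : ed sl_gf s0_v106 = s0_v107 :=
  gap_rel s0_rot1 (path_edge (s0_f1473r IH) (path_nil s0_v107))
theorem s0_f1474r : ed sl_gt s0_v107 = s0_v106 :=
  edge_flip (s0_f1474 IH)
theorem s0_f1475 : ed sl_at s0_v107 = s0_v107 :=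
  gap_rel s0_rot29 (path_edge (s0_f1473 IH) (path_edge (s0_f1472 IH) (path_edge (s0_f1474r IH) (path_nil s0_v107))))
theorem s0_f1476 : ed sl_ft s0_v107 = s0_v108 :=
  rfl
theorem s0_f1476r : ed sl_ff s0_v108 = s0_v107 :=
  edge_flip (s0_f1476 IH)
theorem s0_f1477 : ed sl_ff s0_v107 = s0_v108 :=
  gap_rel s0_rot15 (path_edge (s0_f1476r IH) (path_nil s0_v108))
theorem s0_f1477r : ed sl_ft s0_v108 = s0_v107 :=
  edge_flip (s0_f1477 IH)
theorem s0_f1478 : ed sl_at s0_v108 = s0_v108 :=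
  gap_rel s0_rot28 (path_edge (s0_f1476 IH) (path_edge (s0_f1475 IH) (path_edge (s0_f1477r IH) (path_nil s0_v108))))
theorem s0_f1479 : ed sl_dt s0_v108 = s0_v109 :=
  rfl
theorem s0_f1479r : ed sl_df s0_v109 = s0_v108 :=
  edge_flip (s0_f1479 IH)
theorem s0_f1480 : ed sl_df s0_v108 = s0_v109 :=
  gap_rel s0_rot3 (path_edge (s0_f1479r IH) (path_nil s0_v109))
theorem s0_f1480r : ed sl_dt s0_v109 = s0_v108 :=
  edge_flip (s0_f1480 IH)
theorem s0_f1481 : ed sl_at s0_v109 = s0_v109 :=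
  gap_rel s0_rot10 (path_edge (s0_f1479 IH) (path_edge (s0_f1478 IH) (path_edge (s0_f1480r IH) (path_nil s0_v109))))
theorem s0_f1482 : ed sl_ct s0_v109 = s0_v110 :=
  rfl
theorem s0_f1482r : ed sl_cf s0_v110 = s0_v109 :=
  edge_flip (s0_f1482 IH)
theorem s0_f203r : ed sl_cf s0_v9 = s0_v6 :=
  edge_flip (s0_f203 IH)
theorem s0_f335r : ed sl_gf s0_v19 = sq27 :=
  edge_flip (s0_f335 IH)
theorem s0_f337r : ed sl_cf sq27 = sq48 :=
  edge_flip (s0_f337 IH)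
theorem s0_f339r : ed sl_df sq48 = sq85 :=
  edge_flip (s0_f339 IH)
theorem s0_f1484 : ed sl_gf s0_v85 = s0_v110 :=
  gap_rel s0_rot4 (path_edge (s0_f1278 IH) (path_edge (s0_f339r IH) (path_edge (s0_f337r IH) (path_edge (s0_f335r IH) (path_edge (s0_f329 IH) (path_edge (s0_f186 IH) (path_edge (s0_f203r IH) (path_edge (s0_f201 IH) (path_edge (s0_f1458r IH) (path_edge (s0_f1467r IH) (path_edge (s0_f1470r IH) (path_edge (s0_f1473r IH) (path_edge (s0_f1476r IH) (path_edge (s0_f1479r IH) (path_edge (s0_f1482r IH) (path_nil s0_v110))))))))))))))))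
theorem s0_f1484r : ed sl_gt s0_v110 = s0_v85 :=
  edge_flip (s0_f1484 IH)
theorem s0_f1485 : ed sl_gt s0_v85 = s0_v110 :=
  gap_rel s0_rot6 (path_edge (s0_f1484r IH) (path_nil s0_v110))
theorem s0_f1648 : ed sl_ct sq54 = s0_v116 :=
  rfl
theorem s0_f1648r : ed sl_cf s0_v116 = sq54 :=
  edge_flip (s0_f1648 IH)
theorem s0_f1649 : ed sl_cf sq54 = s0_v116 :=
  gap_rel s0_rot0 (path_edge (s0_f1648r IH) (path_nil s0_v116))
theorem s0_f1657 : ed sl_ft sq54 = sq98 :=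
  real_edge rels S fwd inv o lvl plet idx 27 IH Gen.f sp54 sp98 rfl rfl
theorem s0_f1658 : ed sl_gt sq54 = sq99 :=
  real_edge rels S fwd inv o lvl plet idx 27 IH Gen.g sp54 sp99 rfl rfl
theorem s0_f1659 : ed sl_ct sq55 = s0_v117 :=
  rfl
theorem s0_f1659r : ed sl_cf s0_v117 = sq55 :=
  edge_flip (s0_f1659 IH)
theorem s0_f247r : ed sl_ff sq55 = sq29 :=
  edge_flip (s0_f247 IH)
theorem s0_f1661 : ed sl_ff s0_v14 = s0_v117 :=
  gap_rel s0_rot33 (path_edge (s0_f225 IH) (path_edge (s0_f247r IH) (path_edge (s0_f1659r IH) (path_nil s0_v117))))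
theorem s0_f1662 : ed sl_gf s0_v35 = s0_v117 :=
  gap_rel s0_rot9 (path_edge (s0_f508 IH) (path_edge (s0_f442r IH) (path_edge (s0_f1659r IH) (path_nil s0_v117))))
theorem s0_f1662r : ed sl_gt s0_v117 = s0_v35 :=
  edge_flip (s0_f1662 IH)
theorem s0_f1668 : ed sl_gt s0_v35 = s0_v117 :=
  gap_rel s0_rot6 (path_edge (s0_f1662r IH) (path_nil s0_v117))
theorem s0_f1675 : ed sl_ct sq56 = s0_v118 :=
  rfl
theorem s0_f1675r : ed sl_cf s0_v118 = sq56 :=
  edge_flip (s0_f1675 IH)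
theorem s0_f248r : ed sl_gf sq56 = sq29 :=
  edge_flip (s0_f248 IH)
theorem s0_f1680 : ed sl_gf s0_v14 = s0_v118 :=
  gap_rel s0_rot9 (path_edge (s0_f225 IH) (path_edge (s0_f248r IH) (path_edge (s0_f1675r IH) (path_nil s0_v118))))
theorem s0_f1687 : ed sl_gt sq98 = sq101 :=
  real_edge rels S fwd inv o lvl plet idx 27 IH Gen.g sp98 sp101 rfl rfl
theorem s0_f1680r : ed sl_gt s0_v118 = s0_v14 :=
  edge_flip (s0_f1680 IH)
theorem s0_f1688 : ed sl_gt s0_v14 = s0_v118 :=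
  gap_rel s0_rot6 (path_edge (s0_f1680r IH) (path_nil s0_v118))
theorem s0_f1715 : ed sl_gt sq260 = sq171 :=
  real_edge rels S fwd inv o lvl plet idx 27 IH Gen.g sp260 sp171 rfl rfl
theorem s0_f1717 : ed sl_dt sq389 = sq258 :=
  real_edge rels S fwd inv o lvl plet idx 27 IH Gen.d sp389 sp258 rfl rfl
theorem s0_f1718 : ed sl_ft sq258 = sq258 :=
  real_edge rels S fwd inv o lvl plet idx 27 IH Gen.f sp258 sp258 rfl rfl
theorem s0_f1721 : ed sl_ct sq258 = sq171 :=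
  real_edge rels S fwd inv o lvl plet idx 27 IH Gen.c sp258 sp171 rfl rfl
theorem s0_f1722 : ed sl_gt sq171 = sq260 :=
  real_edge rels S fwd inv o lvl plet idx 27 IH Gen.g sp171 sp260 rfl rfl
theorem s0_f1724 : ed sl_dt sq258 = sq389 :=
  real_edge rels S fwd inv o lvl plet idx 27 IH Gen.d sp258 sp389 rfl rfl
theorem s0_f1728 : ed sl_ft sq171 = sq171 :=
  real_edge rels S fwd inv o lvl plet idx 27 IH Gen.f sp171 sp171 rfl rfl
theorem s0_f1759 : ed sl_gt sq104 = s0_v130 :=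
  rfl
theorem s0_f1759r : ed sl_gf s0_v130 = sq104 :=
  edge_flip (s0_f1759 IH)
theorem s0_f1760 : ed sl_cf s0_v66 = s0_v130 :=
  gap_rel s0_rot43 (path_edge (s0_f947 IH) (path_edge (s0_f936 IH) (path_edge (s0_f1759r IH) (path_nil s0_v130))))
theorem s0_f1762 : ed sl_gf sq104 = s0_v130 :=
  gap_rel s0_rot1 (path_edge (s0_f1759r IH) (path_nil s0_v130))
theorem s0_f1762r : ed sl_gt s0_v130 = sq104 :=
  edge_flip (s0_f1762 IH)
theorem s0_f1765 : ed sl_dt sq106 = s0_v130 :=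
  gap_rel s0_rot27 (path_edge (s0_f93 IH) (path_edge (s0_f55 IH) (path_edge (s0_f237 IH) (path_edge (s0_f315 IH) (path_edge (s0_f1762r IH) (path_nil s0_v130))))))
theorem s0_f1768 : ed sl_dt sq261 = s0_v131 :=
  rfl
theorem s0_f1768r : ed sl_df s0_v131 = sq261 :=
  edge_flip (s0_f1768 IH)
theorem s0_f1769 : ed sl_df sq261 = s0_v131 :=
  gap_rel s0_rot3 (path_edge (s0_f1768r IH) (path_nil s0_v131))
theorem s0_f1769r : ed sl_dt s0_v131 = sq261 :=
  edge_flip (s0_f1769 IH)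
theorem s0_f1770 : ed sl_at s0_v131 = s0_v131 :=
  gap_rel s0_rot10 (path_edge (s0_f1768 IH) (path_edge (s0_f879 IH) (path_edge (s0_f1769r IH) (path_nil s0_v131))))
theorem s0_f1771 : ed sl_ct s0_v131 = s0_v132 :=
  rfl
theorem s0_f1771r : ed sl_cf s0_v132 = s0_v131 :=
  edge_flip (s0_f1771 IH)
theorem s0_f877r : ed sl_cf sq261 = sq173 :=
  edge_flip (s0_f877 IH)
theorem s0_f876r : ed sl_df sq173 = sq107 :=
  edge_flip (s0_f876 IH)
theorem s0_f873r : ed sl_cf sq107 = sq60 :=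
  edge_flip (s0_f873 IH)
theorem s0_f872r : ed sl_df sq60 = sq32 :=
  edge_flip (s0_f872 IH)
theorem s0_f1773 : ed sl_df s0_v65 = s0_v132 :=
  gap_rel s0_rot45 (path_edge (s0_f936 IH) (path_edge (s0_f315r IH) (path_edge (s0_f314r IH) (path_edge (s0_f872r IH) (path_edge (s0_f873r IH) (path_edge (s0_f876r IH) (path_edge (s0_f877r IH) (path_edge (s0_f879 IH) (path_edge (s0_f1768r IH) (path_edge (s0_f1771r IH) (path_nil s0_v132)))))))))))
theorem s0_f2069 : ed sl_gt sq319 = sq515 :=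
  real_edge rels S fwd inv o lvl plet idx 27 IH Gen.g sp319 sp515 rfl rfl
theorem s0_f2070 : ed sl_ft sq196 = sq123 :=
  real_edge rels S fwd inv o lvl plet idx 27 IH Gen.f sp196 sp123 rfl rfl
theorem s0_f2071 : ed sl_gt sq201 = sq196 :=
  real_edge rels S fwd inv o lvl plet idx 27 IH Gen.g sp201 sp196 rfl rfl
theorem s0_f2072 : ed sl_ft sq515 = s0_v145 :=
  rfl
theorem s0_f2072r : ed sl_ff s0_v145 = sq515 :=
  edge_flip (s0_f2072 IH)
theorem s0_f2073 : ed sl_ff sq515 = s0_v145 :=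
  gap_rel s0_rot15 (path_edge (s0_f2072r IH) (path_nil s0_v145))
theorem s0_f2075 : ed sl_dt s0_v145 = s0_v146 :=
  rfl
theorem s0_f2077 : ed sl_ct s0_v146 = s0_v147 :=
  rfl
theorem s0_f2079 : ed sl_gt s0_v147 = s0_v148 :=
  rfl
theorem s0_f2079r : ed sl_gf s0_v148 = s0_v147 :=
  edge_flip (s0_f2079 IH)
theorem s0_f2077r : ed sl_cf s0_v147 = s0_v146 :=
  edge_flip (s0_f2077 IH)
theorem s0_f2075r : ed sl_df s0_v146 = s0_v145 :=
  edge_flip (s0_f2075 IH)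
theorem s0_f2069r : ed sl_gf sq515 = sq319 :=
  edge_flip (s0_f2069 IH)
theorem s0_f783r : ed sl_cf sq319 = sq206 :=
  edge_flip (s0_f783 IH)
theorem s0_f1121r : ed sl_df sq206 = sq130 :=
  edge_flip (s0_f1121 IH)
theorem s0_f1120r : ed sl_ff sq130 = sq75 :=
  edge_flip (s0_f1120 IH)
theorem s0_f594r : ed sl_gf sq75 = sq42 :=
  edge_flip (s0_f594 IH)
theorem s0_f1076r : ed sl_cf sq42 = sq72 :=
  edge_flip (s0_f1076 IH)
theorem s0_f1075r : ed sl_df sq72 = sq123 :=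
  edge_flip (s0_f1075 IH)
theorem s0_f2070r : ed sl_ff sq123 = sq196 :=
  edge_flip (s0_f2070 IH)
theorem s0_f2071r : ed sl_gf sq196 = sq201 :=
  edge_flip (s0_f2071 IH)
theorem s0_f741r : ed sl_cf sq201 = sq130 :=
  edge_flip (s0_f741 IH)
theorem s0_f1099r : ed sl_df sq130 = sq206 :=
  edge_flip (s0_f1099 IH)
theorem s0_f2081 : ed sl_ff sq206 = s0_v148 :=
  gap_rel s0_rot24 (path_edge (s0_f1099r IH) (path_edge (s0_f741r IH) (path_edge (s0_f2071r IH) (path_edge (s0_f2070r IH) (path_edge (s0_f1075r IH) (path_edge (s0_f1076r IH) (path_edge (s0_f594r IH) (path_edge (s0_f1120r IH) (path_edge (s0_f1121r IH) (path_edge (s0_f783r IH) (path_edge (s0_f2069r IH) (path_edge (s0_f2072r IH) (path_edge (s0_f2075r IH) (path_edge (s0_f2077r IH) (path_edge (s0_f2079r IH) (path_nil s0_v148))))))))))))))))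
theorem s0_f2081r : ed sl_ft s0_v148 = sq206 :=
  edge_flip (s0_f2081 IH)
theorem s0_f2082 : ed sl_ft sq206 = s0_v148 :=
  gap_rel s0_rot25 (path_edge (s0_f2081r IH) (path_nil s0_v148))
theorem s0_f2084 : ed sl_ct sq319 = sq206 :=
  real_edge rels S fwd inv o lvl plet idx 27 IH Gen.c sp319 sp206 rfl rfl
theorem s0_f2335 : ed sl_ct s0_v38 = s0_v177 :=
  rfl
theorem s0_f2335r : ed sl_cf s0_v177 = s0_v38 :=
  edge_flip (s0_f2335 IH)
theorem s0_f2336 : ed sl_cf s0_v38 = s0_v177 :=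
  gap_rel s0_rot0 (path_edge (s0_f2335r IH) (path_nil s0_v177))
theorem s0_f2360 : ed sl_ft sq141 = s0_v182 :=
  rfl
theorem s0_f2362 : ed sl_et sq219 = sq141 :=
  real_edge rels S fwd inv o lvl plet idx 27 IH Gen.e sp219 sp141 rfl rfl
theorem s0_f2360r : ed sl_ff s0_v182 = sq141 :=
  edge_flip (s0_f2360 IH)
theorem s0_f2363 : ed sl_ff sq141 = s0_v182 :=
  gap_rel s0_rot15 (path_edge (s0_f2360r IH) (path_nil s0_v182))
theorem s0_f2366 : ed sl_et sq141 = sq219 :=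
  real_edge rels S fwd inv o lvl plet idx 27 IH Gen.e sp141 sp219 rfl rfl
theorem s0_f2408 : ed sl_ct s0_v47 = s0_v191 :=
  rfl
theorem s0_f2408r : ed sl_cf s0_v191 = s0_v47 :=
  edge_flip (s0_f2408 IH)
theorem s0_f2409 : ed sl_cf s0_v47 = s0_v191 :=
  gap_rel s0_rot0 (path_edge (s0_f2408r IH) (path_nil s0_v191))
theorem s0_f2409r : ed sl_ct s0_v191 = s0_v47 :=
  edge_flip (s0_f2409 IH)
theorem s0_f2410 : ed sl_at s0_v191 = s0_v191 :=
  gap_rel s0_rot12 (path_edge (s0_f2408 IH) (path_edge (s0_f682 IH) (path_edge (s0_f2409r IH) (path_nil s0_v191))))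
theorem s0_f2411 : ed sl_gt s0_v191 = s0_v192 :=
  rfl
theorem s0_f2411r : ed sl_gf s0_v192 = s0_v191 :=
  edge_flip (s0_f2411 IH)
theorem s0_f2412 : ed sl_gf s0_v191 = s0_v192 :=
  gap_rel s0_rot1 (path_edge (s0_f2411r IH) (path_nil s0_v192))
theorem s0_f2412r : ed sl_gt s0_v192 = s0_v191 :=
  edge_flip (s0_f2412 IH)
theorem s0_f2413 : ed sl_at s0_v192 = s0_v192 :=
  gap_rel s0_rot29 (path_edge (s0_f2411 IH) (path_edge (s0_f2410 IH) (path_edge (s0_f2412r IH) (path_nil s0_v192))))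
theorem s0_f2414 : ed sl_ft s0_v192 = s0_v193 :=
  rfl
theorem s0_f2414r : ed sl_ff s0_v193 = s0_v192 :=
  edge_flip (s0_f2414 IH)
theorem s0_f2415 : ed sl_ff s0_v192 = s0_v193 :=
  gap_rel s0_rot15 (path_edge (s0_f2414r IH) (path_nil s0_v193))
theorem s0_f2415r : ed sl_ft s0_v193 = s0_v192 :=
  edge_flip (s0_f2415 IH)
theorem s0_f2416 : ed sl_at s0_v193 = s0_v193 :=
  gap_rel s0_rot28 (path_edge (s0_f2414 IH) (path_edge (s0_f2413 IH) (path_edge (s0_f2415r IH) (path_nil s0_v193))))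
theorem s0_f2417 : ed sl_dt s0_v193 = s0_v194 :=
  rfl
theorem s0_f2417r : ed sl_df s0_v194 = s0_v193 :=
  edge_flip (s0_f2417 IH)
theorem s0_f2418 : ed sl_df s0_v193 = s0_v194 :=
  gap_rel s0_rot3 (path_edge (s0_f2417r IH) (path_nil s0_v194))
theorem s0_f2418r : ed sl_dt s0_v194 = s0_v193 :=
  edge_flip (s0_f2418 IH)
theorem s0_f2419 : ed sl_at s0_v194 = s0_v194 :=
  gap_rel s0_rot10 (path_edge (s0_f2417 IH) (path_edge (s0_f2416 IH) (path_edge (s0_f2418r IH) (path_nil s0_v194))))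
theorem s0_f2420 : ed sl_ct s0_v194 = s0_v195 :=
  rfl
theorem s0_f2420r : ed sl_cf s0_v195 = s0_v194 :=
  edge_flip (s0_f2420 IH)
theorem s0_f697r : ed sl_ff sq142 = sq84 :=
  edge_flip (s0_f697 IH)
theorem s0_f649r : ed sl_gf sq84 = sq47 :=
  edge_flip (s0_f649 IH)
theorem s0_f653r : ed sl_cf sq47 = sq77 :=
  edge_flip (s0_f653 IH)
theorem s0_f652r : ed sl_df sq77 = sq44 :=
  edge_flip (s0_f652 IH)
theorem s0_f762r : ed sl_ff sq44 = sq78 :=
  edge_flip (s0_f762 IH)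
theorem s0_f763r : ed sl_gf sq78 = sq82 :=
  edge_flip (s0_f763 IH)
theorem s0_f764r : ed sl_cf sq82 = sq82 :=
  edge_flip (s0_f764 IH)
theorem s0_f628r : ed sl_df sq82 = sq141 :=
  edge_flip (s0_f628 IH)
theorem s0_f2422 : ed sl_gf s0_v182 = s0_v195 :=
  gap_rel s0_rot4 (path_edge (s0_f2363 IH) (path_edge (s0_f628r IH) (path_edge (s0_f764r IH) (path_edge (s0_f763r IH) (path_edge (s0_f762r IH) (path_edge (s0_f652r IH) (path_edge (s0_f653r IH) (path_edge (s0_f649r IH) (path_edge (s0_f697r IH) (path_eq (s0_f703 IH).symm (path_edge (s0_f684 IH) (path_edge (s0_f2408r IH) (path_edge (s0_f2411r IH) (path_edge (s0_f2414r IH) (path_edge (s0_f2417r IH) (path_edge (s0_f2420r IH) (path_nil s0_v195)))))))))))))))))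
theorem s0_f2422r : ed sl_gt s0_v195 = s0_v182 :=
  edge_flip (s0_f2422 IH)
theorem s0_f2424 : ed sl_gt s0_v182 = s0_v195 :=
  gap_rel s0_rot6 (path_edge (s0_f2422r IH) (path_nil s0_v195))
theorem s0_f2427 : ed sl_gt s0_v29 = s0_v196 :=
  rfl
theorem s0_f2427r : ed sl_gf s0_v196 = s0_v29 :=
  edge_flip (s0_f2427 IH)
theorem s0_f1320r : ed sl_et s0_v29 = s0_v67 :=
  edge_flip (s0_f1320 IH)
theorem s0_f2430 : ed sl_ff s0_v65 = s0_v196 :=
  gap_rel s0_rot46 (path_edge (s0_f946r IH) (path_edge (s0_f949r IH) (path_edge (s0_f1320r IH) (path_edge (s0_f2427r IH) (path_nil s0_v196)))))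
theorem s0_f2430r : ed sl_ft s0_v196 = s0_v65 :=
  edge_flip (s0_f2430 IH)
theorem s0_f2432 : ed sl_ft s0_v65 = s0_v196 :=
  gap_rel s0_rot25 (path_edge (s0_f2430r IH) (path_nil s0_v196))
theorem s0_f2434 : ed sl_dt s0_v196 = s0_v197 :=
  rfl
theorem s0_f2434r : ed sl_df s0_v197 = s0_v196 :=
  edge_flip (s0_f2434 IH)
theorem s0_f2436 : ed sl_gf sq85 = s0_v197 :=
  gap_rel s0_rot11 (path_edge (s0_f339r IH) (path_edge (s0_f387r IH) (path_edge (s0_f395r IH) (path_edge (s0_f2427r IH) (path_edge (s0_f2434r IH) (path_nil s0_v197))))))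
theorem s0_f2436r : ed sl_gt s0_v197 = sq85 :=
  edge_flip (s0_f2436 IH)
theorem s0_f2437 : ed sl_gt sq85 = s0_v197 :=
  gap_rel s0_rot6 (path_edge (s0_f2436r IH) (path_nil s0_v197))
theorem s0_f2439 : ed sl_ct s0_v37 = s0_v198 :=
  rfl
theorem s0_f2439r : ed sl_cf s0_v198 = s0_v37 :=
  edge_flip (s0_f2439 IH)
theorem s0_f2441 : ed sl_gf s0_v177 = s0_v198 :=
  gap_rel s0_rot9 (path_edge (s0_f2336 IH) (path_edge (s0_f620 IH) (path_edge (s0_f2439r IH) (path_nil s0_v198))))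
theorem s0_f2441r : ed sl_gt s0_v198 = s0_v177 :=
  edge_flip (s0_f2441 IH)
theorem s0_f2442 : ed sl_gt s0_v177 = s0_v198 :=
  gap_rel s0_rot6 (path_edge (s0_f2441r IH) (path_nil s0_v198))
theorem s0_f2489 : ed sl_ct sq215 = sq335 :=
  real_edge rels S fwd inv o lvl plet idx 27 IH Gen.c sp215 sp335 rfl rfl
theorem s0_f2494 : ed sl_gt sq343 = s0_v206 :=
  rfl
theorem s0_f2494r : ed sl_gf s0_v206 = sq343 :=
  edge_flip (s0_f2494 IH)
theorem s0_f2496 : ed sl_gf sq343 = s0_v206 :=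
  gap_rel s0_rot1 (path_edge (s0_f2494r IH) (path_nil s0_v206))
theorem s0_f2498 : ed sl_ct sq343 = sq226 :=
  real_edge rels S fwd inv o lvl plet idx 27 IH Gen.c sp343 sp226 rfl rfl
theorem s0_f2799 : ed sl_ct sq98 = s0_v244 :=
  rfl
theorem s0_f2799r : ed sl_cf s0_v244 = sq98 :=
  edge_flip (s0_f2799 IH)
theorem s0_f2800 : ed sl_cf sq98 = s0_v244 :=
  gap_rel s0_rot0 (path_edge (s0_f2799r IH) (path_nil s0_v244))
theorem s0_f1657r : ed sl_ff sq98 = sq54 :=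
  edge_flip (s0_f1657 IH)
theorem s0_f2802 : ed sl_ff s0_v116 = s0_v244 :=
  gap_rel s0_rot33 (path_edge (s0_f1649 IH) (path_edge (s0_f1657r IH) (path_edge (s0_f2799r IH) (path_nil s0_v244))))
theorem s0_f2804 : ed sl_at sq168 = sq168 :=
  real_edge rels S fwd inv o lvl plet idx 27 IH Gen.a sp168 sp168 rfl rfl
theorem s0_f2805 : ed sl_ft sq257 = sq168 :=
  real_edge rels S fwd inv o lvl plet idx 27 IH Gen.f sp257 sp168 rfl rfl
theorem s0_f2811 : ed sl_ct sq99 = s0_v245 :=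
  rfl
theorem s0_f2811r : ed sl_cf s0_v245 = sq99 :=
  edge_flip (s0_f2811 IH)
theorem s0_f514r : ed sl_ff sq99 = sq100 :=
  edge_flip (s0_f514 IH)
theorem s0_f2815 : ed sl_ff s0_v35 = s0_v245 :=
  gap_rel s0_rot33 (path_edge (s0_f508 IH) (path_edge (s0_f514r IH) (path_edge (s0_f2811r IH) (path_nil s0_v245))))
theorem s0_f1658r : ed sl_gf sq99 = sq54 :=
  edge_flip (s0_f1658 IH)
theorem s0_f2816 : ed sl_gf s0_v116 = s0_v245 :=
  gap_rel s0_rot9 (path_edge (s0_f1649 IH) (path_edge (s0_f1658r IH) (path_edge (s0_f2811r IH) (path_nil s0_v245))))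
theorem s0_f2816r : ed sl_gt s0_v245 = s0_v116 :=
  edge_flip (s0_f2816 IH)
theorem s0_f2820 : ed sl_gt s0_v116 = s0_v245 :=
  gap_rel s0_rot6 (path_edge (s0_f2816r IH) (path_nil s0_v245))
theorem s0_f2825 : ed sl_ft sq168 = sq257 :=
  real_edge rels S fwd inv o lvl plet idx 27 IH Gen.f sp168 sp257 rfl rfl
theorem s0_f2873 : ed sl_ct sq170 = s0_v250 :=
  rfl
theorem s0_f2873r : ed sl_cf s0_v250 = sq170 :=
  edge_flip (s0_f2873 IH)
theorem s0_f2874 : ed sl_cf sq170 = s0_v250 :=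
  gap_rel s0_rot0 (path_edge (s0_f2873r IH) (path_nil s0_v250))
theorem s0_f2876 : ed sl_gt s0_v250 = s0_v251 :=
  rfl
theorem s0_f2876r : ed sl_gf s0_v251 = s0_v250 :=
  edge_flip (s0_f2876 IH)
theorem s0_f2877 : ed sl_gf s0_v250 = s0_v251 :=
  gap_rel s0_rot1 (path_edge (s0_f2876r IH) (path_nil s0_v251))
theorem s0_f2947 : ed sl_et sq168 = s0_v269 :=
  rfl
theorem s0_f2947r : ed sl_ef s0_v269 = sq168 :=
  edge_flip (s0_f2947 IH)
theorem s0_f2950 : ed sl_ef sq168 = s0_v269 :=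
  gap_rel s0_rot13 (path_edge (s0_f2947r IH) (path_nil s0_v269))
theorem s0_f2950r : ed sl_et s0_v269 = sq168 :=
  edge_flip (s0_f2950 IH)
theorem s0_f2951 : ed sl_at s0_v269 = s0_v269 :=
  gap_rel s0_rot47 (path_edge (s0_f2947 IH) (path_edge (s0_f2804 IH) (path_edge (s0_f2950r IH) (path_nil s0_v269))))
theorem s0_f2953 : ed sl_dt s0_v89 = s0_v269 :=
  gap_rel s0_rot48 (path_edge (s0_f1326 IH) (path_edge (s0_f854 IH) (path_edge (s0_f858 IH) (path_edge (s0_f859 IH) (path_edge (s0_f2950r IH) (path_nil s0_v269))))))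
theorem s0_f2956 : ed sl_gt sq170 = s0_v270 :=
  rfl
theorem s0_f2956r : ed sl_gf s0_v270 = sq170 :=
  edge_flip (s0_f2956 IH)
theorem s0_f2957 : ed sl_cf s0_v251 = s0_v270 :=
  gap_rel s0_rot43 (path_edge (s0_f2877 IH) (path_edge (s0_f2874 IH) (path_edge (s0_f2956r IH) (path_nil s0_v270))))
theorem s0_f2959 : ed sl_gf sq170 = s0_v270 :=
  gap_rel s0_rot1 (path_edge (s0_f2956r IH) (path_nil s0_v270))
theorem s0_f2959r : ed sl_gt s0_v270 = sq170 :=
  edge_flip (s0_f2959 IH)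
theorem s0_f2962 : ed sl_dt s0_v69 = s0_v270 :=
  gap_rel s0_rot27 (path_edge (s0_f958 IH) (path_edge (s0_f854 IH) (path_edge (s0_f442 IH) (path_edge (s0_f521 IH) (path_edge (s0_f2959r IH) (path_nil s0_v270))))))
theorem s0_f3047 : ed sl_ct sq101 = s0_v288 :=
  rfl
theorem s0_f3047r : ed sl_cf s0_v288 = sq101 :=
  edge_flip (s0_f3047 IH)
theorem s0_f3048 : ed sl_cf sq101 = s0_v288 :=
  gap_rel s0_rot0 (path_edge (s0_f3047r IH) (path_nil s0_v288))
theorem s0_f1687r : ed sl_gf sq101 = sq98 :=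
  edge_flip (s0_f1687 IH)
theorem s0_f3051 : ed sl_gf s0_v244 = s0_v288 :=
  gap_rel s0_rot9 (path_edge (s0_f2800 IH) (path_edge (s0_f1687r IH) (path_edge (s0_f3047r IH) (path_nil s0_v288))))
theorem s0_f3053 : ed sl_at sq389 = sq389 :=
  real_edge rels S fwd inv o lvl plet idx 27 IH Gen.a sp389 sp389 rfl rfl
theorem s0_f3051r : ed sl_gt s0_v288 = s0_v244 :=
  edge_flip (s0_f3051 IH)
theorem s0_f2802r : ed sl_ft s0_v244 = s0_v116 :=
  edge_flip (s0_f2802 IH)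
theorem s0_f2815r : ed sl_ft s0_v245 = s0_v35 :=
  edge_flip (s0_f2815 IH)
theorem s0_f1661r : ed sl_ft s0_v117 = s0_v14 :=
  edge_flip (s0_f1661 IH)
theorem s0_f3055 : ed sl_ft s0_v118 = s0_v288 :=
  gap_rel s0_rot49 (path_edge (s0_f1688 IH) (path_edge (s0_f1661r IH) (path_edge (s0_f1668 IH) (path_edge (s0_f2815r IH) (path_edge (s0_f2820 IH) (path_edge (s0_f2802r IH) (path_edge (s0_f3051r IH) (path_nil s0_v288))))))))
theorem s0_f3117 : ed sl_dt sq172 = s0_v300 :=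
  rfl
theorem s0_f3162 : ed sl_dt s0_v288 = s0_v311 :=
  rfl
theorem s0_f3162r : ed sl_df s0_v311 = s0_v288 :=
  edge_flip (s0_f3162 IH)
theorem s0_f3163 : ed sl_df s0_v288 = s0_v311 :=
  gap_rel s0_rot3 (path_edge (s0_f3162r IH) (path_nil s0_v311))
theorem s0_f3167 : ed sl_ct s0_v311 = s0_v312 :=
  rfl
theorem s0_f3167r : ed sl_cf s0_v312 = s0_v311 :=
  edge_flip (s0_f3167 IH)
theorem s0_f3168 : ed sl_cf s0_v311 = s0_v312 :=
  gap_rel s0_rot0 (path_edge (s0_f3167r IH) (path_nil s0_v312))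
theorem s0_f3170 : ed sl_gt s0_v312 = s0_v313 :=
  rfl
theorem s0_f3170r : ed sl_gf s0_v313 = s0_v312 :=
  edge_flip (s0_f3170 IH)
theorem s0_f3171 : ed sl_gf s0_v312 = s0_v313 :=
  gap_rel s0_rot1 (path_edge (s0_f3170r IH) (path_nil s0_v313))
theorem s0_f3055r : ed sl_ff s0_v288 = s0_v118 :=
  edge_flip (s0_f3055 IH)
theorem s0_f1688r : ed sl_gf s0_v118 = s0_v14 :=
  edge_flip (s0_f1688 IH)
theorem s0_f179r : ed sl_df sq29 = sq15 :=
  edge_flip (s0_f179 IH)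
theorem s0_f236r : ed sl_ff sq15 = sq31 :=
  edge_flip (s0_f236 IH)
theorem s0_f237r : ed sl_gf sq31 = sq58 :=
  edge_flip (s0_f237 IH)
theorem s0_f238r : ed sl_cf sq58 = sq32 :=
  edge_flip (s0_f238 IH)
theorem s0_f239r : ed sl_df sq32 = sq60 :=
  edge_flip (s0_f239 IH)
theorem s0_f240r : ed sl_ff sq60 = sq60 :=
  edge_flip (s0_f240 IH)
theorem s0_f241r : ed sl_gf sq60 = sq60 :=
  edge_flip (s0_f241 IH)
theorem s0_f242r : ed sl_cf sq60 = sq107 :=
  edge_flip (s0_f242 IH)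
theorem s0_f243r : ed sl_df sq107 = sq173 :=
  edge_flip (s0_f243 IH)
theorem s0_f3172 : ed sl_ff sq173 = s0_v313 :=
  gap_rel s0_rot24 (path_edge (s0_f243r IH) (path_edge (s0_f242r IH) (path_edge (s0_f241r IH) (path_edge (s0_f240r IH) (path_edge (s0_f239r IH) (path_edge (s0_f238r IH) (path_edge (s0_f237r IH) (path_edge (s0_f236r IH) (path_edge (s0_f179r IH) (path_edge (s0_f222r IH) (path_edge (s0_f1688r IH) (path_edge (s0_f3055r IH) (path_edge (s0_f3162r IH) (path_edge (s0_f3167r IH) (path_edge (s0_f3170r IH) (path_nil s0_v313))))))))))))))))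
theorem s0_f3173 : ed sl_bt sq173 = sq173 :=
  real_edge rels S fwd inv o lvl plet idx 27 IH Gen.b sp173 sp173 rfl rfl
theorem s0_f3174 : ed sl_et sq173 = sq262 :=
  real_edge rels S fwd inv o lvl plet idx 27 IH Gen.e sp173 sp262 rfl rfl
theorem s0_f3172r : ed sl_ft s0_v313 = sq173 :=
  edge_flip (s0_f3172 IH)
theorem s0_f3175 : ed sl_ft sq173 = s0_v313 :=
  gap_rel s0_rot25 (path_edge (s0_f3172r IH) (path_nil s0_v313))
theorem s0_f3176 : ed sl_et sq262 = sq173 :=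
  real_edge rels S fwd inv o lvl plet idx 27 IH Gen.e sp262 sp173 rfl rfl
theorem s0_f3175r : ed sl_ff s0_v313 = sq173 :=
  edge_flip (s0_f3175 IH)
theorem s0_f3173r : ed sl_bf sq173 = sq173 :=
  edge_flip (s0_f3173 IH)
theorem s0_f3178 : ed sl_bf s0_v313 = s0_v313 :=
  gap_rel s0_rot50 (path_edge (s0_f3172 IH) (path_edge (s0_f3173r IH) (path_edge (s0_f3175r IH) (path_nil s0_v313))))
theorem s0_f875r : ed sl_ff sq107 = sq107 :=
  edge_flip (s0_f875 IH)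
theorem s0_f3179 : ed sl_df s0_v313 = s0_v313 :=
  gap_rel s0_rot51 (path_edge (s0_f3172 IH) (path_edge (s0_f243r IH) (path_edge (s0_f875r IH) (path_edge (s0_f876r IH) (path_edge (s0_f3175r IH) (path_nil s0_v313))))))
theorem s0_f3178r : ed sl_bt s0_v313 = s0_v313 :=
  edge_flip (s0_f3178 IH)
theorem s0_f3171r : ed sl_gt s0_v313 = s0_v312 :=
  edge_flip (s0_f3171 IH)
theorem s0_f3180 : ed sl_bt s0_v312 = s0_v312 :=
  gap_rel s0_rot52 (path_edge (s0_f3171r IH) (path_edge (s0_f3178r IH) (path_edge (s0_f3170 IH) (path_nil s0_v312))))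
theorem s0_f3188 : ed sl_ct sq105 = s0_v316 :=
  rfl
theorem s0_f3188r : ed sl_cf s0_v316 = sq105 :=
  edge_flip (s0_f3188 IH)
theorem s0_f3189 : ed sl_cf sq105 = s0_v316 :=
  gap_rel s0_rot0 (path_edge (s0_f3188r IH) (path_nil s0_v316))
theorem s0_f3191 : ed sl_ff s0_v94 = s0_v316 :=
  gap_rel s0_rot33 (path_edge (s0_f1376 IH) (path_edge (s0_f1324 IH) (path_edge (s0_f3188r IH) (path_nil s0_v316))))
theorem s0_f3197 : ed sl_et sq106 = s0_v317 :=
  rfl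
theorem s0_f3197r : ed sl_ef s0_v317 = sq106 :=
  edge_flip (s0_f3197 IH)
theorem s0_f3200 : ed sl_ff s0_v69 = s0_v317 :=
  gap_rel s0_rot53 (path_edge (s0_f1315r IH) (path_edge (s0_f1312 IH) (path_edge (s0_f3197r IH) (path_nil s0_v317))))
theorem s0_f66r : ed sl_ef sq59 = sq105 :=
  edge_flip (s0_f66 IH)
theorem s0_f3201 : ed sl_gf sq105 = s0_v317 :=
  gap_rel s0_rot54 (path_edge (s0_f66r IH) (path_edge (s0_f93r IH) (path_edge (s0_f3197r IH) (path_nil s0_v317))))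
theorem s0_f3202 : ed sl_ft s0_v69 = s0_v317 :=
  gap_rel s0_rot14 (path_edge (s0_f958 IH) (path_edge (s0_f850 IH) (path_edge (s0_f67 IH) (path_edge (s0_f3197r IH) (path_nil s0_v317)))))
theorem s0_f3202r : ed sl_ff s0_v317 = s0_v69 :=
  edge_flip (s0_f3202 IH)
theorem s0_f3203 : ed sl_af s0_v317 = s0_v317 :=
  gap_rel s0_rot55 (path_edge (s0_f3200 IH) (path_edge (s0_f959 IH) (path_edge (s0_f3202r IH) (path_nil s0_v317))))
theorem s0_f3203r : ed sl_at s0_v317 = s0_v317 :=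
  edge_flip (s0_f3203 IH)
theorem s0_f3201r : ed sl_gt s0_v317 = sq105 :=
  edge_flip (s0_f3201 IH)
theorem s0_f3205 : ed sl_gt sq105 = s0_v317 :=
  gap_rel s0_rot56 (path_edge (s0_f69 IH) (path_edge (s0_f3201r IH) (path_edge (s0_f3203r IH) (path_nil s0_v317))))
theorem s0_f3768 : ed sl_gt sq468 = s0_v337 :=
  rfl
theorem s0_f3768r : ed sl_gf s0_v337 = sq468 :=
  edge_flip (s0_f3768 IH)
theorem s0_f3771 : ed sl_gf sq468 = s0_v337 :=
  gap_rel s0_rot1 (path_edge (s0_f3768r IH) (path_nil s0_v337))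
theorem s0_f3772 : ed sl_at sq468 = sq319 :=
  real_edge rels S fwd inv o lvl plet idx 27 IH Gen.a sp468 sp319 rfl rfl
theorem s0_f4263 : ed sl_ct sq214 = sq136 :=
  real_edge rels S fwd inv o lvl plet idx 27 IH Gen.c sp214 sp136 rfl rfl
theorem s0_f4269 : ed sl_ft sq332 = sq214 :=
  real_edge rels S fwd inv o lvl plet idx 27 IH Gen.f sp332 sp214 rfl rfl
theorem s0_f4274 : ed sl_gt sq136 = sq216 :=
  real_edge rels S fwd inv o lvl plet idx 27 IH Gen.g sp136 sp216 rfl rfl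
theorem s0_f4280 : ed sl_et sq215 = sq136 :=
  real_edge rels S fwd inv o lvl plet idx 27 IH Gen.e sp215 sp136 rfl rfl
theorem s0_f4283 : ed sl_ft s0_v198 = s0_v398 :=
  rfl
theorem s0_f4292 : ed sl_dt s0_v398 = s0_v399 :=
  rfl
theorem s0_f4295 : ed sl_ct s0_v399 = s0_v400 :=
  rfl
theorem s0_f4298 : ed sl_gt s0_v400 = s0_v401 :=
  rfl
theorem s0_f4301 : ed sl_ft s0_v401 = s0_v402 :=
  rfl
theorem s0_f4304 : ed sl_dt s0_v402 = s0_v403 :=
  rfl
theorem s0_f4304r : ed sl_df s0_v403 = s0_v402 :=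
  edge_flip (s0_f4304 IH)
theorem s0_f4301r : ed sl_ff s0_v402 = s0_v401 :=
  edge_flip (s0_f4301 IH)
theorem s0_f4298r : ed sl_gf s0_v401 = s0_v400 :=
  edge_flip (s0_f4298 IH)
theorem s0_f4295r : ed sl_cf s0_v400 = s0_v399 :=
  edge_flip (s0_f4295 IH)
theorem s0_f4292r : ed sl_df s0_v399 = s0_v398 :=
  edge_flip (s0_f4292 IH)
theorem s0_f4283r : ed sl_ff s0_v398 = s0_v198 :=
  edge_flip (s0_f4283 IH)
theorem s0_f2442r : ed sl_gf s0_v198 = s0_v177 :=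
  edge_flip (s0_f2442 IH)
theorem s0_f622r : ed sl_df s0_v38 = sq46 :=
  edge_flip (s0_f622 IH)
theorem s0_f627r : ed sl_ff sq46 = sq82 :=
  edge_flip (s0_f627 IH)
theorem s0_f629r : ed sl_gf sq82 = sq78 :=
  edge_flip (s0_f629 IH)
theorem s0_f630r : ed sl_cf sq78 = sq78 :=
  edge_flip (s0_f630 IH)
theorem s0_f631r : ed sl_df sq78 = sq136 :=
  edge_flip (s0_f631 IH)
theorem s0_f632r : ed sl_ff sq136 = sq212 :=
  edge_flip (s0_f632 IH)
theorem s0_f633r : ed sl_gf sq212 = sq333 :=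
  edge_flip (s0_f633 IH)
theorem s0_f4306 : ed sl_cf sq333 = s0_v403 :=
  gap_rel s0_rot26 (path_edge (s0_f633r IH) (path_edge (s0_f632r IH) (path_edge (s0_f631r IH) (path_edge (s0_f630r IH) (path_edge (s0_f629r IH) (path_edge (s0_f627r IH) (path_edge (s0_f622r IH) (path_edge (s0_f2335r IH) (path_edge (s0_f2442r IH) (path_edge (s0_f4283r IH) (path_edge (s0_f4292r IH) (path_edge (s0_f4295r IH) (path_edge (s0_f4298r IH) (path_edge (s0_f4301r IH) (path_edge (s0_f4304r IH) (path_nil s0_v403))))))))))))))))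
theorem s0_f4311 : ed sl_et sq333 = sq337 :=
  real_edge rels S fwd inv o lvl plet idx 27 IH Gen.e sp333 sp337 rfl rfl
theorem s0_f4312 : ed sl_ft sq333 = sq336 :=
  real_edge rels S fwd inv o lvl plet idx 27 IH Gen.f sp333 sp336 rfl rfl
theorem s0_f4306r : ed sl_ct s0_v403 = sq333 :=
  edge_flip (s0_f4306 IH)
theorem s0_f4313 : ed sl_gt sq332 = s0_v403 :=
  gap_rel s0_rot5 (path_edge (s0_f1295 IH) (path_edge (s0_f633 IH) (path_edge (s0_f4306r IH) (path_nil s0_v403))))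
theorem s0_f4313r : ed sl_gf s0_v403 = sq332 :=
  edge_flip (s0_f4313 IH)
theorem s0_f4319 : ed sl_gf sq332 = s0_v403 :=
  gap_rel s0_rot1 (path_edge (s0_f4313r IH) (path_nil s0_v403))
theorem s0_f4324 : ed sl_et sq337 = sq333 :=
  real_edge rels S fwd inv o lvl plet idx 27 IH Gen.e sp337 sp333 rfl rfl
theorem s0_f4326 : ed sl_at sq337 = sq337 :=
  real_edge rels S fwd inv o lvl plet idx 27 IH Gen.a sp337 sp337 rfl rfl
theorem s0_f4348 : ed sl_gt sq214 = s0_v407 :=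
  rfl
theorem s0_f4348r : ed sl_gf s0_v407 = sq214 :=
  edge_flip (s0_f4348 IH)
theorem s0_f4350 : ed sl_gf sq214 = s0_v407 :=
  gap_rel s0_rot1 (path_edge (s0_f4348r IH) (path_nil s0_v407))
theorem s0_f4350r : ed sl_gt s0_v407 = sq214 :=
  edge_flip (s0_f4350 IH)
theorem s0_f4352 : ed sl_ct sq216 = s0_v407 :=
  gap_rel s0_rot2 (path_edge (s0_f4274 IH) (path_edge (s0_f4263 IH) (path_edge (s0_f4350r IH) (path_nil s0_v407))))
theorem s0_f4355 : ed sl_et sq216 = sq336 :=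
  real_edge rels S fwd inv o lvl plet idx 27 IH Gen.e sp216 sp336 rfl rfl
theorem s0_f4366 : ed sl_ft s0_v407 = s0_v408 :=
  rfl
theorem s0_f4366r : ed sl_ff s0_v408 = s0_v407 :=
  edge_flip (s0_f4366 IH)
theorem s0_f4352r : ed sl_cf s0_v407 = sq216 :=
  edge_flip (s0_f4352 IH)
theorem s0_f1240r : ed sl_ff sq216 = sq337 :=
  edge_flip (s0_f1240 IH)
theorem s0_f4367 : ed sl_cf sq337 = s0_v408 :=
  gap_rel s0_rot57 (path_edge (s0_f1240r IH) (path_edge (s0_f4352r IH) (path_edge (s0_f4366r IH) (path_nil s0_v408))))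
theorem s0_f4269r : ed sl_ff sq214 = sq332 :=
  edge_flip (s0_f4269 IH)
theorem s0_f4369 : ed sl_et s0_v403 = s0_v408 :=
  gap_rel s0_rot19 (path_edge (s0_f4319 IH) (path_edge (s0_f4269r IH) (path_edge (s0_f4348r IH) (path_edge (s0_f4366r IH) (path_nil s0_v408)))))
theorem s0_f4369r : ed sl_ef s0_v408 = s0_v403 :=
  edge_flip (s0_f4369 IH)
theorem s0_f4370 : ed sl_ef s0_v403 = s0_v408 :=
  gap_rel s0_rot13 (path_edge (s0_f4369r IH) (path_nil s0_v408))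
theorem s0_f4370r : ed sl_et s0_v408 = s0_v403 :=
  edge_flip (s0_f4370 IH)
theorem s0_f4372 : ed sl_ct sq337 = s0_v408 :=
  gap_rel s0_rot58 (path_edge (s0_f4311 IH) (path_edge (s0_f4306r IH) (path_edge (s0_f4370r IH) (path_nil s0_v408))))
theorem s0_f4417 : ed sl_ct sq138 = s0_v417 :=
  rfl
theorem s0_f4417r : ed sl_cf s0_v417 = sq138 :=
  edge_flip (s0_f4417 IH)
theorem s0_f4418 : ed sl_cf sq138 = s0_v417 :=
  gap_rel s0_rot0 (path_edge (s0_f4417r IH) (path_nil s0_v417))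
theorem s0_f4419 : ed sl_ct sq335 = sq215 :=
  real_edge rels S fwd inv o lvl plet idx 27 IH Gen.c sp335 sp215 rfl rfl
theorem s0_f4422 : ed sl_at sq215 = sq215 :=
  real_edge rels S fwd inv o lvl plet idx 27 IH Gen.a sp215 sp215 rfl rfl
theorem s0_f4511 : ed sl_ct sq544 = sq340 :=
  real_edge rels S fwd inv o lvl plet idx 27 IH Gen.c sp544 sp340 rfl rfl
theorem s0_f4513 : ed sl_ct s0_v85 = s0_v435 :=
  rfl
theorem s0_f4513r : ed sl_cf s0_v435 = s0_v85 :=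
  edge_flip (s0_f4513 IH)
theorem s0_f1276r : ed sl_cf sq85 = sq143 :=
  edge_flip (s0_f1276 IH)
theorem s0_f4516 : ed sl_ff sq143 = s0_v435 :=
  gap_rel s0_rot33 (path_edge (s0_f1276r IH) (path_edge (s0_f1272r IH) (path_edge (s0_f4513r IH) (path_nil s0_v435))))
theorem s0_f4517 : ed sl_gf s0_v109 = s0_v435 :=
  gap_rel s0_rot9 (path_edge (s0_f1482r IH) (path_edge (s0_f1484 IH) (path_edge (s0_f4513r IH) (path_nil s0_v435))))
theorem s0_f4517r : ed sl_gt s0_v435 = s0_v109 :=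
  edge_flip (s0_f4517 IH)
theorem s0_f4518 : ed sl_gt s0_v109 = s0_v435 :=
  gap_rel s0_rot6 (path_edge (s0_f4517r IH) (path_nil s0_v435))
theorem s0_f4518r : ed sl_gf s0_v435 = s0_v109 :=
  edge_flip (s0_f4518 IH)
theorem s0_f1481r : ed sl_af s0_v109 = s0_v109 :=
  edge_flip (s0_f1481 IH)
theorem s0_f4519 : ed sl_af s0_v435 = s0_v435 :=
  gap_rel s0_rot7 (path_edge (s0_f4517 IH) (path_edge (s0_f1481r IH) (path_edge (s0_f4518r IH) (path_nil s0_v435))))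
theorem s0_f4519r : ed sl_at s0_v435 = s0_v435 :=
  edge_flip (s0_f4519 IH)
theorem s0_f4516r : ed sl_ft s0_v435 = sq143 :=
  edge_flip (s0_f4516 IH)
theorem s0_f4521 : ed sl_ft sq143 = s0_v435 :=
  gap_rel s0_rot59 (path_edge (s0_f1440 IH) (path_edge (s0_f4516r IH) (path_edge (s0_f4519r IH) (path_nil s0_v435))))
theorem s0_f4522 : ed sl_dt s0_v435 = s0_v436 :=
  rfl
theorem s0_f4522r : ed sl_df s0_v436 = s0_v435 :=
  edge_flip (s0_f4522 IH)
theorem s0_f4523 : ed sl_df s0_v435 = s0_v436 :=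
  gap_rel s0_rot3 (path_edge (s0_f4522r IH) (path_nil s0_v436))
theorem s0_f4523r : ed sl_dt s0_v436 = s0_v435 :=
  edge_flip (s0_f4523 IH)
theorem s0_f4524 : ed sl_at s0_v436 = s0_v436 :=
  gap_rel s0_rot10 (path_edge (s0_f4522 IH) (path_edge (s0_f4519r IH) (path_edge (s0_f4523r IH) (path_nil s0_v436))))
theorem s0_f4525 : ed sl_ct s0_v436 = s0_v437 :=
  rfl
theorem s0_f4525r : ed sl_cf s0_v437 = s0_v436 :=
  edge_flip (s0_f4525 IH)
theorem s0_f4526 : ed sl_cf s0_v436 = s0_v437 :=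
  gap_rel s0_rot0 (path_edge (s0_f4525r IH) (path_nil s0_v437))
theorem s0_f4526r : ed sl_ct s0_v437 = s0_v436 :=
  edge_flip (s0_f4526 IH)
theorem s0_f4527 : ed sl_at s0_v437 = s0_v437 :=
  gap_rel s0_rot12 (path_edge (s0_f4525 IH) (path_edge (s0_f4524 IH) (path_edge (s0_f4526r IH) (path_nil s0_v437))))
theorem s0_f4528 : ed sl_dt s0_v437 = s0_v438 :=
  rfl
theorem s0_f4531 : ed sl_ct s0_v438 = s0_v439 :=
  rfl
theorem s0_f4531r : ed sl_cf s0_v439 = s0_v438 :=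
  edge_flip (s0_f4531 IH)
theorem s0_f4528r : ed sl_df s0_v438 = s0_v437 :=
  edge_flip (s0_f4528 IH)
theorem s0_f1283r : ed sl_df s0_v85 = sq83 :=
  edge_flip (s0_f1283 IH)
theorem s0_f725r : ed sl_cf sq83 = sq134 :=
  edge_flip (s0_f725 IH)
theorem s0_f711r : ed sl_df sq134 = sq212 :=
  edge_flip (s0_f711 IH)
theorem s0_f1285r : ed sl_cf sq212 = sq332 :=
  edge_flip (s0_f1285 IH)
theorem s0_f4533 : ed sl_df sq332 = s0_v439 :=
  gap_rel s0_rot45 (path_edge (s0_f1285r IH) (path_edge (s0_f711r IH) (path_edge (s0_f725r IH) (path_edge (s0_f1283r IH) (path_edge (s0_f4513r IH) (path_edge (s0_f4522r IH) (path_edge (s0_f4525r IH) (path_edge (s0_f4527 IH) (path_edge (s0_f4528r IH) (path_edge (s0_f4531r IH) (path_nil s0_v439)))))))))))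
theorem s0_f4536 : ed sl_et sq212 = s0_v440 :=
  rfl
theorem s0_f4536r : ed sl_ef s0_v440 = sq212 :=
  edge_flip (s0_f4536 IH)
theorem s0_f726r : ed sl_ff sq212 = sq136 :=
  edge_flip (s0_f726 IH)
theorem s0_f4280r : ed sl_ef sq136 = sq215 :=
  edge_flip (s0_f4280 IH)
theorem s0_f4539 : ed sl_ff sq215 = s0_v440 :=
  gap_rel s0_rot53 (path_edge (s0_f4280r IH) (path_edge (s0_f726r IH) (path_edge (s0_f4536r IH) (path_nil s0_v440))))
theorem s0_f4324r : ed sl_ef sq333 = sq337 :=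
  edge_flip (s0_f4324 IH)
theorem s0_f4540 : ed sl_gf sq337 = s0_v440 :=
  gap_rel s0_rot54 (path_edge (s0_f4324r IH) (path_edge (s0_f633r IH) (path_edge (s0_f4536r IH) (path_nil s0_v440))))
theorem s0_f4541 : ed sl_gt sq336 = sq215 :=
  real_edge rels S fwd inv o lvl plet idx 27 IH Gen.g sp336 sp215 rfl rfl
theorem s0_f4542 : ed sl_ft sq215 = s0_v440 :=
  gap_rel s0_rot14 (path_edge (s0_f4541 IH) (path_edge (s0_f4312 IH) (path_edge (s0_f757 IH) (path_edge (s0_f4536r IH) (path_nil s0_v440)))))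
theorem s0_f4542r : ed sl_ff s0_v440 = sq215 :=
  edge_flip (s0_f4542 IH)
theorem s0_f4422r : ed sl_af sq215 = sq215 :=
  edge_flip (s0_f4422 IH)
theorem s0_f4546 : ed sl_af s0_v440 = s0_v440 :=
  gap_rel s0_rot55 (path_edge (s0_f4539 IH) (path_edge (s0_f4422r IH) (path_edge (s0_f4542r IH) (path_nil s0_v440))))
theorem s0_f4546r : ed sl_at s0_v440 = s0_v440 :=
  edge_flip (s0_f4546 IH)
theorem s0_f4540r : ed sl_gt s0_v440 = sq337 :=
  edge_flip (s0_f4540 IH)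
theorem s0_f4548 : ed sl_gt sq337 = s0_v440 :=
  gap_rel s0_rot56 (path_edge (s0_f4326 IH) (path_edge (s0_f4540r IH) (path_edge (s0_f4546r IH) (path_nil s0_v440))))
theorem s0_f4549 : ed sl_gt sq215 = sq336 :=
  real_edge rels S fwd inv o lvl plet idx 27 IH Gen.g sp215 sp336 rfl rfl
theorem s0_f4557 : ed sl_dt s0_v440 = s0_v441 :=
  rfl
theorem s0_f4557r : ed sl_df s0_v441 = s0_v440 :=
  edge_flip (s0_f4557 IH)
theorem s0_f4558 : ed sl_df s0_v440 = s0_v441 :=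
  gap_rel s0_rot3 (path_edge (s0_f4557r IH) (path_nil s0_v441))
theorem s0_f1373r : ed sl_df sq215 = sq138 :=
  edge_flip (s0_f1373 IH)
theorem s0_f1372r : ed sl_ff sq138 = sq87 :=
  edge_flip (s0_f1372 IH)
theorem s0_f4560 : ed sl_ff s0_v93 = s0_v441 :=
  gap_rel s0_rot60 (path_edge (s0_f1349 IH) (path_edge (s0_f1372r IH) (path_edge (s0_f1373r IH) (path_edge (s0_f4542r IH) (path_edge (s0_f4557r IH) (path_nil s0_v441))))))
theorem s0_f4677 : ed sl_ct s0_v197 = s0_v464 :=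
  rfl
theorem s0_f4677r : ed sl_cf s0_v464 = s0_v197 :=
  edge_flip (s0_f4677 IH)
theorem s0_f2437r : ed sl_gf s0_v197 = sq85 :=
  edge_flip (s0_f2437 IH)
theorem s0_f4679 : ed sl_gf sq143 = s0_v464 :=
  gap_rel s0_rot9 (path_edge (s0_f1276r IH) (path_edge (s0_f2437r IH) (path_edge (s0_f4677r IH) (path_nil s0_v464))))
theorem s0_f4521r : ed sl_ff s0_v435 = sq143 :=
  edge_flip (s0_f4521 IH)
theorem s0_f2432r : ed sl_ff s0_v196 = s0_v65 :=
  edge_flip (s0_f2432 IH)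
theorem s0_f1765r : ed sl_df s0_v130 = sq106 :=
  edge_flip (s0_f1765 IH)
theorem s0_f1381r : ed sl_df s0_v94 = sq88 :=
  edge_flip (s0_f1381 IH)
theorem s0_f1385r : ed sl_ff sq88 = sq147 :=
  edge_flip (s0_f1385 IH)
theorem s0_f1387r : ed sl_gf sq147 = sq138 :=
  edge_flip (s0_f1387 IH)
theorem s0_f4680 : s0_v417 = s0_v436 :=
  (loop_rel s0_rot26 (path_edge (s0_f4418 IH) (path_edge (s0_f1387r IH) (path_edge (s0_f1385r IH) (path_edge (s0_f1381r IH) (path_edge (s0_f1376 IH) (path_edge (s0_f1323 IH) (path_edge (s0_f1312 IH) (path_edge (s0_f1765r IH) (path_edge (s0_f1760 IH) (path_edge (s0_f947 IH) (path_edge (s0_f2432r IH) (path_edge (s0_f2434r IH) (path_edge (s0_f4677r IH) (path_edge (s0_f4679 IH) (path_edge (s0_f4521r IH) (path_edge (s0_f4522r IH) (path_nil s0_v436)))))))))))))))))).symm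
theorem s0_f4418r : ed sl_ct s0_v417 = sq138 :=
  edge_flip (s0_f4418 IH)
theorem s0_f4681 : s0_v437 = sq138 :=
  edge_fun (edge_congr (s0_f4525 IH) (s0_f4680 IH).symm) (s0_f4418r IH)
theorem s0_f4682 : s0_v438 = sq215 :=
  edge_fun (edge_congr (s0_f4528 IH) (s0_f4681 IH)) (s0_f1373 IH)
theorem s0_f4683 : s0_v439 = sq335 :=
  edge_fun (edge_congr (s0_f4531 IH) (s0_f4682 IH)) (s0_f2489 IH)
theorem s0_f4758 : ed sl_et s0_v197 = s0_v465 :=
  rfl
theorem s0_f4758r : ed sl_ef s0_v465 = s0_v197 :=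
  edge_flip (s0_f4758 IH)
theorem s0_f4762 : ed sl_ft s0_v110 = s0_v465 :=
  gap_rel s0_rot14 (path_edge (s0_f1485 IH) (path_edge (s0_f1272 IH) (path_edge (s0_f2436r IH) (path_edge (s0_f4758r IH) (path_nil s0_v465)))))
theorem s0_f4762r : ed sl_ff s0_v465 = s0_v110 :=
  edge_flip (s0_f4762 IH)
theorem s0_f4763 : ed sl_ff s0_v110 = s0_v465 :=
  gap_rel s0_rot15 (path_edge (s0_f4762r IH) (path_nil s0_v465))
theorem s0_f4763r : ed sl_ft s0_v465 = s0_v110 :=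
  edge_flip (s0_f4763 IH)
theorem s0_f4766 : ed sl_gt s0_v93 = s0_v465 :=
  gap_rel s0_rot16 (path_edge (s0_f1350 IH) (path_edge (s0_f1278r IH) (path_edge (s0_f1484r IH) (path_edge (s0_f4763r IH) (path_nil s0_v465)))))
theorem s0_f4767 : ed sl_ft s0_v197 = s0_v466 :=
  rfl
theorem s0_f4767r : ed sl_ff s0_v466 = s0_v197 :=
  edge_flip (s0_f4767 IH)
theorem s0_f4766r : ed sl_gf s0_v465 = s0_v93 :=
  edge_flip (s0_f4766 IH)
theorem s0_f4770 : ed sl_gf s0_v441 = s0_v466 :=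
  gap_rel s0_rot18 (path_edge (s0_f4560 IH) (path_edge (s0_f4766r IH) (path_edge (s0_f4763 IH) (path_edge (s0_f1484 IH) (path_edge (s0_f1278 IH) (path_edge (s0_f2437r IH) (path_edge (s0_f4767r IH) (path_nil s0_v466))))))))
theorem s0_f4774 : ed sl_dt s0_v466 = s0_v467 :=
  rfl
theorem s0_f4774r : ed sl_df s0_v467 = s0_v466 :=
  edge_flip (s0_f4774 IH)
theorem s0_f4775 : ed sl_df s0_v466 = s0_v467 :=
  gap_rel s0_rot3 (path_edge (s0_f4774r IH) (path_nil s0_v467))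
theorem s0_f4776 : ed sl_ff s0_v132 = s0_v467 :=
  gap_rel s0_rot60 (path_edge (s0_f1773 IH) (path_edge (s0_f2432r IH) (path_edge (s0_f2434r IH) (path_edge (s0_f4767r IH) (path_edge (s0_f4774r IH) (path_nil s0_v467))))))
theorem s0_f4776r : ed sl_ft s0_v467 = s0_v132 :=
  edge_flip (s0_f4776 IH)
theorem s0_f4777 : ed sl_ft s0_v132 = s0_v467 :=
  gap_rel s0_rot25 (path_edge (s0_f4776r IH) (path_nil s0_v467))
theorem s0_f4779 : ed sl_ct s0_v467 = s0_v468 :=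
  rfl
theorem s0_f4779r : ed sl_cf s0_v468 = s0_v467 :=
  edge_flip (s0_f4779 IH)
theorem s0_f4777r : ed sl_ff s0_v467 = s0_v132 :=
  edge_flip (s0_f4777 IH)
theorem s0_f4781 : ed sl_ff s0_v131 = s0_v468 :=
  gap_rel s0_rot33 (path_edge (s0_f1771r IH) (path_edge (s0_f4777r IH) (path_edge (s0_f4779r IH) (path_nil s0_v468))))
theorem s0_f4781r : ed sl_ft s0_v468 = s0_v131 :=
  edge_flip (s0_f4781 IH)
theorem s0_f4782 : ed sl_ft s0_v131 = s0_v468 :=
  gap_rel s0_rot25 (path_edge (s0_f4781r IH) (path_nil s0_v468))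
theorem s0_f4782r : ed sl_ff s0_v468 = s0_v131 :=
  edge_flip (s0_f4782 IH)
theorem s0_f1770r : ed sl_af s0_v131 = s0_v131 :=
  edge_flip (s0_f1770 IH)
theorem s0_f4783 : ed sl_af s0_v468 = s0_v468 :=
  gap_rel s0_rot55 (path_edge (s0_f4781 IH) (path_edge (s0_f1770r IH) (path_edge (s0_f4782r IH) (path_nil s0_v468))))
theorem s0_f4784 : ed sl_gt s0_v468 = s0_v469 :=
  rfl
theorem s0_f4784r : ed sl_gf s0_v469 = s0_v468 :=
  edge_flip (s0_f4784 IH)
theorem s0_f4785 : ed sl_gf s0_v468 = s0_v469 :=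
  gap_rel s0_rot1 (path_edge (s0_f4784r IH) (path_nil s0_v469))
theorem s0_f4785r : ed sl_gt s0_v469 = s0_v468 :=
  edge_flip (s0_f4785 IH)
theorem s0_f4783r : ed sl_at s0_v468 = s0_v468 :=
  edge_flip (s0_f4783 IH)
theorem s0_f4786 : ed sl_at s0_v469 = s0_v469 :=
  gap_rel s0_rot29 (path_edge (s0_f4784 IH) (path_edge (s0_f4783r IH) (path_edge (s0_f4785r IH) (path_nil s0_v469))))
theorem s0_f4787 : ed sl_ft s0_v469 = s0_v470 :=
  rfl
theorem s0_f4787r : ed sl_ff s0_v470 = s0_v469 :=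
  edge_flip (s0_f4787 IH)
theorem s0_f4788 : ed sl_ff s0_v469 = s0_v470 :=
  gap_rel s0_rot15 (path_edge (s0_f4787r IH) (path_nil s0_v470))
theorem s0_f4992 : ed sl_ft sq226 = s0_v510 :=
  rfl
theorem s0_f4992r : ed sl_ff s0_v510 = sq226 :=
  edge_flip (s0_f4992 IH)
theorem s0_f808r : ed sl_df sq226 = sq147 :=
  edge_flip (s0_f808 IH)
theorem s0_f807r : ed sl_ff sq147 = sq88 :=
  edge_flip (s0_f807 IH)
theorem s0_f4994 : ed sl_df s0_v316 = s0_v510 :=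
  gap_rel s0_rot51 (path_edge (s0_f3191 IH) (path_edge (s0_f1377 IH) (path_edge (s0_f807r IH) (path_edge (s0_f808r IH) (path_edge (s0_f4992r IH) (path_nil s0_v510))))))
theorem s0_f4995 : ed sl_ff sq226 = s0_v510 :=
  gap_rel s0_rot15 (path_edge (s0_f4992r IH) (path_nil s0_v510))
theorem s0_f5547 : ed sl_at sq257 = sq257 :=
  real_edge rels S fwd inv o lvl plet idx 27 IH Gen.a sp257 sp257 rfl rfl
theorem s0_f5622 : ed sl_dt sq260 = s0_v594 :=
  rfl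
theorem s0_f5622r : ed sl_df s0_v594 = sq260 :=
  edge_flip (s0_f5622 IH)
theorem s0_f5623 : ed sl_df sq260 = s0_v594 :=
  gap_rel s0_rot3 (path_edge (s0_f5622r IH) (path_nil s0_v594))
theorem s0_f1722r : ed sl_gf sq260 = sq171 :=
  edge_flip (s0_f1722 IH)
theorem s0_f254r : ed sl_df sq171 = sq101 :=
  edge_flip (s0_f254 IH)
theorem s0_f859r : ed sl_df sq98 = sq168 :=
  edge_flip (s0_f859 IH)
theorem s0_f5624 : ed sl_gf sq168 = s0_v594 :=
  gap_rel s0_rot11 (path_edge (s0_f859r IH) (path_edge (s0_f1687r IH) (path_edge (s0_f254r IH) (path_edge (s0_f1722r IH) (path_edge (s0_f5622r IH) (path_nil s0_v594))))))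
theorem s0_f5624r : ed sl_gt s0_v594 = sq168 :=
  edge_flip (s0_f5624 IH)
theorem s0_f5625 : ed sl_gt sq168 = s0_v594 :=
  gap_rel s0_rot6 (path_edge (s0_f5624r IH) (path_nil s0_v594))
theorem s0_f5802 : ed sl_et sq171 = sq259 :=
  real_edge rels S fwd inv o lvl plet idx 27 IH Gen.e sp171 sp259 rfl rfl
theorem s0_f5807 : ed sl_ft sq259 = sq259 :=
  real_edge rels S fwd inv o lvl plet idx 27 IH Gen.f sp259 sp259 rfl rfl
theorem s0_f5849 : ed sl_ct sq389 = s0_v632 :=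
  rfl
theorem s0_f5849r : ed sl_cf s0_v632 = sq389 :=
  edge_flip (s0_f5849 IH)
theorem s0_f5850 : ed sl_cf sq389 = s0_v632 :=
  gap_rel s0_rot0 (path_edge (s0_f5849r IH) (path_nil s0_v632))
theorem s0_f5850r : ed sl_ct s0_v632 = sq389 :=
  edge_flip (s0_f5850 IH)
theorem s0_f5851 : ed sl_at s0_v632 = s0_v632 :=
  gap_rel s0_rot12 (path_edge (s0_f5849 IH) (path_edge (s0_f3053 IH) (path_edge (s0_f5850r IH) (path_nil s0_v632))))
theorem s0_f5852 : ed sl_dt s0_v632 = s0_v633 :=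
  rfl
theorem s0_f5852r : ed sl_df s0_v633 = s0_v632 :=
  edge_flip (s0_f5852 IH)
theorem s0_f5853 : ed sl_df s0_v632 = s0_v633 :=
  gap_rel s0_rot3 (path_edge (s0_f5852r IH) (path_nil s0_v633))
theorem s0_f5855 : ed sl_ct s0_v633 = s0_v634 :=
  rfl
theorem s0_f5855r : ed sl_cf s0_v634 = s0_v633 :=
  edge_flip (s0_f5855 IH)
theorem s0_f5856 : ed sl_cf s0_v633 = s0_v634 :=
  gap_rel s0_rot0 (path_edge (s0_f5855r IH) (path_nil s0_v634))
theorem s0_f1724r : ed sl_df sq389 = sq258 :=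
  edge_flip (s0_f1724 IH)
theorem s0_f255r : ed sl_cf sq258 = sq171 :=
  edge_flip (s0_f255 IH)
theorem s0_f5857 : ed sl_df s0_v312 = s0_v634 :=
  gap_rel s0_rot45 (path_edge (s0_f3168 IH) (path_edge (s0_f3163 IH) (path_edge (s0_f3048 IH) (path_edge (s0_f254r IH) (path_edge (s0_f255r IH) (path_edge (s0_f1724r IH) (path_edge (s0_f5849r IH) (path_edge (s0_f5851 IH) (path_edge (s0_f5852r IH) (path_edge (s0_f5855r IH) (path_nil s0_v634)))))))))))
theorem s0_f5857r : ed sl_dt s0_v634 = s0_v312 :=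
  edge_flip (s0_f5857 IH)
theorem s0_f5858 : ed sl_dt s0_v312 = s0_v634 :=
  gap_rel s0_rot61 (path_edge (s0_f5857r IH) (path_nil s0_v634))
theorem s0_f3179r : ed sl_dt s0_v313 = s0_v313 :=
  edge_flip (s0_f3179 IH)
theorem s0_f5859 : ed sl_gt s0_v634 = s0_v634 :=
  gap_rel s0_rot62 (path_edge (s0_f5858 IH) (path_edge (s0_f3171r IH) (path_edge (s0_f3179r IH) (path_edge (s0_f3170 IH) (path_edge (s0_f5857r IH) (path_nil s0_v634))))))
theorem s0_f5859r : ed sl_gf s0_v634 = s0_v634 :=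
  edge_flip (s0_f5859 IH)
theorem s0_f5861 : ed sl_gf s0_v633 = s0_v633 :=
  gap_rel s0_rot9 (path_edge (s0_f5855r IH) (path_edge (s0_f5859r IH) (path_edge (s0_f5856 IH) (path_nil s0_v633))))
theorem s0_f5889 : ed sl_ct s0_v61 = s0_v637 :=
  rfl
theorem s0_f5889r : ed sl_cf s0_v637 = s0_v61 :=
  edge_flip (s0_f5889 IH)
theorem s0_f892r : ed sl_ff s0_v61 = s0_v60 :=
  edge_flip (s0_f892 IH)
theorem s0_f888r : ed sl_cf s0_v60 = sq263 :=
  edge_flip (s0_f888 IH)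
theorem s0_f5892 : ed sl_ff sq263 = s0_v637 :=
  gap_rel s0_rot33 (path_edge (s0_f888r IH) (path_edge (s0_f892r IH) (path_edge (s0_f5889r IH) (path_nil s0_v637))))
theorem s0_f5892r : ed sl_ft s0_v637 = sq263 :=
  edge_flip (s0_f5892 IH)
theorem s0_f5893 : ed sl_ft sq263 = s0_v637 :=
  gap_rel s0_rot25 (path_edge (s0_f5892r IH) (path_nil s0_v637))
theorem s0_f5893r : ed sl_ff s0_v637 = sq263 :=
  edge_flip (s0_f5893 IH)
theorem s0_f887r : ed sl_gf sq263 = sq173 :=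
  edge_flip (s0_f887 IH)
theorem s0_f5896 : ed sl_et s0_v312 = s0_v637 :=
  gap_rel s0_rot19 (path_edge (s0_f3170r IH) (path_edge (s0_f3172 IH) (path_edge (s0_f887r IH) (path_edge (s0_f5893r IH) (path_nil s0_v637)))))
theorem s0_f5903 : ed sl_bt sq262 = sq262 :=
  real_edge rels S fwd inv o lvl plet idx 27 IH Gen.b sp262 sp262 rfl rfl
theorem s0_f5908 : ed sl_ct sq262 = s0_v639 :=
  rfl
theorem s0_f5908r : ed sl_cf s0_v639 = sq262 :=
  edge_flip (s0_f5908 IH)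
theorem s0_f5909 : ed sl_cf sq262 = s0_v639 :=
  gap_rel s0_rot0 (path_edge (s0_f5908r IH) (path_nil s0_v639))
theorem s0_f3174r : ed sl_ef sq262 = sq173 :=
  edge_flip (s0_f3174 IH)
theorem s0_f886r : ed sl_cf sq173 = sq261 :=
  edge_flip (s0_f886 IH)
theorem s0_f5910 : ed sl_ef sq261 = s0_v639 :=
  gap_rel s0_rot34 (path_edge (s0_f886r IH) (path_edge (s0_f3174r IH) (path_edge (s0_f5908r IH) (path_nil s0_v639))))
theorem s0_f5910r : ed sl_et s0_v639 = sq261 :=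
  edge_flip (s0_f5910 IH)
theorem s0_f5912 : ed sl_et sq261 = s0_v639 :=
  gap_rel s0_rot40 (path_edge (s0_f5910r IH) (path_nil s0_v639))
theorem s0_f5937 : ed sl_et sq257 = s0_v645 :=
  rfl
theorem s0_f5937r : ed sl_ef s0_v645 = sq257 :=
  edge_flip (s0_f5937 IH)
theorem s0_f2825r : ed sl_ff sq257 = sq168 :=
  edge_flip (s0_f2825 IH)
theorem s0_f5940 : ed sl_ff s0_v269 = s0_v645 :=
  gap_rel s0_rot53 (path_edge (s0_f2950 IH) (path_edge (s0_f2825r IH) (path_edge (s0_f5937r IH) (path_nil s0_v645))))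
theorem s0_f5940r : ed sl_ft s0_v645 = s0_v269 :=
  edge_flip (s0_f5940 IH)
theorem s0_f5941 : ed sl_ft s0_v269 = s0_v645 :=
  gap_rel s0_rot25 (path_edge (s0_f5940r IH) (path_nil s0_v645))
theorem s0_f5941r : ed sl_ff s0_v645 = s0_v269 :=
  edge_flip (s0_f5941 IH)
theorem s0_f2951r : ed sl_af s0_v269 = s0_v269 :=
  edge_flip (s0_f2951 IH)
theorem s0_f5942 : ed sl_af s0_v645 = s0_v645 :=
  gap_rel s0_rot55 (path_edge (s0_f5940 IH) (path_edge (s0_f2951r IH) (path_edge (s0_f5941r IH) (path_nil s0_v645))))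
theorem s0_f5943 : ed sl_dt s0_v645 = s0_v646 :=
  rfl
theorem s0_f5943r : ed sl_df s0_v646 = s0_v645 :=
  edge_flip (s0_f5943 IH)
theorem s0_f5944 : ed sl_df s0_v645 = s0_v646 :=
  gap_rel s0_rot3 (path_edge (s0_f5943r IH) (path_nil s0_v646))
theorem s0_f2953r : ed sl_df s0_v269 = s0_v89 :=
  edge_flip (s0_f2953 IH)
theorem s0_f1327r : ed sl_ff s0_v89 = sq105 :=
  edge_flip (s0_f1327 IH)
theorem s0_f5946 : ed sl_ff s0_v90 = s0_v646 :=
  gap_rel s0_rot60 (path_edge (s0_f1330 IH) (path_edge (s0_f1327r IH) (path_edge (s0_f2953r IH) (path_edge (s0_f5941r IH) (path_edge (s0_f5943r IH) (path_nil s0_v646))))))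
theorem s0_f6026 : ed sl_et s0_v130 = s0_v661 :=
  rfl
theorem s0_f6026r : ed sl_ef s0_v661 = s0_v130 :=
  edge_flip (s0_f6026 IH)
theorem s0_f402r : ed sl_gt s0_v31 = s0_v30 :=
  edge_flip (s0_f402 IH)
theorem s0_f6030 : ed sl_ft s0_v30 = s0_v661 :=
  gap_rel s0_rot14 (path_edge (s0_f402r IH) (path_edge (s0_f410 IH) (path_edge (s0_f1762r IH) (path_edge (s0_f6026r IH) (path_nil s0_v661)))))
theorem s0_f6030r : ed sl_ff s0_v661 = s0_v30 :=
  edge_flip (s0_f6030 IH)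
theorem s0_f6031 : ed sl_ff s0_v30 = s0_v661 :=
  gap_rel s0_rot15 (path_edge (s0_f6030r IH) (path_nil s0_v661))
theorem s0_f6031r : ed sl_ft s0_v661 = s0_v30 :=
  edge_flip (s0_f6031 IH)
theorem s0_f6034 : ed sl_gt s0_v90 = s0_v661 :=
  gap_rel s0_rot16 (path_edge (s0_f1331 IH) (path_edge (s0_f403r IH) (path_edge (s0_f401 IH) (path_edge (s0_f6031r IH) (path_nil s0_v661)))))
theorem s0_f6035 : ed sl_ft s0_v130 = s0_v662 :=
  rfl
theorem s0_f6035r : ed sl_ff s0_v662 = s0_v130 :=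
  edge_flip (s0_f6035 IH)
theorem s0_f6034r : ed sl_gf s0_v661 = s0_v90 :=
  edge_flip (s0_f6034 IH)
theorem s0_f6039 : ed sl_gf s0_v646 = s0_v662 :=
  gap_rel s0_rot18 (path_edge (s0_f5946 IH) (path_edge (s0_f6034r IH) (path_edge (s0_f6031 IH) (path_edge (s0_f401r IH) (path_edge (s0_f403 IH) (path_edge (s0_f1759r IH) (path_edge (s0_f6035r IH) (path_nil s0_v662))))))))
theorem s0_f6050 : ed sl_dt s0_v662 = s0_v664 :=
  rfl
theorem s0_f6050r : ed sl_df s0_v664 = s0_v662 :=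
  edge_flip (s0_f6050 IH)
theorem s0_f6051 : ed sl_df s0_v662 = s0_v664 :=
  gap_rel s0_rot3 (path_edge (s0_f6050r IH) (path_nil s0_v664))
theorem s0_f6055 : ed sl_ct s0_v664 = s0_v665 :=
  rfl
theorem s0_f6060 : ed sl_gt s0_v665 = s0_v666 :=
  rfl
theorem s0_f6065 : ed sl_ft s0_v666 = s0_v667 :=
  rfl
theorem s0_f6065r : ed sl_ff s0_v667 = s0_v666 :=
  edge_flip (s0_f6065 IH)
theorem s0_f6067 : ed sl_ff s0_v666 = s0_v667 :=
  gap_rel s0_rot15 (path_edge (s0_f6065r IH) (path_nil s0_v667))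
theorem s0_f6070 : ed sl_dt s0_v667 = s0_v668 :=
  rfl
theorem s0_f6073 : ed sl_ct s0_v668 = s0_v669 :=
  rfl
theorem s0_f6076 : ed sl_gt s0_v669 = s0_v670 :=
  rfl
theorem s0_f6079 : ed sl_ft s0_v670 = s0_v671 :=
  rfl
theorem s0_f6082 : ed sl_dt s0_v671 = s0_v672 :=
  rfl
theorem s0_f6085 : ed sl_ct s0_v672 = s0_v673 :=
  rfl
theorem s0_f6085r : ed sl_cf s0_v673 = s0_v672 :=
  edge_flip (s0_f6085 IH)
theorem s0_f6086 : ed sl_cf s0_v672 = s0_v673 :=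
  gap_rel s0_rot0 (path_edge (s0_f6085r IH) (path_nil s0_v673))
theorem s0_f6082r : ed sl_df s0_v672 = s0_v671 :=
  edge_flip (s0_f6082 IH)
theorem s0_f6079r : ed sl_ff s0_v671 = s0_v670 :=
  edge_flip (s0_f6079 IH)
theorem s0_f6076r : ed sl_gf s0_v670 = s0_v669 :=
  edge_flip (s0_f6076 IH)
theorem s0_f6073r : ed sl_cf s0_v669 = s0_v668 :=
  edge_flip (s0_f6073 IH)
theorem s0_f6070r : ed sl_df s0_v668 = s0_v667 :=
  edge_flip (s0_f6070 IH)
theorem s0_f6060r : ed sl_gf s0_v666 = s0_v665 :=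
  edge_flip (s0_f6060 IH)
theorem s0_f6055r : ed sl_cf s0_v665 = s0_v664 :=
  edge_flip (s0_f6055 IH)
theorem s0_f6087 : ed sl_gf s0_v467 = s0_v673 :=
  gap_rel s0_rot4 (path_edge (s0_f4776 IH) (path_edge (s0_f1773 IH) (path_edge (s0_f936 IH) (path_edge (s0_f1759r IH) (path_edge (s0_f6035r IH) (path_edge (s0_f6050r IH) (path_edge (s0_f6055r IH) (path_edge (s0_f6060r IH) (path_edge (s0_f6065r IH) (path_edge (s0_f6070r IH) (path_edge (s0_f6073r IH) (path_edge (s0_f6076r IH) (path_edge (s0_f6079r IH) (path_edge (s0_f6082r IH) (path_edge (s0_f6085r IH) (path_nil s0_v673))))))))))))))))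
theorem s0_f6087r : ed sl_gt s0_v673 = s0_v467 :=
  edge_flip (s0_f6087 IH)
theorem s0_f4775r : ed sl_dt s0_v467 = s0_v466 :=
  edge_flip (s0_f4775 IH)
theorem s0_f4770r : ed sl_gt s0_v466 = s0_v441 :=
  edge_flip (s0_f4770 IH)
theorem s0_f4558r : ed sl_dt s0_v441 = s0_v440 :=
  edge_flip (s0_f4558 IH)
theorem s0_f6088 : ed sl_dt sq337 = s0_v673 :=
  gap_rel s0_rot27 (path_edge (s0_f4540r IH) (path_edge (s0_f4558r IH) (path_edge (s0_f4770r IH) (path_edge (s0_f4775r IH) (path_edge (s0_f6087r IH) (path_nil s0_v673))))))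
theorem s0_f6090 : s0_v469 = s0_v672 :=
  (loop_rel s0_rot5 (path_edge (s0_f4784 IH) (path_edge (s0_f4779 IH) (path_edge (s0_f6087r IH) (path_edge (s0_f6085 IH) (path_nil s0_v672)))))).symm
theorem s0_f4786r : ed sl_af s0_v469 = s0_v469 :=
  edge_flip (s0_f4786 IH)
theorem s0_f6091 : ed sl_af s0_v673 = s0_v673 :=
  gap_rel s0_rot63 (path_edge (s0_f6086 IH) (path_eq (s0_f6090 IH) (path_edge (s0_f4786r IH) (path_eq (s0_f6090 IH).symm (path_edge (s0_f6085r IH) (path_nil s0_v673))))))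
theorem s0_f6091r : ed sl_at s0_v673 = s0_v673 :=
  edge_flip (s0_f6091 IH)
theorem s0_f6092 : ed sl_dt s0_v673 = sq337 :=
  gap_rel s0_rot64 (path_edge (s0_f6091r IH) (path_edge (s0_f6088 IH) (path_edge (s0_f4326 IH) (path_nil sq337))))
theorem s0_f6093 : ed sl_dt s0_v91 = s0_v674 :=
  rfl
theorem s0_f6093r : ed sl_df s0_v674 = s0_v91 :=
  edge_flip (s0_f6093 IH)
theorem s0_f6094 : ed sl_df s0_v91 = s0_v674 :=
  gap_rel s0_rot3 (path_edge (s0_f6093r IH) (path_nil s0_v674))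
theorem s0_f6094r : ed sl_dt s0_v674 = s0_v91 :=
  edge_flip (s0_f6094 IH)
theorem s0_f1338r : ed sl_at s0_v91 = s0_v91 :=
  edge_flip (s0_f1338 IH)
theorem s0_f6095 : ed sl_at s0_v674 = s0_v674 :=
  gap_rel s0_rot10 (path_edge (s0_f6093 IH) (path_edge (s0_f1338r IH) (path_edge (s0_f6094r IH) (path_nil s0_v674))))
theorem s0_f6096 : ed sl_ct s0_v674 = s0_v675 :=
  rfl
theorem s0_f6096r : ed sl_cf s0_v675 = s0_v674 :=
  edge_flip (s0_f6096 IH)
theorem s0_f6097 : ed sl_cf s0_v674 = s0_v675 :=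
  gap_rel s0_rot0 (path_edge (s0_f6096r IH) (path_nil s0_v675))
theorem s0_f6097r : ed sl_ct s0_v675 = s0_v674 :=
  edge_flip (s0_f6097 IH)
theorem s0_f6098 : ed sl_at s0_v675 = s0_v675 :=
  gap_rel s0_rot12 (path_edge (s0_f6096 IH) (path_edge (s0_f6095 IH) (path_edge (s0_f6097r IH) (path_nil s0_v675))))
theorem s0_f6099 : ed sl_dt s0_v675 = s0_v676 :=
  rfl
theorem s0_f6099r : ed sl_df s0_v676 = s0_v675 :=
  edge_flip (s0_f6099 IH)
theorem s0_f6100 : ed sl_df s0_v675 = s0_v676 :=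
  gap_rel s0_rot3 (path_edge (s0_f6099r IH) (path_nil s0_v676))
theorem s0_f6100r : ed sl_dt s0_v676 = s0_v675 :=
  edge_flip (s0_f6100 IH)
theorem s0_f6101 : ed sl_at s0_v676 = s0_v676 :=
  gap_rel s0_rot10 (path_edge (s0_f6099 IH) (path_edge (s0_f6098 IH) (path_edge (s0_f6100r IH) (path_nil s0_v676))))
theorem s0_f6102 : ed sl_ct s0_v676 = s0_v677 :=
  rfl
theorem s0_f6102r : ed sl_cf s0_v677 = s0_v676 :=
  edge_flip (s0_f6102 IH)
theorem s0_f6103 : ed sl_cf s0_v676 = s0_v677 :=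
  gap_rel s0_rot0 (path_edge (s0_f6102r IH) (path_nil s0_v677))
theorem s0_f6103r : ed sl_ct s0_v677 = s0_v676 :=
  edge_flip (s0_f6103 IH)
theorem s0_f6104 : ed sl_at s0_v677 = s0_v677 :=
  gap_rel s0_rot12 (path_edge (s0_f6102 IH) (path_edge (s0_f6101 IH) (path_edge (s0_f6103r IH) (path_nil s0_v677))))
theorem s0_f6105 : ed sl_dt s0_v677 = s0_v678 :=
  rfl
theorem s0_f6105r : ed sl_df s0_v678 = s0_v677 :=
  edge_flip (s0_f6105 IH)
theorem s0_f6106 : ed sl_df s0_v677 = s0_v678 :=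
  gap_rel s0_rot3 (path_edge (s0_f6105r IH) (path_nil s0_v678))
theorem s0_f6107 : ed sl_cf s0_v510 = s0_v678 :=
  gap_rel s0_rot65 (path_edge (s0_f4994 IH) (path_edge (s0_f3189 IH) (path_edge (s0_f1329r IH) (path_edge (s0_f1334r IH) (path_edge (s0_f6093r IH) (path_edge (s0_f6096r IH) (path_edge (s0_f6099r IH) (path_edge (s0_f6102r IH) (path_edge (s0_f6104 IH) (path_edge (s0_f6105r IH) (path_nil s0_v678)))))))))))
theorem s0_f6107r : ed sl_ct s0_v678 = s0_v510 :=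
  edge_flip (s0_f6107 IH)
theorem s0_f4995r : ed sl_ft s0_v510 = sq226 :=
  edge_flip (s0_f4995 IH)
theorem s0_f6109 : ed sl_ft sq343 = s0_v678 :=
  gap_rel s0_rot66 (path_edge (s0_f809 IH) (path_edge (s0_f4995r IH) (path_edge (s0_f6107r IH) (path_nil s0_v678))))
theorem s0_f6109r : ed sl_ff s0_v678 = sq343 :=
  edge_flip (s0_f6109 IH)
theorem s0_f6110 : ed sl_ff sq343 = s0_v678 :=
  gap_rel s0_rot15 (path_edge (s0_f6109r IH) (path_nil s0_v678))
theorem s0_f6136 : ed sl_ft s0_v250 = s0_v683 :=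
  rfl
theorem s0_f6141 : ed sl_dt s0_v683 = s0_v684 :=
  rfl
theorem s0_f6144 : ed sl_ct s0_v684 = s0_v685 :=
  rfl
theorem s0_f6147 : ed sl_gt s0_v685 = s0_v686 :=
  rfl
theorem s0_f6150 : ed sl_ft s0_v686 = s0_v687 :=
  rfl
theorem s0_f6153 : ed sl_dt s0_v687 = s0_v688 :=
  rfl
theorem s0_f6156 : ed sl_ct s0_v688 = s0_v689 :=
  rfl
theorem s0_f6156r : ed sl_cf s0_v689 = s0_v688 :=
  edge_flip (s0_f6156 IH)
theorem s0_f6157 : ed sl_cf s0_v688 = s0_v689 :=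
  gap_rel s0_rot0 (path_edge (s0_f6156r IH) (path_nil s0_v689))
theorem s0_f6153r : ed sl_df s0_v688 = s0_v687 :=
  edge_flip (s0_f6153 IH)
theorem s0_f6150r : ed sl_ff s0_v687 = s0_v686 :=
  edge_flip (s0_f6150 IH)
theorem s0_f6147r : ed sl_gf s0_v686 = s0_v685 :=
  edge_flip (s0_f6147 IH)
theorem s0_f6144r : ed sl_cf s0_v685 = s0_v684 :=
  edge_flip (s0_f6144 IH)
theorem s0_f6141r : ed sl_df s0_v684 = s0_v683 :=
  edge_flip (s0_f6141 IH)
theorem s0_f6136r : ed sl_ff s0_v683 = s0_v250 :=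
  edge_flip (s0_f6136 IH)
theorem s0_f2962r : ed sl_df s0_v270 = s0_v69 :=
  edge_flip (s0_f2962 IH)
theorem s0_f3205r : ed sl_gf s0_v317 = sq105 :=
  edge_flip (s0_f3205 IH)
theorem s0_f6158 : ed sl_gf sq226 = s0_v689 :=
  gap_rel s0_rot4 (path_edge (s0_f4992r IH) (path_edge (s0_f4994 IH) (path_edge (s0_f3189 IH) (path_edge (s0_f3205r IH) (path_edge (s0_f3200 IH) (path_edge (s0_f2962r IH) (path_edge (s0_f2957 IH) (path_edge (s0_f2877 IH) (path_edge (s0_f6136r IH) (path_edge (s0_f6141r IH) (path_edge (s0_f6144r IH) (path_edge (s0_f6147r IH) (path_edge (s0_f6150r IH) (path_edge (s0_f6153r IH) (path_edge (s0_f6156r IH) (path_nil s0_v689))))))))))))))))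
theorem s0_f6158r : ed sl_gt s0_v689 = sq226 :=
  edge_flip (s0_f6158 IH)
theorem s0_f6159 : ed sl_dt sq336 = s0_v689 :=
  gap_rel s0_rot27 (path_edge (s0_f4549 IH) (path_edge (s0_f1373 IH) (path_edge (s0_f1369 IH) (path_edge (s0_f1386 IH) (path_edge (s0_f6158r IH) (path_nil s0_v689))))))
theorem s0_f6160 : ed sl_gt sq226 = s0_v689 :=
  gap_rel s0_rot6 (path_edge (s0_f6158r IH) (path_nil s0_v689))
theorem s0_f6161 : s0_v206 = s0_v688 :=
  (loop_rel s0_rot5 (path_edge (s0_f2494 IH) (path_edge (s0_f809 IH) (path_edge (s0_f6158r IH) (path_edge (s0_f6156 IH) (path_nil s0_v688)))))).symm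
theorem s0_f7476 : ed sl_et sq206 = s0_v779 :=
  rfl
theorem s0_f7476r : ed sl_ef s0_v779 = sq206 :=
  edge_flip (s0_f7476 IH)
theorem s0_f7478 : ed sl_ef sq206 = s0_v779 :=
  gap_rel s0_rot13 (path_edge (s0_f7476r IH) (path_nil s0_v779))
theorem s0_f7945 : ed sl_et sq226 = s0_v848 :=
  rfl
theorem s0_f7945r : ed sl_ef s0_v848 = sq226 :=
  edge_flip (s0_f7945 IH)
theorem s0_f7946 : ed sl_ef sq226 = s0_v848 :=
  gap_rel s0_rot13 (path_edge (s0_f7945r IH) (path_nil s0_v848))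
theorem s0_f8059 : ed sl_ct sq219 = s0_v872 :=
  rfl
theorem s0_f8059r : ed sl_cf s0_v872 = sq219 :=
  edge_flip (s0_f8059 IH)
theorem s0_f2366r : ed sl_ef sq219 = sq141 :=
  edge_flip (s0_f2366 IH)
theorem s0_f1235r : ed sl_cf sq141 = sq218 :=
  edge_flip (s0_f1235 IH)
theorem s0_f8061 : ed sl_ef sq218 = s0_v872 :=
  gap_rel s0_rot34 (path_edge (s0_f1235r IH) (path_edge (s0_f2366r IH) (path_edge (s0_f8059r IH) (path_nil s0_v872))))
theorem s0_f8061r : ed sl_et s0_v872 = sq218 :=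
  edge_flip (s0_f8061 IH)
theorem s0_f8062 : ed sl_et sq218 = s0_v872 :=
  gap_rel s0_rot40 (path_edge (s0_f8061r IH) (path_nil s0_v872))
theorem s0_f8063 : ed sl_ct sq513 = sq339 :=
  real_edge rels S fwd inv o lvl plet idx 27 IH Gen.c sp513 sp339 rfl rfl
theorem s0_f8065 : ed sl_ct s0_v182 = s0_v873 :=
  rfl
theorem s0_f8065r : ed sl_cf s0_v873 = s0_v182 :=
  edge_flip (s0_f8065 IH)
theorem s0_f8067 : ed sl_ff sq218 = s0_v873 :=
  gap_rel s0_rot33 (path_edge (s0_f1235r IH) (path_edge (s0_f2360r IH) (path_edge (s0_f8065r IH) (path_nil s0_v873))))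
theorem s0_f8068 : ed sl_gf s0_v194 = s0_v873 :=
  gap_rel s0_rot9 (path_edge (s0_f2420r IH) (path_edge (s0_f2422 IH) (path_edge (s0_f8065r IH) (path_nil s0_v873))))
theorem s0_f8068r : ed sl_gt s0_v873 = s0_v194 :=
  edge_flip (s0_f8068 IH)
theorem s0_f8069 : ed sl_gt s0_v194 = s0_v873 :=
  gap_rel s0_rot6 (path_edge (s0_f8068r IH) (path_nil s0_v873))
theorem s0_f8069r : ed sl_gf s0_v873 = s0_v194 :=
  edge_flip (s0_f8069 IH)
theorem s0_f2419r : ed sl_af s0_v194 = s0_v194 :=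
  edge_flip (s0_f2419 IH)
theorem s0_f8070 : ed sl_af s0_v873 = s0_v873 :=
  gap_rel s0_rot7 (path_edge (s0_f8068 IH) (path_edge (s0_f2419r IH) (path_edge (s0_f8069r IH) (path_nil s0_v873))))
theorem s0_f8070r : ed sl_at s0_v873 = s0_v873 :=
  edge_flip (s0_f8070 IH)
theorem s0_f8067r : ed sl_ft s0_v873 = sq218 :=
  edge_flip (s0_f8067 IH)
theorem s0_f8075 : ed sl_ft sq218 = s0_v873 :=
  gap_rel s0_rot59 (path_edge (s0_f1227 IH) (path_edge (s0_f8067r IH) (path_edge (s0_f8070r IH) (path_nil s0_v873))))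
theorem s0_f8076 : ed sl_ft sq545 = sq340 :=
  real_edge rels S fwd inv o lvl plet idx 27 IH Gen.f sp545 sp340 rfl rfl
theorem s0_f8077 : ed sl_ft sq340 = sq545 :=
  real_edge rels S fwd inv o lvl plet idx 27 IH Gen.f sp340 sp545 rfl rfl
theorem s0_f8083 : ed sl_et sq220 = s0_v875 :=
  rfl
theorem s0_f8083r : ed sl_ef s0_v875 = sq220 :=
  edge_flip (s0_f8083 IH)
theorem s0_f8084 : ed sl_ef sq220 = s0_v875 :=
  gap_rel s0_rot13 (path_edge (s0_f8083r IH) (path_nil s0_v875))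
theorem s0_f8086 : ed sl_ft s0_v195 = s0_v875 :=
  gap_rel s0_rot14 (path_edge (s0_f2424 IH) (path_edge (s0_f2360 IH) (path_edge (s0_f1229 IH) (path_edge (s0_f8083r IH) (path_nil s0_v875)))))
theorem s0_f8086r : ed sl_ff s0_v875 = s0_v195 :=
  edge_flip (s0_f8086 IH)
theorem s0_f8087 : ed sl_ff s0_v195 = s0_v875 :=
  gap_rel s0_rot15 (path_edge (s0_f8086r IH) (path_nil s0_v875))
theorem s0_f8090 : ed sl_ft sq220 = s0_v876 :=
  rfl
theorem s0_f8099 : ed sl_bf sq468 = s0_v877 :=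
  rfl
theorem s0_f8099r : ed sl_bt s0_v877 = sq468 :=
  edge_flip (s0_f8099 IH)
theorem s0_f8100 : ed sl_bt sq468 = s0_v877 :=
  gap_rel s0_rot67 (path_edge (s0_f8099r IH) (path_nil s0_v877))
theorem s0_f8101 : ed sl_cf s0_v877 = s0_v878 :=
  rfl
theorem s0_f8101r : ed sl_ct s0_v878 = s0_v877 :=
  edge_flip (s0_f8101 IH)
theorem s0_f8103 : ed sl_ct s0_v877 = s0_v878 :=
  gap_rel s0_rot68 (path_edge (s0_f8101r IH) (path_nil s0_v878))
theorem s0_f8103r : ed sl_cf s0_v878 = s0_v877 :=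
  edge_flip (s0_f8103 IH)
theorem s0_f8100r : ed sl_bf s0_v877 = sq468 :=
  edge_flip (s0_f8100 IH)
theorem s0_f781r : ed sl_cf sq468 = sq300 :=
  edge_flip (s0_f781 IH)
theorem s0_f776r : ed sl_bf sq300 = s0_v47 :=
  edge_flip (s0_f776 IH)
theorem s0_f8104 : ed sl_bf s0_v191 = s0_v878 :=
  gap_rel s0_rot69 (path_edge (s0_f2409 IH) (path_edge (s0_f776r IH) (path_edge (s0_f781r IH) (path_edge (s0_f8100r IH) (path_edge (s0_f8103r IH) (path_nil s0_v878))))))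
theorem s0_f8105 : ed sl_af s0_v878 = s0_v879 :=
  rfl
theorem s0_f8105r : ed sl_at s0_v879 = s0_v878 :=
  edge_flip (s0_f8105 IH)
theorem s0_f8106 : ed sl_at s0_v878 = s0_v879 :=
  gap_rel s0_rot70 (path_edge (s0_f8105r IH) (path_nil s0_v879))
theorem s0_f2362r : ed sl_ef sq141 = sq219 :=
  edge_flip (s0_f2362 IH)
theorem s0_f8107 : ed sl_bt s0_v872 = s0_v879 :=
  gap_rel s0_rot71 (path_edge (s0_f8059 IH) (path_edge (s0_f2362r IH) (path_edge (s0_f773 IH) (path_edge (s0_f774 IH) (path_edge (s0_f2084 IH) (path_edge (s0_f3772 IH) (path_edge (s0_f8099r IH) (path_edge (s0_f8101r IH) (path_edge (s0_f8105r IH) (path_nil s0_v879))))))))))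
theorem s0_f8107r : ed sl_bf s0_v879 = s0_v872 :=
  edge_flip (s0_f8107 IH)
theorem s0_f8062r : ed sl_ef s0_v872 = sq218 :=
  edge_flip (s0_f8062 IH)
theorem s0_f1228r : ed sl_bf sq218 = sq339 :=
  edge_flip (s0_f1228 IH)
theorem s0_f8109 : ed sl_ef sq339 = s0_v879 :=
  gap_rel s0_rot72 (path_edge (s0_f1228r IH) (path_edge (s0_f8062r IH) (path_edge (s0_f8107r IH) (path_nil s0_v879))))
theorem s0_f8110 : ed sl_dt sq339 = sq543 :=
  real_edge rels S fwd inv o lvl plet idx 27 IH Gen.d sp339 sp543 rfl rfl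
theorem s0_f8109r : ed sl_et s0_v879 = sq339 :=
  edge_flip (s0_f8109 IH)
theorem s0_f8111 : ed sl_et sq339 = s0_v879 :=
  gap_rel s0_rot40 (path_edge (s0_f8109r IH) (path_nil s0_v879))
theorem s0_f8112 : ed sl_dt sq543 = sq339 :=
  real_edge rels S fwd inv o lvl plet idx 27 IH Gen.d sp543 sp339 rfl rfl
theorem s0_f8113 : ed sl_dt s0_v876 = s0_v880 :=
  rfl
theorem s0_f8113r : ed sl_df s0_v880 = s0_v876 :=
  edge_flip (s0_f8113 IH)
theorem s0_f8090r : ed sl_ff s0_v876 = sq220 :=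
  edge_flip (s0_f8090 IH)
theorem s0_f1239r : ed sl_df sq220 = sq216 :=
  edge_flip (s0_f1239 IH)
theorem s0_f6092r : ed sl_df sq337 = s0_v673 :=
  edge_flip (s0_f6092 IH)
theorem s0_f8115 : ed sl_ff s0_v673 = s0_v880 :=
  gap_rel s0_rot60 (path_edge (s0_f6092r IH) (path_edge (s0_f1240r IH) (path_edge (s0_f1239r IH) (path_edge (s0_f8090r IH) (path_edge (s0_f8113r IH) (path_nil s0_v880))))))
theorem s0_f8115r : ed sl_ft s0_v880 = s0_v673 :=
  edge_flip (s0_f8115 IH)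
theorem s0_f8117 : ed sl_ft s0_v673 = s0_v880 :=
  gap_rel s0_rot25 (path_edge (s0_f8115r IH) (path_nil s0_v880))
theorem s0_f8117r : ed sl_ff s0_v880 = s0_v673 :=
  edge_flip (s0_f8117 IH)
theorem s0_f8119 : ed sl_cf s0_v470 = s0_v880 :=
  gap_rel s0_rot57 (path_edge (s0_f4788 IH) (path_eq (s0_f6090 IH).symm (path_edge (s0_f6085r IH) (path_edge (s0_f8117r IH) (path_nil s0_v880)))))
theorem s0_f8120 : ed sl_gt s0_v470 = s0_v881 :=
  rfl
theorem s0_f8120r : ed sl_gf s0_v881 = s0_v470 :=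
  edge_flip (s0_f8120 IH)
theorem s0_f8121 : ed sl_gf s0_v470 = s0_v881 :=
  gap_rel s0_rot1 (path_edge (s0_f8120r IH) (path_nil s0_v881))
theorem s0_f8121r : ed sl_gt s0_v881 = s0_v470 :=
  edge_flip (s0_f8121 IH)
theorem s0_f4788r : ed sl_ft s0_v470 = s0_v469 :=
  edge_flip (s0_f4788 IH)
theorem s0_f8123 : ed sl_ef s0_v131 = s0_v881 :=
  gap_rel s0_rot73 (path_edge (s0_f4781r IH) (path_edge (s0_f4785r IH) (path_edge (s0_f4788r IH) (path_edge (s0_f8121r IH) (path_nil s0_v881)))))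
theorem s0_f8125 : ed sl_ft s0_v881 = s0_v882 :=
  rfl
theorem s0_f8130 : ed sl_dt s0_v882 = s0_v883 :=
  rfl
theorem s0_f8133 : ed sl_ct s0_v883 = s0_v884 :=
  rfl
theorem s0_f8136 : ed sl_gt s0_v884 = s0_v885 :=
  rfl
theorem s0_f8139 : ed sl_ft s0_v885 = s0_v886 :=
  rfl
theorem s0_f8142 : ed sl_dt s0_v886 = s0_v887 :=
  rfl
theorem s0_f8145 : ed sl_ct s0_v887 = s0_v888 :=
  rfl
theorem s0_f8145r : ed sl_cf s0_v888 = s0_v887 :=
  edge_flip (s0_f8145 IH)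
theorem s0_f8142r : ed sl_df s0_v887 = s0_v886 :=
  edge_flip (s0_f8142 IH)
theorem s0_f8139r : ed sl_ff s0_v886 = s0_v885 :=
  edge_flip (s0_f8139 IH)
theorem s0_f8136r : ed sl_gf s0_v885 = s0_v884 :=
  edge_flip (s0_f8136 IH)
theorem s0_f8133r : ed sl_cf s0_v884 = s0_v883 :=
  edge_flip (s0_f8133 IH)
theorem s0_f8130r : ed sl_df s0_v883 = s0_v882 :=
  edge_flip (s0_f8130 IH)
theorem s0_f8125r : ed sl_ff s0_v882 = s0_v881 :=
  edge_flip (s0_f8125 IH)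
theorem s0_f1236r : ed sl_gf sq220 = sq141 :=
  edge_flip (s0_f1236 IH)
theorem s0_f1231r : ed sl_df sq218 = sq340 :=
  edge_flip (s0_f1231 IH)
theorem s0_f8076r : ed sl_ff sq340 = sq545 :=
  edge_flip (s0_f8076 IH)
theorem s0_f8147 : ed sl_gf sq545 = s0_v888 :=
  gap_rel s0_rot4 (path_edge (s0_f8076r IH) (path_edge (s0_f1231r IH) (path_edge (s0_f1235r IH) (path_edge (s0_f1236r IH) (path_edge (s0_f8090r IH) (path_edge (s0_f8113r IH) (path_edge (s0_f8119 IH) (path_edge (s0_f8120r IH) (path_edge (s0_f8125r IH) (path_edge (s0_f8130r IH) (path_edge (s0_f8133r IH) (path_edge (s0_f8136r IH) (path_edge (s0_f8139r IH) (path_edge (s0_f8142r IH) (path_edge (s0_f8145r IH) (path_nil s0_v888))))))))))))))))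
theorem s0_f8148 : ed sl_at sq545 = sq545 :=
  real_edge rels S fwd inv o lvl plet idx 27 IH Gen.a sp545 sp545 rfl rfl
theorem s0_f8149 : ed sl_bt sq545 = sq877 :=
  real_edge rels S fwd inv o lvl plet idx 27 IH Gen.b sp545 sp877 rfl rfl
theorem s0_f8147r : ed sl_gt s0_v888 = sq545 :=
  edge_flip (s0_f8147 IH)
theorem s0_f8150 : ed sl_gt sq545 = s0_v888 :=
  gap_rel s0_rot6 (path_edge (s0_f8147r IH) (path_nil s0_v888))
theorem s0_f8150r : ed sl_gf s0_v888 = sq545 :=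
  edge_flip (s0_f8150 IH)
theorem s0_f8148r : ed sl_af sq545 = sq545 :=
  edge_flip (s0_f8148 IH)
theorem s0_f8151 : ed sl_af s0_v888 = s0_v888 :=
  gap_rel s0_rot7 (path_edge (s0_f8147 IH) (path_edge (s0_f8148r IH) (path_edge (s0_f8150r IH) (path_nil s0_v888))))
theorem s0_f10017 : ed sl_gt s0_v300 = s0_v1092 :=
  rfl
theorem s0_f10022 : ed sl_dt s0_v1092 = s0_v1093 :=
  rfl
theorem s0_f10022r : ed sl_df s0_v1093 = s0_v1092 :=
  edge_flip (s0_f10022 IH)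
theorem s0_f10017r : ed sl_gf s0_v1092 = s0_v300 :=
  edge_flip (s0_f10017 IH)
theorem s0_f3117r : ed sl_df s0_v300 = sq172 :=
  edge_flip (s0_f3117 IH)
theorem s0_f469r : ed sl_gf sq172 = sq166 :=
  edge_flip (s0_f469 IH)
theorem s0_f424r : ed sl_df sq166 = sq257 :=
  edge_flip (s0_f424 IH)
theorem s0_f10024 : ed sl_gf sq257 = s0_v1093 :=
  gap_rel s0_rot11 (path_edge (s0_f424r IH) (path_edge (s0_f469r IH) (path_edge (s0_f3117r IH) (path_edge (s0_f10017r IH) (path_edge (s0_f10022r IH) (path_nil s0_v1093))))))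
theorem s0_f10024r : ed sl_gt s0_v1093 = sq257 :=
  edge_flip (s0_f10024 IH)
theorem s0_f10025 : ed sl_gt sq257 = s0_v1093 :=
  gap_rel s0_rot6 (path_edge (s0_f10024r IH) (path_nil s0_v1093))
theorem s0_f10025r : ed sl_gf s0_v1093 = sq257 :=
  edge_flip (s0_f10025 IH)
theorem s0_f5547r : ed sl_af sq257 = sq257 :=
  edge_flip (s0_f5547 IH)
theorem s0_f10026 : ed sl_af s0_v1093 = s0_v1093 :=
  gap_rel s0_rot7 (path_edge (s0_f10024 IH) (path_edge (s0_f5547r IH) (path_edge (s0_f10025r IH) (path_nil s0_v1093))))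
theorem s0_f10134 : ed sl_et s0_v594 = s0_v1118 :=
  rfl
theorem s0_f10134r : ed sl_ef s0_v1118 = s0_v594 :=
  edge_flip (s0_f10134 IH)
theorem s0_f10136 : ed sl_ef s0_v594 = s0_v1118 :=
  gap_rel s0_rot13 (path_edge (s0_f10134r IH) (path_nil s0_v1118))
theorem s0_f10138 : ed sl_ft s0_v1093 = s0_v1118 :=
  gap_rel s0_rot14 (path_edge (s0_f10025 IH) (path_edge (s0_f2825 IH) (path_edge (s0_f5624r IH) (path_edge (s0_f10134r IH) (path_nil s0_v1118)))))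
theorem s0_f10138r : ed sl_ff s0_v1118 = s0_v1093 :=
  edge_flip (s0_f10138 IH)
theorem s0_f10139 : ed sl_ff s0_v1093 = s0_v1118 :=
  gap_rel s0_rot15 (path_edge (s0_f10138r IH) (path_nil s0_v1118))
theorem s0_f10139r : ed sl_ft s0_v1118 = s0_v1093 :=
  edge_flip (s0_f10139 IH)
theorem s0_f10142 : ed sl_gt s0_v269 = s0_v1118 :=
  gap_rel s0_rot16 (path_edge (s0_f2950 IH) (path_edge (s0_f2805 IH) (path_edge (s0_f10024r IH) (path_edge (s0_f10139r IH) (path_nil s0_v1118)))))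
theorem s0_f10143 : ed sl_ft s0_v594 = s0_v1119 :=
  rfl
theorem s0_f10143r : ed sl_ff s0_v1119 = s0_v594 :=
  edge_flip (s0_f10143 IH)
theorem s0_f10145 : ed sl_ef s0_v1093 = s0_v1119 :=
  gap_rel s0_rot17 (path_edge (s0_f10138r IH) (path_edge (s0_f10136 IH) (path_edge (s0_f10143r IH) (path_nil s0_v1119))))
theorem s0_f10146 : ed sl_ff s0_v594 = s0_v1119 :=
  gap_rel s0_rot15 (path_edge (s0_f10143r IH) (path_nil s0_v1119))
theorem s0_f5625r : ed sl_gf s0_v594 = sq168 :=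
  edge_flip (s0_f5625 IH)
theorem s0_f2805r : ed sl_ff sq168 = sq257 :=
  edge_flip (s0_f2805 IH)
theorem s0_f10142r : ed sl_gf s0_v1118 = s0_v269 :=
  edge_flip (s0_f10142 IH)
theorem s0_f10147 : ed sl_gf s0_v645 = s0_v1119 :=
  gap_rel s0_rot18 (path_edge (s0_f5940 IH) (path_edge (s0_f10142r IH) (path_edge (s0_f10139 IH) (path_edge (s0_f10024 IH) (path_edge (s0_f2805r IH) (path_edge (s0_f5625r IH) (path_edge (s0_f10143r IH) (path_nil s0_v1119))))))))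
theorem s0_f10148 : ed sl_et s0_v1093 = s0_v1119 :=
  gap_rel s0_rot19 (path_edge (s0_f10024 IH) (path_edge (s0_f2805r IH) (path_edge (s0_f5625r IH) (path_edge (s0_f10143r IH) (path_nil s0_v1119)))))
theorem s0_f10148r : ed sl_ef s0_v1119 = s0_v1093 :=
  edge_flip (s0_f10148 IH)
theorem s0_f10149 : ed sl_af s0_v1119 = s0_v1119 :=
  gap_rel s0_rot41 (path_edge (s0_f10145 IH) (path_edge (s0_f10026 IH) (path_edge (s0_f10148r IH) (path_nil s0_v1119))))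
theorem s0_f10149r : ed sl_at s0_v1119 = s0_v1119 :=
  edge_flip (s0_f10149 IH)
theorem s0_f10147r : ed sl_gt s0_v1119 = s0_v645 :=
  edge_flip (s0_f10147 IH)
theorem s0_f5942r : ed sl_at s0_v645 = s0_v645 :=
  edge_flip (s0_f5942 IH)
theorem s0_f10151 : ed sl_gt s0_v645 = s0_v1119 :=
  gap_rel s0_rot56 (path_edge (s0_f5942r IH) (path_edge (s0_f10147r IH) (path_edge (s0_f10149r IH) (path_nil s0_v1119))))
theorem s0_f10168 : ed sl_dt s0_v1119 = s0_v1123 :=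
  rfl
theorem s0_f10168r : ed sl_df s0_v1123 = s0_v1119 :=
  edge_flip (s0_f10168 IH)
theorem s0_f10169 : ed sl_df s0_v1119 = s0_v1123 :=
  gap_rel s0_rot3 (path_edge (s0_f10168r IH) (path_nil s0_v1123))
theorem s0_f10151r : ed sl_gf s0_v1119 = s0_v645 :=
  edge_flip (s0_f10151 IH)
theorem s0_f10170 : ed sl_gf s0_v664 = s0_v1123 :=
  gap_rel s0_rot11 (path_edge (s0_f6051 IH) (path_edge (s0_f6039 IH) (path_edge (s0_f5944 IH) (path_edge (s0_f10151r IH) (path_edge (s0_f10168r IH) (path_nil s0_v1123))))))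
theorem s0_f10170r : ed sl_gt s0_v1123 = s0_v664 :=
  edge_flip (s0_f10170 IH)
theorem s0_f10171 : ed sl_ct s0_v666 = s0_v1123 :=
  gap_rel s0_rot2 (path_edge (s0_f6060 IH) (path_edge (s0_f6055 IH) (path_edge (s0_f10170r IH) (path_nil s0_v1123))))
theorem s0_f10353 : ed sl_ct sq259 = s0_v1165 :=
  rfl
theorem s0_f10353r : ed sl_cf s0_v1165 = sq259 :=
  edge_flip (s0_f10353 IH)
theorem s0_f10354 : ed sl_cf sq259 = s0_v1165 :=
  gap_rel s0_rot0 (path_edge (s0_f10353r IH) (path_nil s0_v1165))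
theorem s0_f5802r : ed sl_ef sq259 = sq171 :=
  edge_flip (s0_f5802 IH)
theorem s0_f1721r : ed sl_cf sq171 = sq258 :=
  edge_flip (s0_f1721 IH)
theorem s0_f10355 : ed sl_ef sq258 = s0_v1165 :=
  gap_rel s0_rot34 (path_edge (s0_f1721r IH) (path_edge (s0_f5802r IH) (path_edge (s0_f10353r IH) (path_nil s0_v1165))))
theorem s0_f5807r : ed sl_ff sq259 = sq259 :=
  edge_flip (s0_f5807 IH)
theorem s0_f10356 : ed sl_ff s0_v1165 = s0_v1165 :=
  gap_rel s0_rot33 (path_edge (s0_f10354 IH) (path_edge (s0_f5807r IH) (path_edge (s0_f10353r IH) (path_nil s0_v1165))))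
theorem s0_f10356r : ed sl_ft s0_v1165 = s0_v1165 :=
  edge_flip (s0_f10356 IH)
theorem s0_f10355r : ed sl_et s0_v1165 = sq258 :=
  edge_flip (s0_f10355 IH)
theorem s0_f10357 : ed sl_et sq258 = s0_v1165 :=
  gap_rel s0_rot38 (path_edge (s0_f1718 IH) (path_edge (s0_f10355r IH) (path_edge (s0_f10356r IH) (path_nil s0_v1165))))
theorem s0_f10361 : ed sl_et sq260 = s0_v1166 :=
  rfl
theorem s0_f10361r : ed sl_ef s0_v1166 = sq260 :=
  edge_flip (s0_f10361 IH)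
theorem s0_f10365 : ed sl_ft sq260 = s0_v1166 :=
  gap_rel s0_rot14 (path_edge (s0_f1722 IH) (path_edge (s0_f1728 IH) (path_edge (s0_f1715 IH) (path_edge (s0_f10361r IH) (path_nil s0_v1166)))))
theorem s0_f10385 : ed sl_dt s0_v1166 = s0_v1170 :=
  rfl
theorem s0_f10385r : ed sl_df s0_v1170 = s0_v1166 :=
  edge_flip (s0_f10385 IH)
theorem s0_f10365r : ed sl_ff s0_v1166 = sq260 :=
  edge_flip (s0_f10365 IH)
theorem s0_f10387 : ed sl_ff s0_v1123 = s0_v1170 :=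
  gap_rel s0_rot60 (path_edge (s0_f10169 IH) (path_edge (s0_f10146 IH) (path_edge (s0_f5623 IH) (path_edge (s0_f10365r IH) (path_edge (s0_f10385r IH) (path_nil s0_v1170))))))
theorem s0_f10387r : ed sl_ft s0_v1170 = s0_v1123 :=
  edge_flip (s0_f10387 IH)
theorem s0_f10389 : ed sl_ft s0_v1123 = s0_v1170 :=
  gap_rel s0_rot25 (path_edge (s0_f10387r IH) (path_nil s0_v1170))
theorem s0_f10389r : ed sl_ff s0_v1170 = s0_v1123 :=
  edge_flip (s0_f10389 IH)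
theorem s0_f10171r : ed sl_cf s0_v1123 = s0_v666 :=
  edge_flip (s0_f10171 IH)
theorem s0_f10391 : ed sl_cf s0_v667 = s0_v1170 :=
  gap_rel s0_rot57 (path_edge (s0_f6067 IH) (path_edge (s0_f10171r IH) (path_edge (s0_f10389r IH) (path_nil s0_v1170))))
theorem s0_f10392 : ed sl_gt s0_v667 = s0_v1171 :=
  rfl
theorem s0_f10397 : ed sl_ft s0_v1171 = s0_v1172 :=
  rfl
theorem s0_f10404 : ed sl_dt s0_v1172 = s0_v1173 :=
  rfl
theorem s0_f10407 : ed sl_ct s0_v1173 = s0_v1174 :=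
  rfl
theorem s0_f10410 : ed sl_gt s0_v1174 = s0_v1175 :=
  rfl
theorem s0_f10413 : ed sl_ft s0_v1175 = s0_v1176 :=
  rfl
theorem s0_f10416 : ed sl_dt s0_v1176 = s0_v1177 :=
  rfl
theorem s0_f10419 : ed sl_ct s0_v1177 = s0_v1178 :=
  rfl
theorem s0_f10422 : ed sl_gt s0_v1178 = s0_v1179 :=
  rfl
theorem s0_f10422r : ed sl_gf s0_v1179 = s0_v1178 :=
  edge_flip (s0_f10422 IH)
theorem s0_f10419r : ed sl_cf s0_v1178 = s0_v1177 :=
  edge_flip (s0_f10419 IH)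
theorem s0_f10416r : ed sl_df s0_v1177 = s0_v1176 :=
  edge_flip (s0_f10416 IH)
theorem s0_f10413r : ed sl_ff s0_v1176 = s0_v1175 :=
  edge_flip (s0_f10413 IH)
theorem s0_f10410r : ed sl_gf s0_v1175 = s0_v1174 :=
  edge_flip (s0_f10410 IH)
theorem s0_f10407r : ed sl_cf s0_v1174 = s0_v1173 :=
  edge_flip (s0_f10407 IH)
theorem s0_f10404r : ed sl_df s0_v1173 = s0_v1172 :=
  edge_flip (s0_f10404 IH)
theorem s0_f10397r : ed sl_ff s0_v1172 = s0_v1171 :=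
  edge_flip (s0_f10397 IH)
theorem s0_f10392r : ed sl_gf s0_v1171 = s0_v667 :=
  edge_flip (s0_f10392 IH)
theorem s0_f1717r : ed sl_df sq258 = sq389 :=
  edge_flip (s0_f1717 IH)
theorem s0_f10424 : ed sl_ff sq389 = s0_v1179 :=
  gap_rel s0_rot24 (path_edge (s0_f1717r IH) (path_edge (s0_f1721r IH) (path_edge (s0_f1722r IH) (path_edge (s0_f10365r IH) (path_edge (s0_f10385r IH) (path_edge (s0_f10391 IH) (path_edge (s0_f10392r IH) (path_edge (s0_f10397r IH) (path_edge (s0_f10404r IH) (path_edge (s0_f10407r IH) (path_edge (s0_f10410r IH) (path_edge (s0_f10413r IH) (path_edge (s0_f10416r IH) (path_edge (s0_f10419r IH) (path_edge (s0_f10422r IH) (path_nil s0_v1179))))))))))))))))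
theorem s0_f10424r : ed sl_ft s0_v1179 = sq389 :=
  edge_flip (s0_f10424 IH)
theorem s0_f10425 : ed sl_ft sq389 = s0_v1179 :=
  gap_rel s0_rot25 (path_edge (s0_f10424r IH) (path_nil s0_v1179))
theorem s0_f10444 : ed sl_et sq263 = s0_v1183 :=
  rfl
theorem s0_f10444r : ed sl_ef s0_v1183 = sq263 :=
  edge_flip (s0_f10444 IH)
theorem s0_f5896r : ed sl_ef s0_v637 = s0_v312 :=
  edge_flip (s0_f5896 IH)
theorem s0_f10447 : ed sl_ff s0_v312 = s0_v1183 :=
  gap_rel s0_rot53 (path_edge (s0_f5896r IH) (path_edge (s0_f5892 IH) (path_edge (s0_f10444r IH) (path_nil s0_v1183))))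
theorem s0_f3176r : ed sl_ef sq173 = sq262 :=
  edge_flip (s0_f3176 IH)
theorem s0_f10448 : ed sl_gf sq262 = s0_v1183 :=
  gap_rel s0_rot54 (path_edge (s0_f3176r IH) (path_edge (s0_f887r IH) (path_edge (s0_f10444r IH) (path_nil s0_v1183))))
theorem s0_f10449 : ed sl_ft s0_v312 = s0_v1183 :=
  gap_rel s0_rot14 (path_edge (s0_f3171r IH) (path_edge (s0_f3175 IH) (path_edge (s0_f881 IH) (path_edge (s0_f10444r IH) (path_nil s0_v1183)))))
theorem s0_f10449r : ed sl_ff s0_v1183 = s0_v312 :=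
  edge_flip (s0_f10449 IH)
theorem s0_f3180r : ed sl_bf s0_v312 = s0_v312 :=
  edge_flip (s0_f3180 IH)
theorem s0_f10451 : ed sl_bf s0_v1183 = s0_v1183 :=
  gap_rel s0_rot50 (path_edge (s0_f10447 IH) (path_edge (s0_f3180r IH) (path_edge (s0_f10449r IH) (path_nil s0_v1183))))
theorem s0_f10451r : ed sl_bt s0_v1183 = s0_v1183 :=
  edge_flip (s0_f10451 IH)
theorem s0_f10448r : ed sl_gt s0_v1183 = sq262 :=
  edge_flip (s0_f10448 IH)
theorem s0_f10452 : ed sl_gt sq262 = s0_v1183 :=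
  gap_rel s0_rot21 (path_edge (s0_f5903 IH) (path_edge (s0_f10448r IH) (path_edge (s0_f10451r IH) (path_nil s0_v1183))))
theorem s0_f12022 : ed sl_ct s0_v779 = s0_v1329 :=
  rfl
theorem s0_f12022r : ed sl_cf s0_v1329 = s0_v779 :=
  edge_flip (s0_f12022 IH)
theorem s0_f2084r : ed sl_cf sq206 = sq319 :=
  edge_flip (s0_f2084 IH)
theorem s0_f12024 : ed sl_ef sq319 = s0_v1329 :=
  gap_rel s0_rot34 (path_edge (s0_f2084r IH) (path_edge (s0_f7476r IH) (path_edge (s0_f12022r IH) (path_nil s0_v1329))))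
theorem s0_f12024r : ed sl_et s0_v1329 = sq319 :=
  edge_flip (s0_f12024 IH)
theorem s0_f12026 : ed sl_et sq319 = s0_v1329 :=
  gap_rel s0_rot40 (path_edge (s0_f12024r IH) (path_nil s0_v1329))
theorem s0_f12028 : ed sl_ct s0_v148 = s0_v1330 :=
  rfl
theorem s0_f12028r : ed sl_cf s0_v1330 = s0_v148 :=
  edge_flip (s0_f12028 IH)
theorem s0_f2082r : ed sl_ff s0_v148 = sq206 :=
  edge_flip (s0_f2082 IH)
theorem s0_f12030 : ed sl_ff sq319 = s0_v1330 :=
  gap_rel s0_rot33 (path_edge (s0_f2084r IH) (path_edge (s0_f2082r IH) (path_edge (s0_f12028r IH) (path_nil s0_v1330))))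
theorem s0_f12031 : ed sl_gf s0_v146 = s0_v1330 :=
  gap_rel s0_rot9 (path_edge (s0_f2077r IH) (path_edge (s0_f2079r IH) (path_edge (s0_f12028r IH) (path_nil s0_v1330))))
theorem s0_f12030r : ed sl_ft s0_v1330 = sq319 :=
  edge_flip (s0_f12030 IH)
theorem s0_f12038 : ed sl_ft sq319 = s0_v1330 :=
  gap_rel s0_rot25 (path_edge (s0_f12030r IH) (path_nil s0_v1330))
theorem s0_f12066 : ed sl_af s0_v877 = s0_v1334 :=
  rfl
theorem s0_f12066r : ed sl_at s0_v1334 = s0_v877 :=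
  edge_flip (s0_f12066 IH)
theorem s0_f12067 : ed sl_at s0_v877 = s0_v1334 :=
  gap_rel s0_rot70 (path_edge (s0_f12066r IH) (path_nil s0_v1334))
theorem s0_f8104r : ed sl_bt s0_v878 = s0_v191 :=
  edge_flip (s0_f8104 IH)
theorem s0_f12069 : ed sl_bt s0_v1329 = s0_v1334 :=
  gap_rel s0_rot71 (path_edge (s0_f12022 IH) (path_edge (s0_f7478 IH) (path_edge (s0_f775 IH) (path_edge (s0_f776 IH) (path_edge (s0_f2409r IH) (path_edge (s0_f2410 IH) (path_edge (s0_f8104r IH) (path_edge (s0_f8103 IH) (path_edge (s0_f12066r IH) (path_nil s0_v1334))))))))))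
theorem s0_f12069r : ed sl_bf s0_v1334 = s0_v1329 :=
  edge_flip (s0_f12069 IH)
theorem s0_f12026r : ed sl_ef s0_v1329 = sq319 :=
  edge_flip (s0_f12026 IH)
theorem s0_f779r : ed sl_bf sq319 = sq513 :=
  edge_flip (s0_f779 IH)
theorem s0_f12072 : ed sl_ef sq513 = s0_v1334 :=
  gap_rel s0_rot72 (path_edge (s0_f779r IH) (path_edge (s0_f12026r IH) (path_edge (s0_f12069r IH) (path_nil s0_v1334))))
theorem s0_f12072r : ed sl_et s0_v1334 = sq513 :=
  edge_flip (s0_f12072 IH)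
theorem s0_f12075 : ed sl_et sq513 = s0_v1334 :=
  gap_rel s0_rot40 (path_edge (s0_f12072r IH) (path_nil s0_v1334))
theorem s0_f12353 : ed sl_ct s0_v440 = s0_v1393 :=
  rfl
theorem s0_f12353r : ed sl_cf s0_v1393 = s0_v440 :=
  edge_flip (s0_f12353 IH)
theorem s0_f4419r : ed sl_cf sq215 = sq335 :=
  edge_flip (s0_f4419 IH)
theorem s0_f12357 : ed sl_ff sq335 = s0_v1393 :=
  gap_rel s0_rot33 (path_edge (s0_f4419r IH) (path_edge (s0_f4542r IH) (path_edge (s0_f12353r IH) (path_nil s0_v1393))))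
theorem s0_f4548r : ed sl_gf s0_v440 = sq337 :=
  edge_flip (s0_f4548 IH)
theorem s0_f12358 : ed sl_gf s0_v408 = s0_v1393 :=
  gap_rel s0_rot9 (path_edge (s0_f4367 IH) (path_edge (s0_f4548r IH) (path_edge (s0_f12353r IH) (path_nil s0_v1393))))
theorem s0_f12358r : ed sl_gt s0_v1393 = s0_v408 :=
  edge_flip (s0_f12358 IH)
theorem s0_f12361 : ed sl_gt s0_v408 = s0_v1393 :=
  gap_rel s0_rot6 (path_edge (s0_f12358r IH) (path_nil s0_v1393))
theorem s0_f6159r : ed sl_df s0_v689 = sq336 :=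
  edge_flip (s0_f6159 IH)
theorem s0_f4312r : ed sl_ff sq336 = sq333 :=
  edge_flip (s0_f4312 IH)
theorem s0_f757r : ed sl_gf sq333 = sq212 :=
  edge_flip (s0_f757 IH)
theorem s0_f12361r : ed sl_gf s0_v1393 = s0_v408 :=
  edge_flip (s0_f12361 IH)
theorem s0_f4372r : ed sl_cf s0_v408 = sq337 :=
  edge_flip (s0_f4372 IH)
theorem s0_f12363 : ed sl_gf s0_v880 = s0_v676 :=
  gap_rel s0_rot4 (path_edge (s0_f8115 IH) (path_edge (s0_f6092r IH) (path_edge (s0_f4372r IH) (path_edge (s0_f12361r IH) (path_edge (s0_f12357 IH) (path_eq (s0_f4683 IH) (path_edge (s0_f4533 IH) (path_edge (s0_f1285r IH) (path_edge (s0_f757r IH) (path_edge (s0_f4312r IH) (path_edge (s0_f6159r IH) (path_edge (s0_f6157 IH) (path_eq (s0_f6161 IH) (path_edge (s0_f2496 IH) (path_edge (s0_f6109r IH) (path_edge (s0_f6106 IH) (path_edge (s0_f6103 IH) (path_nil s0_v676))))))))))))))))))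
theorem s0_f12363r : ed sl_gt s0_v676 = s0_v880 :=
  edge_flip (s0_f12363 IH)
theorem s0_f8119r : ed sl_ct s0_v880 = s0_v470 :=
  edge_flip (s0_f8119 IH)
theorem s0_f12366 : s0_v881 = s0_v677 :=
  (loop_rel s0_rot5 (path_edge (s0_f8120 IH) (path_edge (s0_f8119r IH) (path_edge (s0_f12363r IH) (path_edge (s0_f6103r IH) (path_nil s0_v677)))))).symm
theorem s0_f12478 : ed sl_dt s0_v80 = s0_v1411 :=
  rfl
theorem s0_f12495 : ed sl_et s0_v689 = s0_v1416 :=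
  rfl
theorem s0_f12495r : ed sl_ef s0_v1416 = s0_v689 :=
  edge_flip (s0_f12495 IH)
theorem s0_f4355r : ed sl_ef sq336 = sq216 :=
  edge_flip (s0_f4355 IH)
theorem s0_f1247r : ed sl_df sq216 = sq220 :=
  edge_flip (s0_f1247 IH)
theorem s0_f12496 : ed sl_df s0_v875 = s0_v1416 :=
  gap_rel s0_rot42 (path_edge (s0_f8084 IH) (path_edge (s0_f1247r IH) (path_edge (s0_f4355r IH) (path_edge (s0_f6159r IH) (path_edge (s0_f12495r IH) (path_nil s0_v1416))))))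
theorem s0_f6160r : ed sl_gf s0_v689 = sq226 :=
  edge_flip (s0_f6160 IH)
theorem s0_f12498 : ed sl_gf s0_v848 = s0_v1416 :=
  gap_rel s0_rot54 (path_edge (s0_f7946 IH) (path_edge (s0_f6160r IH) (path_edge (s0_f12495r IH) (path_nil s0_v1416))))
theorem s0_f12498r : ed sl_gt s0_v1416 = s0_v848 :=
  edge_flip (s0_f12498 IH)
theorem s0_f12500 : ed sl_gt s0_v848 = s0_v1416 :=
  gap_rel s0_rot6 (path_edge (s0_f12498r IH) (path_nil s0_v1416))
theorem s0_f12589 : ed sl_at sq340 = sq340 :=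
  real_edge rels S fwd inv o lvl plet idx 27 IH Gen.a sp340 sp340 rfl rfl
theorem s0_f12591 : ed sl_bt s0_v873 = s0_v1432 :=
  rfl
theorem s0_f12591r : ed sl_bf s0_v1432 = s0_v873 :=
  edge_flip (s0_f12591 IH)
theorem s0_f12592 : ed sl_bf s0_v873 = s0_v1432 :=
  gap_rel s0_rot74 (path_edge (s0_f12591r IH) (path_nil s0_v1432))
theorem s0_f8075r : ed sl_ff s0_v873 = sq218 :=
  edge_flip (s0_f8075 IH)
theorem s0_f12593 : ed sl_ff sq339 = s0_v1432 :=
  gap_rel s0_rot75 (path_edge (s0_f1228r IH) (path_edge (s0_f8075r IH) (path_edge (s0_f12591r IH) (path_nil s0_v1432))))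
theorem s0_f12594 : ed sl_ft sq543 = sq877 :=
  real_edge rels S fwd inv o lvl plet idx 27 IH Gen.f sp543 sp877 rfl rfl
theorem s0_f12593r : ed sl_ft s0_v1432 = sq339 :=
  edge_flip (s0_f12593 IH)
theorem s0_f12595 : ed sl_ft sq339 = s0_v1432 :=
  gap_rel s0_rot25 (path_edge (s0_f12593r IH) (path_nil s0_v1432))
theorem s0_f12596 : ed sl_ft sq877 = sq543 :=
  real_edge rels S fwd inv o lvl plet idx 27 IH Gen.f sp877 sp543 rfl rfl
theorem s0_f12597 : ed sl_bt s0_v80 = s0_v1433 :=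
  rfl
theorem s0_f12597r : ed sl_bf s0_v1433 = s0_v80 :=
  edge_flip (s0_f12597 IH)
theorem s0_f1226r : ed sl_gf s0_v80 = sq218 :=
  edge_flip (s0_f1226 IH)
theorem s0_f12599 : ed sl_gf sq339 = s0_v1433 :=
  gap_rel s0_rot76 (path_edge (s0_f1228r IH) (path_edge (s0_f1226r IH) (path_edge (s0_f12597r IH) (path_nil s0_v1433))))
theorem s0_f12599r : ed sl_gt s0_v1433 = sq339 :=
  edge_flip (s0_f12599 IH)
theorem s0_f12600 : ed sl_gt sq339 = s0_v1433 :=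
  gap_rel s0_rot6 (path_edge (s0_f12599r IH) (path_nil s0_v1433))
theorem s0_f12601 : ed sl_dt s0_v872 = s0_v1434 :=
  rfl
theorem s0_f12601r : ed sl_df s0_v1434 = s0_v872 :=
  edge_flip (s0_f12601 IH)
theorem s0_f12602 : ed sl_df s0_v872 = s0_v1434 :=
  gap_rel s0_rot3 (path_edge (s0_f12601r IH) (path_nil s0_v1434))
theorem s0_f12606 : ed sl_et s0_v1434 = s0_v1435 :=
  rfl
theorem s0_f12609 : ed sl_dt s0_v1435 = s0_v1436 :=
  rfl
theorem s0_f12609r : ed sl_df s0_v1436 = s0_v1435 :=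
  edge_flip (s0_f12609 IH)
theorem s0_f12610 : ed sl_df s0_v1435 = s0_v1436 :=
  gap_rel s0_rot3 (path_edge (s0_f12609r IH) (path_nil s0_v1436))
theorem s0_f12606r : ed sl_ef s0_v1435 = s0_v1434 :=
  edge_flip (s0_f12606 IH)
theorem s0_f12611 : ed sl_ef sq340 = s0_v1436 :=
  gap_rel s0_rot39 (path_edge (s0_f1231r IH) (path_edge (s0_f8062r IH) (path_edge (s0_f12601r IH) (path_edge (s0_f12606r IH) (path_edge (s0_f12609r IH) (path_nil s0_v1436))))))
theorem s0_f12611r : ed sl_et s0_v1436 = sq340 :=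
  edge_flip (s0_f12611 IH)
theorem s0_f12612 : ed sl_et sq340 = s0_v1436 :=
  gap_rel s0_rot40 (path_edge (s0_f12611r IH) (path_nil s0_v1436))
theorem s0_f12612r : ed sl_ef s0_v1436 = sq340 :=
  edge_flip (s0_f12612 IH)
theorem s0_f12589r : ed sl_af sq340 = sq340 :=
  edge_flip (s0_f12589 IH)
theorem s0_f12614 : ed sl_af s0_v1436 = s0_v1436 :=
  gap_rel s0_rot41 (path_edge (s0_f12611 IH) (path_edge (s0_f12589r IH) (path_edge (s0_f12612r IH) (path_nil s0_v1436))))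
theorem s0_f12615 : ed sl_dt s0_v873 = s0_v1437 :=
  rfl
theorem s0_f12615r : ed sl_df s0_v1437 = s0_v873 :=
  edge_flip (s0_f12615 IH)
theorem s0_f12616 : ed sl_df s0_v873 = s0_v1437 :=
  gap_rel s0_rot3 (path_edge (s0_f12615r IH) (path_nil s0_v1437))
theorem s0_f12618 : ed sl_ft s0_v1437 = s0_v1438 :=
  rfl
theorem s0_f12618r : ed sl_ff s0_v1438 = s0_v1437 :=
  edge_flip (s0_f12618 IH)
theorem s0_f12619 : ed sl_df sq545 = s0_v1438 :=
  gap_rel s0_rot51 (path_edge (s0_f8076r IH) (path_edge (s0_f1231r IH) (path_edge (s0_f8075r IH) (path_edge (s0_f12615r IH) (path_edge (s0_f12618r IH) (path_nil s0_v1438))))))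
theorem s0_f12620 : ed sl_ff s0_v1437 = s0_v1438 :=
  gap_rel s0_rot15 (path_edge (s0_f12618r IH) (path_nil s0_v1438))
theorem s0_f12620r : ed sl_ft s0_v1438 = s0_v1437 :=
  edge_flip (s0_f12620 IH)
theorem s0_f12616r : ed sl_dt s0_v1437 = s0_v873 :=
  edge_flip (s0_f12616 IH)
theorem s0_f12622 : ed sl_dt sq545 = s0_v1438 :=
  gap_rel s0_rot32 (path_edge (s0_f8077 IH) (path_edge (s0_f1238 IH) (path_edge (s0_f8067r IH) (path_edge (s0_f12616r IH) (path_edge (s0_f12620r IH) (path_nil s0_v1438))))))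
theorem s0_f12623 : ed sl_gt s0_v1411 = s0_v1439 :=
  rfl
theorem s0_f12626 : ed sl_dt s0_v1439 = s0_v1440 :=
  rfl
theorem s0_f12626r : ed sl_df s0_v1440 = s0_v1439 :=
  edge_flip (s0_f12626 IH)
theorem s0_f12623r : ed sl_gf s0_v1439 = s0_v1411 :=
  edge_flip (s0_f12623 IH)
theorem s0_f12478r : ed sl_df s0_v1411 = s0_v80 :=
  edge_flip (s0_f12478 IH)
theorem s0_f12628 : ed sl_gf sq340 = s0_v1440 :=
  gap_rel s0_rot11 (path_edge (s0_f1231r IH) (path_edge (s0_f1226r IH) (path_edge (s0_f12478r IH) (path_edge (s0_f12623r IH) (path_edge (s0_f12626r IH) (path_nil s0_v1440))))))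
theorem s0_f12628r : ed sl_gt s0_v1440 = sq340 :=
  edge_flip (s0_f12628 IH)
theorem s0_f12629 : ed sl_gt sq340 = s0_v1440 :=
  gap_rel s0_rot6 (path_edge (s0_f12628r IH) (path_nil s0_v1440))
theorem s0_f12720 : ed sl_ct s0_v1433 = s0_v1461 :=
  rfl
theorem s0_f12720r : ed sl_cf s0_v1461 = s0_v1433 :=
  edge_flip (s0_f12720 IH)
theorem s0_f12600r : ed sl_gf s0_v1433 = sq339 :=
  edge_flip (s0_f12600 IH)
theorem s0_f8063r : ed sl_cf sq339 = sq513 :=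
  edge_flip (s0_f8063 IH)
theorem s0_f12723 : ed sl_gf sq513 = s0_v1461 :=
  gap_rel s0_rot9 (path_edge (s0_f8063r IH) (path_edge (s0_f12600r IH) (path_edge (s0_f12720r IH) (path_nil s0_v1461))))
theorem s0_f12723r : ed sl_gt s0_v1461 = sq513 :=
  edge_flip (s0_f12723 IH)
theorem s0_f12724 : ed sl_bt sq515 = s0_v1461 :=
  gap_rel s0_rot52 (path_edge (s0_f2069 IH) (path_edge (s0_f779 IH) (path_edge (s0_f12723r IH) (path_nil s0_v1461))))
theorem s0_f12725 : ed sl_gt sq513 = s0_v1461 :=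
  gap_rel s0_rot6 (path_edge (s0_f12723r IH) (path_nil s0_v1461))
theorem s0_f12726 : ed sl_bf s0_v337 = s0_v1462 :=
  rfl
theorem s0_f12726r : ed sl_bt s0_v1462 = s0_v337 :=
  edge_flip (s0_f12726 IH)
theorem s0_f3771r : ed sl_gt s0_v337 = sq468 :=
  edge_flip (s0_f3771 IH)
theorem s0_f12728 : ed sl_gt s0_v877 = s0_v1462 :=
  gap_rel s0_rot21 (path_edge (s0_f8100 IH) (path_edge (s0_f3771r IH) (path_edge (s0_f12726r IH) (path_nil s0_v1462))))
theorem s0_f12728r : ed sl_gf s0_v1462 = s0_v877 :=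
  edge_flip (s0_f12728 IH)
theorem s0_f12729 : ed sl_gf s0_v877 = s0_v1462 :=
  gap_rel s0_rot1 (path_edge (s0_f12728r IH) (path_nil s0_v1462))
theorem s0_f12730 : ed sl_cf s0_v1462 = s0_v1463 :=
  rfl
theorem s0_f12730r : ed sl_ct s0_v1463 = s0_v1462 :=
  edge_flip (s0_f12730 IH)
theorem s0_f12732 : ed sl_ct s0_v1462 = s0_v1463 :=
  gap_rel s0_rot68 (path_edge (s0_f12730r IH) (path_nil s0_v1463))
theorem s0_f12729r : ed sl_gt s0_v1462 = s0_v877 :=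
  edge_flip (s0_f12729 IH)
theorem s0_f12733 : ed sl_gt s0_v878 = s0_v1463 :=
  gap_rel s0_rot5 (path_edge (s0_f8103 IH) (path_edge (s0_f12729r IH) (path_edge (s0_f12730r IH) (path_nil s0_v1463))))
theorem s0_f12733r : ed sl_gf s0_v1463 = s0_v878 :=
  edge_flip (s0_f12733 IH)
theorem s0_f12735 : ed sl_gf s0_v878 = s0_v1463 :=
  gap_rel s0_rot1 (path_edge (s0_f12733r IH) (path_nil s0_v1463))
theorem s0_f12736 : ed sl_af s0_v1463 = s0_v1464 :=
  rfl
theorem s0_f12736r : ed sl_at s0_v1464 = s0_v1463 :=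
  edge_flip (s0_f12736 IH)
theorem s0_f12737 : ed sl_at s0_v1463 = s0_v1464 :=
  gap_rel s0_rot70 (path_edge (s0_f12736r IH) (path_nil s0_v1464))
theorem s0_f12735r : ed sl_gt s0_v1463 = s0_v878 :=
  edge_flip (s0_f12735 IH)
theorem s0_f12738 : ed sl_gt s0_v879 = s0_v1464 :=
  gap_rel s0_rot56 (path_edge (s0_f8106 IH) (path_edge (s0_f12735r IH) (path_edge (s0_f12736r IH) (path_nil s0_v1464))))
theorem s0_f13141 : ed sl_ct s0_v848 = s0_v1551 :=
  rfl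
theorem s0_f13141r : ed sl_cf s0_v1551 = s0_v848 :=
  edge_flip (s0_f13141 IH)
theorem s0_f13142 : ed sl_cf s0_v848 = s0_v1551 :=
  gap_rel s0_rot0 (path_edge (s0_f13141r IH) (path_nil s0_v1551))
theorem s0_f2498r : ed sl_cf sq226 = sq343 :=
  edge_flip (s0_f2498 IH)
theorem s0_f13143 : ed sl_ef sq343 = s0_v1551 :=
  gap_rel s0_rot34 (path_edge (s0_f2498r IH) (path_edge (s0_f7945r IH) (path_edge (s0_f13141r IH) (path_nil s0_v1551))))
theorem s0_f13143r : ed sl_et s0_v1551 = sq343 :=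
  edge_flip (s0_f13143 IH)
theorem s0_f13144 : ed sl_et sq343 = s0_v1551 :=
  gap_rel s0_rot40 (path_edge (s0_f13143r IH) (path_nil s0_v1551))
theorem s0_f15388 : ed sl_bt sq389 = s0_v1814 :=
  rfl
theorem s0_f15388r : ed sl_bf s0_v1814 = sq389 :=
  edge_flip (s0_f15388 IH)
theorem s0_f15389 : ed sl_bf sq389 = s0_v1814 :=
  gap_rel s0_rot74 (path_edge (s0_f15388r IH) (path_nil s0_v1814))
theorem s0_f15396 : ed sl_dt s0_v1165 = s0_v1816 :=
  rfl
theorem s0_f15399 : ed sl_et s0_v1816 = s0_v1817 :=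
  rfl
theorem s0_f15402 : ed sl_dt s0_v1817 = s0_v1818 :=
  rfl
theorem s0_f15402r : ed sl_df s0_v1818 = s0_v1817 :=
  edge_flip (s0_f15402 IH)
theorem s0_f15399r : ed sl_ef s0_v1817 = s0_v1816 :=
  edge_flip (s0_f15399 IH)
theorem s0_f15396r : ed sl_df s0_v1816 = s0_v1165 :=
  edge_flip (s0_f15396 IH)
theorem s0_f10357r : ed sl_ef s0_v1165 = sq258 :=
  edge_flip (s0_f10357 IH)
theorem s0_f15404 : ed sl_ef sq389 = s0_v1818 :=
  gap_rel s0_rot39 (path_edge (s0_f1717r IH) (path_edge (s0_f10357r IH) (path_edge (s0_f15396r IH) (path_edge (s0_f15399r IH) (path_edge (s0_f15402r IH) (path_nil s0_v1818))))))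
theorem s0_f15404r : ed sl_et s0_v1818 = sq389 :=
  edge_flip (s0_f15404 IH)
theorem s0_f15405 : ed sl_et sq389 = s0_v1818 :=
  gap_rel s0_rot40 (path_edge (s0_f15404r IH) (path_nil s0_v1818))
theorem s0_f15555 : ed sl_dt s0_v639 = s0_v1851 :=
  rfl
theorem s0_f15555r : ed sl_df s0_v1851 = s0_v639 :=
  edge_flip (s0_f15555 IH)
theorem s0_f15556 : ed sl_df s0_v639 = s0_v1851 :=
  gap_rel s0_rot3 (path_edge (s0_f15555r IH) (path_nil s0_v1851))
theorem s0_f5912r : ed sl_ef s0_v639 = sq261 :=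
  edge_flip (s0_f5912 IH)
theorem s0_f15557 : ed sl_ef s0_v678 = s0_v1851 :=
  gap_rel s0_rot39 (path_edge (s0_f6106 IH) (path_eq (s0_f12366 IH) (path_edge (s0_f8123 IH) (path_edge (s0_f1769 IH) (path_edge (s0_f5912r IH) (path_edge (s0_f15555r IH) (path_nil s0_v1851)))))))
theorem s0_f15557r : ed sl_et s0_v1851 = s0_v678 :=
  edge_flip (s0_f15557 IH)
theorem s0_f6110r : ed sl_ft s0_v678 = sq343 :=
  edge_flip (s0_f6110 IH)
theorem s0_f15560 : ed sl_ft s0_v1551 = s0_v1851 :=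
  gap_rel s0_rot77 (path_edge (s0_f13144 IH) (path_edge (s0_f6110r IH) (path_edge (s0_f15557r IH) (path_nil s0_v1851))))
theorem s0_f15623 : ed sl_ft s0_v633 = s0_v1859 :=
  rfl
theorem s0_f15623r : ed sl_ff s0_v1859 = s0_v633 :=
  edge_flip (s0_f15623 IH)
theorem s0_f15624 : ed sl_ff s0_v633 = s0_v1859 :=
  gap_rel s0_rot15 (path_edge (s0_f15623r IH) (path_nil s0_v1859))
theorem s0_f15626 : ed sl_dt s0_v1859 = s0_v1860 :=
  rfl
theorem s0_f15626r : ed sl_df s0_v1860 = s0_v1859 :=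
  edge_flip (s0_f15626 IH)
theorem s0_f15627 : ed sl_df s0_v1859 = s0_v1860 :=
  gap_rel s0_rot3 (path_edge (s0_f15626r IH) (path_nil s0_v1860))
theorem s0_f15629 : ed sl_ct s0_v1860 = s0_v1861 :=
  rfl
theorem s0_f15629r : ed sl_cf s0_v1861 = s0_v1860 :=
  edge_flip (s0_f15629 IH)
theorem s0_f15630 : ed sl_cf s0_v1860 = s0_v1861 :=
  gap_rel s0_rot0 (path_edge (s0_f15629r IH) (path_nil s0_v1861))
theorem s0_f15632 : ed sl_gt s0_v1861 = s0_v1862 :=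
  rfl
theorem s0_f15632r : ed sl_gf s0_v1862 = s0_v1861 :=
  edge_flip (s0_f15632 IH)
theorem s0_f15633 : ed sl_gf s0_v1861 = s0_v1862 :=
  gap_rel s0_rot1 (path_edge (s0_f15632r IH) (path_nil s0_v1862))
theorem s0_f15635 : ed sl_ft s0_v1862 = s0_v1863 :=
  rfl
theorem s0_f15635r : ed sl_ff s0_v1863 = s0_v1862 :=
  edge_flip (s0_f15635 IH)
theorem s0_f15636 : ed sl_ff s0_v1862 = s0_v1863 :=
  gap_rel s0_rot15 (path_edge (s0_f15635r IH) (path_nil s0_v1863))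
theorem s0_f15638 : ed sl_dt s0_v1863 = s0_v1864 :=
  rfl
theorem s0_f15638r : ed sl_df s0_v1864 = s0_v1863 :=
  edge_flip (s0_f15638 IH)
theorem s0_f15639 : ed sl_df s0_v1863 = s0_v1864 :=
  gap_rel s0_rot3 (path_edge (s0_f15638r IH) (path_nil s0_v1864))
theorem s0_f15641 : ed sl_ct s0_v1864 = s0_v1865 :=
  rfl
theorem s0_f15641r : ed sl_cf s0_v1865 = s0_v1864 :=
  edge_flip (s0_f15641 IH)
theorem s0_f5858r : ed sl_df s0_v634 = s0_v312 :=
  edge_flip (s0_f5858 IH)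
theorem s0_f10452r : ed sl_gf s0_v1183 = sq262 :=
  edge_flip (s0_f10452 IH)
theorem s0_f15560r : ed sl_ff s0_v1851 = s0_v1551 :=
  edge_flip (s0_f15560 IH)
theorem s0_f15643 : ed sl_gf s0_v1551 = s0_v1865 :=
  gap_rel s0_rot4 (path_edge (s0_f15560r IH) (path_edge (s0_f15556 IH) (path_edge (s0_f5909 IH) (path_edge (s0_f10452r IH) (path_edge (s0_f10447 IH) (path_edge (s0_f5858r IH) (path_edge (s0_f5856 IH) (path_edge (s0_f5861 IH) (path_edge (s0_f15623r IH) (path_edge (s0_f15626r IH) (path_edge (s0_f15629r IH) (path_edge (s0_f15632r IH) (path_edge (s0_f15635r IH) (path_edge (s0_f15638r IH) (path_edge (s0_f15641r IH) (path_nil s0_v1865))))))))))))))))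
theorem s0_f15643r : ed sl_gt s0_v1865 = s0_v1551 :=
  edge_flip (s0_f15643 IH)
theorem s0_f13142r : ed sl_ct s0_v1551 = s0_v848 :=
  edge_flip (s0_f13142 IH)
theorem s0_f15647 : s0_v1416 = s0_v1864 :=
  (loop_rel s0_rot5 (path_edge (s0_f12500 IH) (path_edge (s0_f13142r IH) (path_edge (s0_f15643r IH) (path_edge (s0_f15641 IH) (path_nil s0_v1864)))))).symm
theorem s0_f15639r : ed sl_dt s0_v1864 = s0_v1863 :=
  edge_flip (s0_f15639 IH)
theorem s0_f12496r : ed sl_dt s0_v1416 = s0_v875 :=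
  edge_flip (s0_f12496 IH)
theorem s0_f15648 : s0_v1863 = s0_v875 :=
  edge_fun (edge_congr (s0_f15639r IH) (s0_f15647 IH).symm) (s0_f12496r IH)
theorem s0_f15636r : ed sl_ft s0_v1863 = s0_v1862 :=
  edge_flip (s0_f15636 IH)
theorem s0_f8087r : ed sl_ft s0_v875 = s0_v195 :=
  edge_flip (s0_f8087 IH)
theorem s0_f15649 : s0_v1862 = s0_v195 :=
  edge_fun (edge_congr (s0_f15636r IH) (s0_f15648 IH)) (s0_f8087r IH)
theorem s0_f15633r : ed sl_gt s0_v1862 = s0_v1861 :=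
  edge_flip (s0_f15633 IH)
theorem s0_f15650 : s0_v1861 = s0_v182 :=
  edge_fun (edge_congr (s0_f15633r IH) (s0_f15649 IH)) (s0_f2422r IH)
theorem s0_f15630r : ed sl_ct s0_v1861 = s0_v1860 :=
  edge_flip (s0_f15630 IH)
theorem s0_f15651 : s0_v1860 = s0_v873 :=
  edge_fun (edge_congr (s0_f15630r IH) (s0_f15650 IH)) (s0_f8065 IH)
theorem s0_f15627r : ed sl_dt s0_v1860 = s0_v1859 :=
  edge_flip (s0_f15627 IH)
theorem s0_f15652 : s0_v1859 = s0_v1437 :=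
  edge_fun (edge_congr (s0_f15627r IH) (s0_f15651 IH)) (s0_f12615 IH)
theorem s0_f15624r : ed sl_ft s0_v1859 = s0_v633 :=
  edge_flip (s0_f15624 IH)
theorem s0_f15653 : s0_v633 = s0_v1438 :=
  edge_fun (edge_congr (s0_f15624r IH) (s0_f15652 IH)) (s0_f12618 IH)
theorem s0_f12619r : ed sl_dt s0_v1438 = sq545 :=
  edge_flip (s0_f12619 IH)
theorem s0_f5853r : ed sl_dt s0_v633 = s0_v632 :=
  edge_flip (s0_f5853 IH)
theorem s0_f15654 : sq545 = s0_v632 :=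
  edge_fun (edge_congr (s0_f12619r IH) (s0_f15653 IH).symm) (s0_f5853r IH)
theorem s0_f12622r : ed sl_df s0_v1438 = sq545 :=
  edge_flip (s0_f12622 IH)
theorem s0_f15657 : ed sl_df s0_v888 = s0_v888 :=
  gap_rel s0_rot44 (path_edge (s0_f8147 IH) (path_edge (s0_f12622r IH) (path_eq (s0_f15653 IH) (path_edge (s0_f5861 IH) (path_edge (s0_f5853 IH) (path_eq (s0_f15654 IH) (path_edge (s0_f8150r IH) (path_nil s0_v888))))))))
theorem s0_f10425r : ed sl_ff s0_v1179 = sq389 :=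
  edge_flip (s0_f10425 IH)
theorem s0_f8077r : ed sl_ff sq545 = sq340 :=
  edge_flip (s0_f8077 IH)
theorem s0_f4511r : ed sl_cf sq340 = sq544 :=
  edge_flip (s0_f4511 IH)
theorem s0_f15674 : sq544 = s0_v1179 :=
  (loop_rel s0_rot57 (path_edge (s0_f4511r IH) (path_edge (s0_f8077r IH) (path_eq (s0_f15654 IH).symm (path_edge (s0_f5850 IH) (path_edge (s0_f10425r IH) (path_nil s0_v1179))))))).symm
theorem s0_f12629r : ed sl_gf s0_v1440 = sq340 :=
  edge_flip (s0_f12629 IH)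
theorem s0_f15678 : s0_v1177 = s0_v1440 :=
  (loop_rel s0_rot43 (path_edge (s0_f10419r IH) (path_edge (s0_f10422r IH) (path_eq (s0_f15674 IH) (path_edge (s0_f4511r IH) (path_edge (s0_f12629r IH) (path_nil s0_v1440))))))).symm
theorem s0_f18881 : ed sl_bt s0_v1330 = s0_v2304 :=
  rfl
theorem s0_f18881r : ed sl_bf s0_v2304 = s0_v1330 :=
  edge_flip (s0_f18881 IH)
theorem s0_f18882 : ed sl_bf s0_v1330 = s0_v2304 :=
  gap_rel s0_rot74 (path_edge (s0_f18881r IH) (path_nil s0_v2304))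
theorem s0_f12038r : ed sl_ff s0_v1330 = sq319 :=
  edge_flip (s0_f12038 IH)
theorem s0_f18884 : ed sl_ff sq513 = s0_v2304 :=
  gap_rel s0_rot75 (path_edge (s0_f779r IH) (path_edge (s0_f12038r IH) (path_edge (s0_f18881r IH) (path_nil s0_v2304))))
theorem s0_f18884r : ed sl_ft s0_v2304 = sq513 :=
  edge_flip (s0_f18884 IH)
theorem s0_f18886 : ed sl_ft sq513 = s0_v2304 :=
  gap_rel s0_rot25 (path_edge (s0_f18884r IH) (path_nil s0_v2304))
theorem s0_f18942 : ed sl_af s0_v1462 = s0_v2313 :=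
  rfl
theorem s0_f18942r : ed sl_at s0_v2313 = s0_v1462 :=
  edge_flip (s0_f18942 IH)
theorem s0_f18944 : ed sl_ct s0_v1464 = s0_v2313 :=
  gap_rel s0_rot78 (path_edge (s0_f12737 IH) (path_edge (s0_f12732 IH) (path_edge (s0_f18942r IH) (path_nil s0_v2313))))
theorem s0_f18945 : ed sl_gt s0_v1334 = s0_v2313 :=
  gap_rel s0_rot56 (path_edge (s0_f12067 IH) (path_edge (s0_f12729r IH) (path_edge (s0_f18942r IH) (path_nil s0_v2313))))
theorem s0_f20262 : ed sl_at sq543 = s0_v2586 :=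
  rfl
theorem s0_f20262r : ed sl_af s0_v2586 = sq543 :=
  edge_flip (s0_f20262 IH)
theorem s0_f20263 : ed sl_af sq543 = s0_v2586 :=
  gap_rel s0_rot79 (path_edge (s0_f20262r IH) (path_nil s0_v2586))
theorem s0_f20280 : ed sl_ct sq543 = s0_v2589 :=
  rfl
theorem s0_f20280r : ed sl_cf s0_v2589 = sq543 :=
  edge_flip (s0_f20280 IH)
theorem s0_f20281 : ed sl_cf sq543 = s0_v2589 :=
  gap_rel s0_rot0 (path_edge (s0_f20280r IH) (path_nil s0_v2589))
theorem s0_f20335 : ed sl_dt s0_v879 = s0_v2601 :=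
  rfl
theorem s0_f20335r : ed sl_df s0_v2601 = s0_v879 :=
  edge_flip (s0_f20335 IH)
theorem s0_f20336 : ed sl_bf s0_v1434 = s0_v2601 :=
  gap_rel s0_rot30 (path_edge (s0_f12602 IH) (path_edge (s0_f8107r IH) (path_edge (s0_f20335r IH) (path_nil s0_v2601))))
theorem s0_f20339 : ed sl_et s0_v2601 = s0_v2602 :=
  rfl
theorem s0_f20339r : ed sl_ef s0_v2602 = s0_v2601 :=
  edge_flip (s0_f20339 IH)
theorem s0_f20341 : ed sl_ef s0_v2601 = s0_v2602 :=
  gap_rel s0_rot13 (path_edge (s0_f20339r IH) (path_nil s0_v2602))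
theorem s0_f20341r : ed sl_et s0_v2602 = s0_v2601 :=
  edge_flip (s0_f20341 IH)
theorem s0_f20336r : ed sl_bt s0_v2601 = s0_v1434 :=
  edge_flip (s0_f20336 IH)
theorem s0_f20342 : ed sl_bt s0_v1435 = s0_v2602 :=
  gap_rel s0_rot80 (path_edge (s0_f12606 IH) (path_edge (s0_f20336r IH) (path_edge (s0_f20341r IH) (path_nil s0_v2602))))
theorem s0_f20343 : ed sl_dt s0_v2602 = s0_v2603 :=
  rfl
theorem s0_f20343r : ed sl_df s0_v2603 = s0_v2602 :=
  edge_flip (s0_f20343 IH)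
theorem s0_f20342r : ed sl_bf s0_v2602 = s0_v1435 :=
  edge_flip (s0_f20342 IH)
theorem s0_f20344 : ed sl_bf s0_v1436 = s0_v2603 :=
  gap_rel s0_rot30 (path_edge (s0_f12610 IH) (path_edge (s0_f20342r IH) (path_edge (s0_f20343r IH) (path_nil s0_v2603))))
theorem s0_f8111r : ed sl_ef s0_v879 = sq339 :=
  edge_flip (s0_f8111 IH)
theorem s0_f8112r : ed sl_df sq339 = sq543 :=
  edge_flip (s0_f8112 IH)
theorem s0_f20346 : ed sl_ef sq543 = s0_v2603 :=
  gap_rel s0_rot39 (path_edge (s0_f8112r IH) (path_edge (s0_f8111r IH) (path_edge (s0_f20335r IH) (path_edge (s0_f20339r IH) (path_edge (s0_f20343r IH) (path_nil s0_v2603))))))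
theorem s0_f20349 : ed sl_dt s0_v1432 = s0_v2604 :=
  rfl
theorem s0_f20349r : ed sl_df s0_v2604 = s0_v1432 :=
  edge_flip (s0_f20349 IH)
theorem s0_f20350 : ed sl_bf s0_v1437 = s0_v2604 :=
  gap_rel s0_rot30 (path_edge (s0_f12616 IH) (path_edge (s0_f12591r IH) (path_edge (s0_f20349r IH) (path_nil s0_v2604))))
theorem s0_f20351 : ed sl_df s0_v1432 = s0_v2604 :=
  gap_rel s0_rot3 (path_edge (s0_f20349r IH) (path_nil s0_v2604))
theorem s0_f20351r : ed sl_dt s0_v2604 = s0_v1432 :=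
  edge_flip (s0_f20351 IH)
theorem s0_f12592r : ed sl_bt s0_v1432 = s0_v873 :=
  edge_flip (s0_f12592 IH)
theorem s0_f20352 : ed sl_bt s0_v1437 = s0_v2604 :=
  gap_rel s0_rot81 (path_edge (s0_f12615 IH) (path_edge (s0_f12592r IH) (path_edge (s0_f20351r IH) (path_nil s0_v2604))))
theorem s0_f20353 : ed sl_ft s0_v2604 = s0_v2605 :=
  rfl
theorem s0_f20353r : ed sl_ff s0_v2605 = s0_v2604 :=
  edge_flip (s0_f20353 IH)
theorem s0_f20352r : ed sl_bf s0_v2604 = s0_v1437 :=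
  edge_flip (s0_f20352 IH)
theorem s0_f20354 : ed sl_bf s0_v1438 = s0_v2605 :=
  gap_rel s0_rot50 (path_edge (s0_f12620 IH) (path_edge (s0_f20352r IH) (path_edge (s0_f20353r IH) (path_nil s0_v2605))))
theorem s0_f12595r : ed sl_ff s0_v1432 = sq339 :=
  edge_flip (s0_f12595 IH)
theorem s0_f12596r : ed sl_ff sq543 = sq877 :=
  edge_flip (s0_f12596 IH)
theorem s0_f20355 : ed sl_df sq877 = s0_v2605 :=
  gap_rel s0_rot51 (path_edge (s0_f12596r IH) (path_edge (s0_f8112r IH) (path_edge (s0_f12595r IH) (path_edge (s0_f20349r IH) (path_edge (s0_f20353r IH) (path_nil s0_v2605))))))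
theorem s0_f20356 : ed sl_ff s0_v2604 = s0_v2605 :=
  gap_rel s0_rot15 (path_edge (s0_f20353r IH) (path_nil s0_v2605))
theorem s0_f20356r : ed sl_ft s0_v2605 = s0_v2604 :=
  edge_flip (s0_f20356 IH)
theorem s0_f20350r : ed sl_bt s0_v2604 = s0_v1437 :=
  edge_flip (s0_f20350 IH)
theorem s0_f20357 : ed sl_bt s0_v1438 = s0_v2605 :=
  gap_rel s0_rot82 (path_edge (s0_f12618 IH) (path_edge (s0_f20350r IH) (path_edge (s0_f20356r IH) (path_nil s0_v2605))))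
theorem s0_f20358 : ed sl_dt sq877 = s0_v2605 :=
  gap_rel s0_rot32 (path_edge (s0_f12594 IH) (path_edge (s0_f8110 IH) (path_edge (s0_f12593r IH) (path_edge (s0_f20351r IH) (path_edge (s0_f20356r IH) (path_nil s0_v2605))))))
theorem s0_f20357r : ed sl_bf s0_v2605 = s0_v1438 :=
  edge_flip (s0_f20357 IH)
theorem s0_f20360 : ed sl_gf s0_v2605 = s0_v2605 :=
  gap_rel s0_rot76 (path_edge (s0_f20354 IH) (path_eq (s0_f15653 IH) (path_edge (s0_f5861 IH) (path_eq (s0_f15653 IH).symm (path_edge (s0_f20357r IH) (path_nil s0_v2605))))))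
theorem s0_f20362 : ed sl_dt s0_v1433 = s0_v2606 :=
  rfl
theorem s0_f20366 : ed sl_gt s0_v2606 = s0_v2607 :=
  rfl
theorem s0_f20370 : ed sl_dt s0_v2607 = s0_v2608 :=
  rfl
theorem s0_f20370r : ed sl_df s0_v2608 = s0_v2607 :=
  edge_flip (s0_f20370 IH)
theorem s0_f20366r : ed sl_gf s0_v2607 = s0_v2606 :=
  edge_flip (s0_f20366 IH)
theorem s0_f20362r : ed sl_df s0_v2606 = s0_v1433 :=
  edge_flip (s0_f20362 IH)
theorem s0_f20373 : ed sl_gf sq543 = s0_v2608 :=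
  gap_rel s0_rot11 (path_edge (s0_f8112r IH) (path_edge (s0_f12600r IH) (path_edge (s0_f20362r IH) (path_edge (s0_f20366r IH) (path_edge (s0_f20370r IH) (path_nil s0_v2608))))))
theorem s0_f20373r : ed sl_gt s0_v2608 = sq543 :=
  edge_flip (s0_f20373 IH)
theorem s0_f20375 : ed sl_gt sq543 = s0_v2608 :=
  gap_rel s0_rot6 (path_edge (s0_f20373r IH) (path_nil s0_v2608))
theorem s0_f20376 : ed sl_et s0_v1432 = s0_v2609 :=
  rfl
theorem s0_f20376r : ed sl_ef s0_v2609 = s0_v1432 :=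
  edge_flip (s0_f20376 IH)
theorem s0_f20379 : ed sl_ff s0_v879 = s0_v2609 :=
  gap_rel s0_rot53 (path_edge (s0_f8109 IH) (path_edge (s0_f12595r IH) (path_edge (s0_f20376r IH) (path_nil s0_v2609))))
theorem s0_f20382 : ed sl_ft s0_v1433 = s0_v2610 :=
  rfl
theorem s0_f20382r : ed sl_ff s0_v2610 = s0_v1433 :=
  edge_flip (s0_f20382 IH)
theorem s0_f20385 : ed sl_gf s0_v2609 = s0_v2610 :=
  gap_rel s0_rot22 (path_edge (s0_f20379 IH) (path_edge (s0_f8111 IH) (path_edge (s0_f12600r IH) (path_edge (s0_f20382r IH) (path_nil s0_v2610)))))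
theorem s0_f20388 : ed sl_ft s0_v1464 = s0_v2611 :=
  rfl
theorem s0_f20388r : ed sl_ff s0_v2611 = s0_v1464 :=
  edge_flip (s0_f20388 IH)
theorem s0_f20391 : ed sl_ff s0_v1464 = s0_v2611 :=
  gap_rel s0_rot15 (path_edge (s0_f20388r IH) (path_nil s0_v2611))
theorem s0_f12738r : ed sl_gf s0_v1464 = s0_v879 :=
  edge_flip (s0_f12738 IH)
theorem s0_f20392 : ed sl_gf s0_v1432 = s0_v2611 :=
  gap_rel s0_rot18 (path_edge (s0_f12593 IH) (path_edge (s0_f12600r IH) (path_edge (s0_f20382r IH) (path_edge (s0_f20385 IH) (path_edge (s0_f20379 IH) (path_edge (s0_f12738r IH) (path_edge (s0_f20388r IH) (path_nil s0_v2611))))))))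
theorem s0_f20447 : ed sl_ct s0_v1436 = s0_v2624 :=
  rfl
theorem s0_f20447r : ed sl_cf s0_v2624 = s0_v1436 :=
  edge_flip (s0_f20447 IH)
theorem s0_f20449 : ed sl_ef sq544 = s0_v2624 :=
  gap_rel s0_rot34 (path_edge (s0_f4511r IH) (path_edge (s0_f12612r IH) (path_edge (s0_f20447r IH) (path_nil s0_v2624))))
theorem s0_f20449r : ed sl_et s0_v2624 = sq544 :=
  edge_flip (s0_f20449 IH)
theorem s0_f20451 : ed sl_ft s0_v1818 = s0_v2624 :=
  gap_rel s0_rot77 (path_edge (s0_f15405 IH) (path_edge (s0_f10424r IH) (path_eq (s0_f15674 IH) (path_edge (s0_f20449r IH) (path_nil s0_v2624)))))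
theorem s0_f20451r : ed sl_ff s0_v2624 = s0_v1818 :=
  edge_flip (s0_f20451 IH)
theorem s0_f20452 : ed sl_ff s0_v1818 = s0_v2624 :=
  gap_rel s0_rot15 (path_edge (s0_f20451r IH) (path_nil s0_v2624))
theorem s0_f20454 : ed sl_et sq545 = s0_v2625 :=
  rfl
theorem s0_f20454r : ed sl_ef s0_v2625 = sq545 :=
  edge_flip (s0_f20454 IH)
theorem s0_f20457 : ed sl_ff s0_v1436 = s0_v2625 :=
  gap_rel s0_rot53 (path_edge (s0_f12611 IH) (path_edge (s0_f8077r IH) (path_edge (s0_f20454r IH) (path_nil s0_v2625))))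
theorem s0_f20457r : ed sl_ft s0_v2625 = s0_v1436 :=
  edge_flip (s0_f20457 IH)
theorem s0_f20452r : ed sl_ft s0_v2624 = s0_v1818 :=
  edge_flip (s0_f20452 IH)
theorem s0_f20458 : ed sl_ct s0_v1818 = s0_v2625 :=
  gap_rel s0_rot83 (path_edge (s0_f20452r IH) (path_edge (s0_f20447 IH) (path_edge (s0_f20457r IH) (path_nil s0_v2625))))
theorem s0_f20459 : ed sl_ft s0_v1436 = s0_v2625 :=
  gap_rel s0_rot25 (path_edge (s0_f20457r IH) (path_nil s0_v2625))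
theorem s0_f20459r : ed sl_ff s0_v2625 = s0_v1436 :=
  edge_flip (s0_f20459 IH)
theorem s0_f20460 : ed sl_af s0_v2625 = s0_v2625 :=
  gap_rel s0_rot55 (path_edge (s0_f20457 IH) (path_edge (s0_f12614 IH) (path_edge (s0_f20459r IH) (path_nil s0_v2625))))
theorem s0_f20461 : ed sl_et s0_v1177 = s0_v2626 :=
  rfl
theorem s0_f20461r : ed sl_ef s0_v2626 = s0_v1177 :=
  edge_flip (s0_f20461 IH)
theorem s0_f20462 : ed sl_ef s0_v1177 = s0_v2626 :=
  gap_rel s0_rot13 (path_edge (s0_f20461r IH) (path_nil s0_v2626))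
theorem s0_f20464 : ed sl_ft s0_v888 = s0_v2626 :=
  gap_rel s0_rot14 (path_edge (s0_f8150 IH) (path_edge (s0_f8077 IH) (path_edge (s0_f12628r IH) (path_eq (s0_f15678 IH) (path_edge (s0_f20461r IH) (path_nil s0_v2626))))))
theorem s0_f20464r : ed sl_ff s0_v2626 = s0_v888 :=
  edge_flip (s0_f20464 IH)
theorem s0_f20465 : ed sl_ff s0_v888 = s0_v2626 :=
  gap_rel s0_rot15 (path_edge (s0_f20464r IH) (path_nil s0_v2626))
theorem s0_f20465r : ed sl_ft s0_v2626 = s0_v888 :=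
  edge_flip (s0_f20465 IH)
theorem s0_f20467 : ed sl_gt s0_v1436 = s0_v2626 :=
  gap_rel s0_rot16 (path_edge (s0_f12611 IH) (path_edge (s0_f8076 IH) (path_edge (s0_f8147r IH) (path_edge (s0_f20465r IH) (path_nil s0_v2626)))))
theorem s0_f20468 : ed sl_ft s0_v1177 = s0_v2627 :=
  rfl
theorem s0_f20468r : ed sl_ff s0_v2627 = s0_v1177 :=
  edge_flip (s0_f20468 IH)
theorem s0_f20469 : ed sl_ef s0_v888 = s0_v2627 :=
  gap_rel s0_rot17 (path_edge (s0_f20464r IH) (path_edge (s0_f20462 IH) (path_edge (s0_f20468r IH) (path_nil s0_v2627))))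
theorem s0_f20467r : ed sl_gf s0_v2626 = s0_v1436 :=
  edge_flip (s0_f20467 IH)
theorem s0_f20471 : ed sl_gf s0_v2625 = s0_v2627 :=
  gap_rel s0_rot18 (path_edge (s0_f20457 IH) (path_edge (s0_f20467r IH) (path_edge (s0_f20465 IH) (path_edge (s0_f8147 IH) (path_edge (s0_f8076r IH) (path_edge (s0_f12629r IH) (path_eq (s0_f15678 IH) (path_edge (s0_f20468r IH) (path_nil s0_v2627)))))))))
theorem s0_f20472 : ed sl_et s0_v888 = s0_v2627 :=
  gap_rel s0_rot19 (path_edge (s0_f8147 IH) (path_edge (s0_f8076r IH) (path_edge (s0_f12629r IH) (path_eq (s0_f15678 IH) (path_edge (s0_f20468r IH) (path_nil s0_v2627))))))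
theorem s0_f20472r : ed sl_ef s0_v2627 = s0_v888 :=
  edge_flip (s0_f20472 IH)
theorem s0_f20473 : ed sl_af s0_v2627 = s0_v2627 :=
  gap_rel s0_rot41 (path_edge (s0_f20469 IH) (path_edge (s0_f8151 IH) (path_edge (s0_f20472r IH) (path_nil s0_v2627))))
theorem s0_f20473r : ed sl_at s0_v2627 = s0_v2627 :=
  edge_flip (s0_f20473 IH)
theorem s0_f20471r : ed sl_gt s0_v2627 = s0_v2625 :=
  edge_flip (s0_f20471 IH)
theorem s0_f20460r : ed sl_at s0_v2625 = s0_v2625 :=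
  edge_flip (s0_f20460 IH)
theorem s0_f20474 : ed sl_gt s0_v2625 = s0_v2627 :=
  gap_rel s0_rot56 (path_edge (s0_f20460r IH) (path_edge (s0_f20471r IH) (path_edge (s0_f20473r IH) (path_nil s0_v2627))))
theorem s0_f20487 : ed sl_dt s0_v2627 = s0_v2631 :=
  rfl
theorem s0_f20487r : ed sl_df s0_v2631 = s0_v2627 :=
  edge_flip (s0_f20487 IH)
theorem s0_f20488 : ed sl_df s0_v2627 = s0_v2631 :=
  gap_rel s0_rot3 (path_edge (s0_f20487r IH) (path_nil s0_v2631))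
theorem s0_f20489 : ed sl_ef s0_v2631 = s0_v2631 :=
  gap_rel s0_rot39 (path_edge (s0_f20488 IH) (path_edge (s0_f20469 IH) (path_edge (s0_f15657 IH) (path_edge (s0_f20472r IH) (path_edge (s0_f20487r IH) (path_nil s0_v2631))))))
theorem s0_f20488r : ed sl_dt s0_v2631 = s0_v2627 :=
  edge_flip (s0_f20488 IH)
theorem s0_f20490 : ed sl_at s0_v2631 = s0_v2631 :=
  gap_rel s0_rot10 (path_edge (s0_f20487 IH) (path_edge (s0_f20473r IH) (path_edge (s0_f20488r IH) (path_nil s0_v2631))))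
theorem s0_f20491 : ed sl_ct s0_v2631 = s0_v2632 :=
  rfl
theorem s0_f20491r : ed sl_cf s0_v2632 = s0_v2631 :=
  edge_flip (s0_f20491 IH)
theorem s0_f20492 : ed sl_cf s0_v2631 = s0_v2632 :=
  gap_rel s0_rot0 (path_edge (s0_f20491r IH) (path_nil s0_v2632))
theorem s0_f20492r : ed sl_ct s0_v2632 = s0_v2631 :=
  edge_flip (s0_f20492 IH)
theorem s0_f20494 : ed sl_at s0_v2632 = s0_v2632 :=
  gap_rel s0_rot12 (path_edge (s0_f20491 IH) (path_edge (s0_f20490 IH) (path_edge (s0_f20492r IH) (path_nil s0_v2632))))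
theorem s0_f23568 : ed sl_ct sq877 = s0_v3171 :=
  rfl
theorem s0_f23572 : ed sl_bt s0_v3171 = s0_v3172 :=
  rfl
theorem s0_f23572r : ed sl_bf s0_v3172 = s0_v3171 :=
  edge_flip (s0_f23572 IH)
theorem s0_f23568r : ed sl_cf s0_v3171 = sq877 :=
  edge_flip (s0_f23568 IH)
theorem s0_f8149r : ed sl_bf sq877 = sq545 :=
  edge_flip (s0_f8149 IH)
theorem s0_f23574 : ed sl_cf s0_v1814 = s0_v3172 :=
  gap_rel s0_rot84 (path_edge (s0_f15389 IH) (path_edge (s0_f5849r IH) (path_eq (s0_f15654 IH) (path_edge (s0_f8149r IH) (path_edge (s0_f23568r IH) (path_edge (s0_f23572r IH) (path_nil s0_v3172)))))))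
theorem s0_f23608 : ed sl_af s0_v3172 = s0_v3177 :=
  rfl
theorem s0_f23612 : ed sl_bf s0_v3177 = s0_v3178 :=
  rfl
theorem s0_f23614 : ed sl_cf s0_v3178 = s0_v3179 :=
  rfl
theorem s0_f23616 : ed sl_af s0_v3179 = s0_v3180 :=
  rfl
theorem s0_f23616r : ed sl_at s0_v3180 = s0_v3179 :=
  edge_flip (s0_f23616 IH)
theorem s0_f23614r : ed sl_ct s0_v3179 = s0_v3178 :=
  edge_flip (s0_f23614 IH)
theorem s0_f23612r : ed sl_bt s0_v3178 = s0_v3177 :=
  edge_flip (s0_f23612 IH)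
theorem s0_f23608r : ed sl_at s0_v3177 = s0_v3172 :=
  edge_flip (s0_f23608 IH)
theorem s0_f23574r : ed sl_ct s0_v3172 = s0_v1814 :=
  edge_flip (s0_f23574 IH)
theorem s0_f15389r : ed sl_bt s0_v1814 = sq389 :=
  edge_flip (s0_f15389 IH)
theorem s0_f23618 : ed sl_bt s0_v2625 = s0_v3180 :=
  gap_rel s0_rot71 (path_edge (s0_f20458 IH) (path_edge (s0_f15404 IH) (path_edge (s0_f3053 IH) (path_edge (s0_f15389r IH) (path_edge (s0_f23574r IH) (path_edge (s0_f23608r IH) (path_edge (s0_f23612r IH) (path_edge (s0_f23614r IH) (path_edge (s0_f23616r IH) (path_nil s0_v3180))))))))))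
theorem s0_f23618r : ed sl_bf s0_v3180 = s0_v2625 :=
  edge_flip (s0_f23618 IH)
theorem s0_f23619 : ed sl_bf s0_v2625 = s0_v3180 :=
  gap_rel s0_rot74 (path_edge (s0_f23618r IH) (path_nil s0_v3180))
theorem s0_f23621 : ed sl_ff s0_v2603 = s0_v3180 :=
  gap_rel s0_rot75 (path_edge (s0_f20344 IH) (path_edge (s0_f20459r IH) (path_edge (s0_f23618r IH) (path_nil s0_v3180))))
theorem s0_f29342 : ed sl_et s0_v2304 = s0_v4175 :=
  rfl
theorem s0_f29342r : ed sl_ef s0_v4175 = s0_v2304 :=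
  edge_flip (s0_f29342 IH)
theorem s0_f18886r : ed sl_ff s0_v2304 = sq513 :=
  edge_flip (s0_f18886 IH)
theorem s0_f29347 : ed sl_ff s0_v1334 = s0_v4175 :=
  gap_rel s0_rot53 (path_edge (s0_f12072 IH) (path_edge (s0_f18886r IH) (path_edge (s0_f29342r IH) (path_nil s0_v4175))))
theorem s0_f29352 : ed sl_ft s0_v1461 = s0_v4176 :=
  rfl
theorem s0_f29352r : ed sl_ff s0_v4176 = s0_v1461 :=
  edge_flip (s0_f29352 IH)
theorem s0_f12724r : ed sl_bf s0_v1461 = sq515 :=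
  edge_flip (s0_f12724 IH)
theorem s0_f29353 : ed sl_bf s0_v145 = s0_v4176 :=
  gap_rel s0_rot50 (path_edge (s0_f2073 IH) (path_edge (s0_f12724r IH) (path_edge (s0_f29352r IH) (path_nil s0_v4176))))
theorem s0_f12725r : ed sl_gf s0_v1461 = sq513 :=
  edge_flip (s0_f12725 IH)
theorem s0_f29356 : ed sl_gf s0_v4175 = s0_v4176 :=
  gap_rel s0_rot22 (path_edge (s0_f29347 IH) (path_edge (s0_f12075 IH) (path_edge (s0_f12725r IH) (path_edge (s0_f29352r IH) (path_nil s0_v4176)))))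
theorem s0_f29360 : ed sl_ft s0_v2313 = s0_v4177 :=
  rfl
theorem s0_f29360r : ed sl_ff s0_v4177 = s0_v2313 :=
  edge_flip (s0_f29360 IH)
theorem s0_f18944r : ed sl_cf s0_v2313 = s0_v1464 :=
  edge_flip (s0_f18944 IH)
theorem s0_f29362 : ed sl_cf s0_v2611 = s0_v4177 :=
  gap_rel s0_rot57 (path_edge (s0_f20391 IH) (path_edge (s0_f18944r IH) (path_edge (s0_f29360r IH) (path_nil s0_v4177))))
theorem s0_f18945r : ed sl_gf s0_v2313 = s0_v1334 :=
  edge_flip (s0_f18945 IH)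
theorem s0_f29365 : ed sl_gf s0_v2304 = s0_v4177 :=
  gap_rel s0_rot18 (path_edge (s0_f18884 IH) (path_edge (s0_f12725r IH) (path_edge (s0_f29352r IH) (path_edge (s0_f29356 IH) (path_edge (s0_f29347 IH) (path_edge (s0_f18945r IH) (path_edge (s0_f29360r IH) (path_nil s0_v4177))))))))
theorem s0_f29365r : ed sl_gt s0_v4177 = s0_v2304 :=
  edge_flip (s0_f29365 IH)
theorem s0_f18882r : ed sl_bt s0_v2304 = s0_v1330 :=
  edge_flip (s0_f18882 IH)
theorem s0_f12031r : ed sl_gt s0_v1330 = s0_v146 :=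
  edge_flip (s0_f12031 IH)
theorem s0_f29367 : ed sl_bt s0_v146 = s0_v4177 :=
  gap_rel s0_rot52 (path_edge (s0_f12031r IH) (path_edge (s0_f18882r IH) (path_edge (s0_f29365r IH) (path_nil s0_v4177))))
theorem s0_f29367r : ed sl_bf s0_v4177 = s0_v146 :=
  edge_flip (s0_f29367 IH)
theorem s0_f29370 : ed sl_df s0_v4176 = s0_v4177 :=
  gap_rel s0_rot85 (path_edge (s0_f29353 IH) (path_edge (s0_f2075r IH) (path_edge (s0_f29367r IH) (path_nil s0_v4177))))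
theorem s0_f29370r : ed sl_dt s0_v4177 = s0_v4176 :=
  edge_flip (s0_f29370 IH)
theorem s0_f29371 : ed sl_dt s0_v4176 = s0_v4177 :=
  gap_rel s0_rot61 (path_edge (s0_f29370r IH) (path_nil s0_v4177))
theorem s0_f29372 : ed sl_gt s0_v2589 = s0_v4178 :=
  rfl
theorem s0_f29372r : ed sl_gf s0_v4178 = s0_v2589 :=
  edge_flip (s0_f29372 IH)
theorem s0_f29373 : ed sl_cf s0_v2608 = s0_v4178 :=
  gap_rel s0_rot43 (path_edge (s0_f20373 IH) (path_edge (s0_f20280r IH) (path_edge (s0_f29372r IH) (path_nil s0_v4178))))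
theorem s0_f29374 : ed sl_gf s0_v2589 = s0_v4178 :=
  gap_rel s0_rot1 (path_edge (s0_f29372r IH) (path_nil s0_v4178))
theorem s0_f29374r : ed sl_gt s0_v4178 = s0_v2589 :=
  edge_flip (s0_f29374 IH)
theorem s0_f20281r : ed sl_ct s0_v2589 = sq543 :=
  edge_flip (s0_f20281 IH)
theorem s0_f29375 : ed sl_ct s0_v2608 = s0_v4178 :=
  gap_rel s0_rot2 (path_edge (s0_f20375 IH) (path_edge (s0_f20281r IH) (path_edge (s0_f29374r IH) (path_nil s0_v4178))))
theorem s0_f29376 : ed sl_ft s0_v4178 = s0_v4179 :=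
  rfl
theorem s0_f29376r : ed sl_ff s0_v4179 = s0_v4178 :=
  edge_flip (s0_f29376 IH)
theorem s0_f29377 : ed sl_ff s0_v4178 = s0_v4179 :=
  gap_rel s0_rot15 (path_edge (s0_f29376r IH) (path_nil s0_v4179))
theorem s0_f29378 : ed sl_dt s0_v4179 = s0_v4180 :=
  rfl
theorem s0_f29378r : ed sl_df s0_v4180 = s0_v4179 :=
  edge_flip (s0_f29378 IH)
theorem s0_f29379 : ed sl_df s0_v4179 = s0_v4180 :=
  gap_rel s0_rot3 (path_edge (s0_f29378r IH) (path_nil s0_v4180))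
theorem s0_f29380 : ed sl_ct s0_v4180 = s0_v4181 :=
  rfl
theorem s0_f29380r : ed sl_cf s0_v4181 = s0_v4180 :=
  edge_flip (s0_f29380 IH)
theorem s0_f29381 : ed sl_cf s0_v4180 = s0_v4181 :=
  gap_rel s0_rot0 (path_edge (s0_f29380r IH) (path_nil s0_v4181))
theorem s0_f8110r : ed sl_df sq543 = sq339 :=
  edge_flip (s0_f8110 IH)
theorem s0_f29371r : ed sl_df s0_v4177 = s0_v4176 :=
  edge_flip (s0_f29371 IH)
theorem s0_f780r : ed sl_cf sq513 = sq339 :=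
  edge_flip (s0_f780 IH)
theorem s0_f29382 : ed sl_gf sq877 = s0_v4181 :=
  gap_rel s0_rot4 (path_edge (s0_f12596r IH) (path_edge (s0_f8112r IH) (path_edge (s0_f780r IH) (path_edge (s0_f12725r IH) (path_edge (s0_f29352r IH) (path_edge (s0_f29371r IH) (path_edge (s0_f29362 IH) (path_edge (s0_f20392 IH) (path_edge (s0_f12593 IH) (path_edge (s0_f8110r IH) (path_edge (s0_f20280r IH) (path_edge (s0_f29372r IH) (path_edge (s0_f29376r IH) (path_edge (s0_f29378r IH) (path_edge (s0_f29380r IH) (path_nil s0_v4181))))))))))))))))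
theorem s0_f29382r : ed sl_gt s0_v4181 = sq877 :=
  edge_flip (s0_f29382 IH)
theorem s0_f29385 : ed sl_gt sq877 = s0_v4181 :=
  gap_rel s0_rot6 (path_edge (s0_f29382r IH) (path_nil s0_v4181))
theorem s0_f29385r : ed sl_gf s0_v4181 = sq877 :=
  edge_flip (s0_f29385 IH)
theorem s0_f20358r : ed sl_df s0_v2605 = sq877 :=
  edge_flip (s0_f20358 IH)
theorem s0_f29388 : ed sl_df s0_v4181 = s0_v4181 :=
  gap_rel s0_rot44 (path_edge (s0_f29382 IH) (path_edge (s0_f20358r IH) (path_edge (s0_f20360 IH) (path_edge (s0_f20355 IH) (path_edge (s0_f29385r IH) (path_nil s0_v4181))))))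
theorem s0_f31498 : ed sl_at s0_v2608 = s0_v4630 :=
  rfl
theorem s0_f31498r : ed sl_af s0_v4630 = s0_v2608 :=
  edge_flip (s0_f31498 IH)
theorem s0_f20375r : ed sl_gf s0_v2608 = sq543 :=
  edge_flip (s0_f20375 IH)
theorem s0_f31500 : ed sl_gf s0_v2586 = s0_v4630 :=
  gap_rel s0_rot86 (path_edge (s0_f20263 IH) (path_edge (s0_f20375r IH) (path_edge (s0_f31498r IH) (path_nil s0_v4630))))
theorem s0_f31508 : ed sl_et s0_v2608 = s0_v4632 :=
  rfl
theorem s0_f31508r : ed sl_ef s0_v4632 = s0_v2608 :=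
  edge_flip (s0_f31508 IH)
theorem s0_f31510 : ed sl_ef s0_v2608 = s0_v4632 :=
  gap_rel s0_rot13 (path_edge (s0_f31508r IH) (path_nil s0_v4632))
theorem s0_f31512 : ed sl_ft s0_v4181 = s0_v4632 :=
  gap_rel s0_rot14 (path_edge (s0_f29385 IH) (path_edge (s0_f12594 IH) (path_edge (s0_f20373r IH) (path_edge (s0_f31508r IH) (path_nil s0_v4632)))))
theorem s0_f31512r : ed sl_ff s0_v4632 = s0_v4181 :=
  edge_flip (s0_f31512 IH)
theorem s0_f31513 : ed sl_ff s0_v4181 = s0_v4632 :=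
  gap_rel s0_rot15 (path_edge (s0_f31512r IH) (path_nil s0_v4632))
theorem s0_f31513r : ed sl_ft s0_v4632 = s0_v4181 :=
  edge_flip (s0_f31513 IH)
theorem s0_f31515 : ed sl_gt s0_v2603 = s0_v4632 :=
  gap_rel s0_rot16 (path_edge (s0_f20346 IH) (path_edge (s0_f12596 IH) (path_edge (s0_f29382r IH) (path_edge (s0_f31513r IH) (path_nil s0_v4632)))))
theorem s0_f31516 : ed sl_ft s0_v2608 = s0_v4633 :=
  rfl
theorem s0_f31516r : ed sl_ff s0_v4633 = s0_v2608 :=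
  edge_flip (s0_f31516 IH)
theorem s0_f31518 : ed sl_cf s0_v4179 = s0_v4633 :=
  gap_rel s0_rot57 (path_edge (s0_f29377 IH) (path_edge (s0_f29373 IH) (path_edge (s0_f31516r IH) (path_nil s0_v4633))))
theorem s0_f31519 : ed sl_ef s0_v4181 = s0_v4633 :=
  gap_rel s0_rot17 (path_edge (s0_f31512r IH) (path_edge (s0_f31510 IH) (path_edge (s0_f31516r IH) (path_nil s0_v4633))))
theorem s0_f31520 : ed sl_ff s0_v2608 = s0_v4633 :=
  gap_rel s0_rot15 (path_edge (s0_f31516r IH) (path_nil s0_v4633))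
theorem s0_f31515r : ed sl_gf s0_v4632 = s0_v2603 :=
  edge_flip (s0_f31515 IH)
theorem s0_f31521 : ed sl_gf s0_v3180 = s0_v4633 :=
  gap_rel s0_rot18 (path_edge (s0_f23621 IH) (path_edge (s0_f31515r IH) (path_edge (s0_f31513 IH) (path_edge (s0_f29382 IH) (path_edge (s0_f12596r IH) (path_edge (s0_f20375r IH) (path_edge (s0_f31516r IH) (path_nil s0_v4633))))))))
theorem s0_f31522 : ed sl_et s0_v4181 = s0_v4633 :=
  gap_rel s0_rot19 (path_edge (s0_f29382 IH) (path_edge (s0_f12596r IH) (path_edge (s0_f20375r IH) (path_edge (s0_f31516r IH) (path_nil s0_v4633)))))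
theorem s0_f31521r : ed sl_gt s0_v4633 = s0_v3180 :=
  edge_flip (s0_f31521 IH)
theorem s0_f23619r : ed sl_bt s0_v3180 = s0_v2625 :=
  edge_flip (s0_f23619 IH)
theorem s0_f31523 : ed sl_bt s0_v2627 = s0_v4633 :=
  gap_rel s0_rot52 (path_edge (s0_f20474 IH) (path_edge (s0_f23619r IH) (path_edge (s0_f31521r IH) (path_nil s0_v4633))))
theorem s0_f31520r : ed sl_ft s0_v4633 = s0_v2608 :=
  edge_flip (s0_f31520 IH)
theorem s0_f31525 : ed sl_ct s0_v4179 = s0_v4633 :=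
  gap_rel s0_rot83 (path_edge (s0_f29376 IH) (path_edge (s0_f29375 IH) (path_edge (s0_f31520r IH) (path_nil s0_v4633))))
theorem s0_f31534 : ed sl_dt s0_v4633 = s0_v4635 :=
  rfl
theorem s0_f31534r : ed sl_df s0_v4635 = s0_v4633 :=
  edge_flip (s0_f31534 IH)
theorem s0_f31523r : ed sl_bf s0_v4633 = s0_v2627 :=
  edge_flip (s0_f31523 IH)
theorem s0_f31535 : ed sl_bf s0_v2631 = s0_v4635 :=
  gap_rel s0_rot30 (path_edge (s0_f20488 IH) (path_edge (s0_f31523r IH) (path_edge (s0_f31534r IH) (path_nil s0_v4635))))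
theorem s0_f31536 : ed sl_df s0_v4633 = s0_v4635 :=
  gap_rel s0_rot3 (path_edge (s0_f31534r IH) (path_nil s0_v4635))
theorem s0_f31522r : ed sl_ef s0_v4633 = s0_v4181 :=
  edge_flip (s0_f31522 IH)
theorem s0_f31537 : ed sl_ef s0_v4635 = s0_v4635 :=
  gap_rel s0_rot39 (path_edge (s0_f31536 IH) (path_edge (s0_f31519 IH) (path_edge (s0_f29388 IH) (path_edge (s0_f31522r IH) (path_edge (s0_f31534r IH) (path_nil s0_v4635))))))
theorem s0_f31537r : ed sl_et s0_v4635 = s0_v4635 :=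
  edge_flip (s0_f31537 IH)
theorem s0_f31535r : ed sl_bt s0_v4635 = s0_v2631 :=
  edge_flip (s0_f31535 IH)
theorem s0_f20489r : ed sl_et s0_v2631 = s0_v2631 :=
  edge_flip (s0_f20489 IH)
theorem s0_f31538 : ed sl_bt s0_v2631 = s0_v4635 :=
  gap_rel s0_rot80 (path_edge (s0_f20489r IH) (path_edge (s0_f31535r IH) (path_edge (s0_f31537r IH) (path_nil s0_v4635))))
theorem s0_f31539 : ed sl_ct s0_v4635 = s0_v4636 :=
  rfl
theorem s0_f31539r : ed sl_cf s0_v4636 = s0_v4635 :=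
  edge_flip (s0_f31539 IH)
theorem s0_f31540 : ed sl_cf s0_v4635 = s0_v4636 :=
  gap_rel s0_rot0 (path_edge (s0_f31539r IH) (path_nil s0_v4636))
theorem s0_f31541 : ed sl_ef s0_v4636 = s0_v4636 :=
  gap_rel s0_rot34 (path_edge (s0_f31540 IH) (path_edge (s0_f31537 IH) (path_edge (s0_f31539r IH) (path_nil s0_v4636))))
theorem s0_f31525r : ed sl_cf s0_v4633 = s0_v4179 :=
  edge_flip (s0_f31525 IH)
theorem s0_f31542 : ed sl_at s0_v4635 = s0_v4636 :=
  gap_rel s0_rot87 (path_edge (s0_f31536 IH) (path_edge (s0_f31518 IH) (path_edge (s0_f29378r IH) (path_edge (s0_f29380r IH) (path_edge (s0_f29388 IH) (path_edge (s0_f29381 IH) (path_edge (s0_f29379 IH) (path_edge (s0_f31525r IH) (path_edge (s0_f31534r IH) (path_edge (s0_f31539r IH) (path_nil s0_v4636)))))))))))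
theorem s0_f20490r : ed sl_af s0_v2631 = s0_v2631 :=
  edge_flip (s0_f20490 IH)
theorem s0_f31541r : ed sl_et s0_v4636 = s0_v4636 :=
  edge_flip (s0_f31541 IH)
theorem s0_f31542r : ed sl_af s0_v4636 = s0_v4635 :=
  edge_flip (s0_f31542 IH)
theorem s0_f31538r : ed sl_bf s0_v4635 = s0_v2631 :=
  edge_flip (s0_f31538 IH)
theorem s0_f20494r : ed sl_af s0_v2632 = s0_v2632 :=
  edge_flip (s0_f20494 IH)
theorem s0_f31544 : ed sl_bf s0_v2632 = s0_v2632 :=
  gap_rel s0_rot88 (path_edge (s0_f20494r IH) (path_edge (s0_f20492 IH) (path_edge (s0_f31538r IH) (path_edge (s0_f31542r IH) (path_edge (s0_f31541r IH) (path_edge (s0_f31540 IH) (path_edge (s0_f31535 IH) (path_edge (s0_f20490r IH) (path_edge (s0_f20491r IH) (path_nil s0_v2632))))))))))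
theorem s0_f31544r : ed sl_bt s0_v2632 = s0_v2632 :=
  edge_flip (s0_f31544 IH)
theorem s0_f31546 : s0_v4636 = s0_v4635 :=
  (loop_rel s0_rot89 (path_edge (s0_f31539 IH) (path_edge (s0_f31538 IH) (path_edge (s0_f20492r IH) (path_edge (s0_f31544r IH) (path_edge (s0_f20491 IH) (path_edge (s0_f31535r IH) (path_nil s0_v4635)))))))).symm
theorem s0_f31550 : ed sl_at s0_v4179 = s0_v4179 :=
  gap_rel s0_rot87 (path_edge (s0_f29378r IH) (path_edge (s0_f29380r IH) (path_edge (s0_f29388 IH) (path_edge (s0_f29381 IH) (path_edge (s0_f29379 IH) (path_edge (s0_f31525r IH) (path_edge (s0_f31534r IH) (path_edge (s0_f31539r IH) (path_eq (s0_f31546 IH).symm (path_edge (s0_f31536 IH) (path_edge (s0_f31518 IH) (path_nil s0_v4179))))))))))))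
theorem s0_f31550r : ed sl_af s0_v4179 = s0_v4179 :=
  edge_flip (s0_f31550 IH)
theorem s0_f31551 : ed sl_af s0_v4178 = s0_v4178 :=
  gap_rel s0_rot55 (path_edge (s0_f29376r IH) (path_edge (s0_f31550r IH) (path_edge (s0_f29377 IH) (path_nil s0_v4178))))
theorem s0_f31551r : ed sl_at s0_v4178 = s0_v4178 :=
  edge_flip (s0_f31551 IH)
theorem s0_f29373r : ed sl_ct s0_v4178 = s0_v2608 :=
  edge_flip (s0_f29373 IH)
theorem s0_f31552 : s0_v4630 = s0_v2608 :=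
  (loop_rel s0_rot12 (path_edge (s0_f31498 IH) (path_edge (s0_f29373r IH) (path_edge (s0_f31551r IH) (path_edge (s0_f29375 IH) (path_nil s0_v2608)))))).symm
theorem s0_f31500r : ed sl_gt s0_v4630 = s0_v2586 :=
  edge_flip (s0_f31500 IH)
theorem s0_f31555 : s0_v2586 = sq543 :=
  edge_fun (edge_congr (s0_f31500r IH) (s0_f31552 IH)) (s0_f20373r IH)
theorem s0_f31556 : ed sl_at sq543 = sq543 :=
  edge_of_path (path_eq (s0_f31555 IH) (path_edge (s0_f20262 IH) (path_nil sq543)))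

theorem seed_0 : EntryOK rels S fwd inv o plet idx Gen.a (Pt.mk D1.c1 D2.c11 D3.c18) :=
  entryOK_of_edge rels S fwd inv o plet idx Gen.a (Pt.mk D1.c1 D2.c11 D3.c18) (s0_f31556 IH)

end Seed0

theorem hseed : ∀ x p, isSeed x p = true →
    (∀ y q, lvl y q < lvl x p → EntryOK rels S fwd inv o plet idx y q) →
    EntryOK rels S fwd inv o plet idx x p := by
  intro x p hs IH
  cases x
  · have hs' : isSeed_a p = true := hs
    unfold isSeed_a at hs'
    rcases orB_true hs' with h1 | hs'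
    · have hp := beqPt_sound _ _ h1
      subst hp
      exact seed_0 IH
    exact absurd hs' (by decide)
  · exact absurd hs (by simp [isSeed, isSeed_b])
  · exact absurd hs (by simp [isSeed, isSeed_c])
  · exact absurd hs (by simp [isSeed, isSeed_d])
  · exact absurd hs (by simp [isSeed, isSeed_e])
  · exact absurd hs (by simp [isSeed, isSeed_f])
  · exact absurd hs (by simp [isSeed, isSeed_g])

end

end Cfsg.Agent.Helper28.S1683
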