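import Cfsg.Agent.Lib.Helper28.S1683.Tree

set_option autoImplicit false
set_option maxRecDepth 100000
set_option linter.all false

namespace Cfsg.Agent.Helper28.S1683

open Cfsg.Agent.Helper28
open Cfsg.Spor.He (Gen)

noncomputable section

def lv_b_0 : D2 → D3 → Nat := @D2.rec (fun _ => D3 → Nat) (@D3.rec (fun _ => Nat) 0 1 2 2 2 3 3 3 3 0 4 4 0 4 4 0 4 4 1 2 6) (@D3.rec (fun _ => Nat) 2 5 1 2 5 2 5 1 2 5 2 5 7 2 2 11 3 8 7 6 7) (@D3.rec (fun _ => Nat) 2 2 3 3 3 8 7 3 6 7 2 2 3 3 3 8 6 3 6 9 8) (@D3.rec (fun _ => Nat) 0 3 10 11 15 14 10 6 8 4 3 3 3 3 7 4 4 4 4 5 7) (@D3.rec (fun _ => Nat) 7 9 0 4 4 0 6 8 41 3 3 3 3 7 4 4 4 5 7 7 9) (@D3.rec (fun _ => Nat) 4 4 9 0 13 9 1 2 2 12 13 13 17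 0 9 9 9 8 5 5 5) (@D3.rec (fun _ => Nat) 4 4 4 4 5 0 4 4 10 10 5 5 5 34 35 6 9 0 1 2 36) (@D3.rec (fun _ => Nat) 6 1 2 0 9 9 9 7 42 42 42 42 4 4 4 5 41 4 4 10 10) (@D3.rec (fun _ => Nat) 5 5 48 6 9 10 1 2 13 12 2 2 0 3 3 3 3 12 16 1 2) (@D3.rec (fun _ => Nat) 2 8 8 35 34 11 0 6 6 6 6 6 9 5 5 40 5 6 1 2 2) (@D3.rec (fun _ => Nat) 34 6 9 9 0 6 6 0 0 30 7 1 2 35 2 3 7 2 0 3 3) (@D3.rec (fun _ => Nat) 1 2 2 2 8 8 47 11 41 0 43 43 43 43 43 43 43 43 43 44 5) (@D3.rec (fun _ => Nat) 5 6 41 41 41 9 46 48 7 0 11 11 2 0 3 3 3 13 14 0 3) (@D3.rec (fun _ => Nat) 3 3 3 1 2 2 2 2 4 4 4 4 5 0 4 4 19 18 2 2 3)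
def lv_b_1 : D2 → D3 → Nat := @D2.rec (fun _ => D3 → Nat) (@D3.rec (fun _ => Nat) 8 3 7 11 11 42 29 1 2 7 7 0 7 7 7 0 7 7 10 0 6) (@D3.rec (fun _ => Nat) 6 0 42 42 0 7 35 2 2 0 3 3 3 3 36 40 7 0 10 1 2) (@D3.rec (fun _ => Nat) 7 7 1 1 2 2 3 38 0 3 3 1 2 2 2 3 3 3 3 43 3) (@D3.rec (fun _ => Nat) 44 11 47 41 1 2 2 2 44 44 44 44 44 44 45 0 44 44 44 44 0) (@D3.rec (fun _ => Nat) 44 0 44 46 47 7 43 43 43 43 47 47 1 43 3 3 3 1 2 2 45) (@D3.rec (fun _ => Nat) 15 4 4 4 14 44 0 15 15 0 14 14 1 2 2 47 2 4 4 4 4) (@D3.rec (fun _ => Nat) 5 0 4 4 19 2 2 2 2 3 3 3 3 3 3 3 45 3 3 16 5) (@D3.rec (fun _ => Nat) 5 5 5 5 6 1 48 2 2 5 6 20 19 3 3 0 4 4 8 53 4) (@D3.rec (fun _ => Nat) 4 9 0 10 46 42 44 2 0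 3 3 51 0 8 8 0 8 8 1 2 2) (@D3.rec (fun _ => Nat) 2 8 8 9 0 8 8 1 2 2 54 8 11 9 44 11 11 1 2 2 47) (@D3.rec (fun _ => Nat) 7 7 1 2 45 42 42 42 42 1 2 46 35 46 3 3 3 3 1 48 44) (@D3.rec (fun _ => Nat) 46 50 4 44 42 36 44 47 48 48 47 36 45 42 35 1 39 2 2 56 3) (@D3.rec (fun _ => Nat) 48 46 1 47 43 6 3 3 3 3 3 4 4 4 4 4 5 0 4 0 4) (@D3.rec (fun _ => Nat) 46 43 43 43 47 2 2 2 3 3 3 56 49 3 3 47 45 45 45 45 0)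
def lv_b_2 : D2 → D3 → Nat := @D2.rec (fun _ => D3 → Nat) (@D3.rec (fun _ => Nat) 45 46 45 0 45 45 46 1 52 2 2 45 45 46 46 0 45 0 45 1 2) (@D3.rec (fun _ => Nat) 2 1 2 2 47 43 43 43 43 43 45 46 43 43 43 43 43 44 4 4 4) (@D3.rec (fun _ => Nat) 17 2 2 3 50 47 3 47 45 20 15 15 5 5 5 47 16 16 47 1 50) (@D3.rec (fun _ => Nat) 48 2 15 17 1 2 43 45 16 16 17 2 2 2 3 3 3 48 48 3 48) (@D3.rec (fun _ => Nat) 16 5 5 5 5 5 6 1 2 45 45 5 6 17 17 19 6 3 3 3 3) (@D3.rec (fun _ => Nat) 3 3 3 3 3 4 4 4 4 4 4 5 52 4 0 4 4 48 0 20 51) (@D3.rec (fun _ => Nat) 20 20 18 6 6 0 6 0 6 6 6 0 7 7 2 2 52 58 46 6 47) (@D3.rec (fun _ => Nat) 0 21 21 21 0 20 0 4 4 52 4 4 1 2 2 2 16 10 13 46 10) (@D3.rec (fun _ => Nat)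 10 55 51 14 9 15 46 9 9 1 2 47 48 43 47 48 44 44 3 3 1) (@D3.rec (fun _ => Nat) 48 44 45 48 44 44 1 2 19 2 1 2 17 53 17 2 2 2 0 3 3) (@D3.rec (fun _ => Nat) 40 3 3 37 9 44 9 10 10 1 51 44 42 9 9 18 2 2 3 57 3) (@D3.rec (fun _ => Nat) 3 49 51 9 44 12 12 10 44 44 12 37 2 2 0 3 3 52 3 45 53) (@D3.rec (fun _ => Nat) 45 2 0 3 3 3 46 44 44 41 44 44 2 0 3 58 37 37 45 4 48) (@D3.rec (fun _ => Nat) 46 46 51 51 50 45 44 45 44 46 47 50 46 42 42 58 3 48 46 45 7)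
def lv_b_3 : D2 → D3 → Nat := @D2.rec (fun _ => D3 → Nat) (@D3.rec (fun _ => Nat) 7 4 4 4 4 4 5 0 4 0 4 5 5 0 46 47 5 0 48 49 6) (@D3.rec (fun _ => Nat) 1 2 2 1 2 2 43 43 43 48 48 3 3 3 3 3 51 4 58 53 4) (@D3.rec (fun _ => Nat) 48 48 46 48 0 46 46 55 46 46 1 2 2 51 47 0 46 1 2 50 49) (@D3.rec (fun _ => Nat) 47 53 47 2 2 56 48 0 47 47 47 1 2 51 1 2 48 52 2 2 44) (@D3.rec (fun _ => Nat) 3 48 3 3 47 2 2 3 3 0 49 49 49 45 45 45 45 45 45 45 45) (@D3.rec (fun _ => Nat) 46 45 45 45 54 45 45 45 45 5 5 5 21 3 3 51 47 53 49 0 45) (@D3.rec (fun _ => Nat) 18 43 17 17 57 6 16 53 56 54 49 18 0 46 47 2 46 47 17 17 2) (@D3.rec (fun _ => Nat) 3 45 45 16 16 17 16 3 3 3 3 4 4 52 4 4 52 0 4 54 18) (@D3.rec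 (fun _ => Nat) 46 6 6 0 6 0 6 6 6 0 7 7 2 3 3 46 6 21 21 21 19) (@D3.rec (fun _ => Nat) 7 7 4 4 4 4 4 4 5 4 0 4 4 0 52 5 0 5 52 56 53) (@D3.rec (fun _ => Nat) 56 1 2 54 54 48 1 54 18 18 18 0 22 1 1 23 52 52 1 57 2) (@D3.rec (fun _ => Nat) 2 23 24 57 54 56 7 45 45 1 22 49 22 23 1 1 2 9 2 50 50) (@D3.rec (fun _ => Nat) 10 2 2 2 3 3 41 3 3 36 14 44 10 44 17 48 44 10 53 16 44) (@D3.rec (fun _ => Nat) 11 40 15 46 44 11 2 0 55 51 57 49 0 48 48 48 47 0 46 46 48)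
def lv_b_4 : D2 → D3 → Nat := @D2.rec (fun _ => D3 → Nat) (@D3.rec (fun _ => Nat) 44 49 48 46 44 2 2 0 3 3 51 3 2 0 55 57 3 40 37 53 3) (@D3.rec (fun _ => Nat) 3 3 3 1 48 49 4 4 52 52 41 0 4 49 4 10 44 11 0 11 48) (@D3.rec (fun _ => Nat) 44 10 10 3 3 3 4 54 56 0 51 56 0 13 44 13 0 54 46 58 46) (@D3.rec (fun _ => Nat) 57 3 3 3 1 2 2 2 55 4 53 57 50 0 53 51 47 0 3 3 3) (@D3.rec (fun _ => Nat) 1 2 40 2 2 4 4 4 5 46 46 44 44 41 58 3 1 2 2 61 57) (@D3.rec (fun _ => Nat) 48 47 0 51 48 49 0 53 50 46 46 52 44 44 0 46 46 50 50 0 53) (@D3.rec (fun _ => Nat) 55 59 45 45 52 5 5 0 5 6 1 46 1 51 46 0 48 49 50 50 51) (@D3.rec (fun _ => Nat) 1 2 2 47 47 48 1 53 49 49 49 58 50 47 2 2 3 3 3 3 47) (@D3.rec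 (fun _ => Nat) 2 2 3 45 45 57 48 4 54 4 49 0 51 59 57 58 0 51 1 2 2) (@D3.rec (fun _ => Nat) 50 2 2 53 54 3 3 49 1 2 2 54 3 55 0 54 1 0 2 3 3) (@D3.rec (fun _ => Nat) 48 2 0 51 53 48 49 48 3 3 3 48 48 54 4 49 4 49 8 3 3) (@D3.rec (fun _ => Nat) 0 53 1 2 51 2 49 49 51 45 0 0 45 45 48 47 45 45 45 50 6) (@D3.rec (fun _ => Nat) 55 53 52 50 49 1 17 18 0 49 0 18 51 1 57 2 2 49 55 52 17) (@D3.rec (fun _ => Nat) 19 15 3 45 52 45 45 52 59 18 0 21 19 16 16 56 4 4 52 4 4)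
def lv_b_5 : D2 → D3 → Nat := @D2.rec (fun _ => D3 → Nat) (@D3.rec (fun _ => Nat) 0 4 58 5 0 52 50 6 1 2 2 19 18 53 1 47 1 60 1 2 56) (@D3.rec (fun _ => Nat) 3 3 4 48 4 7 53 19 19 50 5 0 5 54 1 54 2 55 1 2 54) (@D3.rec (fun _ => Nat) 0 54 1 2 2 56 0 52 52 50 22 22 1 56 56 2 2 3 3 49 53) (@D3.rec (fun _ => Nat) 57 49 48 23 23 24 2 2 3 3 3 3 39 38 3 3 3 3 4 4 40) (@D3.rec (fun _ => Nat) 40 0 4 4 57 14 17 12 0 11 46 42 0 52 48 52 1 2 53 2 57) (@D3.rec (fun _ => Nat) 59 53 1 39 2 2 50 50 55 50 47 1 59 58 48 49 0 52 49 52 54) (@D3.rec (fun _ => Nat) 46 46 50 3 3 3 1 2 2 4 53 4 52 54 0 3 1 2 2 42 57) (@D3.rec (fun _ => Nat) 53 41 51 4 4 50 4 4 47 45 0 5 53 52 1 2 2 5 52 5 1) (@D3.rec (fun _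 => Nat) 2 44 58 11 0 11 4 0 0 53 1 41 2 53 1 2 54 59 46 0 1) (@D3.rec (fun _ => Nat) 61 57 54 50 58 59 4 56 2 2 2 56 3 51 3 53 57 56 57 55 51) (@D3.rec (fun _ => Nat) 1 53 2 1 39 2 2 4 4 4 5 38 2 2 2 3 5 54 54 0 52) (@D3.rec (fun _ => Nat) 0 59 2 2 54 59 56 63 60 1 49 49 1 2 51 50 53 47 1 58 2) (@D3.rec (fun _ => Nat) 52 0 55 1 53 53 58 0 52 0 1 48 53 1 2 48 2 2 51 3 53) (@D3.rec (fun _ => Nat) 55 47 3 3 3 3 4 4 8 3 0 0 55 50 54 54 1 2 55 59 58)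
def lv_b_6 : D2 → D3 → Nat := @D2.rec (fun _ => D3 → Nat) (@D3.rec (fun _ => Nat) 1 50 2 2 3 55 56 3 3 56 53 2 3 1 2 1 55 3 3 0 1) (@D3.rec (fun _ => Nat) 2 55 51 49 4 4 57 60 55 0 1 58 52 2 2 51 51 53 47 1 1) (@D3.rec (fun _ => Nat) 59 2 0 47 52 51 49 55 1 2 1 58 2 2 3 3 17 17 47 1 56) (@D3.rec (fun _ => Nat) 62 55 54 5 0 54 6 1 2 1 2 2 3 3 55 51 2 56 54 52 4) (@D3.rec (fun _ => Nat) 4 58 57 48 0 1 57 2 57 2 0 54 54 1 62 2 1 52 3 3 24) (@D3.rec (fun _ => Nat) 55 25 58 3 3 3 3 4 52 4 4 5 42 42 4 4 52 4 4 52 53) (@D3.rec (fun _ => Nat) 1 60 52 51 57 5 56 56 1 60 0 1 54 46 2 2 62 53 63 53 41) (@D3.rec (fun _ => Nat) 2 2 50 50 0 1 2 50 50 56 53 52 51 4 4 52 2 2 51 54 56) (@D3.rec (fun _ =>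 Nat) 52 1 40 2 2 3 40 53 54 5 51 5 5 1 58 2 2 57 59 2 55) (@D3.rec (fun _ => Nat) 1 0 1 1 42 2 42 3 2 59 57 46 1 61 3 3 62 53 54 55 55) (@D3.rec (fun _ => Nat) 60 2 41 2 2 54 5 55 3 58 51 56 1 52 1 62 50 2 53 2 57) (@D3.rec (fun _ => Nat) 58 1 1 58 1 2 3 4 4 0 1 1 57 59 55 2 3 59 55 56 2) (@D3.rec (fun _ => Nat) 1 56 2 1 55 53 2 1 2 3 3 1 2 54 3 3 58 57 1 1 57) (@D3.rec (fun _ => Nat) 56 4 4 4 5 5 52 1 58 58 1 2 53 55 41 3 1 44 3 59 1)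
def lv_b : Pt → Nat := @Pt.rec (fun _ => Nat) (@D1.rec (fun _ => D2 → D3 → Nat) lv_b_0 lv_b_1 lv_b_2 lv_b_3 lv_b_4 lv_b_5 lv_b_6)
abbrev lc_b_Cert_tree : Cert rels S Gen.b := Cert.tree
abbrev lc_b_rc_10_0 : Cert rels S Gen.b := rc_10_0
abbrev lc_b_rc_10_2 : Cert rels S Gen.b := rc_10_2
abbrev lc_b_rc_11_0 : Cert rels S Gen.b := rc_11_0
abbrev lc_b_rc_11_2 : Cert rels S Gen.b := rc_11_2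
abbrev lc_b_rc_12_0 : Cert rels S Gen.b := rc_12_0
abbrev lc_b_rc_12_2 : Cert rels S Gen.b := rc_12_2
abbrev lc_b_rc_1_1 : Cert rels S Gen.b := rc_1_1
abbrev lc_b_rc_1_3 : Cert rels S Gen.b := rc_1_3
abbrev lc_b_rc_1_5 : Cert rels S Gen.b := rc_1_5
abbrev lc_b_rc_1_7 : Cert rels S Gen.b := rc_1_7
abbrev lc_b_rc_29_2 : Cert rels S Gen.b := rc_29_2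
abbrev lc_b_rc_29_5 : Cert rels S Gen.b := rc_29_5
abbrev lc_b_rc_29_8 : Cert rels S Gen.b := rc_29_8
abbrev lc_b_rc_7_0 : Cert rels S Gen.b := rc_7_0
abbrev lc_b_rc_7_1 : Cert rels S Gen.b := rc_7_1
abbrev lc_b_rc_8_0 : Cert rels S Gen.b := rc_8_0
abbrev lc_b_rc_8_2 : Cert rels S Gen.b := rc_8_2
abbrev lc_b_rc_8_4 : Cert rels S Gen.b := rc_8_4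
abbrev lc_b_rc_9_0 : Cert rels S Gen.b := rc_9_0
abbrev lc_b_rc_9_2 : Cert rels S Gen.b := rc_9_2
def ce_b_0 : D2 → D3 → (Cert rels S Gen.b) := @D2.rec (fun _ => D3 → (Cert rels S Gen.b)) (@D3.rec (fun _ => (Cert rels S Gen.b)) lc_b_Cert_tree lc_b_rc_7_0 lc_b_rc_12_2 lc_b_rc_8_2 lc_b_rc_12_2 lc_b_rc_9_2 lc_b_rc_9_2 lc_b_rc_12_2 lc_b_rc_9_2 lc_b_Cert_tree lc_b_rc_10_2 lc_b_rc_11_2 lc_b_Cert_tree lc_b_rc_10_2 lc_b_rc_11_2 lc_b_Cert_tree lc_b_rc_10_2 lc_b_rc_11_2 lc_b_rc_7_0 lc_b_rc_9_2 lc_b_rc_29_2) (@D3.rec (fun _ => (Cert rels S Gen.b)) lc_b_rc_11_2 lc_b_rc_11_2 lc_b_rc_7_0 lc_b_rc_9_2 lc_b_rc_29_2 lc_b_rc_11_2 lc_b_rc_11_2 lc_b_rc_7_0 lc_b_rc_9_2 lc_b_rc_29_2 lc_b_rc_11_2 lc_b_rc_11_2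 lc_b_rc_1_5 lc_b_rc_9_2 lc_b_rc_11_2 lc_b_rc_12_2 lc_b_rc_10_2 lc_b_rc_9_2 lc_b_rc_29_2 lc_b_rc_9_2 lc_b_rc_1_5) (@D3.rec (fun _ => (Cert rels S Gen.b)) lc_b_rc_9_2 lc_b_rc_11_2 lc_b_rc_10_2 lc_b_rc_11_2 lc_b_rc_12_2 lc_b_rc_9_2 lc_b_rc_29_2 lc_b_rc_9_2 lc_b_rc_9_2 lc_b_rc_1_5 lc_b_rc_9_2 lc_b_rc_11_2 lc_b_rc_10_2 lc_b_rc_11_2 lc_b_rc_12_2 lc_b_rc_9_2 lc_b_rc_29_2 lc_b_rc_9_2 lc_b_rc_9_2 lc_b_rc_9_2 lc_b_rc_1_5) (@D3.rec (fun _ => (Cert rels S Gen.b)) lc_b_Cert_tree lc_b_rc_10_2 lc_b_rc_12_2 lc_b_rc_10_2 lc_b_rc_8_4 lc_b_rc_8_4 lc_b_rc_12_2 lc_b_rc_9_2 lc_b_rc_1_5 lc_b_rc_8_2 lc_b_rc_10_2 lc_b_rc_11_2 lc_b_rc_12_2 lc_b_rc_9_2 lc_b_rc_10_2 lc_b_rc_11_2 lc_b_rc_12_2 lc_b_rc_9_2 lc_b_rc_12_2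 lc_b_rc_10_2 lc_b_rc_11_2) (@D3.rec (fun _ => (Cert rels S Gen.b)) lc_b_rc_12_2 lc_b_rc_9_2 lc_b_Cert_tree lc_b_rc_10_2 lc_b_rc_12_2 lc_b_Cert_tree lc_b_rc_9_2 lc_b_rc_1_5 lc_b_rc_8_2 lc_b_rc_10_2 lc_b_rc_11_2 lc_b_rc_12_2 lc_b_rc_9_2 lc_b_rc_10_2 lc_b_rc_11_2 lc_b_rc_12_2 lc_b_rc_12_2 lc_b_rc_10_2 lc_b_rc_11_2 lc_b_rc_12_2 lc_b_rc_9_2) (@D3.rec (fun _ => (Cert rels S Gen.b)) lc_b_rc_10_2 lc_b_rc_12_2 lc_b_rc_8_2 lc_b_Cert_tree lc_b_rc_8_0 lc_b_rc_12_2 lc_b_rc_7_0 lc_b_rc_9_2 lc_b_rc_10_2 lc_b_rc_10_2 lc_b_rc_10_0 lc_b_rc_9_2 lc_b_rc_11_2 lc_b_Cert_tree lc_b_rc_10_2 lc_b_rc_11_2 lc_b_rc_12_2 lc_b_rc_9_2 lc_b_rc_9_2 lc_b_rc_11_2 lc_b_rc_12_2) (@D3.rec (fun _ => (Cert rels S Gen.b)) lc_b_rc_11_2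 lc_b_rc_12_2 lc_b_rc_9_2 lc_b_rc_12_2 lc_b_rc_10_0 lc_b_Cert_tree lc_b_rc_10_2 lc_b_rc_12_2 lc_b_rc_11_2 lc_b_rc_12_2 lc_b_rc_9_2 lc_b_rc_9_2 lc_b_rc_10_2 lc_b_rc_10_2 lc_b_rc_1_3 lc_b_rc_9_2 lc_b_rc_12_2 lc_b_Cert_tree lc_b_rc_7_0 lc_b_rc_10_2 lc_b_rc_8_4) (@D3.rec (fun _ => (Cert rels S Gen.b)) lc_b_rc_12_2 lc_b_rc_7_0 lc_b_rc_9_2 lc_b_Cert_tree lc_b_rc_10_2 lc_b_rc_11_2 lc_b_rc_12_2 lc_b_rc_9_2 lc_b_rc_9_2 lc_b_rc_10_2 lc_b_rc_11_2 lc_b_rc_12_2 lc_b_rc_11_2 lc_b_rc_12_2 lc_b_rc_12_2 lc_b_rc_10_0 lc_b_rc_29_5 lc_b_rc_10_2 lc_b_rc_12_2 lc_b_rc_11_2 lc_b_rc_12_2) (@D3.rec (fun _ => (Cert rels S Gen.b)) lc_b_rc_9_2 lc_b_rc_9_2 lc_b_rc_1_3 lc_b_rc_9_2 lc_b_rc_12_2 lc_b_rc_9_2 lc_b_rc_7_0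 lc_b_rc_9_2 lc_b_rc_7_1 lc_b_rc_29_5 lc_b_rc_9_2 lc_b_rc_10_2 lc_b_Cert_tree lc_b_rc_10_2 lc_b_rc_11_2 lc_b_rc_12_2 lc_b_rc_9_2 lc_b_rc_9_2 lc_b_rc_9_2 lc_b_rc_7_0 lc_b_rc_11_2) (@D3.rec (fun _ => (Cert rels S Gen.b)) lc_b_rc_12_2 lc_b_rc_11_2 lc_b_rc_12_2 lc_b_rc_10_0 lc_b_rc_29_2 lc_b_rc_12_0 lc_b_Cert_tree lc_b_rc_11_2 lc_b_rc_12_2 lc_b_rc_9_2 lc_b_rc_12_2 lc_b_rc_9_2 lc_b_rc_1_3 lc_b_rc_9_2 lc_b_rc_9_2 lc_b_rc_29_2 lc_b_rc_10_2 lc_b_rc_9_2 lc_b_rc_7_0 lc_b_rc_9_2 lc_b_rc_10_2) (@D3.rec (fun _ => (Cert rels S Gen.b)) lc_b_rc_29_2 lc_b_rc_12_0 lc_b_rc_9_2 lc_b_rc_9_2 lc_b_Cert_tree lc_b_rc_10_2 lc_b_rc_12_2 lc_b_Cert_tree lc_b_Cert_tree lc_b_rc_1_3 lc_b_rc_9_2 lc_b_rc_7_0 lc_b_rc_9_2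 lc_b_rc_8_2 lc_b_rc_10_2 lc_b_rc_9_2 lc_b_rc_9_2 lc_b_rc_9_2 lc_b_Cert_tree lc_b_rc_10_2 lc_b_rc_12_2) (@D3.rec (fun _ => (Cert rels S Gen.b)) lc_b_rc_7_0 lc_b_rc_9_2 lc_b_rc_11_2 lc_b_rc_12_2 lc_b_rc_11_2 lc_b_rc_12_2 lc_b_rc_29_2 lc_b_rc_12_0 lc_b_rc_8_2 lc_b_Cert_tree lc_b_rc_10_2 lc_b_rc_11_2 lc_b_rc_12_2 lc_b_rc_9_2 lc_b_rc_11_2 lc_b_rc_12_2 lc_b_rc_9_2 lc_b_rc_12_2 lc_b_rc_9_2 lc_b_rc_12_2 lc_b_rc_9_2) (@D3.rec (fun _ => (Cert rels S Gen.b)) lc_b_rc_9_2 lc_b_rc_9_2 lc_b_rc_9_2 lc_b_rc_29_2 lc_b_rc_12_2 lc_b_rc_9_2 lc_b_rc_8_4 lc_b_rc_1_3 lc_b_rc_12_2 lc_b_Cert_tree lc_b_rc_10_2 lc_b_rc_12_2 lc_b_rc_9_2 lc_b_Cert_tree lc_b_rc_10_2 lc_b_rc_11_2 lc_b_rc_12_2 lc_b_rc_9_2 lc_b_rc_9_2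 lc_b_Cert_tree lc_b_rc_10_2) (@D3.rec (fun _ => (Cert rels S Gen.b)) lc_b_rc_11_2 lc_b_rc_12_2 lc_b_rc_9_2 lc_b_rc_7_0 lc_b_rc_9_2 lc_b_rc_10_2 lc_b_rc_11_2 lc_b_rc_12_2 lc_b_rc_9_2 lc_b_rc_11_2 lc_b_rc_12_2 lc_b_rc_12_2 lc_b_rc_10_2 lc_b_Cert_tree lc_b_rc_11_2 lc_b_rc_12_2 lc_b_rc_29_5 lc_b_rc_8_2 lc_b_rc_11_2 lc_b_rc_12_2 lc_b_rc_9_2)
def ce_b_1 : D2 → D3 → (Cert rels S Gen.b) := @D2.rec (fun _ => D3 → (Cert rels S Gen.b)) (@D3.rec (fun _ => (Cert rels S Gen.b)) lc_b_rc_29_5 lc_b_rc_9_2 lc_b_rc_29_5 lc_b_rc_9_2 lc_b_rc_9_2 lc_b_rc_12_2 lc_b_rc_29_8 lc_b_rc_7_0 lc_b_rc_9_2 lc_b_rc_9_2 lc_b_rc_9_2 lc_b_Cert_tree lc_b_rc_10_2 lc_b_rc_12_2 lc_b_rc_9_2 lc_b_Cert_tree lc_b_rc_10_2 lc_b_rc_11_2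 lc_b_rc_9_2 lc_b_Cert_tree lc_b_rc_10_2) (@D3.rec (fun _ => (Cert rels S Gen.b)) lc_b_rc_12_2 lc_b_Cert_tree lc_b_rc_9_2 lc_b_rc_7_0 lc_b_Cert_tree lc_b_rc_9_0 lc_b_rc_7_0 lc_b_rc_9_2 lc_b_rc_10_2 lc_b_Cert_tree lc_b_rc_10_2 lc_b_rc_11_2 lc_b_rc_12_2 lc_b_rc_9_2 lc_b_rc_9_2 lc_b_rc_8_2 lc_b_rc_9_2 lc_b_Cert_tree lc_b_rc_10_2 lc_b_rc_7_0 lc_b_rc_10_2) (@D3.rec (fun _ => (Cert rels S Gen.b)) lc_b_rc_12_2 lc_b_rc_11_2 lc_b_rc_7_0 lc_b_rc_7_0 lc_b_rc_9_2 lc_b_rc_9_2 lc_b_rc_9_2 lc_b_rc_29_2 lc_b_Cert_tree lc_b_rc_10_2 lc_b_rc_12_2 lc_b_rc_7_0 lc_b_rc_9_2 lc_b_rc_11_2 lc_b_rc_12_2 lc_b_rc_10_2 lc_b_rc_11_2 lc_b_rc_12_2 lc_b_rc_9_2 lc_b_rc_29_5 lc_b_rc_9_2) (@D3.rec (fun _ => (Cert rels S Gen.b))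 lc_b_rc_29_5 lc_b_rc_9_2 lc_b_rc_29_8 lc_b_rc_9_2 lc_b_rc_7_0 lc_b_rc_10_2 lc_b_rc_11_2 lc_b_rc_12_2 lc_b_rc_9_2 lc_b_rc_11_2 lc_b_rc_12_2 lc_b_rc_9_2 lc_b_rc_12_2 lc_b_rc_9_2 lc_b_rc_12_2 lc_b_Cert_tree lc_b_rc_11_2 lc_b_rc_12_2 lc_b_rc_9_2 lc_b_rc_9_2 lc_b_Cert_tree) (@D3.rec (fun _ => (Cert rels S Gen.b)) lc_b_rc_10_2 lc_b_Cert_tree lc_b_rc_10_2 lc_b_rc_11_0 lc_b_rc_8_2 lc_b_rc_12_2 lc_b_rc_10_2 lc_b_rc_11_2 lc_b_rc_12_2 lc_b_rc_9_2 lc_b_rc_8_0 lc_b_rc_9_2 lc_b_rc_7_0 lc_b_rc_7_1 lc_b_rc_10_2 lc_b_rc_11_2 lc_b_rc_12_2 lc_b_rc_7_0 lc_b_rc_10_2 lc_b_rc_11_2 lc_b_rc_7_1) (@D3.rec (fun _ => (Cert rels S Gen.b)) lc_b_rc_10_2 lc_b_rc_11_2 lc_b_rc_12_2 lc_b_rc_12_2 lc_b_rc_12_2 lc_b_rc_1_7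 lc_b_Cert_tree lc_b_rc_11_2 lc_b_rc_12_2 lc_b_Cert_tree lc_b_rc_10_2 lc_b_rc_11_2 lc_b_rc_7_0 lc_b_rc_9_2 lc_b_rc_10_2 lc_b_rc_29_2 lc_b_rc_12_2 lc_b_rc_9_2 lc_b_rc_11_2 lc_b_rc_12_2 lc_b_rc_12_2) (@D3.rec (fun _ => (Cert rels S Gen.b)) lc_b_rc_10_0 lc_b_Cert_tree lc_b_rc_11_2 lc_b_rc_12_2 lc_b_rc_29_5 lc_b_rc_9_2 lc_b_rc_10_2 lc_b_rc_11_2 lc_b_rc_12_2 lc_b_rc_10_2 lc_b_rc_11_2 lc_b_rc_12_2 lc_b_rc_9_2 lc_b_rc_11_2 lc_b_rc_12_2 lc_b_rc_9_2 lc_b_rc_8_4 lc_b_rc_9_2 lc_b_rc_11_2 lc_b_rc_29_2 lc_b_rc_11_2) (@D3.rec (fun _ => (Cert rels S Gen.b)) lc_b_rc_12_2 lc_b_rc_9_2 lc_b_rc_9_2 lc_b_rc_9_2 lc_b_rc_9_2 lc_b_rc_7_0 lc_b_rc_9_2 lc_b_rc_11_2 lc_b_rc_12_2 lc_b_rc_12_2 lc_b_rc_12_2 lc_b_rc_9_2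 lc_b_rc_9_2 lc_b_rc_9_2 lc_b_rc_9_2 lc_b_Cert_tree lc_b_rc_10_2 lc_b_rc_12_2 lc_b_rc_9_2 lc_b_rc_29_8 lc_b_rc_10_2) (@D3.rec (fun _ => (Cert rels S Gen.b)) lc_b_rc_11_2 lc_b_rc_9_2 lc_b_Cert_tree lc_b_rc_11_0 lc_b_rc_8_2 lc_b_rc_9_2 lc_b_rc_29_2 lc_b_rc_9_2 lc_b_Cert_tree lc_b_rc_10_2 lc_b_rc_11_2 lc_b_rc_29_2 lc_b_Cert_tree lc_b_rc_10_2 lc_b_rc_12_2 lc_b_Cert_tree lc_b_rc_10_2 lc_b_rc_11_2 lc_b_rc_7_0 lc_b_rc_9_2 lc_b_rc_10_2) (@D3.rec (fun _ => (Cert rels S Gen.b)) lc_b_rc_12_2 lc_b_rc_12_2 lc_b_rc_12_2 lc_b_rc_12_2 lc_b_Cert_tree lc_b_rc_10_2 lc_b_rc_11_2 lc_b_rc_7_0 lc_b_rc_9_2 lc_b_rc_10_2 lc_b_rc_29_8 lc_b_rc_11_2 lc_b_rc_11_2 lc_b_rc_11_2 lc_b_rc_12_2 lc_b_rc_10_2 lc_b_rc_12_2 lc_b_rc_7_0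 lc_b_rc_9_2 lc_b_rc_10_2 lc_b_rc_11_0) (@D3.rec (fun _ => (Cert rels S Gen.b)) lc_b_rc_12_2 lc_b_rc_11_2 lc_b_rc_7_0 lc_b_rc_9_2 lc_b_rc_12_0 lc_b_rc_10_2 lc_b_rc_11_2 lc_b_rc_12_2 lc_b_rc_9_2 lc_b_rc_7_0 lc_b_rc_9_2 lc_b_rc_9_2 lc_b_rc_9_2 lc_b_rc_29_8 lc_b_rc_10_2 lc_b_rc_11_2 lc_b_rc_12_2 lc_b_rc_9_2 lc_b_rc_7_0 lc_b_rc_11_0 lc_b_rc_1_1) (@D3.rec (fun _ => (Cert rels S Gen.b)) lc_b_rc_29_8 lc_b_rc_1_3 lc_b_rc_11_2 lc_b_rc_11_2 lc_b_rc_12_2 lc_b_rc_12_2 lc_b_rc_10_2 lc_b_rc_8_4 lc_b_rc_1_3 lc_b_rc_29_5 lc_b_rc_29_5 lc_b_rc_10_2 lc_b_rc_9_0 lc_b_rc_9_2 lc_b_rc_29_2 lc_b_rc_7_0 lc_b_rc_1_5 lc_b_rc_10_2 lc_b_rc_9_2 lc_b_rc_29_2 lc_b_rc_11_2) (@D3.rec (fun _ => (Cert rels S Gen.b)) lc_b_rc_8_2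 lc_b_rc_29_2 lc_b_rc_7_0 lc_b_rc_9_2 lc_b_rc_29_5 lc_b_rc_8_2 lc_b_rc_10_2 lc_b_rc_11_2 lc_b_rc_12_2 lc_b_rc_9_2 lc_b_rc_9_2 lc_b_rc_11_2 lc_b_rc_12_2 lc_b_rc_9_2 lc_b_rc_12_2 lc_b_rc_9_2 lc_b_rc_10_2 lc_b_Cert_tree lc_b_rc_10_2 lc_b_Cert_tree lc_b_rc_10_2) (@D3.rec (fun _ => (Cert rels S Gen.b)) lc_b_rc_8_2 lc_b_rc_10_2 lc_b_rc_11_2 lc_b_rc_12_2 lc_b_rc_10_0 lc_b_rc_10_2 lc_b_rc_11_2 lc_b_rc_12_2 lc_b_rc_9_2 lc_b_rc_11_2 lc_b_rc_12_2 lc_b_rc_9_2 lc_b_rc_9_2 lc_b_rc_9_2 lc_b_rc_11_2 lc_b_rc_10_2 lc_b_rc_11_2 lc_b_rc_12_2 lc_b_rc_9_2 lc_b_rc_9_2 lc_b_Cert_tree)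
def ce_b_2 : D2 → D3 → (Cert rels S Gen.b) := @D2.rec (fun _ => D3 → (Cert rels S Gen.b)) (@D3.rec (fun _ => (Cert rels S Gen.b)) lc_b_rc_10_2 lc_b_rc_11_0 lc_b_rc_9_2 lc_b_Cert_tree lc_b_rc_10_2 lc_b_rc_11_2 lc_b_rc_9_2 lc_b_rc_7_0 lc_b_rc_10_2 lc_b_rc_11_2 lc_b_rc_12_2 lc_b_rc_11_2 lc_b_rc_12_2 lc_b_rc_11_2 lc_b_rc_12_2 lc_b_Cert_tree lc_b_rc_10_2 lc_b_Cert_tree lc_b_rc_10_2 lc_b_rc_7_0 lc_b_rc_9_2) (@D3.rec (fun _ => (Cert rels S Gen.b)) lc_b_rc_10_2 lc_b_rc_7_0 lc_b_rc_9_2 lc_b_rc_10_2 lc_b_rc_9_2 lc_b_rc_10_2 lc_b_rc_11_2 lc_b_rc_12_2 lc_b_rc_12_2 lc_b_rc_9_2 lc_b_rc_12_2 lc_b_rc_1_1 lc_b_rc_11_2 lc_b_rc_12_2 lc_b_rc_11_2 lc_b_rc_9_2 lc_b_rc_10_2 lc_b_rc_10_2 lc_b_rc_11_2 lc_b_rc_12_2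 lc_b_rc_12_2) (@D3.rec (fun _ => (Cert rels S Gen.b)) lc_b_rc_1_5 lc_b_rc_10_2 lc_b_rc_11_2 lc_b_rc_9_2 lc_b_rc_29_8 lc_b_rc_1_3 lc_b_rc_9_2 lc_b_rc_11_0 lc_b_rc_9_2 lc_b_rc_1_3 lc_b_rc_11_2 lc_b_rc_12_2 lc_b_rc_9_2 lc_b_rc_9_2 lc_b_rc_9_2 lc_b_rc_8_4 lc_b_rc_12_2 lc_b_rc_12_0 lc_b_rc_9_2 lc_b_rc_7_0 lc_b_rc_29_2) (@D3.rec (fun _ => (Cert rels S Gen.b)) lc_b_rc_29_8 lc_b_rc_12_2 lc_b_rc_12_2 lc_b_rc_12_2 lc_b_rc_7_0 lc_b_rc_9_2 lc_b_rc_1_3 lc_b_rc_29_8 lc_b_rc_11_2 lc_b_rc_12_2 lc_b_rc_7_1 lc_b_rc_9_2 lc_b_rc_10_2 lc_b_rc_12_2 lc_b_rc_10_2 lc_b_rc_12_2 lc_b_rc_9_2 lc_b_rc_29_2 lc_b_rc_29_2 lc_b_rc_9_2 lc_b_rc_29_8) (@D3.rec (fun _ => (Cert rels S Gen.b)) lc_b_rc_29_2 lc_b_rc_11_2 lc_b_rc_12_2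 lc_b_rc_9_2 lc_b_rc_9_2 lc_b_rc_9_2 lc_b_rc_9_2 lc_b_rc_7_0 lc_b_rc_9_2 lc_b_rc_12_2 lc_b_rc_9_0 lc_b_rc_12_2 lc_b_rc_12_0 lc_b_rc_9_2 lc_b_rc_11_2 lc_b_rc_7_1 lc_b_rc_8_2 lc_b_rc_10_2 lc_b_rc_11_2 lc_b_rc_12_2 lc_b_rc_9_2) (@D3.rec (fun _ => (Cert rels S Gen.b)) lc_b_rc_11_2 lc_b_rc_12_2 lc_b_rc_9_2 lc_b_rc_9_2 lc_b_rc_11_2 lc_b_rc_9_2 lc_b_rc_11_2 lc_b_rc_12_2 lc_b_rc_9_2 lc_b_rc_12_2 lc_b_rc_9_2 lc_b_rc_10_2 lc_b_rc_11_2 lc_b_rc_9_2 lc_b_Cert_tree lc_b_rc_10_2 lc_b_rc_12_2 lc_b_rc_9_2 lc_b_Cert_tree lc_b_rc_9_2 lc_b_rc_1_5) (@D3.rec (fun _ => (Cert rels S Gen.b)) lc_b_rc_9_2 lc_b_rc_11_2 lc_b_rc_29_2 lc_b_rc_11_2 lc_b_rc_12_2 lc_b_Cert_tree lc_b_rc_12_2 lc_b_Cert_tree lc_b_rc_11_2 lc_b_rc_10_2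 lc_b_rc_11_2 lc_b_Cert_tree lc_b_rc_9_2 lc_b_rc_9_2 lc_b_rc_11_2 lc_b_rc_12_2 lc_b_rc_29_2 lc_b_rc_1_7 lc_b_rc_29_2 lc_b_rc_9_2 lc_b_rc_9_2) (@D3.rec (fun _ => (Cert rels S Gen.b)) lc_b_Cert_tree lc_b_rc_10_2 lc_b_rc_11_2 lc_b_rc_9_0 lc_b_Cert_tree lc_b_rc_12_2 lc_b_Cert_tree lc_b_rc_10_2 lc_b_rc_12_2 lc_b_rc_29_2 lc_b_rc_10_2 lc_b_rc_11_2 lc_b_rc_7_0 lc_b_rc_9_2 lc_b_rc_10_2 lc_b_rc_12_2 lc_b_rc_10_2 lc_b_rc_12_2 lc_b_rc_10_2 lc_b_rc_12_0 lc_b_rc_10_2) (@D3.rec (fun _ => (Cert rels S Gen.b)) lc_b_rc_11_2 lc_b_rc_8_4 lc_b_rc_11_2 lc_b_rc_10_2 lc_b_rc_11_2 lc_b_rc_10_2 lc_b_rc_11_0 lc_b_rc_10_2 lc_b_rc_12_2 lc_b_rc_7_0 lc_b_rc_9_2 lc_b_rc_8_2 lc_b_rc_9_2 lc_b_rc_12_0 lc_b_rc_1_5 lc_b_rc_11_2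 lc_b_rc_9_2 lc_b_rc_9_2 lc_b_rc_10_2 lc_b_rc_11_2 lc_b_rc_7_0) (@D3.rec (fun _ => (Cert rels S Gen.b)) lc_b_rc_11_2 lc_b_rc_7_1 lc_b_rc_29_5 lc_b_rc_8_2 lc_b_rc_11_2 lc_b_rc_7_0 lc_b_rc_7_0 lc_b_rc_9_2 lc_b_rc_10_2 lc_b_rc_12_2 lc_b_rc_7_0 lc_b_rc_9_2 lc_b_rc_29_2 lc_b_rc_29_2 lc_b_rc_10_2 lc_b_rc_9_2 lc_b_rc_10_2 lc_b_rc_12_2 lc_b_Cert_tree lc_b_rc_10_2 lc_b_rc_11_2) (@D3.rec (fun _ => (Cert rels S Gen.b)) lc_b_rc_9_2 lc_b_rc_9_2 lc_b_rc_12_2 lc_b_rc_11_2 lc_b_rc_9_2 lc_b_rc_11_2 lc_b_rc_12_2 lc_b_rc_12_0 lc_b_rc_9_2 lc_b_rc_7_0 lc_b_rc_29_8 lc_b_rc_12_2 lc_b_rc_12_2 lc_b_rc_11_2 lc_b_rc_12_2 lc_b_rc_29_5 lc_b_rc_9_2 lc_b_rc_10_2 lc_b_rc_10_2 lc_b_rc_1_5 lc_b_rc_12_2) (@D3.rec (fun _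 => (Cert rels S Gen.b)) lc_b_rc_9_2 lc_b_rc_10_2 lc_b_rc_9_2 lc_b_rc_9_2 lc_b_rc_12_2 lc_b_rc_11_2 lc_b_rc_12_2 lc_b_rc_9_2 lc_b_rc_9_2 lc_b_rc_12_0 lc_b_rc_12_2 lc_b_rc_1_5 lc_b_rc_9_2 lc_b_rc_10_2 lc_b_Cert_tree lc_b_rc_10_2 lc_b_rc_11_2 lc_b_rc_9_2 lc_b_rc_9_2 lc_b_rc_29_5 lc_b_rc_9_2) (@D3.rec (fun _ => (Cert rels S Gen.b)) lc_b_rc_8_2 lc_b_rc_9_2 lc_b_Cert_tree lc_b_rc_10_2 lc_b_rc_11_2 lc_b_rc_12_2 lc_b_rc_9_2 lc_b_rc_10_2 lc_b_rc_11_2 lc_b_rc_1_5 lc_b_rc_11_2 lc_b_rc_12_2 lc_b_rc_9_2 lc_b_Cert_tree lc_b_rc_10_2 lc_b_rc_8_2 lc_b_rc_10_2 lc_b_rc_12_2 lc_b_rc_9_2 lc_b_rc_11_2 lc_b_rc_9_2) (@D3.rec (fun _ => (Cert rels S Gen.b)) lc_b_rc_1_1 lc_b_rc_9_2 lc_b_rc_9_2 lc_b_rc_29_2 lc_b_rc_1_7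 lc_b_rc_9_2 lc_b_rc_9_2 lc_b_rc_10_2 lc_b_rc_9_2 lc_b_rc_9_2 lc_b_rc_9_2 lc_b_rc_1_3 lc_b_rc_10_2 lc_b_rc_11_2 lc_b_rc_10_2 lc_b_rc_1_3 lc_b_rc_11_2 lc_b_rc_9_2 lc_b_rc_9_2 lc_b_rc_9_2 lc_b_rc_11_2)
def ce_b_3 : D2 → D3 → (Cert rels S Gen.b) := @D2.rec (fun _ => D3 → (Cert rels S Gen.b)) (@D3.rec (fun _ => (Cert rels S Gen.b)) lc_b_rc_12_2 lc_b_rc_11_2 lc_b_rc_12_2 lc_b_rc_9_2 lc_b_rc_12_2 lc_b_rc_9_2 lc_b_rc_10_0 lc_b_Cert_tree lc_b_rc_10_2 lc_b_Cert_tree lc_b_rc_10_2 lc_b_rc_9_2 lc_b_rc_9_2 lc_b_Cert_tree lc_b_rc_11_2 lc_b_rc_11_2 lc_b_rc_9_2 lc_b_Cert_tree lc_b_rc_12_2 lc_b_rc_12_2 lc_b_rc_9_2) (@D3.rec (fun _ => (Cert rels S Gen.b)) lc_b_rc_7_0 lc_b_rc_9_2 lc_b_rc_10_2 lc_b_rc_7_0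 lc_b_rc_9_2 lc_b_rc_10_2 lc_b_rc_11_2 lc_b_rc_12_2 lc_b_rc_12_2 lc_b_rc_11_2 lc_b_rc_12_2 lc_b_rc_9_2 lc_b_rc_11_2 lc_b_rc_12_2 lc_b_rc_9_2 lc_b_rc_11_2 lc_b_rc_11_2 lc_b_rc_9_2 lc_b_rc_29_8 lc_b_rc_10_2 lc_b_rc_9_2) (@D3.rec (fun _ => (Cert rels S Gen.b)) lc_b_rc_11_2 lc_b_rc_12_2 lc_b_rc_11_2 lc_b_rc_11_0 lc_b_Cert_tree lc_b_rc_10_2 lc_b_rc_11_2 lc_b_rc_12_0 lc_b_rc_10_2 lc_b_rc_11_2 lc_b_rc_7_0 lc_b_rc_9_2 lc_b_rc_10_2 lc_b_rc_10_2 lc_b_rc_11_2 lc_b_Cert_tree lc_b_rc_10_2 lc_b_rc_7_0 lc_b_rc_9_2 lc_b_rc_29_8 lc_b_rc_7_1) (@D3.rec (fun _ => (Cert rels S Gen.b)) lc_b_rc_11_2 lc_b_rc_11_0 lc_b_rc_10_2 lc_b_rc_11_2 lc_b_rc_12_2 lc_b_rc_1_7 lc_b_rc_12_2 lc_b_Cert_tree lc_b_rc_11_2 lc_b_rc_9_2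 lc_b_rc_11_2 lc_b_rc_7_0 lc_b_rc_9_2 lc_b_rc_11_2 lc_b_rc_7_0 lc_b_rc_9_2 lc_b_rc_7_1 lc_b_rc_11_0 lc_b_rc_9_2 lc_b_rc_10_2 lc_b_rc_9_2) (@D3.rec (fun _ => (Cert rels S Gen.b)) lc_b_rc_10_2 lc_b_rc_8_2 lc_b_rc_12_2 lc_b_rc_9_2 lc_b_rc_1_5 lc_b_rc_9_2 lc_b_rc_10_2 lc_b_rc_11_2 lc_b_rc_9_2 lc_b_Cert_tree lc_b_rc_10_2 lc_b_rc_11_2 lc_b_rc_12_2 lc_b_rc_11_2 lc_b_rc_12_2 lc_b_rc_9_2 lc_b_rc_9_2 lc_b_rc_9_2 lc_b_rc_10_2 lc_b_rc_11_2 lc_b_rc_9_2) (@D3.rec (fun _ => (Cert rels S Gen.b)) lc_b_rc_1_1 lc_b_rc_12_2 lc_b_rc_12_0 lc_b_rc_11_0 lc_b_rc_8_4 lc_b_rc_10_2 lc_b_rc_11_2 lc_b_rc_9_2 lc_b_rc_9_2 lc_b_rc_9_2 lc_b_rc_9_2 lc_b_rc_9_2 lc_b_rc_11_2 lc_b_rc_9_2 lc_b_rc_9_2 lc_b_rc_29_2 lc_b_rc_9_2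 lc_b_rc_10_2 lc_b_rc_9_2 lc_b_Cert_tree lc_b_rc_9_2) (@D3.rec (fun _ => (Cert rels S Gen.b)) lc_b_rc_11_2 lc_b_rc_29_2 lc_b_rc_9_2 lc_b_rc_9_2 lc_b_rc_1_3 lc_b_rc_12_2 lc_b_rc_9_2 lc_b_rc_1_7 lc_b_rc_11_0 lc_b_rc_1_7 lc_b_rc_9_2 lc_b_rc_9_2 lc_b_Cert_tree lc_b_rc_10_2 lc_b_rc_9_2 lc_b_rc_12_2 lc_b_rc_9_2 lc_b_rc_11_2 lc_b_rc_9_2 lc_b_rc_9_2 lc_b_rc_9_2) (@D3.rec (fun _ => (Cert rels S Gen.b)) lc_b_rc_10_2 lc_b_rc_9_2 lc_b_rc_11_2 lc_b_rc_9_2 lc_b_rc_9_2 lc_b_rc_9_2 lc_b_rc_7_1 lc_b_rc_10_2 lc_b_rc_12_2 lc_b_rc_9_2 lc_b_rc_9_2 lc_b_rc_9_2 lc_b_rc_9_2 lc_b_rc_7_1 lc_b_rc_11_2 lc_b_rc_12_2 lc_b_rc_9_2 lc_b_Cert_tree lc_b_rc_10_2 lc_b_rc_1_3 lc_b_rc_9_2) (@D3.rec (fun _ => (Cert rels S Gen.b))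 lc_b_rc_10_2 lc_b_rc_11_2 lc_b_rc_12_2 lc_b_Cert_tree lc_b_rc_12_2 lc_b_Cert_tree lc_b_rc_11_2 lc_b_rc_10_2 lc_b_rc_11_2 lc_b_Cert_tree lc_b_rc_9_0 lc_b_rc_9_0 lc_b_rc_9_2 lc_b_rc_10_2 lc_b_rc_11_2 lc_b_rc_9_2 lc_b_rc_9_2 lc_b_rc_11_2 lc_b_rc_12_2 lc_b_rc_9_2 lc_b_rc_9_2) (@D3.rec (fun _ => (Cert rels S Gen.b)) lc_b_rc_11_2 lc_b_rc_12_2 lc_b_rc_9_2 lc_b_rc_11_2 lc_b_rc_12_2 lc_b_rc_9_2 lc_b_rc_12_2 lc_b_rc_9_2 lc_b_rc_10_0 lc_b_rc_9_2 lc_b_Cert_tree lc_b_rc_10_2 lc_b_rc_12_2 lc_b_Cert_tree lc_b_rc_29_2 lc_b_rc_9_2 lc_b_Cert_tree lc_b_rc_10_2 lc_b_rc_12_2 lc_b_rc_8_0 lc_b_rc_29_8) (@D3.rec (fun _ => (Cert rels S Gen.b)) lc_b_rc_9_2 lc_b_rc_7_0 lc_b_rc_10_2 lc_b_rc_10_2 lc_b_rc_8_4 lc_b_rc_9_2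 lc_b_rc_7_0 lc_b_rc_9_2 lc_b_rc_11_2 lc_b_rc_12_2 lc_b_rc_9_2 lc_b_Cert_tree lc_b_rc_12_2 lc_b_rc_7_0 lc_b_rc_7_0 lc_b_rc_12_2 lc_b_rc_12_0 lc_b_rc_10_2 lc_b_rc_7_0 lc_b_rc_29_2 lc_b_rc_10_2) (@D3.rec (fun _ => (Cert rels S Gen.b)) lc_b_rc_12_2 lc_b_rc_12_2 lc_b_rc_12_2 lc_b_rc_9_0 lc_b_rc_29_8 lc_b_rc_11_0 lc_b_rc_11_2 lc_b_rc_10_2 lc_b_rc_12_2 lc_b_rc_7_0 lc_b_rc_29_2 lc_b_rc_9_0 lc_b_rc_10_2 lc_b_rc_11_2 lc_b_rc_7_0 lc_b_rc_7_0 lc_b_rc_9_2 lc_b_rc_8_4 lc_b_rc_12_2 lc_b_rc_7_1 lc_b_rc_11_2) (@D3.rec (fun _ => (Cert rels S Gen.b)) lc_b_rc_8_2 lc_b_rc_9_2 lc_b_rc_10_2 lc_b_rc_12_2 lc_b_rc_10_2 lc_b_rc_11_2 lc_b_rc_9_2 lc_b_rc_9_2 lc_b_rc_12_2 lc_b_rc_11_2 lc_b_rc_9_2 lc_b_rc_11_2 lc_b_rc_12_2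 lc_b_rc_12_0 lc_b_rc_9_2 lc_b_rc_11_2 lc_b_rc_12_2 lc_b_rc_11_2 lc_b_rc_11_2 lc_b_rc_9_2 lc_b_rc_10_2) (@D3.rec (fun _ => (Cert rels S Gen.b)) lc_b_rc_11_2 lc_b_rc_11_0 lc_b_rc_9_2 lc_b_rc_9_2 lc_b_rc_11_2 lc_b_rc_12_2 lc_b_rc_9_2 lc_b_Cert_tree lc_b_rc_9_2 lc_b_rc_11_2 lc_b_rc_9_2 lc_b_rc_9_2 lc_b_Cert_tree lc_b_rc_10_2 lc_b_rc_11_2 lc_b_rc_12_2 lc_b_rc_1_5 lc_b_Cert_tree lc_b_rc_10_2 lc_b_rc_11_2 lc_b_rc_9_2)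
def ce_b_4 : D2 → D3 → (Cert rels S Gen.b) := @D2.rec (fun _ => D3 → (Cert rels S Gen.b)) (@D3.rec (fun _ => (Cert rels S Gen.b)) lc_b_rc_9_2 lc_b_rc_9_2 lc_b_rc_9_2 lc_b_rc_9_2 lc_b_rc_9_2 lc_b_rc_9_2 lc_b_rc_12_2 lc_b_Cert_tree lc_b_rc_10_2 lc_b_rc_11_2 lc_b_rc_7_1 lc_b_rc_9_2 lc_b_rc_9_2 lc_b_Cert_tree lc_b_rc_9_2 lc_b_rc_7_0 lc_b_rc_12_2 lc_b_rc_9_2 lc_b_rc_11_2 lc_b_rc_11_0 lc_b_rc_10_2) (@D3.rec (fun _ => (Cert rels S Gen.b)) lc_b_rc_11_2 lc_b_rc_9_2 lc_b_rc_12_2 lc_b_rc_7_0 lc_b_rc_11_0 lc_b_rc_11_0 lc_b_rc_9_2 lc_b_rc_11_2 lc_b_rc_11_0 lc_b_rc_1_7 lc_b_rc_11_2 lc_b_Cert_tree lc_b_rc_11_2 lc_b_rc_12_2 lc_b_rc_9_2 lc_b_rc_9_2 lc_b_rc_9_2 lc_b_rc_9_2 lc_b_Cert_tree lc_b_rc_10_2 lc_b_rc_10_2)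 (@D3.rec (fun _ => (Cert rels S Gen.b)) lc_b_rc_12_2 lc_b_rc_9_2 lc_b_rc_9_2 lc_b_rc_10_2 lc_b_rc_12_2 lc_b_rc_9_2 lc_b_rc_9_2 lc_b_rc_9_0 lc_b_rc_9_2 lc_b_Cert_tree lc_b_rc_9_2 lc_b_rc_10_2 lc_b_Cert_tree lc_b_rc_9_2 lc_b_rc_9_2 lc_b_rc_9_2 lc_b_Cert_tree lc_b_rc_7_1 lc_b_rc_10_2 lc_b_rc_10_0 lc_b_rc_9_2) (@D3.rec (fun _ => (Cert rels S Gen.b)) lc_b_rc_9_2 lc_b_rc_10_2 lc_b_rc_11_2 lc_b_rc_9_2 lc_b_rc_7_0 lc_b_rc_9_2 lc_b_rc_10_2 lc_b_rc_11_2 lc_b_rc_11_2 lc_b_rc_9_2 lc_b_rc_8_2 lc_b_rc_10_2 lc_b_rc_10_2 lc_b_Cert_tree lc_b_rc_7_1 lc_b_rc_7_1 lc_b_rc_9_2 lc_b_Cert_tree lc_b_rc_10_2 lc_b_rc_11_2 lc_b_rc_12_2) (@D3.rec (fun _ => (Cert rels S Gen.b)) lc_b_rc_7_0 lc_b_rc_9_2 lc_b_rc_12_2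 lc_b_rc_11_2 lc_b_rc_12_2 lc_b_rc_11_2 lc_b_rc_12_2 lc_b_rc_12_2 lc_b_rc_10_2 lc_b_rc_9_0 lc_b_rc_9_0 lc_b_rc_12_2 lc_b_rc_9_2 lc_b_rc_12_2 lc_b_rc_8_4 lc_b_rc_10_2 lc_b_rc_7_0 lc_b_rc_9_2 lc_b_rc_10_2 lc_b_rc_8_2 lc_b_rc_8_2) (@D3.rec (fun _ => (Cert rels S Gen.b)) lc_b_rc_10_2 lc_b_rc_9_0 lc_b_Cert_tree lc_b_rc_29_5 lc_b_rc_11_2 lc_b_rc_9_2 lc_b_Cert_tree lc_b_rc_11_2 lc_b_rc_29_5 lc_b_rc_9_2 lc_b_rc_9_2 lc_b_rc_29_8 lc_b_rc_10_2 lc_b_rc_11_2 lc_b_Cert_tree lc_b_rc_9_2 lc_b_rc_12_2 lc_b_rc_9_0 lc_b_rc_11_2 lc_b_Cert_tree lc_b_rc_10_2) (@D3.rec (fun _ => (Cert rels S Gen.b)) lc_b_rc_10_2 lc_b_rc_12_2 lc_b_rc_10_2 lc_b_rc_11_2 lc_b_rc_7_0 lc_b_rc_9_2 lc_b_rc_9_2 lc_b_Cert_tree lc_b_rc_9_2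 lc_b_rc_9_2 lc_b_rc_7_0 lc_b_rc_8_4 lc_b_rc_7_0 lc_b_rc_9_2 lc_b_rc_29_2 lc_b_Cert_tree lc_b_rc_9_2 lc_b_rc_10_2 lc_b_rc_8_4 lc_b_rc_9_2 lc_b_rc_10_2) (@D3.rec (fun _ => (Cert rels S Gen.b)) lc_b_rc_7_0 lc_b_rc_9_2 lc_b_rc_10_2 lc_b_rc_8_4 lc_b_rc_9_2 lc_b_rc_10_2 lc_b_rc_7_0 lc_b_rc_9_2 lc_b_rc_11_2 lc_b_rc_10_2 lc_b_rc_9_2 lc_b_rc_11_0 lc_b_rc_10_2 lc_b_rc_8_2 lc_b_rc_9_2 lc_b_rc_10_2 lc_b_rc_10_2 lc_b_rc_11_2 lc_b_rc_12_2 lc_b_rc_9_2 lc_b_rc_7_0) (@D3.rec (fun _ => (Cert rels S Gen.b)) lc_b_rc_9_2 lc_b_rc_10_2 lc_b_rc_9_2 lc_b_rc_9_2 lc_b_rc_9_2 lc_b_rc_1_5 lc_b_rc_12_2 lc_b_rc_9_2 lc_b_rc_7_1 lc_b_rc_9_2 lc_b_rc_11_2 lc_b_Cert_tree lc_b_rc_29_2 lc_b_rc_29_2 lc_b_rc_9_0 lc_b_rc_8_0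 lc_b_Cert_tree lc_b_rc_1_1 lc_b_rc_7_0 lc_b_rc_9_2 lc_b_rc_10_2) (@D3.rec (fun _ => (Cert rels S Gen.b)) lc_b_rc_10_0 lc_b_rc_9_2 lc_b_rc_10_2 lc_b_rc_29_8 lc_b_rc_29_8 lc_b_rc_11_2 lc_b_rc_12_2 lc_b_rc_29_2 lc_b_rc_7_0 lc_b_rc_10_2 lc_b_rc_9_2 lc_b_rc_29_5 lc_b_rc_11_2 lc_b_rc_10_0 lc_b_Cert_tree lc_b_rc_8_0 lc_b_rc_7_0 lc_b_Cert_tree lc_b_rc_9_2 lc_b_rc_10_2 lc_b_rc_12_2) (@D3.rec (fun _ => (Cert rels S Gen.b)) lc_b_rc_1_3 lc_b_rc_9_2 lc_b_Cert_tree lc_b_rc_10_2 lc_b_rc_10_2 lc_b_rc_9_2 lc_b_rc_1_5 lc_b_rc_8_4 lc_b_rc_10_2 lc_b_rc_12_2 lc_b_rc_9_2 lc_b_rc_10_2 lc_b_rc_12_2 lc_b_rc_8_2 lc_b_rc_12_2 lc_b_rc_8_2 lc_b_rc_11_2 lc_b_rc_9_2 lc_b_rc_8_2 lc_b_rc_11_2 lc_b_rc_9_2) (@D3.rec (fun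 _ => (Cert rels S Gen.b)) lc_b_Cert_tree lc_b_rc_11_2 lc_b_rc_7_0 lc_b_rc_9_2 lc_b_rc_1_3 lc_b_rc_12_2 lc_b_rc_11_2 lc_b_rc_12_2 lc_b_rc_12_2 lc_b_rc_9_2 lc_b_Cert_tree lc_b_Cert_tree lc_b_rc_10_2 lc_b_rc_10_2 lc_b_rc_9_2 lc_b_rc_9_2 lc_b_rc_9_2 lc_b_rc_9_2 lc_b_rc_12_2 lc_b_rc_12_0 lc_b_rc_12_2) (@D3.rec (fun _ => (Cert rels S Gen.b)) lc_b_rc_1_5 lc_b_rc_29_2 lc_b_rc_11_2 lc_b_rc_29_5 lc_b_rc_9_2 lc_b_rc_7_0 lc_b_rc_11_2 lc_b_rc_11_2 lc_b_Cert_tree lc_b_rc_11_2 lc_b_Cert_tree lc_b_rc_10_2 lc_b_rc_9_2 lc_b_rc_7_0 lc_b_rc_29_5 lc_b_rc_10_2 lc_b_rc_12_2 lc_b_rc_9_2 lc_b_rc_10_2 lc_b_rc_29_5 lc_b_rc_11_2) (@D3.rec (fun _ => (Cert rels S Gen.b)) lc_b_rc_10_2 lc_b_rc_8_2 lc_b_rc_10_2 lc_b_rc_10_2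 lc_b_rc_11_2 lc_b_rc_11_2 lc_b_rc_9_2 lc_b_rc_8_2 lc_b_rc_29_5 lc_b_rc_11_2 lc_b_Cert_tree lc_b_rc_8_2 lc_b_rc_12_2 lc_b_rc_9_2 lc_b_rc_10_2 lc_b_rc_7_1 lc_b_rc_9_2 lc_b_rc_9_2 lc_b_rc_8_4 lc_b_rc_11_2 lc_b_rc_12_2)
def ce_b_5 : D2 → D3 → (Cert rels S Gen.b) := @D2.rec (fun _ => D3 → (Cert rels S Gen.b)) (@D3.rec (fun _ => (Cert rels S Gen.b)) lc_b_Cert_tree lc_b_rc_10_2 lc_b_rc_9_2 lc_b_rc_11_2 lc_b_Cert_tree lc_b_rc_12_2 lc_b_rc_11_2 lc_b_rc_12_2 lc_b_rc_7_0 lc_b_rc_10_2 lc_b_rc_11_2 lc_b_rc_8_4 lc_b_rc_12_2 lc_b_rc_29_8 lc_b_rc_7_0 lc_b_rc_8_2 lc_b_rc_7_0 lc_b_rc_10_2 lc_b_rc_7_0 lc_b_rc_12_2 lc_b_rc_7_1) (@D3.rec (fun _ => (Cert rels S Gen.b)) lc_b_rc_10_2 lc_b_rc_11_2 lc_b_rc_11_2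 lc_b_rc_9_2 lc_b_rc_12_2 lc_b_rc_11_2 lc_b_rc_8_4 lc_b_rc_10_2 lc_b_rc_12_2 lc_b_rc_8_2 lc_b_rc_9_2 lc_b_Cert_tree lc_b_rc_10_2 lc_b_rc_8_2 lc_b_rc_7_0 lc_b_rc_29_5 lc_b_rc_10_2 lc_b_rc_29_2 lc_b_rc_7_0 lc_b_rc_9_2 lc_b_rc_7_0) (@D3.rec (fun _ => (Cert rels S Gen.b)) lc_b_Cert_tree lc_b_rc_10_2 lc_b_rc_7_0 lc_b_rc_9_2 lc_b_rc_10_2 lc_b_rc_10_2 lc_b_Cert_tree lc_b_rc_10_2 lc_b_rc_9_2 lc_b_rc_11_2 lc_b_rc_10_2 lc_b_rc_12_2 lc_b_rc_7_0 lc_b_rc_9_2 lc_b_rc_8_0 lc_b_rc_10_2 lc_b_rc_12_2 lc_b_rc_12_2 lc_b_rc_9_2 lc_b_rc_8_4 lc_b_rc_8_4) (@D3.rec (fun _ => (Cert rels S Gen.b)) lc_b_rc_8_2 lc_b_rc_10_2 lc_b_rc_10_2 lc_b_rc_7_0 lc_b_rc_9_2 lc_b_rc_9_2 lc_b_rc_9_2 lc_b_rc_12_2 lc_b_rc_10_2 lc_b_rc_11_2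 lc_b_rc_12_2 lc_b_rc_9_2 lc_b_rc_9_2 lc_b_rc_11_2 lc_b_rc_10_2 lc_b_rc_11_2 lc_b_rc_9_2 lc_b_rc_12_2 lc_b_rc_9_2 lc_b_rc_11_2 lc_b_rc_10_2) (@D3.rec (fun _ => (Cert rels S Gen.b)) lc_b_rc_11_2 lc_b_Cert_tree lc_b_rc_11_2 lc_b_rc_12_2 lc_b_rc_1_3 lc_b_rc_9_2 lc_b_rc_9_2 lc_b_rc_9_2 lc_b_Cert_tree lc_b_rc_9_2 lc_b_rc_10_2 lc_b_rc_1_1 lc_b_Cert_tree lc_b_rc_9_2 lc_b_rc_11_2 lc_b_rc_1_3 lc_b_rc_7_0 lc_b_rc_10_2 lc_b_rc_8_2 lc_b_rc_12_2 lc_b_rc_9_0) (@D3.rec (fun _ => (Cert rels S Gen.b)) lc_b_rc_10_2 lc_b_rc_7_0 lc_b_rc_7_0 lc_b_rc_11_2 lc_b_rc_11_2 lc_b_rc_12_2 lc_b_rc_11_2 lc_b_rc_12_2 lc_b_rc_11_0 lc_b_rc_12_0 lc_b_rc_9_2 lc_b_rc_7_0 lc_b_rc_9_0 lc_b_rc_9_2 lc_b_rc_8_2 lc_b_rc_29_5 lc_b_Cert_tree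 lc_b_rc_11_2 lc_b_rc_29_5 lc_b_rc_11_2 lc_b_rc_8_4) (@D3.rec (fun _ => (Cert rels S Gen.b)) lc_b_rc_10_2 lc_b_rc_11_2 lc_b_rc_12_2 lc_b_rc_10_2 lc_b_rc_11_2 lc_b_rc_9_2 lc_b_rc_7_0 lc_b_rc_10_2 lc_b_rc_11_2 lc_b_rc_11_2 lc_b_rc_7_1 lc_b_rc_12_2 lc_b_rc_1_3 lc_b_rc_10_2 lc_b_Cert_tree lc_b_rc_12_2 lc_b_rc_7_0 lc_b_rc_10_2 lc_b_rc_11_2 lc_b_rc_9_2 lc_b_rc_10_2) (@D3.rec (fun _ => (Cert rels S Gen.b)) lc_b_rc_10_2 lc_b_rc_11_2 lc_b_rc_1_5 lc_b_rc_9_2 lc_b_rc_11_2 lc_b_rc_7_0 lc_b_rc_11_2 lc_b_rc_9_2 lc_b_rc_10_2 lc_b_rc_10_2 lc_b_Cert_tree lc_b_rc_11_2 lc_b_rc_9_2 lc_b_rc_9_2 lc_b_rc_7_0 lc_b_rc_9_2 lc_b_rc_11_2 lc_b_rc_12_2 lc_b_rc_10_2 lc_b_rc_11_2 lc_b_rc_7_0) (@D3.rec (fun _ => (Cert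 rels S Gen.b)) lc_b_rc_9_2 lc_b_rc_9_2 lc_b_rc_29_2 lc_b_rc_12_2 lc_b_Cert_tree lc_b_rc_10_2 lc_b_rc_9_2 lc_b_Cert_tree lc_b_Cert_tree lc_b_rc_7_1 lc_b_rc_7_0 lc_b_rc_9_2 lc_b_rc_11_2 lc_b_rc_12_0 lc_b_rc_7_0 lc_b_rc_10_2 lc_b_rc_9_2 lc_b_rc_29_8 lc_b_rc_9_2 lc_b_Cert_tree lc_b_rc_7_0) (@D3.rec (fun _ => (Cert rels S Gen.b)) lc_b_rc_12_0 lc_b_rc_29_2 lc_b_rc_11_2 lc_b_rc_7_0 lc_b_rc_12_2 lc_b_rc_8_2 lc_b_rc_9_2 lc_b_rc_7_1 lc_b_rc_9_2 lc_b_rc_10_2 lc_b_rc_11_2 lc_b_rc_1_3 lc_b_rc_11_2 lc_b_rc_29_5 lc_b_rc_9_2 lc_b_rc_7_0 lc_b_rc_9_2 lc_b_rc_29_5 lc_b_rc_12_2 lc_b_rc_1_3 lc_b_rc_10_2) (@D3.rec (fun _ => (Cert rels S Gen.b)) lc_b_rc_7_0 lc_b_rc_8_2 lc_b_rc_12_2 lc_b_rc_7_0 lc_b_rc_8_4 lc_b_rc_11_2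 lc_b_rc_12_2 lc_b_rc_11_2 lc_b_rc_12_2 lc_b_rc_12_2 lc_b_rc_10_0 lc_b_rc_12_0 lc_b_rc_9_2 lc_b_rc_11_2 lc_b_rc_12_2 lc_b_rc_11_2 lc_b_rc_9_2 lc_b_rc_9_2 lc_b_rc_9_2 lc_b_Cert_tree lc_b_rc_9_2) (@D3.rec (fun _ => (Cert rels S Gen.b)) lc_b_Cert_tree lc_b_rc_10_2 lc_b_rc_9_2 lc_b_rc_10_2 lc_b_rc_8_2 lc_b_rc_29_8 lc_b_rc_12_0 lc_b_rc_1_7 lc_b_rc_29_5 lc_b_rc_7_0 lc_b_rc_29_5 lc_b_rc_9_2 lc_b_rc_7_0 lc_b_rc_12_2 lc_b_rc_9_2 lc_b_rc_29_2 lc_b_rc_29_5 lc_b_rc_10_2 lc_b_rc_7_0 lc_b_rc_29_5 lc_b_rc_12_2) (@D3.rec (fun _ => (Cert rels S Gen.b)) lc_b_rc_11_2 lc_b_Cert_tree lc_b_rc_10_2 lc_b_rc_7_0 lc_b_rc_7_1 lc_b_rc_29_5 lc_b_rc_9_2 lc_b_Cert_tree lc_b_rc_10_2 lc_b_Cert_tree lc_b_rc_7_0 lc_b_rc_9_2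 lc_b_rc_11_2 lc_b_rc_7_0 lc_b_rc_10_2 lc_b_rc_8_2 lc_b_rc_9_2 lc_b_rc_10_2 lc_b_rc_11_2 lc_b_rc_11_2 lc_b_rc_11_2) (@D3.rec (fun _ => (Cert rels S Gen.b)) lc_b_rc_10_2 lc_b_rc_9_2 lc_b_rc_10_2 lc_b_rc_11_2 lc_b_rc_12_2 lc_b_rc_9_2 lc_b_rc_12_2 lc_b_rc_11_2 lc_b_rc_8_2 lc_b_rc_9_2 lc_b_Cert_tree lc_b_Cert_tree lc_b_rc_12_2 lc_b_rc_12_0 lc_b_rc_9_2 lc_b_rc_29_5 lc_b_rc_7_0 lc_b_rc_10_2 lc_b_rc_7_0 lc_b_rc_29_8 lc_b_rc_10_2)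
def ce_b_6 : D2 → D3 → (Cert rels S Gen.b) := @D2.rec (fun _ => D3 → (Cert rels S Gen.b)) (@D3.rec (fun _ => (Cert rels S Gen.b)) lc_b_rc_7_0 lc_b_rc_7_0 lc_b_rc_9_2 lc_b_rc_10_2 lc_b_rc_10_2 lc_b_rc_1_5 lc_b_rc_29_5 lc_b_rc_11_2 lc_b_rc_12_2 lc_b_rc_9_2 lc_b_rc_29_8 lc_b_rc_10_2 lc_b_rc_11_2 lc_b_rc_7_0 lc_b_rc_10_2 lc_b_rc_7_0 lc_b_rc_29_5 lc_b_rc_10_2 lc_b_rc_12_2 lc_b_Cert_tree lc_b_rc_7_0) (@D3.rec (fun _ => (Cert rels S Gen.b)) lc_b_rc_10_2 lc_b_rc_8_4 lc_b_rc_8_2 lc_b_rc_8_4 lc_b_rc_12_2 lc_b_rc_11_2 lc_b_rc_7_1 lc_b_rc_29_2 lc_b_rc_29_2 lc_b_Cert_tree lc_b_rc_7_0 lc_b_rc_8_4 lc_b_rc_1_5 lc_b_rc_9_2 lc_b_rc_12_2 lc_b_rc_9_2 lc_b_rc_9_2 lc_b_rc_11_2 lc_b_rc_11_2 lc_b_rc_7_0 lc_b_rc_7_0)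 (@D3.rec (fun _ => (Cert rels S Gen.b)) lc_b_rc_29_8 lc_b_rc_10_2 lc_b_Cert_tree lc_b_rc_11_2 lc_b_rc_10_2 lc_b_rc_9_2 lc_b_rc_8_2 lc_b_rc_12_0 lc_b_rc_7_0 lc_b_rc_11_2 lc_b_rc_7_0 lc_b_rc_1_5 lc_b_rc_10_2 lc_b_rc_12_2 lc_b_rc_12_2 lc_b_rc_9_2 lc_b_rc_7_0 lc_b_rc_7_0 lc_b_rc_11_2 lc_b_rc_7_0 lc_b_rc_29_2) (@D3.rec (fun _ => (Cert rels S Gen.b)) lc_b_rc_12_0 lc_b_rc_9_2 lc_b_rc_10_2 lc_b_rc_11_2 lc_b_Cert_tree lc_b_rc_8_4 lc_b_rc_12_0 lc_b_rc_7_0 lc_b_rc_9_2 lc_b_rc_7_0 lc_b_rc_10_2 lc_b_rc_11_2 lc_b_rc_9_2 lc_b_rc_9_2 lc_b_rc_9_2 lc_b_rc_9_2 lc_b_rc_12_2 lc_b_rc_9_2 lc_b_rc_7_0 lc_b_rc_29_8 lc_b_rc_11_2) (@D3.rec (fun _ => (Cert rels S Gen.b)) lc_b_rc_12_2 lc_b_rc_8_2 lc_b_rc_8_2 lc_b_rc_9_2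 lc_b_Cert_tree lc_b_rc_7_0 lc_b_rc_12_0 lc_b_rc_10_2 lc_b_rc_9_2 lc_b_rc_9_2 lc_b_Cert_tree lc_b_rc_9_2 lc_b_rc_9_0 lc_b_rc_7_0 lc_b_rc_29_2 lc_b_rc_9_2 lc_b_rc_7_0 lc_b_rc_10_2 lc_b_rc_12_2 lc_b_rc_9_2 lc_b_rc_11_2) (@D3.rec (fun _ => (Cert rels S Gen.b)) lc_b_rc_9_2 lc_b_rc_11_2 lc_b_rc_11_0 lc_b_rc_10_2 lc_b_rc_11_2 lc_b_rc_12_2 lc_b_rc_9_2 lc_b_rc_11_2 lc_b_rc_11_2 lc_b_rc_12_2 lc_b_rc_9_2 lc_b_rc_10_2 lc_b_rc_10_2 lc_b_rc_11_2 lc_b_rc_9_2 lc_b_rc_11_2 lc_b_rc_8_4 lc_b_rc_11_2 lc_b_rc_12_2 lc_b_rc_7_0 lc_b_rc_9_0) (@D3.rec (fun _ => (Cert rels S Gen.b)) lc_b_rc_7_0 lc_b_rc_1_3 lc_b_rc_29_5 lc_b_rc_29_8 lc_b_rc_8_2 lc_b_rc_11_2 lc_b_rc_1_3 lc_b_rc_9_2 lc_b_rc_7_0 lc_b_rc_1_5 lc_b_Cert_tree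 lc_b_rc_7_0 lc_b_rc_11_2 lc_b_rc_11_2 lc_b_rc_10_2 lc_b_rc_12_2 lc_b_rc_1_3 lc_b_rc_10_2 lc_b_rc_1_3 lc_b_rc_9_2 lc_b_rc_11_0) (@D3.rec (fun _ => (Cert rels S Gen.b)) lc_b_rc_11_2 lc_b_rc_12_2 lc_b_rc_9_2 lc_b_rc_9_2 lc_b_Cert_tree lc_b_rc_7_0 lc_b_rc_12_2 lc_b_rc_9_2 lc_b_rc_29_5 lc_b_rc_8_2 lc_b_rc_1_5 lc_b_rc_29_8 lc_b_rc_10_0 lc_b_rc_11_2 lc_b_rc_12_2 lc_b_rc_11_0 lc_b_rc_10_2 lc_b_rc_11_2 lc_b_rc_29_2 lc_b_rc_9_2 lc_b_rc_29_2) (@D3.rec (fun _ => (Cert rels S Gen.b)) lc_b_rc_9_2 lc_b_rc_7_0 lc_b_rc_9_0 lc_b_rc_10_2 lc_b_rc_11_2 lc_b_rc_11_2 lc_b_rc_9_2 lc_b_rc_9_2 lc_b_rc_9_0 lc_b_rc_11_2 lc_b_rc_10_0 lc_b_rc_12_2 lc_b_rc_11_2 lc_b_rc_7_0 lc_b_rc_29_8 lc_b_rc_9_2 lc_b_rc_11_2 lc_b_rc_1_3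 lc_b_rc_29_2 lc_b_rc_9_2 lc_b_rc_29_2) (@D3.rec (fun _ => (Cert rels S Gen.b)) lc_b_rc_7_0 lc_b_Cert_tree lc_b_rc_7_0 lc_b_rc_7_0 lc_b_rc_9_2 lc_b_rc_11_2 lc_b_rc_10_2 lc_b_rc_9_2 lc_b_rc_10_2 lc_b_rc_9_2 lc_b_rc_29_2 lc_b_rc_11_2 lc_b_rc_7_0 lc_b_rc_1_1 lc_b_rc_11_2 lc_b_rc_9_2 lc_b_rc_1_5 lc_b_rc_7_0 lc_b_rc_10_2 lc_b_rc_29_8 lc_b_rc_29_5) (@D3.rec (fun _ => (Cert rels S Gen.b)) lc_b_rc_29_5 lc_b_rc_12_2 lc_b_rc_8_2 lc_b_rc_11_2 lc_b_rc_12_2 lc_b_rc_8_2 lc_b_rc_9_2 lc_b_rc_7_0 lc_b_rc_11_2 lc_b_rc_8_4 lc_b_rc_9_2 lc_b_rc_9_2 lc_b_rc_7_0 lc_b_rc_8_2 lc_b_rc_7_0 lc_b_rc_9_2 lc_b_rc_29_5 lc_b_rc_12_2 lc_b_rc_29_2 lc_b_rc_12_2 lc_b_rc_12_2) (@D3.rec (fun _ => (Cert rels S Gen.b)) lc_b_rc_9_2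 lc_b_rc_7_0 lc_b_rc_7_0 lc_b_rc_29_2 lc_b_rc_7_0 lc_b_rc_10_2 lc_b_rc_11_2 lc_b_rc_12_2 lc_b_rc_11_2 lc_b_Cert_tree lc_b_rc_7_0 lc_b_rc_7_0 lc_b_rc_10_2 lc_b_rc_12_0 lc_b_rc_1_5 lc_b_rc_10_2 lc_b_rc_10_2 lc_b_rc_1_5 lc_b_rc_1_5 lc_b_rc_10_2 lc_b_rc_10_2) (@D3.rec (fun _ => (Cert rels S Gen.b)) lc_b_rc_7_0 lc_b_rc_8_2 lc_b_rc_10_2 lc_b_rc_7_0 lc_b_rc_8_2 lc_b_rc_8_2 lc_b_rc_10_2 lc_b_rc_7_0 lc_b_rc_11_2 lc_b_rc_12_2 lc_b_rc_9_2 lc_b_rc_7_0 lc_b_rc_9_2 lc_b_rc_10_2 lc_b_rc_9_2 lc_b_rc_9_2 lc_b_rc_11_2 lc_b_rc_11_2 lc_b_rc_7_0 lc_b_rc_7_0 lc_b_rc_9_2) (@D3.rec (fun _ => (Cert rels S Gen.b)) lc_b_rc_8_2 lc_b_rc_11_2 lc_b_rc_12_2 lc_b_rc_9_2 lc_b_rc_10_0 lc_b_rc_11_2 lc_b_rc_29_2 lc_b_rc_7_0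 lc_b_rc_8_2 lc_b_rc_29_2 lc_b_rc_7_0 lc_b_rc_12_2 lc_b_rc_8_2 lc_b_rc_9_2 lc_b_rc_9_0 lc_b_rc_11_2 lc_b_rc_7_0 lc_b_rc_10_0 lc_b_rc_9_2 lc_b_rc_12_2 lc_b_rc_7_0)
def ce_b : Pt → (Cert rels S Gen.b) := @Pt.rec (fun _ => (Cert rels S Gen.b)) (@D1.rec (fun _ => D2 → D3 → (Cert rels S Gen.b)) ce_b_0 ce_b_1 ce_b_2 ce_b_3 ce_b_4 ce_b_5 ce_b_6)
def isSeed_b (p : Pt) : Bool := false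

end

end Cfsg.Agent.Helper28.S1683
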