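import Cfsg.Agent.Lib.Helper28.S1683.Tree

set_option autoImplicit false
set_option maxRecDepth 100000
set_option linter.all false

namespace Cfsg.Agent.Helper28.S1683

open Cfsg.Agent.Helper28
open Cfsg.Spor.He (Gen)

noncomputable section

def lv_c_0 : D2 → D3 → Nat := @D2.rec (fun _ => D3 → Nat) (@D3.rec (fun _ => Nat) 1 0 2 1 2 0 0 2 0 1 2 2 1 2 2 1 2 2 4 0 2) (@D3.rec (fun _ => Nat) 2 3 4 3 2 2 3 4 40 2 2 3 6 0 5 1 2 2 3 8 5) (@D3.rec (fun _ => Nat) 0 5 4 4 4 8 3 0 0 6 0 5 41 41 41 42 3 39 0 0 6) (@D3.rec (fun _ => Nat) 1 2 14 2 2 12 13 0 7 1 13 2 2 0 9 5 5 40 5 6 11) (@D3.rec (fun _ => Nat) 11 0 1 2 2 1 0 6 1 2 2 2 0 42 42 42 42 43 43 43 39) (@D3.rec (fun _ => Nat) 43 41 1 1 2 2 15 0 2 16 14 14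 9 1 5 2 2 0 14 2 2) (@D3.rec (fun _ => Nat) 15 15 0 3 4 1 2 2 10 10 0 0 42 40 33 0 34 1 4 2 2) (@D3.rec (fun _ => Nat) 40 7 0 1 42 2 2 0 0 2 2 2 3 3 3 4 1 2 2 43 43) (@D3.rec (fun _ => Nat) 46 45 46 0 47 0 15 0 2 2 0 15 1 2 2 2 0 0 0 6 2) (@D3.rec (fun _ => Nat) 2 6 6 0 3 4 1 14 14 0 3 0 4 0 0 1 2 0 4 0 2) (@D3.rec (fun _ => Nat) 2 3 0 46 1 2 45 1 1 42 45 11 46 5 5 48 0 0 1 47 43) (@D3.rec (fun _ => Nat) 44 5 2 2 43 43 3 4 1 1 2 2 2 0 3 3 0 3 0 4 0) (@D3.rec (fun _ => Nat) 0 45 9 2 2 44 1 49 50 1 51 48 0 1 2 2 2 0 0 1 2) (@D3.rec (fun _ => Nat) 2 2 0 3 5 2 2 2 0 3 3 3 4 1 2 2 1 1 7 7 0)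
def lv_c_1 : D2 → D3 → Nat := @D2.rec (fun _ => D3 → Nat) (@D3.rec (fun _ => Nat) 3 0 4 0 0 1 0 12 0 0 0 1 2 2 0 1 2 2 0 1 2) (@D3.rec (fun _ => Nat) 2 1 0 2 1 2 5 0 5 1 2 2 2 0 0 3 0 1 47 6 2) (@D3.rec (fun _ => Nat) 47 45 6 7 0 0 0 1 1 48 2 3 0 44 44 6 6 6 0 3 0) (@D3.rec (fun _ => Nat) 4 0 45 9 43 2 2 2 0 3 3 0 3 0 4 1 2 2 0 0 1) (@D3.rec (fun _ => Nat) 2 1 2 1 1 46 10 10 10 0 47 52 11 1 2 2 43 43 2 2 2) (@D3.rec (fun _ => Nat) 0 3 3 3 0 47 1 2 2 1 2 2 3 14 2 2 2 0 3 3 46) (@D3.rec (fun _ => Nat) 3 1 2 2 4 0 4 47 4 6 6 6 46 3 3 0 3 0 4 1 2) (@D3.rec (fun _ => Nat) 2 0 0 50 0 4 8 2 2 13 3 0 0 0 0 1 2 2 0 1 2) (@D3.rec (fun _ => Nat) 50 0 1 2 1 0 1 45 1 2 2 2 1 2 2 1 2 2 7 0 2) (@D3.rec (fun _ => Nat)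 2 3 0 37 1 2 2 7 36 2 2 3 0 3 1 2 38 6 0 2 2) (@D3.rec (fun _ => Nat) 3 3 6 0 1 43 38 41 0 7 0 2 42 1 46 42 44 44 46 2 2) (@D3.rec (fun _ => Nat) 2 49 3 44 44 46 44 1 49 49 1 2 47 37 1 14 7 7 55 1 53) (@D3.rec (fun _ => Nat) 1 1 3 49 2 1 45 2 2 0 0 7 7 0 7 0 8 1 2 1 2) (@D3.rec (fun _ => Nat) 1 10 10 10 47 44 44 44 47 3 3 0 3 51 4 1 2 2 0 0 1)
def lv_c_2 : D2 → D3 → Nat := @D2.rec (fun _ => D3 → Nat) (@D3.rec (fun _ => Nat) 2 2 0 1 2 2 0 46 7 2 2 0 3 0 52 1 2 1 2 44 0) (@D3.rec (fun _ => Nat) 2 44 7 2 0 46 11 11 11 47 12 1 2 48 47 0 2 2 44 45 47) (@D3.rec (fun _ => Nat) 45 45 45 46 3 3 52 3 0 1 2 2 0 54 48 1 45 46 0 15 9) (@D3.rec (fun _ => Nat) 2 2 46 3 14 15 2 2 3 45 4 0 4 4 16 58 0 3 3 0 3) (@D3.rec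 (fun _ => Nat) 1 45 2 0 0 53 0 4 50 2 2 47 45 44 47 48 1 45 2 2 49) (@D3.rec (fun _ => Nat) 50 47 0 0 47 47 7 7 0 7 51 8 48 0 1 2 50 49 1 46 12) (@D3.rec (fun _ => Nat) 46 2 2 51 0 1 49 1 47 51 48 1 2 2 46 47 9 48 3 0 47) (@D3.rec (fun _ => Nat) 1 2 2 47 1 47 1 2 2 1 2 48 4 6 2 2 3 0 38 1 2) (@D3.rec (fun _ => Nat) 38 35 2 48 0 48 1 2 39 14 0 2 0 1 41 37 40 0 46 44 46) (@D3.rec (fun _ => Nat) 2 2 2 46 46 44 8 0 2 2 8 0 2 2 8 0 8 8 1 2 47) (@D3.rec (fun _ => Nat) 2 0 3 37 46 1 38 38 0 8 32 2 2 3 38 8 55 8 40 56 42) (@D3.rec (fun _ => Nat) 0 3 3 0 1 39 42 0 0 2 39 7 0 7 1 2 2 2 0 3 55) (@D3.rec (fun _ => Nat) 3 0 1 2 2 2 4 40 39 1 39 39 0 1 2 57 46 45 42 46 51) (@D3.rec (fun _ => Nat) 3 0 0 48 0 0 0 47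 0 37 36 2 48 39 39 0 54 51 51 0 2)
def lv_c_3 : D2 → D3 → Nat := @D2.rec (fun _ => D3 → Nat) (@D3.rec (fun _ => Nat) 2 46 46 0 47 49 53 1 2 1 2 0 0 1 2 2 53 1 2 2 0) (@D3.rec (fun _ => Nat) 4 41 2 4 7 2 11 11 11 45 45 49 45 45 0 46 47 0 1 2 45) (@D3.rec (fun _ => Nat) 2 2 0 0 1 2 55 1 54 54 45 0 2 2 0 1 2 51 0 2 2) (@D3.rec (fun _ => Nat) 0 1 53 47 47 0 3 1 0 1 52 45 50 2 52 0 2 52 0 45 1) (@D3.rec (fun _ => Nat) 2 46 2 54 49 0 53 57 0 1 2 51 2 48 48 0 0 54 48 48 52) (@D3.rec (fun _ => Nat) 2 48 48 49 1 52 51 24 48 0 50 54 45 47 0 48 48 56 46 1 48) (@D3.rec (fun _ => Nat) 2 2 53 52 1 47 56 47 49 49 0 0 1 2 2 47 46 3 58 45 0) (@D3.rec (fun _ => Nat) 15 0 3 0 54 0 1 2 2 0 0 0 0 1 52 2 50 1 2 2 0) (@D3.rec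 (fun _ => Nat) 2 0 53 1 2 1 47 53 51 1 51 2 0 51 51 48 52 45 45 0 0) (@D3.rec (fun _ => Nat) 2 2 49 46 46 0 46 0 52 55 1 2 2 1 47 0 1 55 59 52 1) (@D3.rec (fun _ => Nat) 50 4 2 51 52 16 4 0 47 47 52 1 49 6 6 47 49 50 7 55 2) (@D3.rec (fun _ => Nat) 2 3 3 48 1 57 2 56 47 21 2 2 47 17 20 4 7 2 2 7 2) (@D3.rec (fun _ => Nat) 8 48 9 5 5 45 5 0 3 36 46 1 40 40 48 33 2 42 0 50 1) (@D3.rec (fun _ => Nat) 40 44 0 7 2 38 51 1 2 2 2 53 1 2 2 2 40 1 2 2 51)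
def lv_c_4 : D2 → D3 → Nat := @D2.rec (fun _ => D3 → Nat) (@D3.rec (fun _ => Nat) 0 0 0 0 0 0 9 1 2 2 51 37 0 1 2 2 2 48 9 1 48) (@D3.rec (fun _ => Nat) 2 0 9 49 2 2 0 45 50 47 47 1 2 51 34 44 48 48 1 46 33) (@D3.rec (fun _ => Nat) 3 0 0 53 57 0 0 43 41 1 2 42 1 2 0 0 1 1 2 2 50) (@D3.rec (fun _ => Nat) 1 52 53 53 58 8 2 2 2 0 3 3 53 1 2 2 52 1 2 2 2) (@D3.rec (fun _ => Nat) 3 8 2 2 2 38 35 34 39 7 7 41 0 0 1 2 57 6 2 61 57) (@D3.rec (fun _ => Nat) 42 42 1 1 56 0 1 2 1 2 2 1 52 53 1 48 2 37 0 1 2) (@D3.rec (fun _ => Nat) 2 1 59 59 0 0 52 1 53 52 4 2 4 43 2 1 2 54 1 52 55) (@D3.rec (fun _ => Nat) 5 51 2 2 55 51 54 52 2 2 0 1 55 45 48 46 43 46 43 53 45) (@D3.rec (fun _ => Nat) 0 47 0 0 0 0 47 49 1 48 0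 1 2 0 2 54 1 1 46 17 2) (@D3.rec (fun _ => Nat) 51 0 46 1 50 55 56 1 46 2 55 1 57 1 1 2 46 1 0 54 52) (@D3.rec (fun _ => Nat) 52 0 1 2 2 53 47 1 50 2 56 2 2 54 49 48 48 0 1 2 0) (@D3.rec (fun _ => Nat) 1 55 49 44 2 2 51 55 53 0 1 1 2 55 0 54 22 49 52 1 2) (@D3.rec (fun _ => Nat) 0 1 49 48 48 47 49 49 1 2 1 53 18 46 57 2 2 3 18 48 56) (@D3.rec (fun _ => Nat) 56 1 2 56 1 52 49 1 53 53 1 18 2 49 2 2 0 0 1 54 2)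
def lv_c_5 : D2 → D3 → Nat := @D2.rec (fun _ => D3 → Nat) (@D3.rec (fun _ => Nat) 1 52 1 55 1 2 51 56 4 2 2 1 52 1 6 2 6 49 7 2 1) (@D3.rec (fun _ => Nat) 2 2 54 49 59 49 1 55 2 1 0 1 2 1 4 56 2 2 4 0 54) (@D3.rec (fun _ => Nat) 1 2 5 10 5 56 1 55 54 56 55 55 54 48 49 48 8 3 58 3 2) (@D3.rec (fun _ => Nat) 57 49 48 22 56 0 0 5 9 9 9 38 49 9 48 47 0 10 0 45 47) (@D3.rec (fun _ => Nat) 45 1 2 2 33 46 46 0 1 50 49 0 1 7 7 53 53 2 2 2 3) (@D3.rec (fun _ => Nat) 3 57 48 2 2 2 39 34 35 38 0 56 2 2 1 1 1 2 1 2 1) (@D3.rec (fun _ => Nat) 2 54 1 2 2 0 52 2 2 3 53 3 40 53 1 53 3 2 2 2 3) (@D3.rec (fun _ => Nat) 3 47 2 0 47 1 2 52 49 40 1 2 51 49 50 43 2 3 51 35 11) (@D3.rec (fun _ => Nat) 54 0 1 47 1 46 0 1 1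 42 4 44 2 45 10 2 1 2 2 1 11) (@D3.rec (fun _ => Nat) 51 2 2 52 59 59 60 57 56 52 53 8 8 8 46 3 3 0 53 1 2) (@D3.rec (fun _ => Nat) 53 2 2 3 2 2 2 3 52 52 52 4 0 4 4 53 0 38 48 1 2) (@D3.rec (fun _ => Nat) 1 2 56 60 8 8 54 59 57 46 1 2 55 2 60 2 2 3 48 52 2) (@D3.rec (fun _ => Nat) 55 1 52 55 2 2 43 1 2 1 5 50 51 6 2 46 53 47 53 53 55) (@D3.rec (fun _ => Nat) 1 59 47 46 48 56 51 59 1 0 1 1 1 1 0 1 54 2 1 55 57)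
def lv_c_6 : D2 → D3 → Nat := @D2.rec (fun _ => D3 → Nat) (@D3.rec (fun _ => Nat) 47 47 49 47 19 53 1 2 52 7 54 47 55 61 2 48 1 56 52 1 3) (@D3.rec (fun _ => Nat) 2 2 48 2 51 51 1 61 2 1 4 54 52 0 49 57 56 1 58 45 55) (@D3.rec (fun _ => Nat) 56 2 1 56 50 45 2 1 49 2 47 53 49 48 3 49 57 2 56 20 2) (@D3.rec (fun _ => Nat) 51 60 1 54 1 2 59 4 0 5 53 51 50 53 46 54 8 51 2 2 52) (@D3.rec (fun _ => Nat) 54 52 2 0 1 5 2 5 54 58 1 51 54 6 2 0 61 55 50 62 57) (@D3.rec (fun _ => Nat) 1 57 1 53 2 53 54 44 51 9 39 11 51 48 52 47 1 49 55 1 57) (@D3.rec (fun _ => Nat) 52 40 2 2 55 3 36 1 55 52 1 56 57 59 55 54 48 3 3 54 53) (@D3.rec (fun _ => Nat) 54 50 0 37 1 50 2 58 2 2 0 2 2 51 54 1 54 52 3 47 3) (@D3.rec (fun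 _ => Nat) 44 3 58 59 53 3 3 53 1 51 2 52 54 52 2 47 52 48 3 53 1) (@D3.rec (fun _ => Nat) 11 1 4 5 57 53 43 53 14 2 2 59 14 53 56 48 52 10 10 1 55) (@D3.rec (fun _ => Nat) 2 56 4 4 4 3 57 1 50 1 2 39 46 2 43 60 2 54 3 56 52) (@D3.rec (fun _ => Nat) 60 50 52 2 6 51 53 49 49 1 4 54 58 1 56 54 60 52 2 52 54) (@D3.rec (fun _ => Nat) 3 54 56 4 57 1 55 48 51 49 59 5 55 1 55 56 50 1 6 59 1) (@D3.rec (fun _ => Nat) 2 58 53 56 56 52 3 42 1 38 49 55 1 63 60 53 5 52 53 2 4)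
def lv_c : Pt → Nat := @Pt.rec (fun _ => Nat) (@D1.rec (fun _ => D2 → D3 → Nat) lv_c_0 lv_c_1 lv_c_2 lv_c_3 lv_c_4 lv_c_5 lv_c_6)
abbrev lc_c_Cert_tree : Cert rels S Gen.c := Cert.tree
abbrev lc_c_rc_13_0 : Cert rels S Gen.c := rc_13_0
abbrev lc_c_rc_13_1 : Cert rels S Gen.c := rc_13_1
abbrev lc_c_rc_14_14 : Cert rels S Gen.c := rc_14_14
abbrev lc_c_rc_14_6 : Cert rels S Gen.c := rc_14_6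
abbrev lc_c_rc_15_0 : Cert rels S Gen.c := rc_15_0
abbrev lc_c_rc_15_2 : Cert rels S Gen.c := rc_15_2
abbrev lc_c_rc_16_0 : Cert rels S Gen.c := rc_16_0
abbrev lc_c_rc_16_2 : Cert rels S Gen.c := rc_16_2
abbrev lc_c_rc_17_0 : Cert rels S Gen.c := rc_17_0
abbrev lc_c_rc_17_2 : Cert rels S Gen.c := rc_17_2
abbrev lc_c_rc_29_1 : Cert rels S Gen.c := rc_29_1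
abbrev lc_c_rc_29_4 : Cert rels S Gen.c := rc_29_4
abbrev lc_c_rc_29_7 : Cert rels S Gen.c := rc_29_7
abbrev lc_c_rc_2_1 : Cert rels S Gen.c := rc_2_1
abbrev lc_c_rc_2_3 : Cert rels S Gen.c := rc_2_3
abbrev lc_c_rc_30_10 : Cert rels S Gen.c := rc_30_10
abbrev lc_c_rc_30_2 : Cert rels S Gen.c := rc_30_2
abbrev lc_c_rc_30_4 : Cert rels S Gen.c := rc_30_4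
abbrev lc_c_rc_30_6 : Cert rels S Gen.c := rc_30_6
abbrev lc_c_rc_30_8 : Cert rels S Gen.c := rc_30_8
abbrev lc_c_rc_31_0 : Cert rels S Gen.c := rc_31_0
abbrev lc_c_rc_31_12 : Cert rels S Gen.c := rc_31_12
abbrev lc_c_rc_31_4 : Cert rels S Gen.c := rc_31_4
abbrev lc_c_rc_31_8 : Cert rels S Gen.c := rc_31_8
abbrev lc_c_rc_8_1 : Cert rels S Gen.c := rc_8_1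
abbrev lc_c_rc_8_3 : Cert rels S Gen.c := rc_8_3
abbrev lc_c_rc_8_5 : Cert rels S Gen.c := rc_8_5
abbrev lc_c_sc_1_0 : Cert rels S Gen.c := sc_1_0
def ce_c_0 : D2 → D3 → (Cert rels S Gen.c) := @D2.rec (fun _ => D3 → (Cert rels S Gen.c)) (@D3.rec (fun _ => (Cert rels S Gen.c)) lc_c_sc_1_0 lc_c_Cert_tree lc_c_rc_17_2 lc_c_rc_13_0 lc_c_rc_17_2 lc_c_Cert_tree lc_c_Cert_tree lc_c_rc_17_2 lc_c_Cert_tree lc_c_rc_13_0 lc_c_rc_15_2 lc_c_rc_16_2 lc_c_rc_13_0 lc_c_rc_15_2 lc_c_rc_16_2 lc_c_rc_13_0 lc_c_rc_15_2 lc_c_rc_16_2 lc_c_rc_8_3 lc_c_Cert_tree lc_c_rc_15_2) (@D3.rec (fun _ => (Cert rels S Gen.c)) lc_c_rc_16_2 lc_c_rc_16_2 lc_c_rc_8_3 lc_c_rc_30_6 lc_c_rc_15_2 lc_c_rc_16_2 lc_c_rc_16_2 lc_c_rc_8_3 lc_c_rc_30_4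 lc_c_rc_15_2 lc_c_rc_16_2 lc_c_rc_16_2 lc_c_rc_30_2 lc_c_Cert_tree lc_c_rc_8_3 lc_c_rc_13_0 lc_c_rc_15_2 lc_c_rc_16_2 lc_c_rc_16_2 lc_c_rc_30_6 lc_c_rc_2_1) (@D3.rec (fun _ => (Cert rels S Gen.c)) lc_c_Cert_tree lc_c_rc_8_3 lc_c_rc_15_2 lc_c_rc_16_2 lc_c_rc_17_2 lc_c_rc_29_7 lc_c_rc_16_2 lc_c_Cert_tree lc_c_Cert_tree lc_c_rc_30_2 lc_c_Cert_tree lc_c_rc_8_3 lc_c_rc_15_2 lc_c_rc_16_2 lc_c_rc_17_2 lc_c_rc_29_7 lc_c_rc_16_2 lc_c_rc_31_8 lc_c_Cert_tree lc_c_Cert_tree lc_c_rc_2_1) (@D3.rec (fun _ => (Cert rels S Gen.c)) lc_c_rc_13_0 lc_c_rc_15_2 lc_c_rc_2_3 lc_c_rc_15_2 lc_c_rc_16_2 lc_c_rc_31_4 lc_c_rc_2_1 lc_c_Cert_tree lc_c_rc_30_2 lc_c_rc_13_0 lc_c_rc_15_2 lc_c_rc_16_2 lc_c_rc_17_2 lc_c_Cert_tree lc_c_rc_29_1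 lc_c_rc_16_2 lc_c_rc_17_2 lc_c_rc_2_1 lc_c_rc_17_2 lc_c_rc_17_2 lc_c_rc_29_7) (@D3.rec (fun _ => (Cert rels S Gen.c)) lc_c_rc_29_7 lc_c_Cert_tree lc_c_rc_13_0 lc_c_rc_15_2 lc_c_rc_17_2 lc_c_rc_13_0 lc_c_Cert_tree lc_c_rc_2_1 lc_c_rc_13_0 lc_c_rc_15_2 lc_c_rc_16_2 lc_c_rc_17_2 lc_c_Cert_tree lc_c_rc_29_1 lc_c_rc_16_2 lc_c_rc_17_2 lc_c_rc_17_2 lc_c_rc_17_2 lc_c_rc_29_7 lc_c_rc_29_7 lc_c_rc_16_2) (@D3.rec (fun _ => (Cert rels S Gen.c)) lc_c_rc_8_5 lc_c_rc_17_2 lc_c_rc_13_0 lc_c_rc_13_0 lc_c_rc_15_2 lc_c_rc_17_2 lc_c_rc_2_1 lc_c_Cert_tree lc_c_rc_15_2 lc_c_rc_15_2 lc_c_rc_29_1 lc_c_rc_30_8 lc_c_rc_30_6 lc_c_rc_13_0 lc_c_rc_29_4 lc_c_rc_16_2 lc_c_rc_17_2 lc_c_Cert_tree lc_c_rc_15_2 lc_c_rc_16_2 lc_c_rc_17_2)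 (@D3.rec (fun _ => (Cert rels S Gen.c)) lc_c_rc_16_2 lc_c_rc_17_2 lc_c_Cert_tree lc_c_rc_17_2 lc_c_rc_15_2 lc_c_rc_13_0 lc_c_rc_15_2 lc_c_rc_17_2 lc_c_rc_29_1 lc_c_rc_29_1 lc_c_Cert_tree lc_c_Cert_tree lc_c_rc_8_5 lc_c_rc_17_2 lc_c_rc_29_1 lc_c_Cert_tree lc_c_rc_2_1 lc_c_rc_13_0 lc_c_rc_8_3 lc_c_rc_15_2 lc_c_rc_17_2) (@D3.rec (fun _ => (Cert rels S Gen.c)) lc_c_rc_16_2 lc_c_rc_8_3 lc_c_Cert_tree lc_c_rc_13_0 lc_c_rc_29_4 lc_c_rc_16_2 lc_c_rc_17_2 lc_c_Cert_tree lc_c_Cert_tree lc_c_rc_15_2 lc_c_rc_16_2 lc_c_rc_17_2 lc_c_rc_16_2 lc_c_rc_17_2 lc_c_rc_17_2 lc_c_rc_15_2 lc_c_rc_13_0 lc_c_rc_15_2 lc_c_rc_17_2 lc_c_rc_29_1 lc_c_rc_29_1) (@D3.rec (fun _ => (Cert rels S Gen.c)) lc_c_rc_16_0 lc_c_rc_31_12 lc_c_rc_29_1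 lc_c_Cert_tree lc_c_rc_2_1 lc_c_Cert_tree lc_c_rc_13_0 lc_c_Cert_tree lc_c_rc_15_2 lc_c_rc_17_2 lc_c_Cert_tree lc_c_rc_15_2 lc_c_rc_13_0 lc_c_rc_15_2 lc_c_rc_16_2 lc_c_rc_17_2 lc_c_Cert_tree lc_c_Cert_tree lc_c_Cert_tree lc_c_rc_13_0 lc_c_rc_16_2) (@D3.rec (fun _ => (Cert rels S Gen.c)) lc_c_rc_17_2 lc_c_rc_29_4 lc_c_rc_29_4 lc_c_Cert_tree lc_c_rc_17_2 lc_c_rc_15_2 lc_c_rc_13_0 lc_c_rc_16_2 lc_c_rc_17_2 lc_c_Cert_tree lc_c_rc_17_2 lc_c_Cert_tree lc_c_rc_15_0 lc_c_Cert_tree lc_c_Cert_tree lc_c_rc_13_0 lc_c_rc_15_2 lc_c_Cert_tree lc_c_rc_8_3 lc_c_Cert_tree lc_c_rc_15_2) (@D3.rec (fun _ => (Cert rels S Gen.c)) lc_c_rc_17_2 lc_c_rc_16_2 lc_c_Cert_tree lc_c_rc_2_1 lc_c_rc_13_0 lc_c_rc_15_2 lc_c_rc_16_0 lc_c_rc_13_0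 lc_c_rc_13_0 lc_c_rc_17_2 lc_c_rc_29_7 lc_c_rc_2_3 lc_c_rc_31_8 lc_c_rc_2_1 lc_c_rc_8_3 lc_c_rc_16_2 lc_c_Cert_tree lc_c_Cert_tree lc_c_rc_13_0 lc_c_rc_30_6 lc_c_rc_17_2) (@D3.rec (fun _ => (Cert rels S Gen.c)) lc_c_rc_2_1 lc_c_rc_30_4 lc_c_rc_16_2 lc_c_rc_17_2 lc_c_rc_29_4 lc_c_rc_29_4 lc_c_rc_17_2 lc_c_rc_15_2 lc_c_rc_13_0 lc_c_rc_13_0 lc_c_rc_15_2 lc_c_rc_16_2 lc_c_rc_17_2 lc_c_Cert_tree lc_c_rc_16_2 lc_c_rc_17_2 lc_c_Cert_tree lc_c_rc_17_2 lc_c_Cert_tree lc_c_rc_15_0 lc_c_Cert_tree) (@D3.rec (fun _ => (Cert rels S Gen.c)) lc_c_Cert_tree lc_c_rc_30_6 lc_c_rc_30_6 lc_c_rc_15_2 lc_c_rc_17_2 lc_c_rc_31_4 lc_c_rc_13_0 lc_c_rc_17_2 lc_c_rc_29_7 lc_c_rc_13_0 lc_c_rc_30_6 lc_c_rc_17_2 lc_c_Cert_tree lc_c_rc_13_0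 lc_c_rc_15_2 lc_c_rc_16_2 lc_c_rc_17_2 lc_c_Cert_tree lc_c_Cert_tree lc_c_rc_13_0 lc_c_rc_15_2) (@D3.rec (fun _ => (Cert rels S Gen.c)) lc_c_rc_16_2 lc_c_rc_17_2 lc_c_Cert_tree lc_c_rc_8_3 lc_c_rc_30_8 lc_c_rc_15_2 lc_c_rc_16_2 lc_c_rc_17_2 lc_c_Cert_tree lc_c_rc_16_2 lc_c_rc_17_2 lc_c_rc_17_2 lc_c_rc_15_2 lc_c_rc_13_0 lc_c_rc_16_2 lc_c_rc_17_2 lc_c_rc_13_0 lc_c_rc_13_0 lc_c_rc_13_0 lc_c_rc_13_0 lc_c_Cert_tree)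
def ce_c_1 : D2 → D3 → (Cert rels S Gen.c) := @D2.rec (fun _ => D3 → (Cert rels S Gen.c)) (@D3.rec (fun _ => (Cert rels S Gen.c)) lc_c_rc_17_2 lc_c_Cert_tree lc_c_rc_15_0 lc_c_Cert_tree lc_c_Cert_tree lc_c_rc_13_0 lc_c_Cert_tree lc_c_rc_2_1 lc_c_Cert_tree lc_c_Cert_tree lc_c_Cert_tree lc_c_rc_13_0 lc_c_rc_15_2 lc_c_rc_17_2 lc_c_Cert_tree lc_c_rc_13_0 lc_c_rc_15_2 lc_c_rc_16_2 lc_c_Cert_tree lc_c_rc_13_0 lc_c_rc_15_2) (@D3.rec (fun _ => (Cert rels S Gen.c)) lc_c_rc_17_2 lc_c_rc_13_0 lc_c_Cert_tree lc_c_rc_15_2 lc_c_rc_13_0 lc_c_rc_17_2 lc_c_rc_2_1 lc_c_Cert_tree lc_c_rc_8_3 lc_c_rc_13_0 lc_c_rc_15_2 lc_c_rc_16_2 lc_c_rc_17_2 lc_c_Cert_tree lc_c_Cert_tree lc_c_rc_16_2 lc_c_Cert_tree lc_c_rc_13_0 lc_c_rc_2_1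 lc_c_rc_8_3 lc_c_rc_15_2) (@D3.rec (fun _ => (Cert rels S Gen.c)) lc_c_rc_16_0 lc_c_rc_2_1 lc_c_rc_8_3 lc_c_rc_8_3 lc_c_Cert_tree lc_c_Cert_tree lc_c_Cert_tree lc_c_rc_13_0 lc_c_rc_13_0 lc_c_rc_15_2 lc_c_rc_17_2 lc_c_rc_8_3 lc_c_Cert_tree lc_c_rc_2_1 lc_c_rc_2_1 lc_c_rc_15_2 lc_c_rc_16_2 lc_c_rc_17_2 lc_c_Cert_tree lc_c_rc_17_2 lc_c_Cert_tree) (@D3.rec (fun _ => (Cert rels S Gen.c)) lc_c_rc_15_0 lc_c_Cert_tree lc_c_rc_30_2 lc_c_rc_30_4 lc_c_rc_8_3 lc_c_rc_15_2 lc_c_rc_16_2 lc_c_rc_17_2 lc_c_Cert_tree lc_c_rc_16_2 lc_c_rc_17_2 lc_c_Cert_tree lc_c_rc_17_2 lc_c_Cert_tree lc_c_rc_15_2 lc_c_rc_13_0 lc_c_rc_16_2 lc_c_rc_17_2 lc_c_Cert_tree lc_c_Cert_tree lc_c_rc_13_0) (@D3.rec (fun _ => (Cert rels S Gen.c))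 lc_c_rc_15_2 lc_c_rc_13_0 lc_c_rc_15_2 lc_c_rc_13_0 lc_c_rc_13_0 lc_c_rc_17_2 lc_c_rc_15_2 lc_c_rc_16_2 lc_c_rc_17_2 lc_c_Cert_tree lc_c_rc_13_1 lc_c_rc_31_4 lc_c_rc_8_3 lc_c_rc_13_0 lc_c_rc_15_2 lc_c_rc_16_2 lc_c_rc_2_3 lc_c_rc_29_4 lc_c_rc_15_2 lc_c_rc_16_2 lc_c_rc_17_2) (@D3.rec (fun _ => (Cert rels S Gen.c)) lc_c_Cert_tree lc_c_rc_16_2 lc_c_rc_17_2 lc_c_rc_17_2 lc_c_Cert_tree lc_c_rc_16_2 lc_c_rc_13_0 lc_c_rc_16_2 lc_c_rc_17_2 lc_c_rc_13_0 lc_c_rc_15_2 lc_c_rc_16_2 lc_c_rc_8_3 lc_c_rc_30_4 lc_c_rc_15_2 lc_c_rc_16_2 lc_c_rc_17_2 lc_c_Cert_tree lc_c_rc_16_2 lc_c_rc_17_2 lc_c_rc_2_3) (@D3.rec (fun _ => (Cert rels S Gen.c)) lc_c_rc_16_2 lc_c_rc_13_0 lc_c_rc_16_2 lc_c_rc_17_2 lc_c_rc_2_1 lc_c_Cert_tree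 lc_c_rc_8_3 lc_c_rc_17_2 lc_c_rc_8_3 lc_c_rc_15_2 lc_c_rc_16_2 lc_c_rc_17_2 lc_c_rc_30_8 lc_c_rc_16_2 lc_c_rc_17_2 lc_c_Cert_tree lc_c_rc_17_2 lc_c_Cert_tree lc_c_rc_15_0 lc_c_rc_13_0 lc_c_rc_16_2) (@D3.rec (fun _ => (Cert rels S Gen.c)) lc_c_rc_17_2 lc_c_Cert_tree lc_c_Cert_tree lc_c_rc_30_2 lc_c_Cert_tree lc_c_rc_8_3 lc_c_rc_30_6 lc_c_rc_16_2 lc_c_rc_17_2 lc_c_rc_13_1 lc_c_rc_16_2 lc_c_Cert_tree lc_c_Cert_tree lc_c_Cert_tree lc_c_Cert_tree lc_c_rc_13_0 lc_c_rc_15_2 lc_c_rc_17_2 lc_c_Cert_tree lc_c_rc_13_0 lc_c_rc_15_2) (@D3.rec (fun _ => (Cert rels S Gen.c)) lc_c_rc_15_0 lc_c_Cert_tree lc_c_rc_13_0 lc_c_rc_17_2 lc_c_rc_13_0 lc_c_Cert_tree lc_c_rc_13_0 lc_c_rc_31_8 lc_c_rc_13_0 lc_c_rc_15_2 lc_c_rc_16_2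 lc_c_rc_17_2 lc_c_rc_13_0 lc_c_rc_15_2 lc_c_rc_17_2 lc_c_rc_13_0 lc_c_rc_15_2 lc_c_rc_16_2 lc_c_rc_8_3 lc_c_Cert_tree lc_c_rc_15_2) (@D3.rec (fun _ => (Cert rels S Gen.c)) lc_c_rc_17_2 lc_c_rc_17_2 lc_c_Cert_tree lc_c_rc_16_2 lc_c_rc_13_0 lc_c_rc_15_2 lc_c_rc_16_2 lc_c_rc_8_3 lc_c_rc_30_6 lc_c_rc_15_2 lc_c_rc_16_2 lc_c_rc_16_2 lc_c_Cert_tree lc_c_rc_17_2 lc_c_rc_13_0 lc_c_rc_15_2 lc_c_rc_17_2 lc_c_rc_8_3 lc_c_Cert_tree lc_c_rc_15_2 lc_c_rc_17_2) (@D3.rec (fun _ => (Cert rels S Gen.c)) lc_c_rc_17_2 lc_c_rc_16_2 lc_c_rc_8_3 lc_c_Cert_tree lc_c_rc_13_0 lc_c_rc_31_4 lc_c_rc_17_2 lc_c_rc_15_2 lc_c_Cert_tree lc_c_rc_8_3 lc_c_Cert_tree lc_c_rc_17_2 lc_c_rc_16_2 lc_c_rc_13_0 lc_c_rc_16_0 lc_c_rc_17_2 lc_c_rc_16_2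 lc_c_rc_31_8 lc_c_rc_16_2 lc_c_rc_15_2 lc_c_rc_16_2) (@D3.rec (fun _ => (Cert rels S Gen.c)) lc_c_rc_17_2 lc_c_rc_15_2 lc_c_rc_16_2 lc_c_rc_16_2 lc_c_rc_8_3 lc_c_rc_16_2 lc_c_rc_15_2 lc_c_rc_13_0 lc_c_rc_16_2 lc_c_rc_17_2 lc_c_rc_13_0 lc_c_rc_15_2 lc_c_rc_17_2 lc_c_rc_31_8 lc_c_rc_13_0 lc_c_rc_2_3 lc_c_rc_2_1 lc_c_rc_8_3 lc_c_rc_16_0 lc_c_rc_13_0 lc_c_rc_2_1) (@D3.rec (fun _ => (Cert rels S Gen.c)) lc_c_rc_13_0 lc_c_rc_13_0 lc_c_rc_8_3 lc_c_rc_15_2 lc_c_rc_17_2 lc_c_rc_13_0 lc_c_rc_8_3 lc_c_rc_16_2 lc_c_rc_17_2 lc_c_Cert_tree lc_c_Cert_tree lc_c_rc_16_2 lc_c_rc_17_2 lc_c_Cert_tree lc_c_rc_17_2 lc_c_Cert_tree lc_c_rc_17_2 lc_c_rc_13_0 lc_c_rc_15_2 lc_c_rc_13_0 lc_c_rc_15_2) (@D3.rec (fun _ => (Cert rels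 S Gen.c)) lc_c_rc_13_0 lc_c_rc_15_2 lc_c_rc_16_2 lc_c_rc_17_2 lc_c_rc_30_2 lc_c_rc_8_3 lc_c_rc_8_3 lc_c_rc_8_3 lc_c_rc_30_2 lc_c_rc_16_2 lc_c_rc_17_2 lc_c_Cert_tree lc_c_rc_17_2 lc_c_rc_29_1 lc_c_rc_15_0 lc_c_rc_13_0 lc_c_rc_16_2 lc_c_rc_17_2 lc_c_Cert_tree lc_c_Cert_tree lc_c_rc_13_0)
def ce_c_2 : D2 → D3 → (Cert rels S Gen.c) := @D2.rec (fun _ => D3 → (Cert rels S Gen.c)) (@D3.rec (fun _ => (Cert rels S Gen.c)) lc_c_rc_15_2 lc_c_rc_17_2 lc_c_Cert_tree lc_c_rc_13_0 lc_c_rc_15_2 lc_c_rc_16_2 lc_c_Cert_tree lc_c_rc_29_4 lc_c_rc_30_6 lc_c_rc_16_2 lc_c_rc_17_2 lc_c_Cert_tree lc_c_rc_17_2 lc_c_Cert_tree lc_c_rc_16_2 lc_c_rc_13_0 lc_c_rc_15_2 lc_c_rc_13_0 lc_c_rc_15_2 lc_c_rc_8_3 lc_c_Cert_tree) (@D3.rec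 (fun _ => (Cert rels S Gen.c)) lc_c_rc_15_2 lc_c_rc_8_3 lc_c_rc_30_6 lc_c_rc_15_2 lc_c_Cert_tree lc_c_rc_30_4 lc_c_rc_16_2 lc_c_rc_17_2 lc_c_rc_17_2 lc_c_rc_17_2 lc_c_rc_17_2 lc_c_rc_13_0 lc_c_rc_16_2 lc_c_rc_17_2 lc_c_rc_16_2 lc_c_Cert_tree lc_c_rc_15_2 lc_c_rc_16_2 lc_c_rc_15_2 lc_c_rc_2_3 lc_c_rc_16_0) (@D3.rec (fun _ => (Cert rels S Gen.c)) lc_c_rc_8_3 lc_c_rc_15_2 lc_c_rc_16_2 lc_c_rc_30_2 lc_c_rc_16_2 lc_c_rc_17_2 lc_c_rc_31_12 lc_c_rc_17_2 lc_c_Cert_tree lc_c_rc_13_0 lc_c_rc_16_2 lc_c_rc_17_2 lc_c_Cert_tree lc_c_rc_30_8 lc_c_rc_30_2 lc_c_rc_13_0 lc_c_rc_8_1 lc_c_rc_15_2 lc_c_Cert_tree lc_c_rc_8_3 lc_c_rc_30_6) (@D3.rec (fun _ => (Cert rels S Gen.c)) lc_c_rc_16_2 lc_c_rc_17_2 lc_c_rc_8_3 lc_c_rc_16_2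 lc_c_rc_8_3 lc_c_rc_13_0 lc_c_rc_15_2 lc_c_rc_16_2 lc_c_rc_16_2 lc_c_rc_2_1 lc_c_rc_2_1 lc_c_Cert_tree lc_c_rc_8_3 lc_c_rc_8_3 lc_c_rc_15_2 lc_c_rc_30_2 lc_c_Cert_tree lc_c_rc_16_2 lc_c_rc_17_2 lc_c_Cert_tree lc_c_rc_16_2) (@D3.rec (fun _ => (Cert rels S Gen.c)) lc_c_rc_13_0 lc_c_rc_16_2 lc_c_rc_17_2 lc_c_Cert_tree lc_c_Cert_tree lc_c_rc_30_4 lc_c_Cert_tree lc_c_rc_8_3 lc_c_rc_30_4 lc_c_rc_16_2 lc_c_rc_17_2 lc_c_rc_16_2 lc_c_rc_16_2 lc_c_rc_29_4 lc_c_rc_16_2 lc_c_rc_17_2 lc_c_rc_13_0 lc_c_rc_2_1 lc_c_rc_16_2 lc_c_rc_17_2 lc_c_rc_15_0) (@D3.rec (fun _ => (Cert rels S Gen.c)) lc_c_rc_17_2 lc_c_rc_16_2 lc_c_Cert_tree lc_c_Cert_tree lc_c_rc_15_0 lc_c_rc_30_8 lc_c_rc_16_2 lc_c_rc_17_2 lc_c_Cert_tree lc_c_rc_17_2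 lc_c_rc_29_7 lc_c_rc_17_0 lc_c_rc_16_2 lc_c_Cert_tree lc_c_rc_13_0 lc_c_rc_15_2 lc_c_rc_30_6 lc_c_rc_8_5 lc_c_rc_13_0 lc_c_rc_31_8 lc_c_rc_31_4) (@D3.rec (fun _ => (Cert rels S Gen.c)) lc_c_rc_8_1 lc_c_rc_16_2 lc_c_rc_17_2 lc_c_rc_29_1 lc_c_Cert_tree lc_c_rc_13_0 lc_c_rc_2_3 lc_c_rc_13_0 lc_c_rc_13_1 lc_c_rc_15_2 lc_c_rc_30_6 lc_c_rc_13_0 lc_c_rc_15_2 lc_c_rc_17_2 lc_c_rc_29_4 lc_c_rc_17_2 lc_c_rc_15_2 lc_c_rc_13_1 lc_c_rc_16_2 lc_c_Cert_tree lc_c_rc_16_2) (@D3.rec (fun _ => (Cert rels S Gen.c)) lc_c_rc_13_0 lc_c_rc_15_2 lc_c_rc_16_2 lc_c_rc_13_1 lc_c_rc_13_0 lc_c_rc_2_3 lc_c_rc_13_0 lc_c_rc_15_2 lc_c_rc_17_2 lc_c_rc_13_0 lc_c_rc_15_2 lc_c_rc_15_2 lc_c_rc_8_3 lc_c_rc_2_3 lc_c_rc_15_2 lc_c_rc_17_2 lc_c_rc_17_2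 lc_c_Cert_tree lc_c_rc_16_2 lc_c_rc_13_0 lc_c_rc_15_2) (@D3.rec (fun _ => (Cert rels S Gen.c)) lc_c_rc_17_2 lc_c_rc_30_6 lc_c_rc_15_2 lc_c_rc_8_1 lc_c_Cert_tree lc_c_rc_13_1 lc_c_rc_13_0 lc_c_rc_15_2 lc_c_rc_17_2 lc_c_rc_2_1 lc_c_Cert_tree lc_c_rc_17_2 lc_c_Cert_tree lc_c_rc_13_0 lc_c_rc_31_8 lc_c_rc_17_2 lc_c_rc_15_2 lc_c_Cert_tree lc_c_rc_15_2 lc_c_rc_8_1 lc_c_rc_8_3) (@D3.rec (fun _ => (Cert rels S Gen.c)) lc_c_rc_15_2 lc_c_rc_16_2 lc_c_rc_17_2 lc_c_rc_2_3 lc_c_rc_16_2 lc_c_rc_2_1 lc_c_rc_8_3 lc_c_Cert_tree lc_c_rc_15_2 lc_c_rc_17_2 lc_c_rc_8_3 lc_c_Cert_tree lc_c_rc_15_2 lc_c_rc_16_2 lc_c_rc_2_1 lc_c_Cert_tree lc_c_rc_8_3 lc_c_rc_8_3 lc_c_rc_13_0 lc_c_rc_15_2 lc_c_rc_15_0) (@D3.rec (fun _ => (Cert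 rels S Gen.c)) lc_c_rc_17_2 lc_c_Cert_tree lc_c_rc_17_2 lc_c_rc_16_2 lc_c_rc_15_0 lc_c_rc_13_0 lc_c_rc_16_2 lc_c_rc_15_2 lc_c_Cert_tree lc_c_rc_8_3 lc_c_rc_30_6 lc_c_rc_15_2 lc_c_rc_16_2 lc_c_rc_16_2 lc_c_rc_13_0 lc_c_rc_2_1 lc_c_rc_30_8 lc_c_rc_8_3 lc_c_rc_30_6 lc_c_rc_30_2 lc_c_rc_30_6) (@D3.rec (fun _ => (Cert rels S Gen.c)) lc_c_Cert_tree lc_c_rc_16_2 lc_c_rc_17_2 lc_c_Cert_tree lc_c_rc_13_0 lc_c_rc_15_2 lc_c_rc_2_1 lc_c_Cert_tree lc_c_Cert_tree lc_c_rc_15_2 lc_c_rc_15_2 lc_c_rc_2_1 lc_c_Cert_tree lc_c_rc_8_3 lc_c_rc_13_0 lc_c_rc_15_2 lc_c_rc_16_2 lc_c_rc_17_2 lc_c_Cert_tree lc_c_rc_17_2 lc_c_rc_15_0) (@D3.rec (fun _ => (Cert rels S Gen.c)) lc_c_rc_16_2 lc_c_Cert_tree lc_c_rc_13_0 lc_c_rc_15_2 lc_c_rc_16_2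 lc_c_rc_17_2 lc_c_rc_30_6 lc_c_rc_31_8 lc_c_rc_15_2 lc_c_rc_13_0 lc_c_rc_2_1 lc_c_rc_13_0 lc_c_Cert_tree lc_c_rc_13_0 lc_c_rc_15_2 lc_c_rc_30_2 lc_c_rc_16_0 lc_c_rc_15_0 lc_c_rc_30_4 lc_c_rc_2_1 lc_c_rc_16_0) (@D3.rec (fun _ => (Cert rels S Gen.c)) lc_c_rc_16_2 lc_c_Cert_tree lc_c_Cert_tree lc_c_rc_17_2 lc_c_Cert_tree lc_c_Cert_tree lc_c_Cert_tree lc_c_rc_16_2 lc_c_Cert_tree lc_c_rc_30_6 lc_c_rc_30_6 lc_c_rc_15_2 lc_c_rc_17_2 lc_c_rc_16_2 lc_c_rc_15_2 lc_c_Cert_tree lc_c_rc_8_3 lc_c_rc_16_2 lc_c_rc_16_2 lc_c_Cert_tree lc_c_rc_16_2)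
def ce_c_3 : D2 → D3 → (Cert rels S Gen.c) := @D2.rec (fun _ => D3 → (Cert rels S Gen.c)) (@D3.rec (fun _ => (Cert rels S Gen.c)) lc_c_rc_17_2 lc_c_rc_8_3 lc_c_rc_8_3 lc_c_Cert_tree lc_c_rc_17_2 lc_c_rc_17_2 lc_c_rc_15_0 lc_c_rc_13_0 lc_c_rc_15_2 lc_c_rc_13_0 lc_c_rc_15_2 lc_c_Cert_tree lc_c_Cert_tree lc_c_rc_13_0 lc_c_rc_15_2 lc_c_rc_17_2 lc_c_rc_17_0 lc_c_rc_13_0 lc_c_rc_15_2 lc_c_rc_16_2 lc_c_Cert_tree) (@D3.rec (fun _ => (Cert rels S Gen.c)) lc_c_rc_8_3 lc_c_rc_30_6 lc_c_rc_15_2 lc_c_rc_8_3 lc_c_rc_30_4 lc_c_rc_15_2 lc_c_rc_16_2 lc_c_rc_17_2 lc_c_rc_17_2 lc_c_rc_2_1 lc_c_rc_2_1 lc_c_rc_15_0 lc_c_rc_8_3 lc_c_rc_8_3 lc_c_Cert_tree lc_c_rc_8_3 lc_c_rc_16_2 lc_c_Cert_tree lc_c_rc_13_0 lc_c_rc_15_2 lc_c_rc_31_4)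 (@D3.rec (fun _ => (Cert rels S Gen.c)) lc_c_rc_16_2 lc_c_rc_17_2 lc_c_Cert_tree lc_c_Cert_tree lc_c_rc_13_0 lc_c_rc_15_2 lc_c_rc_2_3 lc_c_rc_13_0 lc_c_rc_2_3 lc_c_rc_15_2 lc_c_rc_8_3 lc_c_Cert_tree lc_c_rc_15_2 lc_c_rc_17_2 lc_c_Cert_tree lc_c_rc_13_0 lc_c_rc_15_2 lc_c_rc_29_1 lc_c_Cert_tree lc_c_rc_15_2 lc_c_rc_16_2) (@D3.rec (fun _ => (Cert rels S Gen.c)) lc_c_Cert_tree lc_c_rc_13_0 lc_c_rc_2_3 lc_c_rc_29_4 lc_c_rc_29_4 lc_c_Cert_tree lc_c_rc_17_2 lc_c_rc_13_0 lc_c_Cert_tree lc_c_rc_13_0 lc_c_rc_30_6 lc_c_rc_8_3 lc_c_rc_30_4 lc_c_rc_15_2 lc_c_rc_31_4 lc_c_Cert_tree lc_c_rc_15_2 lc_c_rc_16_0 lc_c_Cert_tree lc_c_rc_8_3 lc_c_rc_13_0) (@D3.rec (fun _ => (Cert rels S Gen.c)) lc_c_rc_15_2 lc_c_rc_16_2 lc_c_rc_17_2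 lc_c_rc_31_8 lc_c_rc_8_3 lc_c_Cert_tree lc_c_rc_2_1 lc_c_rc_8_5 lc_c_Cert_tree lc_c_rc_13_0 lc_c_rc_15_2 lc_c_rc_17_2 lc_c_rc_17_2 lc_c_rc_16_2 lc_c_rc_17_2 lc_c_Cert_tree lc_c_Cert_tree lc_c_rc_8_5 lc_c_rc_17_2 lc_c_rc_17_2 lc_c_rc_29_4) (@D3.rec (fun _ => (Cert rels S Gen.c)) lc_c_rc_16_2 lc_c_rc_17_2 lc_c_rc_17_2 lc_c_rc_17_2 lc_c_rc_13_0 lc_c_rc_30_6 lc_c_rc_31_8 lc_c_rc_2_3 lc_c_rc_30_8 lc_c_Cert_tree lc_c_rc_2_3 lc_c_rc_31_12 lc_c_rc_16_2 lc_c_rc_31_4 lc_c_Cert_tree lc_c_rc_16_2 lc_c_rc_17_2 lc_c_rc_13_1 lc_c_rc_31_12 lc_c_rc_13_0 lc_c_rc_31_8) (@D3.rec (fun _ => (Cert rels S Gen.c)) lc_c_rc_16_2 lc_c_rc_17_2 lc_c_rc_30_2 lc_c_rc_31_4 lc_c_rc_13_0 lc_c_rc_2_1 lc_c_rc_31_4 lc_c_rc_2_3 lc_c_rc_15_2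 lc_c_rc_30_6 lc_c_Cert_tree lc_c_Cert_tree lc_c_rc_13_0 lc_c_rc_15_2 lc_c_rc_17_2 lc_c_rc_2_1 lc_c_rc_31_8 lc_c_rc_16_2 lc_c_rc_16_0 lc_c_rc_16_2 lc_c_Cert_tree) (@D3.rec (fun _ => (Cert rels S Gen.c)) lc_c_rc_15_2 lc_c_Cert_tree lc_c_rc_16_2 lc_c_Cert_tree lc_c_rc_30_4 lc_c_Cert_tree lc_c_rc_13_0 lc_c_rc_15_2 lc_c_rc_17_2 lc_c_Cert_tree lc_c_Cert_tree lc_c_Cert_tree lc_c_Cert_tree lc_c_rc_13_0 lc_c_rc_30_8 lc_c_rc_17_2 lc_c_rc_17_2 lc_c_rc_13_0 lc_c_rc_15_2 lc_c_rc_16_2 lc_c_Cert_tree) (@D3.rec (fun _ => (Cert rels S Gen.c)) lc_c_rc_17_2 lc_c_Cert_tree lc_c_rc_2_3 lc_c_rc_13_0 lc_c_rc_17_2 lc_c_rc_13_0 lc_c_rc_15_2 lc_c_rc_15_2 lc_c_rc_31_8 lc_c_rc_13_0 lc_c_rc_2_3 lc_c_rc_17_2 lc_c_Cert_tree lc_c_rc_15_2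 lc_c_rc_31_8 lc_c_rc_30_4 lc_c_rc_31_12 lc_c_rc_29_4 lc_c_rc_29_4 lc_c_Cert_tree lc_c_Cert_tree) (@D3.rec (fun _ => (Cert rels S Gen.c)) lc_c_rc_16_2 lc_c_rc_17_2 lc_c_rc_13_0 lc_c_rc_2_1 lc_c_rc_2_1 lc_c_Cert_tree lc_c_rc_8_3 lc_c_Cert_tree lc_c_rc_16_2 lc_c_rc_30_2 lc_c_rc_13_0 lc_c_rc_15_2 lc_c_rc_17_2 lc_c_rc_13_0 lc_c_rc_16_2 lc_c_Cert_tree lc_c_rc_13_0 lc_c_rc_15_2 lc_c_rc_8_5 lc_c_rc_30_8 lc_c_rc_13_0) (@D3.rec (fun _ => (Cert rels S Gen.c)) lc_c_rc_17_2 lc_c_rc_8_3 lc_c_rc_15_2 lc_c_rc_15_2 lc_c_rc_13_0 lc_c_rc_31_8 lc_c_rc_8_3 lc_c_Cert_tree lc_c_rc_8_1 lc_c_rc_8_1 lc_c_rc_30_6 lc_c_rc_13_0 lc_c_rc_17_2 lc_c_rc_8_3 lc_c_rc_8_3 lc_c_rc_17_2 lc_c_rc_15_2 lc_c_rc_15_2 lc_c_rc_8_3 lc_c_rc_31_8 lc_c_rc_15_2)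 (@D3.rec (fun _ => (Cert rels S Gen.c)) lc_c_rc_17_2 lc_c_rc_17_2 lc_c_rc_16_2 lc_c_rc_15_2 lc_c_rc_13_0 lc_c_rc_16_0 lc_c_rc_16_2 lc_c_rc_13_0 lc_c_rc_17_2 lc_c_rc_8_3 lc_c_rc_15_2 lc_c_rc_16_2 lc_c_rc_15_2 lc_c_rc_13_0 lc_c_rc_8_3 lc_c_rc_8_3 lc_c_rc_30_6 lc_c_rc_15_2 lc_c_rc_17_2 lc_c_rc_30_6 lc_c_rc_15_2) (@D3.rec (fun _ => (Cert rels S Gen.c)) lc_c_rc_29_4 lc_c_rc_16_0 lc_c_rc_2_1 lc_c_rc_8_3 lc_c_rc_15_2 lc_c_rc_15_0 lc_c_rc_17_2 lc_c_Cert_tree lc_c_rc_17_2 lc_c_rc_16_2 lc_c_rc_15_0 lc_c_rc_13_0 lc_c_rc_16_2 lc_c_rc_15_0 lc_c_rc_17_2 lc_c_rc_30_6 lc_c_rc_15_2 lc_c_rc_13_1 lc_c_Cert_tree lc_c_rc_30_6 lc_c_rc_13_0) (@D3.rec (fun _ => (Cert rels S Gen.c)) lc_c_rc_15_2 lc_c_rc_2_1 lc_c_Cert_tree lc_c_rc_30_4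 lc_c_rc_15_2 lc_c_rc_15_2 lc_c_rc_16_2 lc_c_rc_13_0 lc_c_rc_15_2 lc_c_rc_16_2 lc_c_rc_17_2 lc_c_rc_16_2 lc_c_rc_13_0 lc_c_rc_15_2 lc_c_rc_16_2 lc_c_rc_17_2 lc_c_rc_15_2 lc_c_rc_13_0 lc_c_rc_15_2 lc_c_rc_16_2 lc_c_rc_16_2)
def ce_c_4 : D2 → D3 → (Cert rels S Gen.c) := @D2.rec (fun _ => D3 → (Cert rels S Gen.c)) (@D3.rec (fun _ => (Cert rels S Gen.c)) lc_c_Cert_tree lc_c_Cert_tree lc_c_Cert_tree lc_c_Cert_tree lc_c_Cert_tree lc_c_Cert_tree lc_c_rc_8_3 lc_c_rc_13_0 lc_c_rc_15_2 lc_c_rc_16_2 lc_c_rc_8_3 lc_c_rc_31_12 lc_c_Cert_tree lc_c_rc_13_0 lc_c_rc_15_2 lc_c_rc_16_2 lc_c_rc_17_2 lc_c_rc_16_0 lc_c_rc_2_1 lc_c_rc_13_0 lc_c_rc_16_0) (@D3.rec (fun _ => (Cert rels S Gen.c)) lc_c_rc_16_2 lc_c_Cert_tree lc_c_rc_8_3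 lc_c_rc_16_2 lc_c_rc_15_2 lc_c_rc_17_2 lc_c_Cert_tree lc_c_rc_2_3 lc_c_rc_16_0 lc_c_rc_17_2 lc_c_rc_17_2 lc_c_rc_13_0 lc_c_rc_16_2 lc_c_rc_8_3 lc_c_rc_31_8 lc_c_rc_31_12 lc_c_rc_30_4 lc_c_rc_15_2 lc_c_rc_13_0 lc_c_rc_17_2 lc_c_rc_15_2) (@D3.rec (fun _ => (Cert rels S Gen.c)) lc_c_rc_16_2 lc_c_Cert_tree lc_c_Cert_tree lc_c_rc_8_3 lc_c_rc_31_0 lc_c_Cert_tree lc_c_Cert_tree lc_c_rc_16_2 lc_c_rc_16_2 lc_c_rc_13_0 lc_c_rc_16_2 lc_c_rc_15_2 lc_c_rc_13_0 lc_c_rc_15_2 lc_c_Cert_tree lc_c_Cert_tree lc_c_rc_13_0 lc_c_rc_13_0 lc_c_rc_15_2 lc_c_rc_16_2 lc_c_rc_17_2) (@D3.rec (fun _ => (Cert rels S Gen.c)) lc_c_rc_13_0 lc_c_rc_13_0 lc_c_rc_8_5 lc_c_rc_30_4 lc_c_rc_30_4 lc_c_rc_13_0 lc_c_rc_15_2 lc_c_rc_16_2 lc_c_rc_17_2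 lc_c_Cert_tree lc_c_rc_16_2 lc_c_rc_17_2 lc_c_rc_2_3 lc_c_rc_13_0 lc_c_rc_16_2 lc_c_rc_17_2 lc_c_rc_15_0 lc_c_rc_13_0 lc_c_rc_15_2 lc_c_rc_16_2 lc_c_rc_17_2) (@D3.rec (fun _ => (Cert rels S Gen.c)) lc_c_rc_8_3 lc_c_rc_13_0 lc_c_rc_15_2 lc_c_rc_16_2 lc_c_rc_17_2 lc_c_rc_17_2 lc_c_rc_16_2 lc_c_rc_2_3 lc_c_rc_2_3 lc_c_rc_15_2 lc_c_rc_17_2 lc_c_rc_17_2 lc_c_Cert_tree lc_c_Cert_tree lc_c_rc_13_0 lc_c_rc_15_2 lc_c_rc_30_10 lc_c_rc_30_6 lc_c_rc_15_2 lc_c_rc_13_1 lc_c_rc_13_1) (@D3.rec (fun _ => (Cert rels S Gen.c)) lc_c_rc_15_2 lc_c_rc_17_2 lc_c_rc_13_0 lc_c_rc_13_0 lc_c_rc_31_4 lc_c_Cert_tree lc_c_rc_13_0 lc_c_rc_17_2 lc_c_rc_13_0 lc_c_rc_15_2 lc_c_rc_16_2 lc_c_rc_13_0 lc_c_rc_29_1 lc_c_rc_13_1 lc_c_rc_13_0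 lc_c_rc_2_3 lc_c_rc_17_2 lc_c_rc_17_2 lc_c_Cert_tree lc_c_rc_13_0 lc_c_rc_15_2) (@D3.rec (fun _ => (Cert rels S Gen.c)) lc_c_rc_16_2 lc_c_rc_13_0 lc_c_rc_16_2 lc_c_rc_15_2 lc_c_Cert_tree lc_c_Cert_tree lc_c_rc_30_6 lc_c_rc_13_0 lc_c_rc_31_12 lc_c_rc_30_6 lc_c_rc_8_3 lc_c_rc_15_2 lc_c_rc_8_3 lc_c_rc_30_4 lc_c_rc_15_2 lc_c_rc_13_0 lc_c_rc_15_2 lc_c_rc_2_3 lc_c_rc_13_0 lc_c_rc_2_1 lc_c_rc_15_2) (@D3.rec (fun _ => (Cert rels S Gen.c)) lc_c_rc_8_3 lc_c_rc_31_4 lc_c_rc_15_2 lc_c_rc_17_2 lc_c_rc_30_4 lc_c_rc_15_2 lc_c_rc_2_3 lc_c_rc_30_4 lc_c_rc_15_2 lc_c_rc_16_2 lc_c_Cert_tree lc_c_rc_13_0 lc_c_rc_2_1 lc_c_rc_29_4 lc_c_rc_8_3 lc_c_rc_2_1 lc_c_rc_15_2 lc_c_rc_16_2 lc_c_rc_17_2 lc_c_rc_31_8 lc_c_rc_29_4) (@D3.rec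 (fun _ => (Cert rels S Gen.c)) lc_c_Cert_tree lc_c_rc_2_1 lc_c_Cert_tree lc_c_Cert_tree lc_c_Cert_tree lc_c_Cert_tree lc_c_rc_2_1 lc_c_rc_16_2 lc_c_rc_13_0 lc_c_rc_17_2 lc_c_Cert_tree lc_c_rc_13_0 lc_c_rc_15_2 lc_c_Cert_tree lc_c_rc_15_2 lc_c_rc_31_4 lc_c_rc_13_0 lc_c_rc_13_0 lc_c_rc_8_3 lc_c_rc_16_2 lc_c_rc_15_2) (@D3.rec (fun _ => (Cert rels S Gen.c)) lc_c_rc_15_0 lc_c_Cert_tree lc_c_rc_8_3 lc_c_rc_13_0 lc_c_rc_16_2 lc_c_rc_29_7 lc_c_rc_29_1 lc_c_rc_13_0 lc_c_rc_8_3 lc_c_rc_15_2 lc_c_rc_15_2 lc_c_rc_13_0 lc_c_rc_2_3 lc_c_rc_13_0 lc_c_rc_13_0 lc_c_rc_15_2 lc_c_rc_8_3 lc_c_rc_13_0 lc_c_Cert_tree lc_c_rc_15_2 lc_c_rc_16_0) (@D3.rec (fun _ => (Cert rels S Gen.c)) lc_c_rc_31_8 lc_c_Cert_tree lc_c_rc_13_0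 lc_c_rc_15_2 lc_c_rc_16_2 lc_c_rc_17_2 lc_c_rc_29_4 lc_c_rc_13_0 lc_c_rc_2_1 lc_c_rc_17_2 lc_c_rc_15_2 lc_c_rc_15_2 lc_c_rc_17_2 lc_c_rc_13_0 lc_c_rc_15_2 lc_c_rc_17_2 lc_c_rc_15_2 lc_c_Cert_tree lc_c_rc_13_0 lc_c_rc_16_2 lc_c_Cert_tree) (@D3.rec (fun _ => (Cert rels S Gen.c)) lc_c_rc_13_0 lc_c_rc_30_6 lc_c_rc_8_3 lc_c_rc_13_0 lc_c_rc_15_2 lc_c_rc_17_2 lc_c_rc_17_2 lc_c_rc_16_2 lc_c_rc_16_2 lc_c_Cert_tree lc_c_rc_13_0 lc_c_rc_13_0 lc_c_rc_15_2 lc_c_rc_31_4 lc_c_Cert_tree lc_c_rc_31_8 lc_c_rc_2_1 lc_c_rc_16_2 lc_c_rc_17_2 lc_c_rc_13_0 lc_c_rc_17_2) (@D3.rec (fun _ => (Cert rels S Gen.c)) lc_c_Cert_tree lc_c_rc_13_0 lc_c_rc_17_0 lc_c_rc_17_0 lc_c_rc_15_2 lc_c_rc_8_3 lc_c_rc_17_0 lc_c_rc_15_2 lc_c_rc_13_0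 lc_c_rc_16_2 lc_c_rc_13_0 lc_c_rc_2_1 lc_c_rc_15_2 lc_c_rc_8_3 lc_c_rc_13_1 lc_c_rc_15_2 lc_c_rc_17_2 lc_c_rc_17_2 lc_c_rc_2_3 lc_c_rc_15_2 lc_c_rc_31_12) (@D3.rec (fun _ => (Cert rels S Gen.c)) lc_c_rc_2_1 lc_c_rc_13_0 lc_c_rc_15_2 lc_c_rc_29_4 lc_c_rc_13_0 lc_c_rc_16_2 lc_c_rc_17_2 lc_c_rc_13_0 lc_c_rc_15_2 lc_c_rc_31_8 lc_c_rc_13_0 lc_c_rc_29_4 lc_c_rc_17_2 lc_c_rc_30_4 lc_c_rc_15_2 lc_c_rc_17_2 lc_c_Cert_tree lc_c_Cert_tree lc_c_rc_13_0 lc_c_rc_30_8 lc_c_rc_17_2)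
def ce_c_5 : D2 → D3 → (Cert rels S Gen.c) := @D2.rec (fun _ => D3 → (Cert rels S Gen.c)) (@D3.rec (fun _ => (Cert rels S Gen.c)) lc_c_rc_13_0 lc_c_rc_15_2 lc_c_rc_13_0 lc_c_rc_15_2 lc_c_rc_13_0 lc_c_rc_17_2 lc_c_rc_17_0 lc_c_rc_2_3 lc_c_rc_8_3 lc_c_rc_15_2 lc_c_rc_16_2 lc_c_rc_13_0 lc_c_rc_17_2 lc_c_rc_13_0 lc_c_rc_8_3 lc_c_rc_17_2 lc_c_rc_8_3 lc_c_rc_30_6 lc_c_rc_8_3 lc_c_rc_17_2 lc_c_rc_13_0) (@D3.rec (fun _ => (Cert rels S Gen.c)) lc_c_rc_15_2 lc_c_rc_16_2 lc_c_rc_17_2 lc_c_rc_16_2 lc_c_rc_15_2 lc_c_rc_30_4 lc_c_rc_13_0 lc_c_rc_8_1 lc_c_rc_17_2 lc_c_rc_13_0 lc_c_Cert_tree lc_c_rc_13_0 lc_c_rc_15_2 lc_c_rc_13_0 lc_c_rc_8_3 lc_c_rc_31_4 lc_c_rc_15_2 lc_c_rc_17_2 lc_c_rc_8_3 lc_c_Cert_tree lc_c_rc_13_1)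 (@D3.rec (fun _ => (Cert rels S Gen.c)) lc_c_rc_13_0 lc_c_rc_15_2 lc_c_rc_8_3 lc_c_rc_30_4 lc_c_rc_8_3 lc_c_rc_15_2 lc_c_rc_13_0 lc_c_rc_16_2 lc_c_rc_15_2 lc_c_rc_17_2 lc_c_rc_13_0 lc_c_rc_29_1 lc_c_rc_17_2 lc_c_rc_30_4 lc_c_rc_29_4 lc_c_rc_2_1 lc_c_rc_8_3 lc_c_rc_17_2 lc_c_rc_14_14 lc_c_rc_16_2 lc_c_rc_16_2) (@D3.rec (fun _ => (Cert rels S Gen.c)) lc_c_rc_13_0 lc_c_rc_15_2 lc_c_rc_15_2 lc_c_rc_2_1 lc_c_rc_30_4 lc_c_Cert_tree lc_c_Cert_tree lc_c_rc_8_3 lc_c_rc_15_2 lc_c_rc_16_2 lc_c_rc_17_2 lc_c_rc_31_12 lc_c_rc_16_0 lc_c_rc_29_4 lc_c_rc_16_0 lc_c_rc_29_7 lc_c_Cert_tree lc_c_rc_2_1 lc_c_Cert_tree lc_c_rc_13_0 lc_c_rc_15_2) (@D3.rec (fun _ => (Cert rels S Gen.c)) lc_c_rc_17_0 lc_c_rc_13_0 lc_c_rc_16_2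 lc_c_rc_17_2 lc_c_rc_31_8 lc_c_rc_13_0 lc_c_rc_17_0 lc_c_Cert_tree lc_c_rc_13_0 lc_c_rc_15_2 lc_c_rc_30_4 lc_c_Cert_tree lc_c_rc_13_0 lc_c_rc_15_2 lc_c_rc_16_2 lc_c_rc_30_8 lc_c_rc_30_10 lc_c_rc_15_2 lc_c_rc_16_2 lc_c_rc_17_2 lc_c_rc_16_2) (@D3.rec (fun _ => (Cert rels S Gen.c)) lc_c_rc_17_2 lc_c_rc_2_1 lc_c_rc_8_3 lc_c_rc_15_2 lc_c_rc_16_2 lc_c_rc_17_2 lc_c_rc_17_2 lc_c_rc_16_2 lc_c_rc_2_1 lc_c_rc_2_1 lc_c_Cert_tree lc_c_rc_31_4 lc_c_rc_15_2 lc_c_rc_16_2 lc_c_rc_13_0 lc_c_rc_13_0 lc_c_rc_13_0 lc_c_rc_17_2 lc_c_rc_13_0 lc_c_rc_16_2 lc_c_rc_13_0) (@D3.rec (fun _ => (Cert rels S Gen.c)) lc_c_rc_15_2 lc_c_rc_8_3 lc_c_rc_13_0 lc_c_rc_15_2 lc_c_rc_16_2 lc_c_Cert_tree lc_c_rc_8_3 lc_c_rc_15_2 lc_c_rc_16_2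 lc_c_rc_16_2 lc_c_rc_8_3 lc_c_rc_17_2 lc_c_rc_17_2 lc_c_rc_16_2 lc_c_rc_13_0 lc_c_rc_14_6 lc_c_rc_8_3 lc_c_rc_15_2 lc_c_rc_16_2 lc_c_rc_17_2 lc_c_rc_16_2) (@D3.rec (fun _ => (Cert rels S Gen.c)) lc_c_rc_16_2 lc_c_rc_29_7 lc_c_rc_16_2 lc_c_Cert_tree lc_c_rc_29_1 lc_c_rc_13_0 lc_c_rc_16_2 lc_c_rc_8_3 lc_c_rc_30_8 lc_c_rc_30_6 lc_c_rc_13_0 lc_c_rc_16_2 lc_c_rc_15_2 lc_c_rc_30_6 lc_c_rc_8_3 lc_c_rc_30_6 lc_c_rc_16_2 lc_c_rc_17_2 lc_c_rc_16_2 lc_c_rc_16_2 lc_c_rc_8_3) (@D3.rec (fun _ => (Cert rels S Gen.c)) lc_c_rc_15_2 lc_c_Cert_tree lc_c_rc_13_0 lc_c_rc_30_8 lc_c_rc_13_0 lc_c_rc_30_6 lc_c_Cert_tree lc_c_rc_13_0 lc_c_rc_13_0 lc_c_rc_15_2 lc_c_rc_8_3 lc_c_rc_15_0 lc_c_rc_16_2 lc_c_rc_16_2 lc_c_rc_8_3 lc_c_rc_15_2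 lc_c_rc_13_0 lc_c_rc_16_2 lc_c_rc_17_2 lc_c_rc_13_0 lc_c_rc_8_3) (@D3.rec (fun _ => (Cert rels S Gen.c)) lc_c_rc_30_6 lc_c_rc_15_2 lc_c_rc_16_2 lc_c_rc_2_1 lc_c_rc_17_2 lc_c_rc_13_0 lc_c_rc_8_5 lc_c_rc_8_3 lc_c_rc_16_0 lc_c_rc_8_3 lc_c_rc_8_3 lc_c_rc_15_2 lc_c_rc_16_2 lc_c_rc_17_2 lc_c_rc_30_8 lc_c_rc_16_2 lc_c_rc_17_2 lc_c_Cert_tree lc_c_rc_31_4 lc_c_rc_13_0 lc_c_rc_17_2) (@D3.rec (fun _ => (Cert rels S Gen.c)) lc_c_rc_8_3 lc_c_rc_16_2 lc_c_rc_17_2 lc_c_rc_8_3 lc_c_rc_15_2 lc_c_rc_16_2 lc_c_rc_17_2 lc_c_rc_16_2 lc_c_rc_16_2 lc_c_rc_13_0 lc_c_rc_15_2 lc_c_rc_2_1 lc_c_Cert_tree lc_c_rc_8_3 lc_c_rc_8_3 lc_c_rc_17_0 lc_c_Cert_tree lc_c_rc_30_6 lc_c_rc_30_4 lc_c_rc_13_0 lc_c_rc_17_2) (@D3.rec (fun _ => (Cert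 rels S Gen.c)) lc_c_rc_13_0 lc_c_rc_15_2 lc_c_rc_13_0 lc_c_rc_31_4 lc_c_rc_15_2 lc_c_rc_16_2 lc_c_rc_15_0 lc_c_rc_31_12 lc_c_rc_31_12 lc_c_rc_8_3 lc_c_rc_13_0 lc_c_rc_16_2 lc_c_rc_8_3 lc_c_rc_17_2 lc_c_rc_13_0 lc_c_rc_15_2 lc_c_rc_16_2 lc_c_rc_16_2 lc_c_rc_2_1 lc_c_rc_30_4 lc_c_rc_17_2) (@D3.rec (fun _ => (Cert rels S Gen.c)) lc_c_rc_2_3 lc_c_rc_13_0 lc_c_rc_17_2 lc_c_rc_8_3 lc_c_rc_15_2 lc_c_rc_16_2 lc_c_rc_30_6 lc_c_rc_13_0 lc_c_rc_15_2 lc_c_rc_13_0 lc_c_rc_8_3 lc_c_rc_31_8 lc_c_rc_17_2 lc_c_rc_8_3 lc_c_rc_15_2 lc_c_rc_29_4 lc_c_rc_13_0 lc_c_rc_2_1 lc_c_rc_15_2 lc_c_rc_16_2 lc_c_rc_2_1) (@D3.rec (fun _ => (Cert rels S Gen.c)) lc_c_rc_13_0 lc_c_rc_30_2 lc_c_rc_8_3 lc_c_rc_8_3 lc_c_rc_8_3 lc_c_rc_8_3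 lc_c_rc_15_2 lc_c_rc_15_2 lc_c_rc_13_0 lc_c_Cert_tree lc_c_rc_13_0 lc_c_rc_13_0 lc_c_rc_13_0 lc_c_rc_13_0 lc_c_Cert_tree lc_c_rc_13_0 lc_c_rc_8_3 lc_c_rc_15_2 lc_c_rc_13_0 lc_c_rc_15_2 lc_c_rc_13_0)
def ce_c_6 : D2 → D3 → (Cert rels S Gen.c) := @D2.rec (fun _ => D3 → (Cert rels S Gen.c)) (@D3.rec (fun _ => (Cert rels S Gen.c)) lc_c_rc_8_3 lc_c_rc_2_1 lc_c_rc_16_2 lc_c_rc_8_3 lc_c_rc_15_2 lc_c_rc_29_7 lc_c_rc_13_0 lc_c_rc_16_2 lc_c_rc_29_1 lc_c_rc_30_6 lc_c_rc_17_2 lc_c_rc_8_3 lc_c_rc_13_1 lc_c_rc_2_3 lc_c_rc_15_2 lc_c_rc_8_3 lc_c_rc_13_0 lc_c_rc_16_0 lc_c_rc_2_3 lc_c_rc_13_0 lc_c_rc_8_3) (@D3.rec (fun _ => (Cert rels S Gen.c)) lc_c_rc_15_2 lc_c_rc_16_2 lc_c_rc_29_7 lc_c_rc_17_2 lc_c_rc_15_2 lc_c_rc_15_2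 lc_c_rc_13_0 lc_c_rc_29_1 lc_c_rc_16_2 lc_c_rc_13_0 lc_c_rc_8_3 lc_c_rc_30_6 lc_c_rc_8_3 lc_c_Cert_tree lc_c_rc_8_3 lc_c_rc_30_6 lc_c_rc_30_6 lc_c_rc_13_0 lc_c_rc_15_2 lc_c_rc_8_3 lc_c_rc_16_2) (@D3.rec (fun _ => (Cert rels S Gen.c)) lc_c_rc_31_8 lc_c_rc_15_2 lc_c_rc_13_0 lc_c_rc_13_1 lc_c_rc_17_2 lc_c_rc_30_6 lc_c_rc_17_2 lc_c_rc_13_0 lc_c_rc_8_3 lc_c_rc_16_2 lc_c_rc_8_3 lc_c_rc_29_4 lc_c_rc_8_3 lc_c_rc_8_3 lc_c_rc_17_2 lc_c_rc_30_6 lc_c_rc_30_4 lc_c_rc_15_2 lc_c_rc_31_12 lc_c_rc_2_1 lc_c_rc_17_2) (@D3.rec (fun _ => (Cert rels S Gen.c)) lc_c_rc_15_2 lc_c_rc_29_1 lc_c_rc_13_0 lc_c_rc_15_2 lc_c_rc_13_0 lc_c_rc_17_2 lc_c_rc_29_4 lc_c_rc_8_3 lc_c_Cert_tree lc_c_rc_8_3 lc_c_rc_15_2 lc_c_rc_8_3 lc_c_rc_30_6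 lc_c_rc_30_8 lc_c_rc_30_4 lc_c_rc_15_2 lc_c_rc_8_3 lc_c_rc_30_4 lc_c_rc_15_2 lc_c_rc_16_2 lc_c_rc_29_1) (@D3.rec (fun _ => (Cert rels S Gen.c)) lc_c_rc_13_0 lc_c_rc_31_4 lc_c_rc_17_2 lc_c_Cert_tree lc_c_rc_13_0 lc_c_rc_8_3 lc_c_rc_15_2 lc_c_rc_8_3 lc_c_rc_16_0 lc_c_rc_15_2 lc_c_rc_13_0 lc_c_rc_30_4 lc_c_rc_16_2 lc_c_rc_8_3 lc_c_rc_15_2 lc_c_Cert_tree lc_c_rc_16_2 lc_c_rc_31_4 lc_c_rc_2_1 lc_c_rc_29_1 lc_c_rc_15_2) (@D3.rec (fun _ => (Cert rels S Gen.c)) lc_c_rc_13_0 lc_c_rc_13_0 lc_c_rc_13_0 lc_c_rc_16_0 lc_c_rc_16_2 lc_c_rc_8_1 lc_c_rc_30_4 lc_c_rc_15_2 lc_c_rc_29_1 lc_c_rc_17_2 lc_c_rc_17_2 lc_c_rc_15_2 lc_c_rc_16_2 lc_c_rc_29_7 lc_c_rc_8_1 lc_c_rc_29_1 lc_c_rc_13_0 lc_c_rc_31_4 lc_c_rc_15_2 lc_c_rc_13_0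 lc_c_rc_16_0) (@D3.rec (fun _ => (Cert rels S Gen.c)) lc_c_rc_13_0 lc_c_rc_30_6 lc_c_rc_16_2 lc_c_rc_17_2 lc_c_rc_2_3 lc_c_rc_16_2 lc_c_rc_16_2 lc_c_rc_13_0 lc_c_rc_8_3 lc_c_rc_16_2 lc_c_rc_13_0 lc_c_rc_30_4 lc_c_rc_8_3 lc_c_rc_2_1 lc_c_rc_15_2 lc_c_rc_31_4 lc_c_rc_29_1 lc_c_rc_16_2 lc_c_rc_17_2 lc_c_rc_16_0 lc_c_rc_8_3) (@D3.rec (fun _ => (Cert rels S Gen.c)) lc_c_rc_30_4 lc_c_rc_8_3 lc_c_Cert_tree lc_c_rc_30_6 lc_c_rc_13_0 lc_c_rc_8_3 lc_c_rc_17_2 lc_c_rc_13_0 lc_c_rc_16_2 lc_c_rc_15_2 lc_c_Cert_tree lc_c_rc_15_2 lc_c_rc_16_2 lc_c_rc_15_2 lc_c_rc_15_2 lc_c_rc_13_0 lc_c_rc_8_3 lc_c_rc_16_2 lc_c_rc_16_2 lc_c_rc_30_6 lc_c_rc_17_2) (@D3.rec (fun _ => (Cert rels S Gen.c)) lc_c_rc_15_0 lc_c_rc_8_3 lc_c_rc_16_0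 lc_c_rc_15_2 lc_c_rc_29_7 lc_c_rc_16_2 lc_c_rc_16_2 lc_c_rc_8_3 lc_c_rc_13_0 lc_c_rc_15_2 lc_c_rc_16_2 lc_c_rc_15_0 lc_c_rc_16_2 lc_c_rc_15_0 lc_c_rc_16_2 lc_c_rc_8_1 lc_c_rc_16_2 lc_c_rc_30_10 lc_c_rc_17_2 lc_c_rc_15_2 lc_c_rc_13_0) (@D3.rec (fun _ => (Cert rels S Gen.c)) lc_c_rc_8_3 lc_c_rc_13_0 lc_c_rc_8_3 lc_c_rc_8_3 lc_c_rc_16_0 lc_c_rc_8_3 lc_c_rc_16_2 lc_c_rc_17_2 lc_c_rc_8_3 lc_c_rc_16_2 lc_c_rc_17_2 lc_c_rc_15_2 lc_c_rc_8_3 lc_c_rc_17_2 lc_c_rc_2_1 lc_c_rc_8_3 lc_c_rc_30_6 lc_c_rc_17_2 lc_c_rc_15_0 lc_c_rc_13_0 lc_c_rc_16_2) (@D3.rec (fun _ => (Cert rels S Gen.c)) lc_c_rc_17_2 lc_c_rc_8_3 lc_c_rc_2_1 lc_c_rc_8_3 lc_c_rc_8_3 lc_c_rc_16_2 lc_c_rc_30_6 lc_c_rc_13_0 lc_c_rc_8_3 lc_c_rc_13_0 lc_c_rc_17_2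 lc_c_rc_16_2 lc_c_rc_8_3 lc_c_rc_17_2 lc_c_rc_8_3 lc_c_rc_30_8 lc_c_rc_16_2 lc_c_rc_2_1 lc_c_rc_16_2 lc_c_rc_2_1 lc_c_rc_17_2) (@D3.rec (fun _ => (Cert rels S Gen.c)) lc_c_rc_15_0 lc_c_rc_8_3 lc_c_rc_8_3 lc_c_rc_15_2 lc_c_rc_8_3 lc_c_rc_29_4 lc_c_rc_16_2 lc_c_rc_15_2 lc_c_rc_16_2 lc_c_rc_13_0 lc_c_rc_8_3 lc_c_rc_8_3 lc_c_rc_15_2 lc_c_rc_13_0 lc_c_rc_29_4 lc_c_rc_8_3 lc_c_rc_16_0 lc_c_rc_29_4 lc_c_rc_16_2 lc_c_rc_29_7 lc_c_rc_13_1) (@D3.rec (fun _ => (Cert rels S Gen.c)) lc_c_rc_8_3 lc_c_rc_29_4 lc_c_rc_8_3 lc_c_rc_8_3 lc_c_rc_29_4 lc_c_rc_13_0 lc_c_rc_16_2 lc_c_rc_8_3 lc_c_rc_8_3 lc_c_rc_15_2 lc_c_rc_16_0 lc_c_rc_8_3 lc_c_rc_15_2 lc_c_rc_13_0 lc_c_rc_15_2 lc_c_rc_13_0 lc_c_rc_16_2 lc_c_rc_13_0 lc_c_rc_8_3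 lc_c_rc_17_0 lc_c_rc_13_0) (@D3.rec (fun _ => (Cert rels S Gen.c)) lc_c_rc_16_2 lc_c_rc_15_2 lc_c_rc_8_1 lc_c_rc_30_6 lc_c_rc_15_0 lc_c_rc_15_2 lc_c_rc_16_2 lc_c_rc_8_3 lc_c_rc_13_0 lc_c_rc_16_2 lc_c_rc_8_3 lc_c_rc_2_1 lc_c_rc_13_0 lc_c_rc_30_8 lc_c_rc_30_10 lc_c_rc_29_1 lc_c_rc_8_3 lc_c_rc_8_3 lc_c_rc_8_3 lc_c_rc_17_2 lc_c_rc_8_3)
def ce_c : Pt → (Cert rels S Gen.c) := @Pt.rec (fun _ => (Cert rels S Gen.c)) (@D1.rec (fun _ => D2 → D3 → (Cert rels S Gen.c)) ce_c_0 ce_c_1 ce_c_2 ce_c_3 ce_c_4 ce_c_5 ce_c_6)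
def isSeed_c (p : Pt) : Bool := false

end

end Cfsg.Agent.Helper28.S1683
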