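import Cfsg.Agent.Lib.Helper28.S1683.Tree

set_option autoImplicit false
set_option maxRecDepth 100000
set_option linter.all false

namespace Cfsg.Agent.Helper28.S1683

open Cfsg.Agent.Helper28
open Cfsg.Spor.He (Gen)

noncomputable section

def lv_d_0 : D2 → D3 → Nat := @D2.rec (fun _ => D3 → Nat) (@D3.rec (fun _ => Nat) 1 2 0 0 0 1 1 39 1 0 4 3 0 4 4 0 5 4 0 1 6) (@D3.rec (fun _ => Nat) 5 0 0 1 0 0 0 0 1 0 0 0 0 1 9 3 0 8 7 1 0) (@D3.rec (fun _ => Nat) 1 0 0 0 36 1 0 1 1 0 1 0 0 43 5 1 0 1 1 1 8) (@D3.rec (fun _ => Nat) 0 8 5 0 0 1 9 1 0 0 7 0 35 1 1 0 0 1 0 0 37) (@D3.rec (fun _ => Nat) 35 1 44 36 35 0 1 0 0 7 43 6 1 1 0 0 0 0 39 6 1) (@D3.rec (fun _ => Nat) 45 44 0 0 7 6 0 1 0 0 0 1 1 10 6 0 34 1 1 0 0) (@D3.rec (fun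 _ => Nat) 0 0 1 32 0 0 34 35 0 0 1 1 3 36 1 1 31 0 42 0 40) (@D3.rec (fun _ => Nat) 0 0 1 0 6 41 8 1 1 0 0 0 0 0 43 0 0 45 44 0 47) (@D3.rec (fun _ => Nat) 1 1 1 1 46 1 0 1 0 0 1 0 0 0 12 16 1 1 1 11 0) (@D3.rec (fun _ => Nat) 0 0 0 1 31 0 0 0 0 1 0 1 0 1 1 0 3 1 0 1 0) (@D3.rec (fun _ => Nat) 0 0 1 1 47 3 3 48 0 30 4 0 1 40 0 1 1 1 43 7 41) (@D3.rec (fun _ => Nat) 0 1 0 0 0 49 44 0 0 7 0 0 0 1 0 0 1 11 1 10 1) (@D3.rec (fun _ => Nat) 1 1 1 0 0 1 0 47 48 41 7 8 1 5 0 11 0 1 1 0 0) (@D3.rec (fun _ => Nat) 12 15 1 0 1 0 0 0 1 0 0 0 0 0 12 18 0 0 0 0 1)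
def lv_d_1 : D2 → D3 → Nat := @D2.rec (fun _ => D3 → Nat) (@D3.rec (fun _ => Nat) 0 1 0 1 1 0 1 0 1 1 1 0 15 0 1 0 15 0 1 0 3) (@D3.rec (fun _ => Nat) 3 0 1 0 0 4 0 1 0 6 0 4 0 1 1 0 1 46 42 49 45) (@D3.rec (fun _ => Nat) 39 40 50 0 1 1 1 40 0 8 42 43 1 0 0 45 0 0 1 11 1) (@D3.rec (fun _ => Nat) 10 1 1 1 6 0 0 0 1 0 0 1 0 1 0 0 0 0 1 1 0) (@D3.rec (fun _ => Nat) 3 0 3 48 0 50 0 43 0 1 1 1 41 0 15 13 14 8 0 0 0) (@D3.rec (fun _ => Nat) 1 0 0 0 1 0 0 13 15 0 16 14 0 1 0 48 0 1 0 0 0) (@D3.rec (fun _ => Nat) 0 0 15 17 0 1 0 0 0 0 0 0 1 0 51 1 0 1 0 0 0) (@D3.rec (fun _ => Nat) 0 1 1 1 1 48 1 0 45 0 0 1 1 1 1 0 8 0 1 0 8) (@D3.rec (fun _ => Nat) 0 1 0 44 0 1 0 1 6 37 4 38 0 14 14 0 14 16 0 1 0) (@D3.rec (fun _ => Nat) 0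 0 1 0 0 4 15 0 1 0 47 0 1 0 0 3 15 0 1 0 0) (@D3.rec (fun _ => Nat) 36 37 0 1 0 0 4 34 1 0 1 46 1 0 46 42 36 1 7 0 0) (@D3.rec (fun _ => Nat) 0 1 0 0 0 1 0 0 5 37 0 38 0 1 0 46 42 47 1 8 39) (@D3.rec (fun _ => Nat) 0 0 45 1 0 45 43 0 0 1 1 0 0 1 0 1 0 0 45 0 45) (@D3.rec (fun _ => Nat) 51 47 44 44 9 0 51 0 1 0 48 1 52 1 0 47 0 0 1 1 0)
def lv_d_2 : D2 → D3 → Nat := @D2.rec (fun _ => D3 → Nat) (@D3.rec (fun _ => Nat) 3 0 1 0 3 0 1 52 1 0 48 1 0 1 0 0 3 0 4 0 1) (@D3.rec (fun _ => Nat) 0 0 1 0 1 1 0 0 0 1 0 46 46 43 45 1 0 0 0 0 0) (@D3.rec (fun _ => Nat) 7 0 0 1 0 51 1 0 1 48 0 0 1 1 1 0 3 0 1 50 1) (@D3.rec (fun _ => Nat) 0 44 0 0 0 1 0 47 0 0 0 1 0 0 0 0 1 0 48 1 48) (@D3.rec (fun _ => Nat) 0 0 0 1 1 1 1 0 1 0 44 0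 43 1 0 0 48 0 0 0 1) (@D3.rec (fun _ => Nat) 0 50 1 1 51 1 0 49 1 49 1 44 0 1 54 3 49 1 0 14 1) (@D3.rec (fun _ => Nat) 1 0 15 1 1 51 3 54 4 4 3 0 3 4 48 45 47 1 15 1 1) (@D3.rec (fun _ => Nat) 16 8 20 15 49 14 0 9 10 0 9 9 0 1 0 0 0 1 0 0 4) (@D3.rec (fun _ => Nat) 10 1 0 0 1 0 0 3 9 0 1 0 1 4 35 4 35 1 12 45 7) (@D3.rec (fun _ => Nat) 0 0 0 0 0 0 0 1 39 0 0 1 55 51 0 1 0 38 6 0 4) (@D3.rec (fun _ => Nat) 39 1 0 1 1 0 3 0 1 46 1 55 40 0 0 53 1 0 0 49 4) (@D3.rec (fun _ => Nat) 1 49 51 1 0 3 0 1 1 0 15 50 1 0 0 0 9 55 1 0 1) (@D3.rec (fun _ => Nat) 50 1 0 36 34 9 1 1 0 0 5 39 1 0 32 38 13 37 1 49 1) (@D3.rec (fun _ => Nat) 50 1 1 0 1 1 1 3 1 1 1 52 0 1 36 1 40 1 1 1 0)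
def lv_d_3 : D2 → D3 → Nat := @D2.rec (fun _ => D3 → Nat) (@D3.rec (fun _ => Nat) 53 0 0 1 0 1 0 50 44 0 44 1 1 0 3 0 1 0 3 0 1) (@D3.rec (fun _ => Nat) 0 1 0 0 1 0 0 0 55 56 0 1 0 50 1 0 0 1 0 3 1) (@D3.rec (fun _ => Nat) 0 50 1 1 0 3 15 56 4 16 0 1 15 16 1 51 4 0 1 47 53) (@D3.rec (fun _ => Nat) 1 55 3 52 54 1 45 14 1 47 1 0 1 0 0 1 0 0 1 0 46) (@D3.rec (fun _ => Nat) 0 4 13 1 0 1 0 14 1 0 9 49 49 49 0 1 1 1 3 50 1) (@D3.rec (fun _ => Nat) 0 49 48 0 17 0 0 1 1 1 1 1 0 1 1 0 1 3 1 51 16) (@D3.rec (fun _ => Nat) 52 15 1 1 49 3 4 4 4 3 1 1 0 3 4 46 1 15 1 1 1) (@D3.rec (fun _ => Nat) 0 1 0 1 1 1 0 0 0 1 1 1 1 52 0 47 1 60 47 47 1) (@D3.rec (fun _ => Nat) 50 1 1 50 3 0 4 4 3 51 3 4 1 20 0 1 1 50 50 1 1) (@D3.rec (fun _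 => Nat) 50 49 1 0 51 1 49 1 51 1 0 55 50 0 0 1 0 3 52 1 51) (@D3.rec (fun _ => Nat) 3 56 54 58 0 14 50 1 0 48 1 0 6 53 54 23 53 55 57 1 56) (@D3.rec (fun _ => Nat) 0 14 51 5 60 4 6 3 54 52 57 19 0 0 50 0 1 40 0 1 50) (@D3.rec (fun _ => Nat) 0 1 0 39 0 16 38 1 0 1 1 50 3 44 1 1 51 0 1 1 0) (@D3.rec (fun _ => Nat) 3 0 1 1 0 16 1 15 40 10 55 1 15 35 35 10 0 6 30 37 1)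
def lv_d_4 : D2 → D3 → Nat := @D2.rec (fun _ => D3 → Nat) (@D3.rec (fun _ => Nat) 1 1 1 1 1 1 0 13 40 4 0 1 1 13 56 53 4 1 38 50 0) (@D3.rec (fun _ => Nat) 5 1 0 45 0 0 1 47 40 0 40 0 40 36 1 3 1 1 0 16 58) (@D3.rec (fun _ => Nat) 0 1 1 0 5 1 1 56 55 0 51 55 49 3 1 1 0 7 0 4 1) (@D3.rec (fun _ => Nat) 55 0 51 1 0 1 0 0 0 1 55 53 59 39 39 52 1 50 37 48 48) (@D3.rec (fun _ => Nat) 0 1 39 36 37 0 0 0 39 45 45 39 1 1 56 45 0 1 0 0 0) (@D3.rec (fun _ => Nat) 56 46 39 58 49 1 48 3 0 4 4 48 4 3 0 3 4 48 1 35 41) (@D3.rec (fun _ => Nat) 37 0 46 46 1 1 1 47 1 1 52 0 51 1 0 19 3 17 60 4 19) (@D3.rec (fun _ => Nat) 0 1 46 18 1 4 51 1 49 49 1 57 3 0 1 0 56 4 50 1 51) (@D3.rec (fun _ => Nat) 1 0 1 1 1 1 50 1 0 1 1 56 3 1 57 1 57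 50 0 1 46) (@D3.rec (fun _ => Nat) 0 1 15 0 17 4 18 49 51 53 1 52 58 59 16 5 16 55 1 51 14) (@D3.rec (fun _ => Nat) 1 1 48 53 13 1 1 49 56 15 1 54 54 1 55 61 56 1 0 52 1) (@D3.rec (fun _ => Nat) 0 53 0 1 59 57 0 0 51 1 60 0 4 50 1 1 1 1 54 0 46) (@D3.rec (fun _ => Nat) 1 55 1 3 16 52 6 4 6 49 52 4 53 57 1 56 0 15 55 56 6) (@D3.rec (fun _ => Nat) 60 0 45 1 55 52 1 51 6 5 50 18 48 1 0 55 1 1 49 48 49)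
def lv_d_5 : D2 → D3 → Nat := @D2.rec (fun _ => D3 → Nat) (@D3.rec (fun _ => Nat) 0 52 56 51 57 56 1 50 60 0 0 22 55 0 55 0 54 1 52 25 0) (@D3.rec (fun _ => Nat) 21 48 56 1 59 24 0 53 49 0 1 53 54 55 56 1 56 0 0 1 1) (@D3.rec (fun _ => Nat) 61 3 0 1 57 1 7 55 48 1 5 18 57 1 58 58 0 59 1 19 59) (@D3.rec (fun _ => Nat) 52 52 54 51 1 1 1 0 39 18 0 1 1 37 0 19 1 54 1 49 41) (@D3.rec (fun _ => Nat) 41 0 39 35 1 3 13 1 42 3 1 1 55 52 4 1 14 0 0 53 53) (@D3.rec (fun _ => Nat) 57 58 14 37 37 36 0 0 50 39 1 54 57 55 40 57 48 52 0 4 46) (@D3.rec (fun _ => Nat) 46 3 0 51 5 1 16 47 0 47 42 53 1 0 55 5 16 44 36 38 56) (@D3.rec (fun _ => Nat) 53 19 0 1 49 53 17 1 1 1 45 51 40 1 0 1 0 49 37 35 0) (@D3.rec (fun _ => Nat) 1 1 54 44 39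 42 1 55 41 53 41 1 0 56 56 53 49 4 39 46 57) (@D3.rec (fun _ => Nat) 1 57 54 1 42 49 1 58 1 0 59 45 0 55 1 49 57 1 1 48 52) (@D3.rec (fun _ => Nat) 40 49 53 49 56 55 55 0 54 52 50 20 1 49 36 37 1 1 1 48 50) (@D3.rec (fun _ => Nat) 38 0 1 56 52 52 1 1 1 52 55 49 50 50 1 54 53 47 55 1 0) (@D3.rec (fun _ => Nat) 52 50 48 39 46 51 1 45 46 62 47 1 1 61 15 55 1 48 17 4 56) (@D3.rec (fun _ => Nat) 55 1 56 5 51 1 60 54 56 1 54 60 0 49 1 53 61 61 53 57 5)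
def lv_d_6 : D2 → D3 → Nat := @D2.rec (fun _ => D3 → Nat) (@D3.rec (fun _ => Nat) 62 51 1 46 46 1 55 49 53 1 17 53 58 16 25 57 55 51 14 53 51) (@D3.rec (fun _ => Nat) 56 57 52 59 62 56 57 1 57 54 56 1 60 1 57 1 1 49 48 60 55) (@D3.rec (fun _ => Nat) 1 49 51 58 48 1 49 59 8 51 54 58 56 0 61 1 1 55 50 50 54) (@D3.rec (fun _ => Nat) 59 1 59 50 54 53 52 0 1 59 0 0 1 1 1 1 26 1 58 54 48) (@D3.rec (fun _ => Nat) 57 1 52 1 54 56 55 58 1 1 52 51 54 56 56 1 7 48 59 1 4) (@D3.rec (fun _ => Nat) 53 3 49 10 17 0 1 47 41 54 1 39 8 20 1 49 50 18 38 47 41) (@D3.rec (fun _ => Nat) 54 1 41 51 49 38 36 56 40 4 46 56 41 49 59 54 1 52 57 1 17) (@D3.rec (fun _ => Nat) 36 56 1 1 46 48 48 1 50 54 1 49 0 47 55 54 47 58 42 1 55) (@D3.rec (fun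 _ => Nat) 1 57 15 43 39 49 39 1 49 49 50 49 38 55 51 1 54 1 59 1 58) (@D3.rec (fun _ => Nat) 40 55 55 19 40 0 52 1 52 53 61 50 52 53 56 1 1 55 55 54 55) (@D3.rec (fun _ => Nat) 53 58 55 54 57 56 1 55 54 53 50 56 48 48 36 1 54 57 52 58 60) (@D3.rec (fun _ => Nat) 1 50 47 47 47 17 5 57 56 53 57 62 1 55 61 58 62 52 57 48 26) (@D3.rec (fun _ => Nat) 55 50 55 59 59 53 53 56 54 61 1 55 1 5 1 1 56 5 55 60 57) (@D3.rec (fun _ => Nat) 58 49 60 1 40 37 54 48 53 53 48 50 50 1 38 54 55 55 1 54 54)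
def lv_d : Pt → Nat := @Pt.rec (fun _ => Nat) (@D1.rec (fun _ => D2 → D3 → Nat) lv_d_0 lv_d_1 lv_d_2 lv_d_3 lv_d_4 lv_d_5 lv_d_6)
abbrev lc_d_Cert_tree : Cert rels S Gen.d := Cert.tree
abbrev lc_d_rc_14_11 : Cert rels S Gen.d := rc_14_11
abbrev lc_d_rc_14_13 : Cert rels S Gen.d := rc_14_13
abbrev lc_d_rc_14_15 : Cert rels S Gen.d := rc_14_15
abbrev lc_d_rc_14_17 : Cert rels S Gen.d := rc_14_17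
abbrev lc_d_rc_14_3 : Cert rels S Gen.d := rc_14_3
abbrev lc_d_rc_14_5 : Cert rels S Gen.d := rc_14_5
abbrev lc_d_rc_14_7 : Cert rels S Gen.d := rc_14_7
abbrev lc_d_rc_18_0 : Cert rels S Gen.d := rc_18_0
abbrev lc_d_rc_18_1 : Cert rels S Gen.d := rc_18_1
abbrev lc_d_rc_19_0 : Cert rels S Gen.d := rc_19_0
abbrev lc_d_rc_19_2 : Cert rels S Gen.d := rc_19_2
abbrev lc_d_rc_19_4 : Cert rels S Gen.d := rc_19_4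
abbrev lc_d_rc_20_0 : Cert rels S Gen.d := rc_20_0
abbrev lc_d_rc_20_2 : Cert rels S Gen.d := rc_20_2
abbrev lc_d_rc_20_4 : Cert rels S Gen.d := rc_20_4
abbrev lc_d_rc_21_0 : Cert rels S Gen.d := rc_21_0
abbrev lc_d_rc_21_2 : Cert rels S Gen.d := rc_21_2
abbrev lc_d_rc_21_4 : Cert rels S Gen.d := rc_21_4
abbrev lc_d_rc_30_1 : Cert rels S Gen.d := rc_30_1
abbrev lc_d_rc_30_3 : Cert rels S Gen.d := rc_30_3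
abbrev lc_d_rc_30_5 : Cert rels S Gen.d := rc_30_5
abbrev lc_d_rc_30_7 : Cert rels S Gen.d := rc_30_7
abbrev lc_d_rc_30_9 : Cert rels S Gen.d := rc_30_9
abbrev lc_d_rc_31_1 : Cert rels S Gen.d := rc_31_1
abbrev lc_d_rc_31_13 : Cert rels S Gen.d := rc_31_13
abbrev lc_d_rc_31_5 : Cert rels S Gen.d := rc_31_5
abbrev lc_d_rc_31_9 : Cert rels S Gen.d := rc_31_9
abbrev lc_d_rc_3_1 : Cert rels S Gen.d := rc_3_1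
abbrev lc_d_rc_3_3 : Cert rels S Gen.d := rc_3_3
abbrev lc_d_rc_9_1 : Cert rels S Gen.d := rc_9_1
abbrev lc_d_rc_9_3 : Cert rels S Gen.d := rc_9_3
abbrev lc_d_sc_2_0 : Cert rels S Gen.d := sc_2_0
abbrev lc_d_sc_6_10 : Cert rels S Gen.d := sc_6_10
def ce_d_0 : D2 → D3 → (Cert rels S Gen.d) := @D2.rec (fun _ => D3 → (Cert rels S Gen.d)) (@D3.rec (fun _ => (Cert rels S Gen.d)) lc_d_sc_2_0 lc_d_rc_9_1 lc_d_Cert_tree lc_d_Cert_tree lc_d_Cert_tree lc_d_rc_18_0 lc_d_rc_18_0 lc_d_rc_21_4 lc_d_rc_18_0 lc_d_Cert_tree lc_d_rc_19_2 lc_d_rc_20_2 lc_d_Cert_tree lc_d_rc_19_2 lc_d_rc_20_2 lc_d_Cert_tree lc_d_rc_19_2 lc_d_rc_20_2 lc_d_Cert_tree lc_d_rc_18_0 lc_d_rc_20_2) (@D3.rec (fun _ => (Cert rels S Gen.d)) lc_d_rc_31_9 lc_d_Cert_tree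 lc_d_Cert_tree lc_d_rc_18_0 lc_d_Cert_tree lc_d_Cert_tree lc_d_Cert_tree lc_d_Cert_tree lc_d_rc_18_0 lc_d_Cert_tree lc_d_Cert_tree lc_d_Cert_tree lc_d_Cert_tree lc_d_rc_18_0 lc_d_rc_9_3 lc_d_rc_30_5 lc_d_Cert_tree lc_d_rc_20_4 lc_d_rc_3_1 lc_d_rc_18_0 lc_d_Cert_tree) (@D3.rec (fun _ => (Cert rels S Gen.d)) lc_d_rc_18_0 lc_d_Cert_tree lc_d_Cert_tree lc_d_Cert_tree lc_d_rc_19_0 lc_d_rc_18_0 lc_d_Cert_tree lc_d_rc_18_0 lc_d_rc_18_0 lc_d_Cert_tree lc_d_rc_18_0 lc_d_Cert_tree lc_d_Cert_tree lc_d_rc_9_3 lc_d_rc_21_2 lc_d_rc_18_0 lc_d_Cert_tree lc_d_rc_18_0 lc_d_rc_18_0 lc_d_rc_18_0 lc_d_rc_9_1) (@D3.rec (fun _ => (Cert rels S Gen.d)) lc_d_Cert_tree lc_d_rc_19_2 lc_d_rc_21_2 lc_d_Cert_tree lc_d_Cert_tree lc_d_rc_18_0 lc_d_rc_21_2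 lc_d_rc_18_0 lc_d_Cert_tree lc_d_Cert_tree lc_d_rc_19_2 lc_d_Cert_tree lc_d_rc_19_0 lc_d_rc_18_0 lc_d_rc_18_0 lc_d_Cert_tree lc_d_Cert_tree lc_d_rc_18_0 lc_d_Cert_tree lc_d_Cert_tree lc_d_rc_20_4) (@D3.rec (fun _ => (Cert rels S Gen.d)) lc_d_rc_19_0 lc_d_rc_18_0 lc_d_rc_9_3 lc_d_rc_19_2 lc_d_rc_19_2 lc_d_Cert_tree lc_d_rc_18_0 lc_d_Cert_tree lc_d_Cert_tree lc_d_rc_19_2 lc_d_rc_30_3 lc_d_rc_9_1 lc_d_rc_18_0 lc_d_rc_18_0 lc_d_Cert_tree lc_d_Cert_tree lc_d_Cert_tree lc_d_Cert_tree lc_d_rc_20_4 lc_d_rc_21_2 lc_d_rc_18_0) (@D3.rec (fun _ => (Cert rels S Gen.d)) lc_d_rc_21_2 lc_d_rc_21_2 lc_d_Cert_tree lc_d_Cert_tree lc_d_rc_19_2 lc_d_rc_3_1 lc_d_Cert_tree lc_d_rc_18_0 lc_d_Cert_tree lc_d_Cert_tree lc_d_Cert_tree lc_d_rc_18_0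 lc_d_rc_18_0 lc_d_sc_6_10 lc_d_rc_19_2 lc_d_Cert_tree lc_d_rc_19_0 lc_d_rc_18_0 lc_d_rc_18_0 lc_d_Cert_tree lc_d_Cert_tree) (@D3.rec (fun _ => (Cert rels S Gen.d)) lc_d_Cert_tree lc_d_Cert_tree lc_d_rc_18_0 lc_d_rc_19_4 lc_d_Cert_tree lc_d_Cert_tree lc_d_rc_19_2 lc_d_rc_19_2 lc_d_Cert_tree lc_d_Cert_tree lc_d_rc_18_0 lc_d_rc_18_0 lc_d_rc_19_2 lc_d_rc_20_2 lc_d_rc_18_0 lc_d_rc_18_0 lc_d_rc_9_3 lc_d_Cert_tree lc_d_rc_30_9 lc_d_Cert_tree lc_d_rc_20_2) (@D3.rec (fun _ => (Cert rels S Gen.d)) lc_d_Cert_tree lc_d_Cert_tree lc_d_rc_18_0 lc_d_Cert_tree lc_d_rc_19_2 lc_d_rc_20_4 lc_d_rc_30_9 lc_d_rc_18_0 lc_d_rc_18_0 lc_d_Cert_tree lc_d_Cert_tree lc_d_Cert_tree lc_d_Cert_tree lc_d_Cert_tree lc_d_rc_21_4 lc_d_Cert_tree lc_d_Cert_tree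 lc_d_rc_21_2 lc_d_rc_21_2 lc_d_Cert_tree lc_d_rc_20_2) (@D3.rec (fun _ => (Cert rels S Gen.d)) lc_d_rc_18_0 lc_d_rc_18_0 lc_d_rc_18_0 lc_d_rc_18_0 lc_d_rc_19_2 lc_d_rc_18_0 lc_d_Cert_tree lc_d_rc_18_0 lc_d_Cert_tree lc_d_Cert_tree lc_d_rc_18_0 lc_d_Cert_tree lc_d_Cert_tree lc_d_Cert_tree lc_d_rc_20_2 lc_d_rc_21_2 lc_d_rc_18_0 lc_d_rc_18_0 lc_d_rc_18_0 lc_d_rc_18_0 lc_d_Cert_tree) (@D3.rec (fun _ => (Cert rels S Gen.d)) lc_d_Cert_tree lc_d_Cert_tree lc_d_Cert_tree lc_d_rc_18_0 lc_d_rc_19_0 lc_d_Cert_tree lc_d_Cert_tree lc_d_Cert_tree lc_d_Cert_tree lc_d_rc_18_0 lc_d_Cert_tree lc_d_rc_18_0 lc_d_Cert_tree lc_d_rc_18_0 lc_d_rc_18_0 lc_d_Cert_tree lc_d_rc_19_2 lc_d_rc_18_0 lc_d_Cert_tree lc_d_rc_18_0 lc_d_Cert_tree) (@D3.rec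 (fun _ => (Cert rels S Gen.d)) lc_d_Cert_tree lc_d_Cert_tree lc_d_rc_18_0 lc_d_rc_18_0 lc_d_rc_21_2 lc_d_rc_19_2 lc_d_rc_21_2 lc_d_rc_20_2 lc_d_Cert_tree lc_d_rc_9_1 lc_d_rc_18_0 lc_d_Cert_tree lc_d_rc_18_0 lc_d_rc_20_2 lc_d_Cert_tree lc_d_rc_18_0 lc_d_rc_18_0 lc_d_rc_18_0 lc_d_rc_21_2 lc_d_rc_19_2 lc_d_rc_21_2) (@D3.rec (fun _ => (Cert rels S Gen.d)) lc_d_Cert_tree lc_d_rc_18_0 lc_d_Cert_tree lc_d_Cert_tree lc_d_Cert_tree lc_d_rc_20_2 lc_d_rc_21_2 lc_d_Cert_tree lc_d_Cert_tree lc_d_rc_30_5 lc_d_Cert_tree lc_d_Cert_tree lc_d_Cert_tree lc_d_rc_18_0 lc_d_Cert_tree lc_d_Cert_tree lc_d_rc_18_0 lc_d_rc_3_3 lc_d_rc_18_0 lc_d_rc_31_5 lc_d_rc_18_0) (@D3.rec (fun _ => (Cert rels S Gen.d)) lc_d_rc_18_0 lc_d_rc_18_0 lc_d_rc_18_0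 lc_d_Cert_tree lc_d_Cert_tree lc_d_rc_18_0 lc_d_Cert_tree lc_d_rc_19_2 lc_d_rc_21_2 lc_d_rc_30_5 lc_d_rc_19_2 lc_d_rc_21_2 lc_d_rc_18_0 lc_d_rc_30_5 lc_d_Cert_tree lc_d_rc_20_2 lc_d_Cert_tree lc_d_rc_18_0 lc_d_rc_18_0 lc_d_Cert_tree lc_d_Cert_tree) (@D3.rec (fun _ => (Cert rels S Gen.d)) lc_d_rc_9_1 lc_d_rc_21_2 lc_d_rc_18_0 lc_d_Cert_tree lc_d_rc_18_0 lc_d_Cert_tree lc_d_Cert_tree lc_d_Cert_tree lc_d_rc_18_0 lc_d_Cert_tree lc_d_Cert_tree lc_d_Cert_tree lc_d_Cert_tree lc_d_Cert_tree lc_d_rc_20_2 lc_d_rc_21_2 lc_d_Cert_tree lc_d_Cert_tree lc_d_Cert_tree lc_d_Cert_tree lc_d_rc_18_0)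
def ce_d_1 : D2 → D3 → (Cert rels S Gen.d) := @D2.rec (fun _ => D3 → (Cert rels S Gen.d)) (@D3.rec (fun _ => (Cert rels S Gen.d)) lc_d_Cert_tree lc_d_rc_18_0 lc_d_Cert_tree lc_d_rc_18_0 lc_d_rc_18_0 lc_d_Cert_tree lc_d_rc_18_0 lc_d_Cert_tree lc_d_rc_18_0 lc_d_rc_18_0 lc_d_rc_18_0 lc_d_Cert_tree lc_d_rc_19_2 lc_d_Cert_tree lc_d_rc_18_0 lc_d_Cert_tree lc_d_rc_19_2 lc_d_Cert_tree lc_d_rc_18_0 lc_d_Cert_tree lc_d_rc_19_2) (@D3.rec (fun _ => (Cert rels S Gen.d)) lc_d_rc_21_2 lc_d_Cert_tree lc_d_rc_18_0 lc_d_Cert_tree lc_d_Cert_tree lc_d_rc_18_0 lc_d_Cert_tree lc_d_rc_18_0 lc_d_Cert_tree lc_d_rc_30_7 lc_d_Cert_tree lc_d_rc_20_2 lc_d_Cert_tree lc_d_rc_18_0 lc_d_rc_18_0 lc_d_Cert_tree lc_d_rc_18_0 lc_d_rc_30_7 lc_d_rc_21_2 lc_d_rc_21_2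 lc_d_rc_30_7) (@D3.rec (fun _ => (Cert rels S Gen.d)) lc_d_rc_21_2 lc_d_rc_21_2 lc_d_rc_20_2 lc_d_Cert_tree lc_d_rc_18_0 lc_d_rc_18_0 lc_d_rc_18_0 lc_d_rc_30_5 lc_d_Cert_tree lc_d_rc_9_1 lc_d_rc_9_1 lc_d_rc_21_2 lc_d_rc_18_0 lc_d_Cert_tree lc_d_Cert_tree lc_d_rc_19_2 lc_d_Cert_tree lc_d_Cert_tree lc_d_rc_18_0 lc_d_rc_3_1 lc_d_rc_18_0) (@D3.rec (fun _ => (Cert rels S Gen.d)) lc_d_rc_31_5 lc_d_rc_18_0 lc_d_rc_18_0 lc_d_rc_18_0 lc_d_rc_9_1 lc_d_Cert_tree lc_d_Cert_tree lc_d_Cert_tree lc_d_rc_18_0 lc_d_Cert_tree lc_d_Cert_tree lc_d_rc_18_0 lc_d_Cert_tree lc_d_rc_18_0 lc_d_Cert_tree lc_d_Cert_tree lc_d_Cert_tree lc_d_Cert_tree lc_d_rc_18_0 lc_d_rc_18_0 lc_d_Cert_tree) (@D3.rec (fun _ => (Cert rels S Gen.d)) lc_d_rc_19_2 lc_d_Cert_tree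 lc_d_rc_19_2 lc_d_rc_31_5 lc_d_Cert_tree lc_d_rc_21_2 lc_d_Cert_tree lc_d_rc_20_2 lc_d_Cert_tree lc_d_rc_18_0 lc_d_rc_18_0 lc_d_rc_18_0 lc_d_rc_9_1 lc_d_Cert_tree lc_d_rc_19_2 lc_d_rc_9_1 lc_d_rc_21_2 lc_d_rc_9_1 lc_d_Cert_tree lc_d_Cert_tree lc_d_Cert_tree) (@D3.rec (fun _ => (Cert rels S Gen.d)) lc_d_rc_18_0 lc_d_Cert_tree lc_d_Cert_tree lc_d_Cert_tree lc_d_rc_18_0 lc_d_Cert_tree lc_d_Cert_tree lc_d_rc_20_2 lc_d_rc_21_2 lc_d_Cert_tree lc_d_rc_19_2 lc_d_rc_20_2 lc_d_Cert_tree lc_d_rc_18_0 lc_d_Cert_tree lc_d_rc_21_2 lc_d_Cert_tree lc_d_rc_18_0 lc_d_Cert_tree lc_d_Cert_tree lc_d_Cert_tree) (@D3.rec (fun _ => (Cert rels S Gen.d)) lc_d_Cert_tree lc_d_Cert_tree lc_d_rc_20_2 lc_d_rc_21_2 lc_d_Cert_tree lc_d_rc_18_0 lc_d_Cert_tree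 lc_d_Cert_tree lc_d_Cert_tree lc_d_Cert_tree lc_d_Cert_tree lc_d_Cert_tree lc_d_rc_18_0 lc_d_Cert_tree lc_d_rc_9_3 lc_d_rc_18_0 lc_d_Cert_tree lc_d_rc_18_0 lc_d_Cert_tree lc_d_Cert_tree lc_d_Cert_tree) (@D3.rec (fun _ => (Cert rels S Gen.d)) lc_d_Cert_tree lc_d_rc_18_0 lc_d_rc_18_0 lc_d_rc_18_0 lc_d_rc_18_0 lc_d_rc_18_1 lc_d_rc_18_0 lc_d_Cert_tree lc_d_rc_14_11 lc_d_Cert_tree lc_d_Cert_tree lc_d_rc_18_0 lc_d_rc_18_0 lc_d_rc_18_0 lc_d_rc_18_0 lc_d_Cert_tree lc_d_rc_19_2 lc_d_Cert_tree lc_d_rc_18_0 lc_d_Cert_tree lc_d_rc_19_2) (@D3.rec (fun _ => (Cert rels S Gen.d)) lc_d_Cert_tree lc_d_rc_18_0 lc_d_Cert_tree lc_d_rc_21_2 lc_d_Cert_tree lc_d_rc_18_0 lc_d_Cert_tree lc_d_rc_18_0 lc_d_rc_30_5 lc_d_rc_19_2 lc_d_rc_20_2 lc_d_rc_21_2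 lc_d_Cert_tree lc_d_rc_19_2 lc_d_rc_21_2 lc_d_Cert_tree lc_d_rc_19_2 lc_d_rc_20_2 lc_d_Cert_tree lc_d_rc_18_0 lc_d_Cert_tree) (@D3.rec (fun _ => (Cert rels S Gen.d)) lc_d_Cert_tree lc_d_Cert_tree lc_d_rc_18_0 lc_d_Cert_tree lc_d_Cert_tree lc_d_rc_18_1 lc_d_rc_20_2 lc_d_Cert_tree lc_d_rc_18_0 lc_d_Cert_tree lc_d_rc_31_9 lc_d_Cert_tree lc_d_rc_18_0 lc_d_Cert_tree lc_d_Cert_tree lc_d_rc_19_2 lc_d_rc_21_2 lc_d_Cert_tree lc_d_rc_18_0 lc_d_Cert_tree lc_d_Cert_tree) (@D3.rec (fun _ => (Cert rels S Gen.d)) lc_d_rc_21_2 lc_d_rc_21_2 lc_d_Cert_tree lc_d_rc_18_0 lc_d_Cert_tree lc_d_Cert_tree lc_d_rc_20_2 lc_d_rc_21_2 lc_d_rc_18_0 lc_d_Cert_tree lc_d_rc_18_0 lc_d_rc_31_9 lc_d_rc_18_0 lc_d_Cert_tree lc_d_rc_19_4 lc_d_rc_20_2 lc_d_rc_21_2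 lc_d_rc_18_0 lc_d_rc_9_1 lc_d_Cert_tree lc_d_Cert_tree) (@D3.rec (fun _ => (Cert rels S Gen.d)) lc_d_Cert_tree lc_d_rc_18_0 lc_d_Cert_tree lc_d_Cert_tree lc_d_Cert_tree lc_d_rc_18_0 lc_d_Cert_tree lc_d_Cert_tree lc_d_rc_20_2 lc_d_rc_21_2 lc_d_Cert_tree lc_d_rc_19_2 lc_d_Cert_tree lc_d_rc_18_0 lc_d_Cert_tree lc_d_rc_9_1 lc_d_rc_9_1 lc_d_rc_9_1 lc_d_rc_18_0 lc_d_rc_30_5 lc_d_rc_20_2) (@D3.rec (fun _ => (Cert rels S Gen.d)) lc_d_Cert_tree lc_d_Cert_tree lc_d_rc_31_9 lc_d_rc_18_0 lc_d_Cert_tree lc_d_rc_19_2 lc_d_rc_19_2 lc_d_Cert_tree lc_d_Cert_tree lc_d_rc_18_0 lc_d_rc_18_0 lc_d_Cert_tree lc_d_Cert_tree lc_d_rc_18_0 lc_d_Cert_tree lc_d_rc_18_0 lc_d_Cert_tree lc_d_Cert_tree lc_d_rc_19_2 lc_d_Cert_tree lc_d_rc_19_2) (@D3.rec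 (fun _ => (Cert rels S Gen.d)) lc_d_rc_31_5 lc_d_rc_3_3 lc_d_rc_3_1 lc_d_rc_21_2 lc_d_rc_3_1 lc_d_Cert_tree lc_d_rc_21_2 lc_d_Cert_tree lc_d_rc_18_0 lc_d_Cert_tree lc_d_rc_19_4 lc_d_rc_18_0 lc_d_rc_3_1 lc_d_rc_18_0 lc_d_Cert_tree lc_d_rc_30_3 lc_d_Cert_tree lc_d_Cert_tree lc_d_rc_18_0 lc_d_rc_18_0 lc_d_Cert_tree)
def ce_d_2 : D2 → D3 → (Cert rels S Gen.d) := @D2.rec (fun _ => D3 → (Cert rels S Gen.d)) (@D3.rec (fun _ => (Cert rels S Gen.d)) lc_d_rc_19_2 lc_d_Cert_tree lc_d_rc_18_0 lc_d_Cert_tree lc_d_rc_19_2 lc_d_Cert_tree lc_d_rc_18_0 lc_d_rc_19_4 lc_d_rc_18_0 lc_d_Cert_tree lc_d_rc_30_9 lc_d_rc_18_0 lc_d_Cert_tree lc_d_rc_18_0 lc_d_Cert_tree lc_d_Cert_tree lc_d_rc_19_2 lc_d_Cert_tree lc_d_rc_19_2 lc_d_Cert_tree lc_d_rc_18_0)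 (@D3.rec (fun _ => (Cert rels S Gen.d)) lc_d_Cert_tree lc_d_Cert_tree lc_d_rc_18_0 lc_d_Cert_tree lc_d_rc_18_0 lc_d_rc_18_0 lc_d_Cert_tree lc_d_Cert_tree lc_d_Cert_tree lc_d_rc_18_0 lc_d_Cert_tree lc_d_rc_3_1 lc_d_rc_20_2 lc_d_rc_21_2 lc_d_rc_20_2 lc_d_rc_18_0 lc_d_Cert_tree lc_d_Cert_tree lc_d_Cert_tree lc_d_Cert_tree lc_d_Cert_tree) (@D3.rec (fun _ => (Cert rels S Gen.d)) lc_d_rc_3_1 lc_d_Cert_tree lc_d_Cert_tree lc_d_rc_18_0 lc_d_Cert_tree lc_d_rc_9_3 lc_d_rc_18_0 lc_d_Cert_tree lc_d_rc_18_0 lc_d_rc_30_7 lc_d_Cert_tree lc_d_Cert_tree lc_d_rc_18_0 lc_d_rc_18_0 lc_d_rc_18_0 lc_d_Cert_tree lc_d_rc_19_2 lc_d_Cert_tree lc_d_rc_18_0 lc_d_rc_31_5 lc_d_rc_18_0) (@D3.rec (fun _ => (Cert rels S Gen.d)) lc_d_Cert_tree lc_d_rc_30_7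 lc_d_Cert_tree lc_d_Cert_tree lc_d_Cert_tree lc_d_rc_18_0 lc_d_Cert_tree lc_d_rc_21_2 lc_d_Cert_tree lc_d_Cert_tree lc_d_Cert_tree lc_d_rc_18_0 lc_d_Cert_tree lc_d_Cert_tree lc_d_Cert_tree lc_d_Cert_tree lc_d_rc_18_0 lc_d_Cert_tree lc_d_rc_20_2 lc_d_rc_18_0 lc_d_rc_19_2) (@D3.rec (fun _ => (Cert rels S Gen.d)) lc_d_Cert_tree lc_d_Cert_tree lc_d_Cert_tree lc_d_rc_18_0 lc_d_rc_18_0 lc_d_rc_18_0 lc_d_rc_18_0 lc_d_Cert_tree lc_d_rc_18_0 lc_d_Cert_tree lc_d_rc_3_1 lc_d_Cert_tree lc_d_rc_30_5 lc_d_rc_18_0 lc_d_Cert_tree lc_d_Cert_tree lc_d_rc_19_2 lc_d_Cert_tree lc_d_Cert_tree lc_d_Cert_tree lc_d_rc_18_0) (@D3.rec (fun _ => (Cert rels S Gen.d)) lc_d_Cert_tree lc_d_rc_30_9 lc_d_rc_18_0 lc_d_rc_18_0 lc_d_rc_9_3 lc_d_rc_18_0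 lc_d_Cert_tree lc_d_rc_19_4 lc_d_rc_18_0 lc_d_rc_3_1 lc_d_rc_18_0 lc_d_rc_31_5 lc_d_Cert_tree lc_d_rc_18_0 lc_d_rc_3_1 lc_d_rc_19_2 lc_d_rc_21_4 lc_d_rc_18_0 lc_d_Cert_tree lc_d_rc_20_4 lc_d_rc_18_0) (@D3.rec (fun _ => (Cert rels S Gen.d)) lc_d_rc_18_0 lc_d_Cert_tree lc_d_rc_20_2 lc_d_rc_18_0 lc_d_rc_18_0 lc_d_rc_21_2 lc_d_rc_21_2 lc_d_rc_20_2 lc_d_rc_18_1 lc_d_rc_19_2 lc_d_rc_20_2 lc_d_Cert_tree lc_d_rc_19_2 lc_d_rc_18_0 lc_d_rc_20_2 lc_d_rc_9_1 lc_d_rc_19_2 lc_d_rc_18_0 lc_d_rc_19_2 lc_d_rc_18_0 lc_d_rc_18_0) (@D3.rec (fun _ => (Cert rels S Gen.d)) lc_d_rc_30_5 lc_d_rc_19_2 lc_d_rc_20_2 lc_d_rc_21_2 lc_d_rc_21_2 lc_d_rc_21_2 lc_d_Cert_tree lc_d_rc_19_2 lc_d_rc_21_2 lc_d_Cert_tree lc_d_rc_19_2 lc_d_rc_20_2 lc_d_Cert_tree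 lc_d_rc_18_0 lc_d_Cert_tree lc_d_Cert_tree lc_d_Cert_tree lc_d_rc_18_0 lc_d_Cert_tree lc_d_Cert_tree lc_d_rc_18_1) (@D3.rec (fun _ => (Cert rels S Gen.d)) lc_d_rc_20_2 lc_d_rc_18_0 lc_d_Cert_tree lc_d_Cert_tree lc_d_rc_18_0 lc_d_Cert_tree lc_d_Cert_tree lc_d_rc_19_2 lc_d_rc_21_2 lc_d_Cert_tree lc_d_rc_18_0 lc_d_Cert_tree lc_d_rc_18_0 lc_d_rc_30_5 lc_d_rc_19_2 lc_d_rc_20_2 lc_d_rc_21_2 lc_d_rc_18_0 lc_d_rc_19_2 lc_d_rc_20_2 lc_d_rc_9_1) (@D3.rec (fun _ => (Cert rels S Gen.d)) lc_d_Cert_tree lc_d_Cert_tree lc_d_Cert_tree lc_d_Cert_tree lc_d_Cert_tree lc_d_Cert_tree lc_d_Cert_tree lc_d_rc_18_0 lc_d_rc_21_2 lc_d_Cert_tree lc_d_Cert_tree lc_d_rc_18_0 lc_d_rc_30_3 lc_d_rc_19_0 lc_d_Cert_tree lc_d_rc_18_0 lc_d_Cert_tree lc_d_rc_9_3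 lc_d_rc_3_1 lc_d_Cert_tree lc_d_rc_20_2) (@D3.rec (fun _ => (Cert rels S Gen.d)) lc_d_rc_21_4 lc_d_rc_18_0 lc_d_Cert_tree lc_d_rc_18_0 lc_d_rc_18_0 lc_d_Cert_tree lc_d_rc_19_2 lc_d_Cert_tree lc_d_rc_18_0 lc_d_rc_31_5 lc_d_rc_18_0 lc_d_rc_9_1 lc_d_rc_21_2 lc_d_Cert_tree lc_d_Cert_tree lc_d_rc_20_4 lc_d_rc_18_0 lc_d_Cert_tree lc_d_Cert_tree lc_d_rc_20_4 lc_d_rc_21_2) (@D3.rec (fun _ => (Cert rels S Gen.d)) lc_d_rc_18_0 lc_d_rc_19_2 lc_d_rc_18_0 lc_d_rc_18_0 lc_d_Cert_tree lc_d_rc_19_2 lc_d_Cert_tree lc_d_rc_18_0 lc_d_rc_18_0 lc_d_Cert_tree lc_d_rc_19_2 lc_d_rc_21_2 lc_d_rc_18_0 lc_d_Cert_tree lc_d_Cert_tree lc_d_Cert_tree lc_d_rc_20_2 lc_d_rc_21_4 lc_d_rc_18_0 lc_d_Cert_tree lc_d_rc_18_0) (@D3.rec (fun _ => (Cert rels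 S Gen.d)) lc_d_rc_9_1 lc_d_rc_18_0 lc_d_Cert_tree lc_d_rc_19_2 lc_d_rc_20_2 lc_d_rc_21_2 lc_d_rc_18_0 lc_d_rc_18_0 lc_d_Cert_tree lc_d_Cert_tree lc_d_rc_20_2 lc_d_rc_21_2 lc_d_rc_18_0 lc_d_Cert_tree lc_d_rc_19_2 lc_d_rc_20_2 lc_d_rc_19_2 lc_d_rc_21_2 lc_d_rc_18_0 lc_d_rc_20_2 lc_d_rc_18_0) (@D3.rec (fun _ => (Cert rels S Gen.d)) lc_d_rc_30_9 lc_d_rc_18_0 lc_d_rc_18_0 lc_d_Cert_tree lc_d_rc_18_0 lc_d_rc_18_0 lc_d_rc_18_0 lc_d_rc_19_2 lc_d_rc_18_0 lc_d_rc_18_0 lc_d_rc_18_0 lc_d_rc_9_1 lc_d_Cert_tree lc_d_rc_18_0 lc_d_rc_19_2 lc_d_rc_18_0 lc_d_rc_9_1 lc_d_rc_18_0 lc_d_rc_18_0 lc_d_rc_18_0 lc_d_Cert_tree)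
def ce_d_3 : D2 → D3 → (Cert rels S Gen.d) := @D2.rec (fun _ => D3 → (Cert rels S Gen.d)) (@D3.rec (fun _ => (Cert rels S Gen.d)) lc_d_rc_30_9 lc_d_Cert_tree lc_d_Cert_tree lc_d_rc_18_0 lc_d_Cert_tree lc_d_rc_18_0 lc_d_Cert_tree lc_d_rc_21_4 lc_d_rc_19_2 lc_d_Cert_tree lc_d_rc_19_2 lc_d_rc_18_0 lc_d_rc_18_0 lc_d_Cert_tree lc_d_rc_19_2 lc_d_Cert_tree lc_d_rc_18_0 lc_d_Cert_tree lc_d_rc_19_2 lc_d_Cert_tree lc_d_rc_18_0) (@D3.rec (fun _ => (Cert rels S Gen.d)) lc_d_Cert_tree lc_d_rc_18_0 lc_d_Cert_tree lc_d_Cert_tree lc_d_rc_18_0 lc_d_Cert_tree lc_d_Cert_tree lc_d_Cert_tree lc_d_rc_14_3 lc_d_rc_3_1 lc_d_Cert_tree lc_d_rc_18_0 lc_d_Cert_tree lc_d_rc_19_4 lc_d_rc_18_0 lc_d_Cert_tree lc_d_Cert_tree lc_d_rc_18_0 lc_d_Cert_tree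 lc_d_rc_19_2 lc_d_rc_18_0) (@D3.rec (fun _ => (Cert rels S Gen.d)) lc_d_Cert_tree lc_d_rc_21_4 lc_d_rc_18_0 lc_d_rc_18_0 lc_d_Cert_tree lc_d_rc_19_2 lc_d_rc_19_2 lc_d_rc_19_2 lc_d_rc_19_2 lc_d_rc_19_2 lc_d_Cert_tree lc_d_rc_18_0 lc_d_rc_18_1 lc_d_rc_19_2 lc_d_rc_18_0 lc_d_rc_21_0 lc_d_rc_19_2 lc_d_Cert_tree lc_d_rc_18_0 lc_d_rc_20_2 lc_d_rc_31_9) (@D3.rec (fun _ => (Cert rels S Gen.d)) lc_d_rc_18_0 lc_d_rc_19_2 lc_d_rc_19_2 lc_d_rc_20_2 lc_d_rc_9_1 lc_d_rc_18_0 lc_d_rc_18_0 lc_d_rc_31_9 lc_d_rc_18_0 lc_d_rc_18_0 lc_d_rc_18_0 lc_d_Cert_tree lc_d_rc_18_0 lc_d_Cert_tree lc_d_Cert_tree lc_d_rc_18_0 lc_d_Cert_tree lc_d_Cert_tree lc_d_rc_18_0 lc_d_Cert_tree lc_d_rc_30_7) (@D3.rec (fun _ => (Cert rels S Gen.d)) lc_d_Cert_tree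 lc_d_rc_20_2 lc_d_rc_21_2 lc_d_rc_18_0 lc_d_Cert_tree lc_d_rc_18_0 lc_d_Cert_tree lc_d_rc_20_2 lc_d_rc_18_0 lc_d_Cert_tree lc_d_rc_19_2 lc_d_rc_20_2 lc_d_rc_21_2 lc_d_rc_19_2 lc_d_Cert_tree lc_d_rc_18_0 lc_d_rc_18_0 lc_d_rc_18_0 lc_d_rc_19_2 lc_d_rc_31_13 lc_d_rc_18_0) (@D3.rec (fun _ => (Cert rels S Gen.d)) lc_d_Cert_tree lc_d_rc_21_2 lc_d_rc_20_4 lc_d_Cert_tree lc_d_rc_30_5 lc_d_Cert_tree lc_d_Cert_tree lc_d_rc_18_0 lc_d_rc_18_0 lc_d_rc_18_0 lc_d_rc_18_0 lc_d_rc_18_0 lc_d_Cert_tree lc_d_rc_18_0 lc_d_rc_18_0 lc_d_Cert_tree lc_d_rc_18_0 lc_d_rc_19_2 lc_d_rc_18_0 lc_d_rc_31_5 lc_d_rc_3_1) (@D3.rec (fun _ => (Cert rels S Gen.d)) lc_d_rc_30_5 lc_d_rc_3_1 lc_d_rc_18_0 lc_d_rc_18_0 lc_d_rc_21_2 lc_d_rc_21_2 lc_d_rc_19_2 lc_d_rc_18_1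 lc_d_rc_19_2 lc_d_rc_20_2 lc_d_rc_18_0 lc_d_rc_18_0 lc_d_Cert_tree lc_d_rc_19_2 lc_d_rc_18_0 lc_d_rc_18_0 lc_d_rc_18_0 lc_d_rc_3_3 lc_d_rc_18_0 lc_d_rc_18_0 lc_d_rc_18_0) (@D3.rec (fun _ => (Cert rels S Gen.d)) lc_d_Cert_tree lc_d_rc_18_0 lc_d_Cert_tree lc_d_rc_18_0 lc_d_rc_18_0 lc_d_rc_18_0 lc_d_Cert_tree lc_d_Cert_tree lc_d_Cert_tree lc_d_rc_18_0 lc_d_rc_18_0 lc_d_rc_18_0 lc_d_rc_18_0 lc_d_rc_9_1 lc_d_Cert_tree lc_d_rc_21_4 lc_d_rc_18_0 lc_d_rc_9_3 lc_d_rc_19_2 lc_d_rc_20_4 lc_d_rc_18_0) (@D3.rec (fun _ => (Cert rels S Gen.d)) lc_d_rc_20_2 lc_d_rc_18_0 lc_d_rc_18_0 lc_d_rc_30_3 lc_d_rc_21_2 lc_d_Cert_tree lc_d_rc_18_1 lc_d_rc_19_2 lc_d_rc_20_2 lc_d_rc_19_2 lc_d_rc_19_2 lc_d_rc_18_0 lc_d_rc_18_0 lc_d_rc_9_3 lc_d_Cert_tree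 lc_d_rc_18_0 lc_d_rc_18_0 lc_d_rc_20_4 lc_d_rc_21_4 lc_d_rc_18_0 lc_d_rc_18_0) (@D3.rec (fun _ => (Cert rels S Gen.d)) lc_d_rc_31_5 lc_d_rc_9_1 lc_d_rc_18_0 lc_d_Cert_tree lc_d_rc_19_4 lc_d_rc_18_0 lc_d_rc_31_5 lc_d_rc_18_0 lc_d_rc_3_1 lc_d_rc_18_0 lc_d_Cert_tree lc_d_rc_31_1 lc_d_rc_21_2 lc_d_Cert_tree lc_d_Cert_tree lc_d_rc_18_0 lc_d_Cert_tree lc_d_rc_19_2 lc_d_rc_21_4 lc_d_rc_18_0 lc_d_rc_30_3) (@D3.rec (fun _ => (Cert rels S Gen.d)) lc_d_rc_19_2 lc_d_rc_18_0 lc_d_rc_18_0 lc_d_rc_19_4 lc_d_Cert_tree lc_d_rc_19_2 lc_d_rc_20_4 lc_d_rc_18_0 lc_d_Cert_tree lc_d_rc_21_4 lc_d_rc_18_0 lc_d_Cert_tree lc_d_rc_20_2 lc_d_rc_21_2 lc_d_rc_9_1 lc_d_rc_9_3 lc_d_rc_19_4 lc_d_rc_19_4 lc_d_rc_9_3 lc_d_rc_18_0 lc_d_rc_3_3) (@D3.rec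 (fun _ => (Cert rels S Gen.d)) lc_d_Cert_tree lc_d_rc_21_4 lc_d_rc_20_2 lc_d_rc_19_2 lc_d_rc_20_2 lc_d_rc_18_1 lc_d_rc_20_2 lc_d_rc_19_2 lc_d_rc_31_1 lc_d_rc_20_2 lc_d_rc_30_3 lc_d_rc_21_2 lc_d_Cert_tree lc_d_Cert_tree lc_d_rc_21_2 lc_d_Cert_tree lc_d_rc_18_0 lc_d_rc_21_2 lc_d_Cert_tree lc_d_rc_18_0 lc_d_rc_20_2) (@D3.rec (fun _ => (Cert rels S Gen.d)) lc_d_Cert_tree lc_d_rc_18_0 lc_d_Cert_tree lc_d_rc_9_3 lc_d_Cert_tree lc_d_rc_20_2 lc_d_rc_21_4 lc_d_rc_18_0 lc_d_Cert_tree lc_d_rc_18_0 lc_d_rc_18_0 lc_d_rc_19_2 lc_d_rc_19_2 lc_d_rc_9_1 lc_d_rc_18_0 lc_d_rc_18_0 lc_d_rc_21_2 lc_d_Cert_tree lc_d_rc_18_0 lc_d_rc_18_0 lc_d_Cert_tree) (@D3.rec (fun _ => (Cert rels S Gen.d)) lc_d_rc_19_2 lc_d_Cert_tree lc_d_rc_18_0 lc_d_rc_18_0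 lc_d_Cert_tree lc_d_rc_19_2 lc_d_rc_18_0 lc_d_rc_30_5 lc_d_rc_19_2 lc_d_rc_20_2 lc_d_rc_31_5 lc_d_rc_18_0 lc_d_rc_30_5 lc_d_rc_19_2 lc_d_rc_20_2 lc_d_rc_21_2 lc_d_Cert_tree lc_d_rc_30_5 lc_d_rc_19_2 lc_d_rc_20_2 lc_d_rc_18_0)
def ce_d_4 : D2 → D3 → (Cert rels S Gen.d) := @D2.rec (fun _ => D3 → (Cert rels S Gen.d)) (@D3.rec (fun _ => (Cert rels S Gen.d)) lc_d_rc_18_0 lc_d_rc_18_0 lc_d_rc_18_0 lc_d_rc_18_0 lc_d_rc_18_0 lc_d_rc_18_0 lc_d_Cert_tree lc_d_rc_30_5 lc_d_rc_19_4 lc_d_rc_20_2 lc_d_Cert_tree lc_d_rc_18_0 lc_d_rc_18_0 lc_d_rc_30_5 lc_d_rc_14_3 lc_d_rc_20_4 lc_d_rc_21_2 lc_d_rc_18_0 lc_d_rc_9_1 lc_d_rc_3_3 lc_d_Cert_tree) (@D3.rec (fun _ => (Cert rels S Gen.d)) lc_d_rc_9_1 lc_d_rc_18_0 lc_d_Cert_tree lc_d_rc_9_1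 lc_d_Cert_tree lc_d_Cert_tree lc_d_rc_18_0 lc_d_rc_19_4 lc_d_rc_19_2 lc_d_Cert_tree lc_d_rc_20_2 lc_d_Cert_tree lc_d_rc_20_2 lc_d_rc_21_4 lc_d_rc_18_0 lc_d_rc_19_2 lc_d_rc_18_0 lc_d_rc_18_0 lc_d_Cert_tree lc_d_rc_19_2 lc_d_rc_18_1) (@D3.rec (fun _ => (Cert rels S Gen.d)) lc_d_Cert_tree lc_d_rc_18_0 lc_d_rc_18_0 lc_d_Cert_tree lc_d_rc_9_1 lc_d_rc_18_0 lc_d_rc_18_0 lc_d_rc_3_1 lc_d_rc_31_13 lc_d_Cert_tree lc_d_rc_18_0 lc_d_rc_30_7 lc_d_rc_30_7 lc_d_rc_19_2 lc_d_rc_18_0 lc_d_rc_18_0 lc_d_Cert_tree lc_d_rc_30_5 lc_d_Cert_tree lc_d_rc_20_2 lc_d_rc_18_0) (@D3.rec (fun _ => (Cert rels S Gen.d)) lc_d_rc_30_5 lc_d_Cert_tree lc_d_rc_20_2 lc_d_rc_18_0 lc_d_Cert_tree lc_d_rc_18_0 lc_d_Cert_tree lc_d_Cert_tree lc_d_Cert_tree lc_d_rc_18_0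 lc_d_rc_20_4 lc_d_rc_19_4 lc_d_rc_18_1 lc_d_rc_14_15 lc_d_rc_20_2 lc_d_rc_21_4 lc_d_rc_18_0 lc_d_rc_30_5 lc_d_rc_9_1 lc_d_rc_20_2 lc_d_rc_21_2) (@D3.rec (fun _ => (Cert rels S Gen.d)) lc_d_Cert_tree lc_d_rc_18_0 lc_d_rc_9_3 lc_d_rc_21_2 lc_d_rc_20_2 lc_d_Cert_tree lc_d_Cert_tree lc_d_Cert_tree lc_d_rc_30_7 lc_d_rc_19_2 lc_d_rc_21_2 lc_d_rc_21_2 lc_d_rc_18_0 lc_d_rc_18_0 lc_d_rc_30_7 lc_d_rc_19_2 lc_d_Cert_tree lc_d_rc_18_0 lc_d_Cert_tree lc_d_Cert_tree lc_d_Cert_tree) (@D3.rec (fun _ => (Cert rels S Gen.d)) lc_d_rc_19_2 lc_d_rc_21_2 lc_d_rc_30_7 lc_d_rc_14_17 lc_d_rc_20_2 lc_d_rc_18_0 lc_d_rc_19_2 lc_d_rc_21_2 lc_d_Cert_tree lc_d_rc_19_2 lc_d_rc_18_1 lc_d_rc_30_5 lc_d_rc_19_2 lc_d_rc_20_2 lc_d_Cert_tree lc_d_rc_19_2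 lc_d_rc_18_0 lc_d_rc_21_2 lc_d_rc_18_0 lc_d_rc_30_5 lc_d_rc_19_2) (@D3.rec (fun _ => (Cert rels S Gen.d)) lc_d_rc_20_2 lc_d_Cert_tree lc_d_rc_19_2 lc_d_rc_20_2 lc_d_rc_18_0 lc_d_rc_18_0 lc_d_rc_18_0 lc_d_rc_30_3 lc_d_rc_18_0 lc_d_rc_18_0 lc_d_rc_9_1 lc_d_Cert_tree lc_d_rc_31_9 lc_d_rc_18_0 lc_d_Cert_tree lc_d_rc_3_3 lc_d_rc_19_2 lc_d_rc_20_2 lc_d_rc_19_2 lc_d_rc_19_2 lc_d_rc_20_2) (@D3.rec (fun _ => (Cert rels S Gen.d)) lc_d_Cert_tree lc_d_rc_18_0 lc_d_rc_30_7 lc_d_rc_3_3 lc_d_rc_18_0 lc_d_rc_19_2 lc_d_rc_20_0 lc_d_rc_18_0 lc_d_rc_20_2 lc_d_rc_19_2 lc_d_rc_18_0 lc_d_rc_19_2 lc_d_rc_19_2 lc_d_Cert_tree lc_d_rc_18_0 lc_d_Cert_tree lc_d_rc_18_1 lc_d_rc_20_2 lc_d_rc_18_1 lc_d_rc_18_0 lc_d_rc_19_2) (@D3.rec (fun _ => (Cert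 rels S Gen.d)) lc_d_rc_18_0 lc_d_Cert_tree lc_d_rc_18_0 lc_d_rc_18_0 lc_d_rc_18_0 lc_d_rc_18_0 lc_d_rc_3_3 lc_d_rc_18_0 lc_d_Cert_tree lc_d_rc_18_0 lc_d_rc_18_0 lc_d_rc_3_3 lc_d_rc_19_2 lc_d_rc_18_0 lc_d_rc_18_1 lc_d_rc_18_0 lc_d_rc_19_4 lc_d_rc_30_7 lc_d_Cert_tree lc_d_rc_18_0 lc_d_rc_30_7) (@D3.rec (fun _ => (Cert rels S Gen.d)) lc_d_Cert_tree lc_d_rc_18_0 lc_d_rc_9_1 lc_d_Cert_tree lc_d_rc_19_4 lc_d_rc_20_2 lc_d_rc_21_4 lc_d_rc_31_9 lc_d_rc_9_1 lc_d_rc_18_1 lc_d_rc_18_0 lc_d_rc_30_9 lc_d_rc_19_4 lc_d_rc_19_4 lc_d_rc_30_9 lc_d_rc_19_2 lc_d_rc_18_0 lc_d_rc_3_1 lc_d_rc_18_0 lc_d_rc_19_4 lc_d_rc_21_2) (@D3.rec (fun _ => (Cert rels S Gen.d)) lc_d_rc_18_0 lc_d_rc_18_0 lc_d_rc_30_7 lc_d_rc_19_4 lc_d_rc_20_2 lc_d_rc_18_0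 lc_d_rc_18_0 lc_d_rc_9_1 lc_d_rc_18_1 lc_d_rc_9_1 lc_d_rc_18_0 lc_d_rc_19_2 lc_d_rc_30_1 lc_d_rc_18_0 lc_d_rc_31_9 lc_d_rc_9_3 lc_d_rc_18_1 lc_d_rc_18_0 lc_d_Cert_tree lc_d_rc_20_2 lc_d_rc_18_0) (@D3.rec (fun _ => (Cert rels S Gen.d)) lc_d_Cert_tree lc_d_rc_20_2 lc_d_Cert_tree lc_d_rc_18_0 lc_d_rc_30_1 lc_d_rc_18_0 lc_d_Cert_tree lc_d_Cert_tree lc_d_rc_9_1 lc_d_rc_18_0 lc_d_rc_9_3 lc_d_Cert_tree lc_d_rc_19_2 lc_d_rc_9_3 lc_d_rc_18_0 lc_d_rc_18_0 lc_d_rc_18_0 lc_d_rc_18_0 lc_d_rc_20_2 lc_d_Cert_tree lc_d_rc_21_2) (@D3.rec (fun _ => (Cert rels S Gen.d)) lc_d_rc_18_0 lc_d_rc_9_1 lc_d_rc_18_0 lc_d_rc_19_2 lc_d_rc_3_1 lc_d_rc_30_9 lc_d_rc_20_2 lc_d_rc_20_2 lc_d_rc_30_5 lc_d_rc_20_2 lc_d_rc_31_5 lc_d_rc_19_2 lc_d_rc_20_2 lc_d_rc_20_2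 lc_d_rc_18_0 lc_d_rc_18_1 lc_d_Cert_tree lc_d_rc_21_2 lc_d_rc_19_2 lc_d_rc_14_15 lc_d_rc_20_2) (@D3.rec (fun _ => (Cert rels S Gen.d)) lc_d_rc_20_0 lc_d_Cert_tree lc_d_rc_19_2 lc_d_rc_18_0 lc_d_rc_19_2 lc_d_rc_20_4 lc_d_rc_18_0 lc_d_rc_30_3 lc_d_rc_19_2 lc_d_rc_20_2 lc_d_rc_30_3 lc_d_rc_19_2 lc_d_rc_21_2 lc_d_rc_18_0 lc_d_Cert_tree lc_d_rc_30_7 lc_d_rc_18_0 lc_d_rc_18_0 lc_d_rc_30_5 lc_d_rc_3_3 lc_d_rc_21_2)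
def ce_d_5 : D2 → D3 → (Cert rels S Gen.d) := @D2.rec (fun _ => D3 → (Cert rels S Gen.d)) (@D3.rec (fun _ => (Cert rels S Gen.d)) lc_d_Cert_tree lc_d_rc_19_2 lc_d_rc_30_9 lc_d_rc_20_2 lc_d_rc_3_3 lc_d_rc_3_1 lc_d_rc_18_0 lc_d_rc_20_2 lc_d_rc_3_3 lc_d_Cert_tree lc_d_Cert_tree lc_d_rc_9_3 lc_d_rc_19_2 lc_d_Cert_tree lc_d_rc_30_3 lc_d_Cert_tree lc_d_rc_21_2 lc_d_rc_18_0 lc_d_rc_19_2 lc_d_rc_19_4 lc_d_Cert_tree) (@D3.rec (fun _ => (Cert rels S Gen.d)) lc_d_rc_19_2 lc_d_rc_18_1 lc_d_rc_31_5 lc_d_rc_18_0 lc_d_rc_19_4 lc_d_rc_9_1 lc_d_Cert_tree lc_d_rc_31_1 lc_d_rc_21_2 lc_d_Cert_tree lc_d_rc_18_0 lc_d_rc_30_9 lc_d_rc_19_2 lc_d_rc_30_5 lc_d_rc_14_15 lc_d_rc_18_0 lc_d_rc_18_1 lc_d_Cert_tree lc_d_Cert_tree lc_d_rc_18_0 lc_d_rc_18_0)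 (@D3.rec (fun _ => (Cert rels S Gen.d)) lc_d_rc_3_3 lc_d_rc_19_2 lc_d_Cert_tree lc_d_rc_18_0 lc_d_rc_31_1 lc_d_rc_18_0 lc_d_rc_18_0 lc_d_rc_19_2 lc_d_rc_20_2 lc_d_rc_18_0 lc_d_rc_19_2 lc_d_rc_21_2 lc_d_rc_14_5 lc_d_rc_18_0 lc_d_rc_18_0 lc_d_rc_14_7 lc_d_Cert_tree lc_d_rc_31_9 lc_d_rc_18_0 lc_d_rc_31_9 lc_d_rc_19_2) (@D3.rec (fun _ => (Cert rels S Gen.d)) lc_d_rc_19_2 lc_d_rc_19_2 lc_d_rc_19_2 lc_d_rc_21_2 lc_d_rc_18_0 lc_d_rc_18_0 lc_d_rc_18_0 lc_d_Cert_tree lc_d_rc_19_4 lc_d_rc_20_2 lc_d_Cert_tree lc_d_rc_18_0 lc_d_rc_18_0 lc_d_rc_9_1 lc_d_Cert_tree lc_d_rc_20_2 lc_d_rc_18_0 lc_d_rc_30_7 lc_d_rc_18_0 lc_d_rc_19_4 lc_d_rc_19_2) (@D3.rec (fun _ => (Cert rels S Gen.d)) lc_d_rc_20_2 lc_d_Cert_tree lc_d_rc_20_2 lc_d_rc_21_4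 lc_d_rc_18_0 lc_d_rc_19_2 lc_d_rc_19_2 lc_d_rc_18_0 lc_d_rc_19_2 lc_d_rc_19_2 lc_d_rc_18_0 lc_d_rc_18_0 lc_d_rc_21_4 lc_d_rc_3_3 lc_d_rc_20_2 lc_d_rc_18_0 lc_d_rc_9_1 lc_d_Cert_tree lc_d_Cert_tree lc_d_rc_21_4 lc_d_rc_21_2) (@D3.rec (fun _ => (Cert rels S Gen.d)) lc_d_rc_19_2 lc_d_rc_18_1 lc_d_rc_9_1 lc_d_rc_21_2 lc_d_rc_21_2 lc_d_rc_20_2 lc_d_Cert_tree lc_d_Cert_tree lc_d_rc_19_2 lc_d_rc_30_7 lc_d_rc_18_0 lc_d_rc_9_1 lc_d_rc_19_4 lc_d_rc_31_5 lc_d_rc_30_7 lc_d_rc_9_1 lc_d_rc_19_2 lc_d_rc_20_2 lc_d_Cert_tree lc_d_rc_18_1 lc_d_rc_30_5) (@D3.rec (fun _ => (Cert rels S Gen.d)) lc_d_rc_19_2 lc_d_rc_20_2 lc_d_Cert_tree lc_d_rc_31_1 lc_d_rc_9_1 lc_d_rc_18_0 lc_d_rc_9_1 lc_d_rc_18_1 lc_d_Cert_tree lc_d_rc_30_7 lc_d_rc_19_4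 lc_d_rc_20_4 lc_d_rc_18_0 lc_d_Cert_tree lc_d_rc_3_3 lc_d_rc_9_1 lc_d_rc_9_1 lc_d_rc_19_4 lc_d_rc_20_4 lc_d_rc_21_4 lc_d_rc_19_2) (@D3.rec (fun _ => (Cert rels S Gen.d)) lc_d_rc_19_2 lc_d_rc_20_2 lc_d_Cert_tree lc_d_rc_18_0 lc_d_rc_19_4 lc_d_rc_3_3 lc_d_rc_20_2 lc_d_rc_18_0 lc_d_rc_18_0 lc_d_rc_18_0 lc_d_rc_19_4 lc_d_rc_19_2 lc_d_rc_19_4 lc_d_rc_18_0 lc_d_Cert_tree lc_d_rc_18_0 lc_d_Cert_tree lc_d_rc_21_2 lc_d_rc_20_2 lc_d_rc_20_2 lc_d_Cert_tree) (@D3.rec (fun _ => (Cert rels S Gen.d)) lc_d_rc_18_0 lc_d_rc_18_0 lc_d_rc_31_9 lc_d_rc_19_2 lc_d_rc_14_3 lc_d_rc_21_2 lc_d_rc_18_0 lc_d_rc_18_1 lc_d_rc_9_3 lc_d_rc_19_2 lc_d_rc_19_2 lc_d_rc_18_0 lc_d_Cert_tree lc_d_rc_19_2 lc_d_rc_31_1 lc_d_rc_21_2 lc_d_rc_30_7 lc_d_rc_20_2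 lc_d_rc_21_2 lc_d_rc_18_1 lc_d_rc_20_4) (@D3.rec (fun _ => (Cert rels S Gen.d)) lc_d_rc_18_0 lc_d_rc_18_0 lc_d_rc_31_9 lc_d_rc_18_0 lc_d_rc_21_4 lc_d_rc_19_4 lc_d_rc_18_0 lc_d_rc_3_3 lc_d_rc_18_0 lc_d_Cert_tree lc_d_rc_20_4 lc_d_rc_31_5 lc_d_Cert_tree lc_d_rc_30_9 lc_d_rc_18_0 lc_d_rc_20_4 lc_d_rc_18_1 lc_d_rc_18_0 lc_d_rc_18_0 lc_d_rc_19_4 lc_d_rc_19_2) (@D3.rec (fun _ => (Cert rels S Gen.d)) lc_d_rc_9_1 lc_d_rc_20_4 lc_d_rc_30_3 lc_d_rc_9_1 lc_d_rc_20_2 lc_d_rc_9_3 lc_d_rc_31_1 lc_d_Cert_tree lc_d_rc_30_5 lc_d_rc_14_5 lc_d_rc_9_1 lc_d_rc_3_3 lc_d_rc_18_0 lc_d_rc_21_2 lc_d_rc_20_2 lc_d_rc_20_4 lc_d_rc_18_0 lc_d_rc_18_0 lc_d_rc_18_0 lc_d_rc_30_3 lc_d_rc_21_2) (@D3.rec (fun _ => (Cert rels S Gen.d)) lc_d_rc_30_5 lc_d_Cert_tree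 lc_d_rc_18_0 lc_d_rc_19_4 lc_d_rc_30_7 lc_d_rc_31_9 lc_d_rc_18_0 lc_d_rc_18_0 lc_d_rc_18_0 lc_d_rc_9_1 lc_d_rc_20_0 lc_d_rc_18_0 lc_d_rc_19_2 lc_d_rc_21_4 lc_d_rc_18_0 lc_d_rc_20_0 lc_d_rc_31_9 lc_d_rc_20_2 lc_d_rc_3_1 lc_d_rc_18_0 lc_d_Cert_tree) (@D3.rec (fun _ => (Cert rels S Gen.d)) lc_d_rc_19_4 lc_d_rc_19_2 lc_d_rc_21_2 lc_d_rc_9_1 lc_d_rc_19_4 lc_d_rc_20_4 lc_d_rc_18_0 lc_d_rc_30_3 lc_d_rc_19_2 lc_d_rc_19_4 lc_d_rc_9_1 lc_d_rc_18_0 lc_d_rc_18_0 lc_d_rc_30_5 lc_d_rc_30_3 lc_d_rc_19_2 lc_d_rc_18_0 lc_d_rc_9_1 lc_d_rc_3_1 lc_d_rc_20_2 lc_d_rc_31_5) (@D3.rec (fun _ => (Cert rels S Gen.d)) lc_d_rc_19_2 lc_d_rc_18_0 lc_d_rc_9_1 lc_d_rc_9_1 lc_d_rc_9_1 lc_d_rc_18_0 lc_d_rc_31_9 lc_d_rc_20_4 lc_d_rc_31_9 lc_d_rc_18_0 lc_d_rc_30_5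 lc_d_rc_3_1 lc_d_Cert_tree lc_d_rc_21_2 lc_d_rc_18_0 lc_d_rc_31_5 lc_d_rc_9_1 lc_d_rc_19_2 lc_d_rc_3_1 lc_d_rc_19_4 lc_d_rc_19_2)
def ce_d_6 : D2 → D3 → (Cert rels S Gen.d) := @D2.rec (fun _ => D3 → (Cert rels S Gen.d)) (@D3.rec (fun _ => (Cert rels S Gen.d)) lc_d_rc_19_4 lc_d_rc_9_1 lc_d_rc_18_0 lc_d_rc_9_1 lc_d_rc_19_4 lc_d_rc_18_0 lc_d_rc_30_3 lc_d_rc_9_1 lc_d_rc_21_2 lc_d_rc_18_0 lc_d_rc_21_2 lc_d_rc_9_1 lc_d_rc_19_4 lc_d_rc_9_1 lc_d_rc_19_2 lc_d_rc_18_0 lc_d_rc_9_1 lc_d_rc_19_2 lc_d_rc_9_1 lc_d_rc_20_0 lc_d_rc_9_1) (@D3.rec (fun _ => (Cert rels S Gen.d)) lc_d_rc_30_7 lc_d_rc_20_4 lc_d_rc_3_1 lc_d_rc_30_9 lc_d_rc_9_1 lc_d_rc_9_1 lc_d_rc_9_1 lc_d_rc_18_0 lc_d_rc_9_1 lc_d_rc_20_4 lc_d_rc_9_3 lc_d_rc_18_0 lc_d_rc_3_3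 lc_d_rc_18_0 lc_d_rc_9_1 lc_d_rc_18_0 lc_d_rc_18_0 lc_d_rc_30_5 lc_d_rc_20_2 lc_d_rc_3_1 lc_d_rc_31_9) (@D3.rec (fun _ => (Cert rels S Gen.d)) lc_d_rc_18_0 lc_d_rc_30_5 lc_d_rc_31_5 lc_d_rc_19_2 lc_d_rc_20_2 lc_d_rc_18_0 lc_d_rc_9_1 lc_d_rc_19_2 lc_d_rc_18_1 lc_d_rc_30_7 lc_d_rc_18_0 lc_d_rc_20_0 lc_d_rc_9_1 lc_d_Cert_tree lc_d_rc_14_13 lc_d_rc_18_0 lc_d_rc_18_0 lc_d_rc_18_0 lc_d_rc_20_2 lc_d_rc_9_1 lc_d_rc_30_7) (@D3.rec (fun _ => (Cert rels S Gen.d)) lc_d_rc_19_4 lc_d_rc_18_0 lc_d_rc_19_4 lc_d_rc_19_4 lc_d_rc_30_7 lc_d_rc_18_0 lc_d_rc_20_2 lc_d_Cert_tree lc_d_rc_18_0 lc_d_rc_3_1 lc_d_Cert_tree lc_d_Cert_tree lc_d_rc_18_0 lc_d_rc_18_0 lc_d_rc_18_0 lc_d_rc_18_0 lc_d_rc_9_1 lc_d_rc_18_0 lc_d_rc_19_4 lc_d_rc_30_9 lc_d_rc_19_2)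 (@D3.rec (fun _ => (Cert rels S Gen.d)) lc_d_rc_19_4 lc_d_rc_18_0 lc_d_rc_19_2 lc_d_rc_18_0 lc_d_rc_20_4 lc_d_rc_9_1 lc_d_rc_18_0 lc_d_rc_19_2 lc_d_rc_18_0 lc_d_rc_18_0 lc_d_rc_30_5 lc_d_rc_19_2 lc_d_rc_18_1 lc_d_rc_9_1 lc_d_rc_19_2 lc_d_rc_18_0 lc_d_rc_9_1 lc_d_rc_19_2 lc_d_rc_30_1 lc_d_rc_18_0 lc_d_rc_18_1) (@D3.rec (fun _ => (Cert rels S Gen.d)) lc_d_rc_30_5 lc_d_rc_20_2 lc_d_rc_30_7 lc_d_rc_19_2 lc_d_rc_20_2 lc_d_Cert_tree lc_d_rc_18_0 lc_d_rc_30_1 lc_d_rc_19_4 lc_d_rc_20_0 lc_d_rc_18_0 lc_d_rc_20_4 lc_d_rc_19_2 lc_d_rc_20_2 lc_d_rc_18_0 lc_d_rc_19_4 lc_d_rc_30_7 lc_d_rc_20_2 lc_d_rc_9_1 lc_d_rc_19_4 lc_d_rc_19_4) (@D3.rec (fun _ => (Cert rels S Gen.d)) lc_d_rc_21_2 lc_d_rc_18_0 lc_d_rc_31_5 lc_d_rc_30_9 lc_d_rc_21_2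 lc_d_rc_20_2 lc_d_rc_20_2 lc_d_rc_18_0 lc_d_rc_19_2 lc_d_rc_20_2 lc_d_rc_3_1 lc_d_rc_21_0 lc_d_rc_21_2 lc_d_rc_19_4 lc_d_rc_30_3 lc_d_rc_21_2 lc_d_rc_18_0 lc_d_rc_20_4 lc_d_rc_3_1 lc_d_rc_18_0 lc_d_rc_3_1) (@D3.rec (fun _ => (Cert rels S Gen.d)) lc_d_rc_9_1 lc_d_rc_9_1 lc_d_rc_18_0 lc_d_rc_18_0 lc_d_rc_30_3 lc_d_rc_19_2 lc_d_rc_21_2 lc_d_rc_18_0 lc_d_rc_31_9 lc_d_rc_21_2 lc_d_rc_18_0 lc_d_rc_30_1 lc_d_Cert_tree lc_d_rc_9_1 lc_d_rc_3_3 lc_d_rc_19_0 lc_d_rc_9_1 lc_d_rc_31_9 lc_d_rc_18_0 lc_d_rc_18_0 lc_d_rc_30_5) (@D3.rec (fun _ => (Cert rels S Gen.d)) lc_d_rc_18_0 lc_d_rc_18_0 lc_d_rc_3_1 lc_d_rc_19_4 lc_d_rc_20_4 lc_d_rc_21_2 lc_d_rc_20_4 lc_d_rc_18_0 lc_d_rc_30_9 lc_d_rc_20_4 lc_d_rc_20_2 lc_d_rc_21_2 lc_d_rc_20_2 lc_d_rc_3_1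 lc_d_rc_30_5 lc_d_rc_18_0 lc_d_rc_30_5 lc_d_rc_18_0 lc_d_rc_9_1 lc_d_rc_18_0 lc_d_rc_20_2) (@D3.rec (fun _ => (Cert rels S Gen.d)) lc_d_rc_9_1 lc_d_rc_31_9 lc_d_rc_9_1 lc_d_rc_3_1 lc_d_rc_19_0 lc_d_Cert_tree lc_d_rc_31_5 lc_d_rc_18_0 lc_d_rc_21_2 lc_d_rc_31_9 lc_d_rc_20_0 lc_d_rc_20_2 lc_d_rc_30_1 lc_d_rc_21_2 lc_d_rc_31_5 lc_d_rc_18_0 lc_d_rc_18_0 lc_d_rc_30_5 lc_d_rc_20_2 lc_d_rc_20_2 lc_d_rc_19_2) (@D3.rec (fun _ => (Cert rels S Gen.d)) lc_d_rc_18_0 lc_d_rc_9_1 lc_d_rc_31_9 lc_d_rc_14_5 lc_d_rc_18_0 lc_d_rc_18_0 lc_d_rc_18_0 lc_d_rc_9_1 lc_d_rc_20_4 lc_d_rc_18_1 lc_d_rc_21_2 lc_d_rc_18_0 lc_d_rc_9_1 lc_d_rc_21_4 lc_d_rc_9_1 lc_d_rc_18_0 lc_d_rc_18_1 lc_d_rc_9_1 lc_d_rc_31_9 lc_d_rc_18_0 lc_d_rc_21_4) (@D3.rec (fun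 _ => (Cert rels S Gen.d)) lc_d_rc_18_0 lc_d_rc_20_2 lc_d_rc_9_1 lc_d_rc_19_2 lc_d_rc_3_1 lc_d_rc_9_1 lc_d_rc_9_1 lc_d_rc_9_1 lc_d_rc_18_0 lc_d_rc_18_0 lc_d_rc_9_1 lc_d_rc_18_1 lc_d_rc_18_0 lc_d_rc_21_2 lc_d_rc_30_1 lc_d_rc_19_2 lc_d_rc_30_7 lc_d_rc_21_2 lc_d_rc_9_1 lc_d_rc_3_1 lc_d_rc_9_1) (@D3.rec (fun _ => (Cert rels S Gen.d)) lc_d_rc_30_7 lc_d_rc_3_1 lc_d_rc_9_1 lc_d_rc_3_3 lc_d_rc_9_1 lc_d_rc_9_1 lc_d_rc_20_2 lc_d_rc_9_1 lc_d_rc_30_5 lc_d_rc_9_1 lc_d_rc_18_0 lc_d_rc_9_1 lc_d_rc_18_0 lc_d_rc_30_7 lc_d_rc_18_0 lc_d_rc_18_0 lc_d_rc_20_4 lc_d_rc_30_5 lc_d_rc_9_1 lc_d_rc_9_1 lc_d_rc_18_0) (@D3.rec (fun _ => (Cert rels S Gen.d)) lc_d_rc_9_1 lc_d_rc_9_1 lc_d_rc_3_1 lc_d_rc_18_0 lc_d_rc_3_1 lc_d_rc_20_2 lc_d_rc_30_5 lc_d_rc_18_0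 lc_d_rc_3_1 lc_d_rc_20_2 lc_d_rc_9_1 lc_d_rc_21_2 lc_d_rc_30_5 lc_d_rc_18_0 lc_d_rc_3_1 lc_d_rc_9_1 lc_d_rc_3_1 lc_d_rc_3_3 lc_d_rc_18_0 lc_d_rc_21_4 lc_d_rc_3_1)
def ce_d : Pt → (Cert rels S Gen.d) := @Pt.rec (fun _ => (Cert rels S Gen.d)) (@D1.rec (fun _ => D2 → D3 → (Cert rels S Gen.d)) ce_d_0 ce_d_1 ce_d_2 ce_d_3 ce_d_4 ce_d_5 ce_d_6)
def isSeed_d (p : Pt) : Bool := false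

end

end Cfsg.Agent.Helper28.S1683
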