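import Cfsg.Agent.Lib.Helper28.S1683.Tree

set_option autoImplicit false
set_option maxRecDepth 100000
set_option linter.all false

namespace Cfsg.Agent.Helper28.S1683

open Cfsg.Agent.Helper28
open Cfsg.Spor.He (Gen)

noncomputable section

def lv_e_0 : D2 → D3 → Nat := @D2.rec (fun _ => D3 → Nat) (@D3.rec (fun _ => Nat) 1 2 3 3 4 0 0 5 0 0 1 2 0 1 2 0 1 2 6 0 1) (@D3.rec (fun _ => Nat) 2 2 5 0 1 2 2 5 0 1 2 2 7 0 7 0 1 7 2 4 6) (@D3.rec (fun _ => Nat) 0 7 1 2 3 2 2 0 5 6 0 6 1 2 3 2 2 0 5 0 8) (@D3.rec (fun _ => Nat) 0 1 2 1 12 9 11 0 8 13 1 2 3 0 2 2 2 0 2 3 3) (@D3.rec (fun _ => Nat) 3 34 0 1 35 6 0 7 0 1 2 3 0 2 2 2 2 3 3 3 44) (@D3.rec (fun _ => Nat) 1 45 6 0 1 10 0 0 1 2 13 4 13 7 1 2 3 34 12 13 13)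 (@D3.rec (fun _ => Nat) 2 2 0 2 3 0 1 33 3 3 0 35 1 3 32 0 31 37 0 1 36) (@D3.rec (fun _ => Nat) 4 10 0 42 1 2 3 44 0 1 2 3 2 2 2 3 0 1 45 3 3) (@D3.rec (fun _ => Nat) 45 6 45 0 46 0 15 0 1 14 0 1 0 1 2 3 2 6 14 6 8) (@D3.rec (fun _ => Nat) 8 2 2 33 2 3 37 14 14 0 2 0 3 0 34 0 1 30 0 0 1) (@D3.rec (fun _ => Nat) 36 34 38 34 0 1 2 36 45 1 42 11 40 10 1 44 37 0 43 1 44) (@D3.rec (fun _ => Nat) 44 0 43 43 2 2 2 3 44 0 1 2 3 2 2 2 0 2 0 3 43) (@D3.rec (fun _ => Nat) 7 45 0 1 43 41 52 1 49 48 1 53 0 0 1 2 3 2 0 0 1) (@D3.rec (fun _ => Nat) 2 3 2 0 0 1 2 3 2 2 2 2 3 3 3 3 7 19 7 7 0)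
def lv_e_1 : D2 → D3 → Nat := @D2.rec (fun _ => D3 → Nat) (@D3.rec (fun _ => Nat) 2 0 3 35 33 35 31 12 0 0 0 0 1 2 0 0 1 2 0 0 1) (@D3.rec (fun _ => Nat) 2 35 0 1 29 44 11 0 1 0 1 2 3 2 0 34 34 39 3 0 1) (@D3.rec (fun _ => Nat) 2 4 37 43 46 42 44 40 48 1 44 43 0 44 44 1 2 3 0 2 0) (@D3.rec (fun _ => Nat) 3 41 44 0 0 1 2 3 2 2 2 0 2 0 3 3 3 3 0 0 0) (@D3.rec (fun _ => Nat) 1 0 1 45 8 47 1 2 3 2 47 54 48 0 1 2 2 0 1 2 2) (@D3.rec (fun _ => Nat) 2 2 2 2 0 3 3 3 3 0 1 2 0 0 1 2 2 2 2 2 2) (@D3.rec (fun _ => Nat) 3 3 3 3 19 0 1 2 2 1 2 3 2 2 2 0 2 47 3 3 3) (@D3.rec (fun _ => Nat) 3 12 20 0 0 20 0 4 4 2 3 0 49 0 0 0 1 2 0 0 1) (@D3.rec (fun _ => Nat) 2 0 40 9 34 0 31 0 0 1 2 2 0 1 3 0 1 5 0 0 1) (@D3.rec (fun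 _ => Nat) 2 2 0 5 0 1 2 0 0 1 2 2 0 3 0 1 2 0 0 1 2) (@D3.rec (fun _ => Nat) 2 10 36 0 43 1 2 38 2 45 0 44 0 44 1 2 43 47 48 1 2) (@D3.rec (fun _ => Nat) 46 2 2 2 2 0 3 46 51 3 0 1 2 0 39 14 13 1 45 47 47) (@D3.rec (fun _ => Nat) 48 44 45 47 44 46 1 2 3 0 0 2 2 0 2 0 3 0 1 0 1) (@D3.rec (fun _ => Nat) 49 1 2 2 46 1 2 2 6 2 2 0 2 48 3 3 3 3 0 0 0)
def lv_e_2 : D2 → D3 → Nat := @D2.rec (fun _ => D3 → Nat) (@D3.rec (fun _ => Nat) 1 12 0 0 1 15 0 46 49 4 4 15 2 12 3 0 1 0 1 0 0) (@D3.rec (fun _ => Nat) 1 0 53 1 0 2 2 2 2 0 3 48 3 3 49 0 1 44 2 2 45) (@D3.rec (fun _ => Nat) 21 1 47 8 2 2 0 48 46 3 3 3 13 0 0 49 1 5 0 20 47) (@D3.rec (fun _ => Nat) 4 4 2 3 45 0 1 2 2 3 20 0 1 49 1 57 2 2 2 0 45) (@D3.rec (fun _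 => Nat) 3 3 3 14 21 0 0 17 0 44 4 2 3 45 21 19 43 1 2 3 2) (@D3.rec (fun _ => Nat) 2 2 0 49 48 2 2 2 0 2 47 3 3 0 0 1 2 0 47 45 14) (@D3.rec (fun _ => Nat) 44 4 4 14 19 14 14 22 22 1 2 0 1 2 20 20 1 0 13 0 0) (@D3.rec (fun _ => Nat) 0 1 51 2 49 50 0 1 12 0 1 14 0 0 1 2 2 0 15 0 1) (@D3.rec (fun _ => Nat) 2 45 1 2 0 13 0 1 2 14 0 11 0 45 1 2 39 0 1 48 47) (@D3.rec (fun _ => Nat) 1 46 50 2 2 44 16 0 1 39 15 0 1 4 18 0 1 2 0 1 2) (@D3.rec (fun _ => Nat) 3 2 2 41 0 40 1 5 0 46 0 1 2 2 3 19 0 1 1 2 43) (@D3.rec (fun _ => Nat) 2 2 6 0 40 1 44 16 0 1 2 13 0 1 0 1 2 2 2 2 50) (@D3.rec (fun _ => Nat) 10 0 0 1 2 3 0 2 2 39 41 3 0 0 1 2 1 45 0 2 7) (@D3.rec (fun _ => Nat) 2 48 53 3 5 0 0 1 0 49 49 1 2 41 1 0 46 50 52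 0 47)
def lv_e_3 : D2 → D3 → Nat := @D2.rec (fun _ => D3 → Nat) (@D3.rec (fun _ => Nat) 47 2 2 46 2 48 3 0 1 0 1 0 0 0 1 47 0 0 1 49 0) (@D3.rec (fun _ => Nat) 0 0 1 0 54 1 2 2 45 47 47 9 2 2 50 54 9 0 0 1 49) (@D3.rec (fun _ => Nat) 4 4 13 16 0 1 15 52 1 14 0 0 1 16 16 0 1 50 49 1 13) (@D3.rec (fun _ => Nat) 13 55 1 47 47 0 52 13 14 16 15 51 0 1 48 0 1 50 0 1 0) (@D3.rec (fun _ => Nat) 1 56 3 2 46 56 1 53 56 0 1 2 2 3 3 52 0 0 1 4 48) (@D3.rec (fun _ => Nat) 48 2 3 3 50 1 59 2 45 13 17 54 49 7 49 7 0 1 0 48 46) (@D3.rec (fun _ => Nat) 4 4 13 18 13 13 1 2 1 16 49 0 0 1 2 47 0 47 59 0 0) (@D3.rec (fun _ => Nat) 1 2 2 18 0 0 0 1 52 2 0 2 52 3 3 50 50 0 1 51 20) (@D3.rec (fun _ => Nat) 4 17 20 14 14 21 21 1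 55 50 1 23 0 1 2 46 56 46 46 0 47) (@D3.rec (fun _ => Nat) 44 44 2 2 2 0 2 49 3 53 0 1 54 49 3 0 58 1 3 53 50) (@D3.rec (fun _ => Nat) 1 0 1 2 5 1 51 0 45 45 0 48 4 53 22 3 2 13 0 57 1) (@D3.rec (fun _ => Nat) 2 2 24 1 59 1 2 1 2 22 1 49 2 48 50 7 0 1 40 41 1) (@D3.rec (fun _ => Nat) 9 0 1 2 1 2 2 2 2 40 0 42 1 40 0 50 1 2 42 0 39) (@D3.rec (fun _ => Nat) 1 42 15 0 1 2 55 0 1 2 2 51 0 1 2 3 2 0 1 50 7)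
def lv_e_4 : D2 → D3 → Nat := @D2.rec (fun _ => D3 → Nat) (@D3.rec (fun _ => Nat) 48 51 5 39 0 0 19 0 1 2 3 40 59 0 1 2 44 48 17 49 1) (@D3.rec (fun _ => Nat) 2 2 2 46 1 46 2 2 2 2 3 3 3 3 38 1 42 46 48 1 1) (@D3.rec (fun _ => Nat) 2 17 0 1 52 2 2 2 53 3 3 43 0 1 40 18 18 0 1 2 2) (@D3.rec (fun _ => Nat) 60 1 56 2 0 0 1 2 2 2 2 2 52 3 55 3 55 0 1 2 3) (@D3.rec (fun _ => Nat) 40 42 1 41 37 2 2 2 3 1 47 3 5 44 0 1 0 0 1 2 47) (@D3.rec (fun _ => Nat) 1 53 50 54 57 40 6 6 0 1 2 54 1 41 47 1 2 50 41 0 1) (@D3.rec (fun _ => Nat) 53 58 1 59 0 45 45 48 48 50 44 1 44 57 1 0 1 47 54 1 49) (@D3.rec (fun _ => Nat) 0 0 1 47 47 1 51 53 1 49 47 53 1 46 0 1 1 58 2 56 46) (@D3.rec (fun _ => Nat) 57 1 52 50 46 50 52 49 50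 51 55 0 1 0 1 0 17 14 0 0 1) (@D3.rec (fun _ => Nat) 50 51 1 51 1 50 2 14 0 1 51 56 51 17 0 1 49 55 0 1 52) (@D3.rec (fun _ => Nat) 50 54 0 1 53 54 49 46 1 2 56 1 47 2 2 2 3 53 55 53 51) (@D3.rec (fun _ => Nat) 53 54 53 57 1 53 2 2 55 47 52 0 1 1 50 54 2 47 53 15 15) (@D3.rec (fun _ => Nat) 51 57 49 1 1 53 49 2 51 51 51 1 3 0 57 1 2 2 5 1 58) (@D3.rec (fun _ => Nat) 1 0 1 2 57 3 48 18 1 59 19 1 55 0 1 57 2 55 3 3 52)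
def lv_e_5 : D2 → D3 → Nat := @D2.rec (fun _ => D3 → Nat) (@D3.rec (fun _ => Nat) 53 1 3 3 57 56 51 50 0 1 53 22 52 19 52 16 23 56 48 24 0) (@D3.rec (fun _ => Nat) 1 2 2 46 54 54 55 1 52 49 52 0 1 51 0 54 1 52 52 0 60) (@D3.rec (fun _ => Nat) 0 1 55 57 1 54 58 1 50 0 1 54 54 55 50 1 2 2 61 24 58) (@D3.rec (fun _ => Nat) 2 2 48 23 49 51 0 8 1 2 3 39 0 10 1 2 2 2 2 2 2) (@D3.rec (fun _ => Nat) 47 3 54 3 39 1 1 14 43 1 41 46 15 1 2 52 0 1 2 2 2) (@D3.rec (fun _ => Nat) 2 50 39 1 40 36 2 2 2 3 5 56 1 58 51 54 6 52 41 40 0) (@D3.rec (fun _ => Nat) 1 41 0 1 2 39 0 1 2 2 2 2 39 3 57 56 0 1 2 41 2) (@D3.rec (fun _ => Nat) 53 48 47 2 2 3 3 39 43 45 3 3 3 49 4 47 4 2 3 37 50) (@D3.rec (fun _ => Nat) 51 42 17 17 44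 1 2 3 3 3 4 40 43 52 0 1 57 42 42 46 58) (@D3.rec (fun _ => Nat) 56 1 56 2 2 39 2 50 58 1 53 1 44 53 47 2 2 0 56 3 3) (@D3.rec (fun _ => Nat) 51 51 4 42 1 2 52 2 2 2 3 39 20 51 38 41 36 11 50 6 6) (@D3.rec (fun _ => Nat) 46 1 54 1 1 57 54 39 51 50 40 39 7 7 57 1 2 2 54 57 57) (@D3.rec (fun _ => Nat) 2 50 50 53 1 53 64 0 1 54 45 52 51 0 1 47 53 1 1 51 55) (@D3.rec (fun _ => Nat) 51 50 1 52 2 56 2 56 58 52 54 52 48 52 49 56 0 1 53 1 1)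
def lv_e_6 : D2 → D3 → Nat := @D2.rec (fun _ => D3 → Nat) (@D3.rec (fun _ => Nat) 51 50 0 1 1 50 58 54 51 56 2 1 53 0 1 57 55 1 52 55 0) (@D3.rec (fun _ => Nat) 1 53 50 50 2 50 56 58 57 56 58 58 52 59 51 51 56 47 57 54 0) (@D3.rec (fun _ => Nat) 50 1 50 54 50 56 15 53 51 51 51 51 1 2 2 56 58 1 3 20 54) (@D3.rec (fun _ => Nat) 1 59 3 3 52 53 52 52 53 54 1 53 53 59 55 54 48 58 1 54 2) (@D3.rec (fun _ => Nat) 57 58 54 52 54 58 1 1 55 54 52 1 53 55 1 56 57 1 2 61 52) (@D3.rec (fun _ => Nat) 55 50 54 1 2 53 57 2 2 2 40 3 1 49 2 2 54 54 55 3 3) (@D3.rec (fun _ => Nat) 52 45 52 57 2 3 38 16 22 41 48 56 2 40 1 59 47 2 2 55 42) (@D3.rec (fun _ => Nat) 41 55 35 10 6 7 53 57 40 1 51 1 53 2 50 54 1 56 2 54 55) (@D3.rec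 (fun _ => Nat) 41 54 21 1 2 2 54 52 3 3 51 50 38 4 4 45 54 43 53 52 43) (@D3.rec (fun _ => Nat) 49 3 4 4 19 53 43 54 1 59 43 56 48 61 56 47 53 2 3 54 1) (@D3.rec (fun _ => Nat) 4 58 40 54 54 2 52 62 20 36 50 11 7 7 62 57 41 54 2 56 57) (@D3.rec (fun _ => Nat) 58 54 56 1 53 1 55 2 59 53 57 52 50 51 57 1 1 52 57 61 1) (@D3.rec (fun _ => Nat) 55 56 1 53 59 53 1 52 53 2 63 57 55 53 58 60 58 53 50 58 61) (@D3.rec (fun _ => Nat) 51 2 2 37 3 57 57 58 37 12 7 54 55 54 52 2 4 21 56 50 54)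
def lv_e : Pt → Nat := @Pt.rec (fun _ => Nat) (@D1.rec (fun _ => D2 → D3 → Nat) lv_e_0 lv_e_1 lv_e_2 lv_e_3 lv_e_4 lv_e_5 lv_e_6)
abbrev lc_e_Cert_tree : Cert rels S Gen.e := Cert.tree
abbrev lc_e_rc_10_1 : Cert rels S Gen.e := rc_10_1
abbrev lc_e_rc_10_3 : Cert rels S Gen.e := rc_10_3
abbrev lc_e_rc_15_1 : Cert rels S Gen.e := rc_15_1
abbrev lc_e_rc_15_3 : Cert rels S Gen.e := rc_15_3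
abbrev lc_e_rc_19_1 : Cert rels S Gen.e := rc_19_1
abbrev lc_e_rc_19_3 : Cert rels S Gen.e := rc_19_3
abbrev lc_e_rc_19_5 : Cert rels S Gen.e := rc_19_5
abbrev lc_e_rc_22_0 : Cert rels S Gen.e := rc_22_0
abbrev lc_e_rc_22_1 : Cert rels S Gen.e := rc_22_1
abbrev lc_e_rc_23_0 : Cert rels S Gen.e := rc_23_0
abbrev lc_e_rc_23_2 : Cert rels S Gen.e := rc_23_2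
abbrev lc_e_rc_24_0 : Cert rels S Gen.e := rc_24_0
abbrev lc_e_rc_24_2 : Cert rels S Gen.e := rc_24_2
abbrev lc_e_rc_28_0 : Cert rels S Gen.e := rc_28_0
abbrev lc_e_rc_29_0 : Cert rels S Gen.e := rc_29_0
abbrev lc_e_rc_4_1 : Cert rels S Gen.e := rc_4_1
abbrev lc_e_rc_4_3 : Cert rels S Gen.e := rc_4_3
abbrev lc_e_sc_3_0 : Cert rels S Gen.e := sc_3_0
def ce_e_0 : D2 → D3 → (Cert rels S Gen.e) := @D2.rec (fun _ => D3 → (Cert rels S Gen.e)) (@D3.rec (fun _ => (Cert rels S Gen.e)) lc_e_sc_3_0 lc_e_rc_10_1 lc_e_rc_28_0 lc_e_rc_15_1 lc_e_rc_28_0 lc_e_Cert_tree lc_e_Cert_tree lc_e_rc_28_0 lc_e_Cert_tree lc_e_Cert_tree lc_e_rc_22_0 lc_e_rc_23_2 lc_e_Cert_tree lc_e_rc_22_0 lc_e_rc_23_2 lc_e_Cert_tree lc_e_rc_22_0 lc_e_rc_23_2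 lc_e_rc_29_0 lc_e_Cert_tree lc_e_rc_22_0) (@D3.rec (fun _ => (Cert rels S Gen.e)) lc_e_rc_23_2 lc_e_rc_23_2 lc_e_rc_29_0 lc_e_Cert_tree lc_e_rc_22_0 lc_e_rc_23_2 lc_e_rc_23_2 lc_e_rc_29_0 lc_e_Cert_tree lc_e_rc_22_0 lc_e_rc_23_2 lc_e_rc_23_2 lc_e_rc_10_1 lc_e_Cert_tree lc_e_rc_29_0 lc_e_Cert_tree lc_e_rc_22_0 lc_e_rc_19_3 lc_e_rc_23_2 lc_e_rc_19_3 lc_e_rc_10_1) (@D3.rec (fun _ => (Cert rels S Gen.e)) lc_e_Cert_tree lc_e_rc_29_0 lc_e_rc_22_0 lc_e_rc_23_2 lc_e_rc_23_0 lc_e_rc_19_3 lc_e_rc_23_2 lc_e_Cert_tree lc_e_rc_19_3 lc_e_rc_10_1 lc_e_Cert_tree lc_e_rc_29_0 lc_e_rc_22_0 lc_e_rc_23_2 lc_e_rc_23_0 lc_e_rc_19_3 lc_e_rc_23_2 lc_e_Cert_tree lc_e_rc_19_3 lc_e_Cert_tree lc_e_rc_10_1) (@D3.rec (fun _ => (Cert rels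 S Gen.e)) lc_e_Cert_tree lc_e_rc_22_0 lc_e_rc_24_2 lc_e_rc_22_0 lc_e_rc_28_0 lc_e_rc_19_3 lc_e_rc_28_0 lc_e_Cert_tree lc_e_rc_10_1 lc_e_rc_10_3 lc_e_rc_22_0 lc_e_rc_23_2 lc_e_rc_23_0 lc_e_Cert_tree lc_e_rc_19_3 lc_e_rc_23_2 lc_e_rc_24_2 lc_e_Cert_tree lc_e_rc_28_0 lc_e_rc_28_0 lc_e_rc_23_2) (@D3.rec (fun _ => (Cert rels S Gen.e)) lc_e_rc_24_2 lc_e_rc_10_3 lc_e_Cert_tree lc_e_rc_22_0 lc_e_rc_10_3 lc_e_rc_15_1 lc_e_Cert_tree lc_e_rc_10_1 lc_e_Cert_tree lc_e_rc_22_0 lc_e_rc_23_2 lc_e_rc_23_0 lc_e_Cert_tree lc_e_rc_19_3 lc_e_rc_23_2 lc_e_rc_24_2 lc_e_rc_28_0 lc_e_rc_28_0 lc_e_rc_23_2 lc_e_rc_24_2 lc_e_rc_24_2) (@D3.rec (fun _ => (Cert rels S Gen.e)) lc_e_rc_22_0 lc_e_rc_24_2 lc_e_rc_15_1 lc_e_Cert_tree lc_e_rc_22_0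 lc_e_rc_28_0 lc_e_Cert_tree lc_e_Cert_tree lc_e_rc_22_0 lc_e_rc_24_2 lc_e_rc_28_0 lc_e_rc_19_3 lc_e_rc_19_1 lc_e_rc_15_3 lc_e_rc_22_0 lc_e_rc_23_2 lc_e_rc_23_0 lc_e_rc_28_0 lc_e_rc_4_1 lc_e_rc_23_2 lc_e_rc_24_2) (@D3.rec (fun _ => (Cert rels S Gen.e)) lc_e_rc_23_2 lc_e_rc_24_2 lc_e_Cert_tree lc_e_rc_28_0 lc_e_rc_28_0 lc_e_Cert_tree lc_e_rc_22_0 lc_e_rc_28_0 lc_e_rc_23_2 lc_e_rc_24_2 lc_e_Cert_tree lc_e_rc_10_3 lc_e_rc_22_0 lc_e_rc_28_0 lc_e_rc_19_3 lc_e_Cert_tree lc_e_rc_19_1 lc_e_rc_10_3 lc_e_Cert_tree lc_e_rc_22_0 lc_e_rc_10_3) (@D3.rec (fun _ => (Cert rels S Gen.e)) lc_e_rc_22_0 lc_e_rc_29_0 lc_e_Cert_tree lc_e_rc_4_3 lc_e_rc_22_0 lc_e_rc_23_2 lc_e_rc_23_0 lc_e_rc_24_2 lc_e_Cert_tree lc_e_rc_22_0 lc_e_rc_23_2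 lc_e_rc_23_0 lc_e_rc_23_2 lc_e_rc_24_2 lc_e_rc_28_0 lc_e_rc_28_0 lc_e_Cert_tree lc_e_rc_22_0 lc_e_rc_24_2 lc_e_rc_23_2 lc_e_rc_24_2) (@D3.rec (fun _ => (Cert rels S Gen.e)) lc_e_rc_19_3 lc_e_rc_19_3 lc_e_rc_24_2 lc_e_Cert_tree lc_e_rc_24_2 lc_e_Cert_tree lc_e_rc_4_1 lc_e_Cert_tree lc_e_rc_22_0 lc_e_rc_10_1 lc_e_Cert_tree lc_e_rc_22_0 lc_e_Cert_tree lc_e_rc_22_0 lc_e_rc_23_2 lc_e_rc_23_0 lc_e_rc_19_3 lc_e_rc_19_3 lc_e_rc_19_3 lc_e_rc_15_1 lc_e_rc_15_3) (@D3.rec (fun _ => (Cert rels S Gen.e)) lc_e_rc_15_3 lc_e_rc_23_2 lc_e_rc_24_2 lc_e_rc_24_2 lc_e_rc_28_0 lc_e_rc_28_0 lc_e_rc_4_3 lc_e_rc_23_2 lc_e_rc_24_2 lc_e_Cert_tree lc_e_rc_28_0 lc_e_Cert_tree lc_e_rc_22_0 lc_e_Cert_tree lc_e_rc_28_0 lc_e_Cert_tree lc_e_rc_22_0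 lc_e_rc_10_3 lc_e_Cert_tree lc_e_Cert_tree lc_e_rc_22_0) (@D3.rec (fun _ => (Cert rels S Gen.e)) lc_e_rc_4_1 lc_e_rc_24_0 lc_e_rc_23_2 lc_e_rc_10_3 lc_e_Cert_tree lc_e_rc_22_0 lc_e_rc_24_2 lc_e_rc_15_1 lc_e_rc_29_0 lc_e_rc_22_0 lc_e_rc_24_2 lc_e_rc_4_1 lc_e_rc_19_3 lc_e_rc_4_3 lc_e_rc_22_0 lc_e_rc_19_3 lc_e_rc_23_0 lc_e_Cert_tree lc_e_rc_24_2 lc_e_rc_22_0 lc_e_rc_29_0) (@D3.rec (fun _ => (Cert rels S Gen.e)) lc_e_rc_4_1 lc_e_Cert_tree lc_e_rc_4_3 lc_e_rc_4_3 lc_e_rc_23_2 lc_e_rc_24_2 lc_e_rc_28_0 lc_e_rc_28_0 lc_e_rc_24_2 lc_e_Cert_tree lc_e_rc_22_0 lc_e_rc_23_2 lc_e_rc_23_0 lc_e_rc_19_3 lc_e_rc_23_2 lc_e_rc_24_2 lc_e_Cert_tree lc_e_rc_28_0 lc_e_Cert_tree lc_e_rc_28_0 lc_e_rc_19_3) (@D3.rec (fun _ => (Cert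 rels S Gen.e)) lc_e_rc_19_3 lc_e_rc_19_3 lc_e_Cert_tree lc_e_rc_22_0 lc_e_rc_24_2 lc_e_rc_19_3 lc_e_rc_24_2 lc_e_rc_22_0 lc_e_rc_24_2 lc_e_rc_24_2 lc_e_rc_22_0 lc_e_rc_24_2 lc_e_Cert_tree lc_e_Cert_tree lc_e_rc_22_0 lc_e_rc_23_2 lc_e_rc_23_0 lc_e_rc_19_3 lc_e_Cert_tree lc_e_Cert_tree lc_e_rc_22_0) (@D3.rec (fun _ => (Cert rels S Gen.e)) lc_e_rc_23_2 lc_e_rc_23_0 lc_e_rc_19_3 lc_e_Cert_tree lc_e_Cert_tree lc_e_rc_22_0 lc_e_rc_23_2 lc_e_rc_23_0 lc_e_rc_19_3 lc_e_rc_23_2 lc_e_rc_24_2 lc_e_rc_28_0 lc_e_rc_28_0 lc_e_rc_15_1 lc_e_rc_23_2 lc_e_rc_24_2 lc_e_rc_15_1 lc_e_rc_4_1 lc_e_rc_15_1 lc_e_rc_15_1 lc_e_Cert_tree)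
def ce_e_1 : D2 → D3 → (Cert rels S Gen.e) := @D2.rec (fun _ => D3 → (Cert rels S Gen.e)) (@D3.rec (fun _ => (Cert rels S Gen.e)) lc_e_rc_28_0 lc_e_Cert_tree lc_e_rc_22_0 lc_e_rc_19_3 lc_e_rc_28_0 lc_e_rc_15_1 lc_e_rc_10_1 lc_e_rc_4_1 lc_e_Cert_tree lc_e_Cert_tree lc_e_Cert_tree lc_e_Cert_tree lc_e_rc_22_0 lc_e_rc_24_2 lc_e_Cert_tree lc_e_Cert_tree lc_e_rc_22_0 lc_e_rc_23_2 lc_e_Cert_tree lc_e_Cert_tree lc_e_rc_22_0) (@D3.rec (fun _ => (Cert rels S Gen.e)) lc_e_rc_24_2 lc_e_rc_15_1 lc_e_Cert_tree lc_e_rc_22_0 lc_e_rc_29_0 lc_e_rc_24_2 lc_e_rc_4_3 lc_e_Cert_tree lc_e_rc_22_0 lc_e_Cert_tree lc_e_rc_22_0 lc_e_rc_23_2 lc_e_rc_23_0 lc_e_rc_19_3 lc_e_Cert_tree lc_e_rc_15_1 lc_e_rc_19_1 lc_e_rc_10_3 lc_e_rc_28_0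 lc_e_Cert_tree lc_e_rc_22_0) (@D3.rec (fun _ => (Cert rels S Gen.e)) lc_e_rc_24_2 lc_e_rc_22_0 lc_e_rc_10_1 lc_e_rc_29_0 lc_e_rc_19_1 lc_e_rc_19_3 lc_e_rc_19_3 lc_e_rc_10_3 lc_e_rc_10_3 lc_e_rc_22_0 lc_e_rc_29_0 lc_e_rc_24_2 lc_e_Cert_tree lc_e_rc_4_1 lc_e_rc_4_1 lc_e_rc_22_0 lc_e_rc_23_2 lc_e_rc_23_0 lc_e_Cert_tree lc_e_rc_28_0 lc_e_Cert_tree) (@D3.rec (fun _ => (Cert rels S Gen.e)) lc_e_rc_22_0 lc_e_rc_19_3 lc_e_rc_19_1 lc_e_Cert_tree lc_e_Cert_tree lc_e_rc_22_0 lc_e_rc_23_2 lc_e_rc_23_0 lc_e_rc_19_3 lc_e_rc_23_2 lc_e_rc_24_2 lc_e_Cert_tree lc_e_rc_28_0 lc_e_Cert_tree lc_e_rc_28_0 lc_e_rc_15_1 lc_e_rc_23_2 lc_e_rc_24_2 lc_e_Cert_tree lc_e_Cert_tree lc_e_Cert_tree) (@D3.rec (fun _ => (Cert rels S Gen.e))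 lc_e_rc_22_0 lc_e_Cert_tree lc_e_rc_22_0 lc_e_rc_15_1 lc_e_rc_15_1 lc_e_rc_24_2 lc_e_rc_22_0 lc_e_rc_23_2 lc_e_rc_23_0 lc_e_rc_19_3 lc_e_rc_4_3 lc_e_rc_15_3 lc_e_rc_24_2 lc_e_Cert_tree lc_e_rc_22_0 lc_e_rc_23_2 lc_e_rc_24_2 lc_e_Cert_tree lc_e_rc_22_0 lc_e_rc_23_2 lc_e_rc_24_2) (@D3.rec (fun _ => (Cert rels S Gen.e)) lc_e_rc_19_3 lc_e_rc_23_2 lc_e_rc_24_2 lc_e_rc_28_0 lc_e_Cert_tree lc_e_rc_28_0 lc_e_rc_15_1 lc_e_rc_23_2 lc_e_rc_24_2 lc_e_Cert_tree lc_e_rc_22_0 lc_e_rc_23_2 lc_e_Cert_tree lc_e_Cert_tree lc_e_rc_22_0 lc_e_rc_23_2 lc_e_rc_24_2 lc_e_rc_19_3 lc_e_rc_23_2 lc_e_rc_24_2 lc_e_rc_28_0) (@D3.rec (fun _ => (Cert rels S Gen.e)) lc_e_rc_28_0 lc_e_rc_15_1 lc_e_rc_23_2 lc_e_rc_24_2 lc_e_rc_4_3 lc_e_Cert_tree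 lc_e_rc_22_0 lc_e_rc_23_2 lc_e_rc_24_2 lc_e_rc_22_0 lc_e_rc_23_2 lc_e_rc_23_0 lc_e_rc_19_3 lc_e_rc_23_2 lc_e_rc_24_2 lc_e_Cert_tree lc_e_rc_28_0 lc_e_rc_23_0 lc_e_rc_28_0 lc_e_rc_15_1 lc_e_rc_23_2) (@D3.rec (fun _ => (Cert rels S Gen.e)) lc_e_rc_24_2 lc_e_rc_19_3 lc_e_rc_4_3 lc_e_Cert_tree lc_e_Cert_tree lc_e_rc_4_1 lc_e_Cert_tree lc_e_rc_15_1 lc_e_rc_15_1 lc_e_rc_28_0 lc_e_rc_22_0 lc_e_Cert_tree lc_e_rc_24_0 lc_e_Cert_tree lc_e_Cert_tree lc_e_Cert_tree lc_e_rc_22_0 lc_e_rc_24_2 lc_e_Cert_tree lc_e_Cert_tree lc_e_rc_22_0) (@D3.rec (fun _ => (Cert rels S Gen.e)) lc_e_rc_23_2 lc_e_Cert_tree lc_e_rc_29_0 lc_e_rc_28_0 lc_e_rc_15_1 lc_e_Cert_tree lc_e_rc_15_1 lc_e_Cert_tree lc_e_Cert_tree lc_e_rc_22_0 lc_e_rc_23_2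 lc_e_rc_24_2 lc_e_Cert_tree lc_e_rc_22_0 lc_e_rc_28_0 lc_e_Cert_tree lc_e_rc_22_0 lc_e_rc_28_0 lc_e_Cert_tree lc_e_Cert_tree lc_e_rc_22_0) (@D3.rec (fun _ => (Cert rels S Gen.e)) lc_e_rc_24_2 lc_e_rc_24_2 lc_e_Cert_tree lc_e_rc_28_0 lc_e_Cert_tree lc_e_rc_22_0 lc_e_rc_23_2 lc_e_Cert_tree lc_e_Cert_tree lc_e_rc_22_0 lc_e_rc_23_2 lc_e_rc_23_2 lc_e_Cert_tree lc_e_rc_28_0 lc_e_Cert_tree lc_e_rc_22_0 lc_e_rc_24_2 lc_e_Cert_tree lc_e_Cert_tree lc_e_rc_22_0 lc_e_rc_24_2) (@D3.rec (fun _ => (Cert rels S Gen.e)) lc_e_rc_24_2 lc_e_rc_22_0 lc_e_rc_10_1 lc_e_Cert_tree lc_e_rc_15_3 lc_e_rc_22_0 lc_e_rc_23_2 lc_e_rc_28_0 lc_e_rc_19_3 lc_e_rc_29_0 lc_e_Cert_tree lc_e_rc_24_2 lc_e_Cert_tree lc_e_rc_23_2 lc_e_rc_22_0 lc_e_rc_23_2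 lc_e_rc_28_0 lc_e_rc_15_1 lc_e_rc_19_5 lc_e_rc_22_0 lc_e_rc_23_2) (@D3.rec (fun _ => (Cert rels S Gen.e)) lc_e_rc_23_2 lc_e_rc_19_3 lc_e_rc_23_2 lc_e_rc_24_2 lc_e_rc_28_0 lc_e_Cert_tree lc_e_rc_28_0 lc_e_rc_10_1 lc_e_rc_23_2 lc_e_rc_24_2 lc_e_Cert_tree lc_e_rc_22_0 lc_e_rc_23_2 lc_e_Cert_tree lc_e_rc_29_0 lc_e_rc_4_1 lc_e_rc_4_3 lc_e_rc_22_0 lc_e_rc_19_1 lc_e_rc_15_1 lc_e_rc_23_2) (@D3.rec (fun _ => (Cert rels S Gen.e)) lc_e_rc_10_3 lc_e_rc_15_1 lc_e_rc_24_2 lc_e_rc_10_1 lc_e_rc_29_0 lc_e_rc_10_3 lc_e_rc_22_0 lc_e_rc_23_2 lc_e_rc_23_0 lc_e_Cert_tree lc_e_Cert_tree lc_e_rc_23_2 lc_e_rc_24_2 lc_e_Cert_tree lc_e_rc_28_0 lc_e_Cert_tree lc_e_rc_28_0 lc_e_Cert_tree lc_e_rc_22_0 lc_e_Cert_tree lc_e_rc_22_0) (@D3.rec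 (fun _ => (Cert rels S Gen.e)) lc_e_rc_10_3 lc_e_rc_22_0 lc_e_rc_23_2 lc_e_rc_24_2 lc_e_rc_4_3 lc_e_rc_22_0 lc_e_rc_23_2 lc_e_rc_24_2 lc_e_rc_19_3 lc_e_rc_23_2 lc_e_rc_24_2 lc_e_Cert_tree lc_e_rc_28_0 lc_e_rc_24_2 lc_e_rc_28_0 lc_e_rc_15_1 lc_e_rc_23_2 lc_e_rc_24_2 lc_e_Cert_tree lc_e_Cert_tree lc_e_Cert_tree)
def ce_e_2 : D2 → D3 → (Cert rels S Gen.e) := @D2.rec (fun _ => D3 → (Cert rels S Gen.e)) (@D3.rec (fun _ => (Cert rels S Gen.e)) lc_e_rc_22_0 lc_e_rc_28_0 lc_e_Cert_tree lc_e_Cert_tree lc_e_rc_22_0 lc_e_rc_28_0 lc_e_Cert_tree lc_e_rc_4_1 lc_e_rc_4_1 lc_e_rc_15_1 lc_e_rc_15_1 lc_e_rc_28_0 lc_e_rc_28_0 lc_e_rc_28_0 lc_e_rc_22_0 lc_e_Cert_tree lc_e_rc_22_0 lc_e_Cert_tree lc_e_rc_22_0 lc_e_Cert_tree lc_e_Cert_tree)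 (@D3.rec (fun _ => (Cert rels S Gen.e)) lc_e_rc_22_0 lc_e_Cert_tree lc_e_rc_19_5 lc_e_rc_22_0 lc_e_Cert_tree lc_e_rc_19_3 lc_e_rc_23_2 lc_e_rc_24_2 lc_e_rc_28_0 lc_e_Cert_tree lc_e_rc_28_0 lc_e_rc_4_1 lc_e_rc_23_2 lc_e_rc_24_2 lc_e_rc_23_2 lc_e_Cert_tree lc_e_rc_22_0 lc_e_rc_22_0 lc_e_rc_23_2 lc_e_rc_24_2 lc_e_rc_23_0) (@D3.rec (fun _ => (Cert rels S Gen.e)) lc_e_rc_4_3 lc_e_rc_22_0 lc_e_rc_23_2 lc_e_rc_19_3 lc_e_rc_23_2 lc_e_rc_24_2 lc_e_Cert_tree lc_e_rc_19_5 lc_e_rc_23_0 lc_e_rc_15_1 lc_e_rc_23_2 lc_e_rc_24_2 lc_e_rc_19_3 lc_e_Cert_tree lc_e_Cert_tree lc_e_rc_10_1 lc_e_rc_22_0 lc_e_rc_28_0 lc_e_Cert_tree lc_e_rc_4_1 lc_e_rc_4_3) (@D3.rec (fun _ => (Cert rels S Gen.e)) lc_e_rc_15_1 lc_e_rc_15_1 lc_e_rc_28_0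 lc_e_rc_22_0 lc_e_rc_10_3 lc_e_Cert_tree lc_e_rc_22_0 lc_e_rc_23_2 lc_e_rc_23_2 lc_e_rc_28_0 lc_e_rc_29_0 lc_e_Cert_tree lc_e_rc_22_0 lc_e_rc_23_2 lc_e_rc_22_0 lc_e_rc_19_1 lc_e_rc_19_3 lc_e_rc_23_2 lc_e_rc_24_2 lc_e_Cert_tree lc_e_rc_15_1) (@D3.rec (fun _ => (Cert rels S Gen.e)) lc_e_rc_15_1 lc_e_rc_23_2 lc_e_rc_24_2 lc_e_rc_19_3 lc_e_rc_4_1 lc_e_Cert_tree lc_e_Cert_tree lc_e_rc_29_0 lc_e_Cert_tree lc_e_rc_4_1 lc_e_rc_15_1 lc_e_rc_28_0 lc_e_rc_22_0 lc_e_rc_29_0 lc_e_rc_23_2 lc_e_rc_4_3 lc_e_rc_29_0 lc_e_rc_22_0 lc_e_rc_23_2 lc_e_rc_23_0 lc_e_rc_19_3) (@D3.rec (fun _ => (Cert rels S Gen.e)) lc_e_rc_23_2 lc_e_rc_24_2 lc_e_Cert_tree lc_e_rc_23_0 lc_e_rc_10_1 lc_e_rc_19_3 lc_e_rc_23_2 lc_e_rc_24_2 lc_e_Cert_tree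 lc_e_rc_28_0 lc_e_rc_24_2 lc_e_rc_28_0 lc_e_rc_23_2 lc_e_Cert_tree lc_e_Cert_tree lc_e_rc_22_0 lc_e_rc_24_2 lc_e_Cert_tree lc_e_rc_15_1 lc_e_rc_19_3 lc_e_rc_15_1) (@D3.rec (fun _ => (Cert rels S Gen.e)) lc_e_rc_10_1 lc_e_rc_15_1 lc_e_rc_15_1 lc_e_rc_23_2 lc_e_rc_4_3 lc_e_rc_15_1 lc_e_rc_24_2 lc_e_rc_15_1 lc_e_rc_23_2 lc_e_rc_22_0 lc_e_rc_23_2 lc_e_Cert_tree lc_e_rc_22_0 lc_e_rc_24_2 lc_e_rc_23_2 lc_e_rc_4_1 lc_e_rc_22_0 lc_e_Cert_tree lc_e_rc_15_1 lc_e_Cert_tree lc_e_Cert_tree) (@D3.rec (fun _ => (Cert rels S Gen.e)) lc_e_Cert_tree lc_e_rc_22_0 lc_e_rc_24_0 lc_e_rc_24_2 lc_e_rc_24_2 lc_e_rc_15_3 lc_e_Cert_tree lc_e_rc_22_0 lc_e_rc_28_0 lc_e_Cert_tree lc_e_rc_22_0 lc_e_rc_28_0 lc_e_Cert_tree lc_e_Cert_tree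 lc_e_rc_22_0 lc_e_rc_24_2 lc_e_rc_24_2 lc_e_Cert_tree lc_e_rc_28_0 lc_e_Cert_tree lc_e_rc_22_0) (@D3.rec (fun _ => (Cert rels S Gen.e)) lc_e_rc_23_2 lc_e_rc_19_5 lc_e_rc_22_0 lc_e_rc_23_2 lc_e_Cert_tree lc_e_rc_28_0 lc_e_Cert_tree lc_e_rc_22_0 lc_e_rc_24_2 lc_e_rc_4_1 lc_e_Cert_tree lc_e_rc_22_1 lc_e_Cert_tree lc_e_rc_15_3 lc_e_rc_22_0 lc_e_rc_23_2 lc_e_rc_28_0 lc_e_Cert_tree lc_e_rc_22_0 lc_e_rc_10_3 lc_e_rc_15_1) (@D3.rec (fun _ => (Cert rels S Gen.e)) lc_e_rc_22_0 lc_e_rc_4_3 lc_e_rc_24_2 lc_e_rc_23_2 lc_e_rc_24_2 lc_e_rc_10_1 lc_e_rc_4_1 lc_e_Cert_tree lc_e_rc_22_0 lc_e_rc_19_1 lc_e_rc_29_0 lc_e_Cert_tree lc_e_rc_22_0 lc_e_rc_15_1 lc_e_rc_4_3 lc_e_Cert_tree lc_e_rc_22_0 lc_e_rc_24_2 lc_e_Cert_tree lc_e_rc_22_0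 lc_e_rc_23_2) (@D3.rec (fun _ => (Cert rels S Gen.e)) lc_e_rc_23_0 lc_e_rc_19_3 lc_e_rc_24_2 lc_e_rc_19_3 lc_e_Cert_tree lc_e_rc_23_0 lc_e_rc_22_0 lc_e_rc_28_0 lc_e_Cert_tree lc_e_rc_24_2 lc_e_Cert_tree lc_e_rc_22_0 lc_e_rc_23_2 lc_e_rc_23_2 lc_e_rc_28_0 lc_e_rc_29_0 lc_e_Cert_tree lc_e_rc_22_0 lc_e_rc_22_0 lc_e_rc_23_2 lc_e_rc_19_1) (@D3.rec (fun _ => (Cert rels S Gen.e)) lc_e_rc_19_3 lc_e_rc_23_2 lc_e_rc_15_1 lc_e_Cert_tree lc_e_rc_4_1 lc_e_rc_22_0 lc_e_rc_15_1 lc_e_rc_23_2 lc_e_Cert_tree lc_e_rc_22_0 lc_e_rc_24_2 lc_e_rc_4_3 lc_e_Cert_tree lc_e_rc_22_0 lc_e_Cert_tree lc_e_rc_22_0 lc_e_rc_23_2 lc_e_rc_24_2 lc_e_rc_19_3 lc_e_rc_24_2 lc_e_rc_10_1) (@D3.rec (fun _ => (Cert rels S Gen.e)) lc_e_rc_15_1 lc_e_Cert_tree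 lc_e_Cert_tree lc_e_rc_22_0 lc_e_rc_23_2 lc_e_rc_23_0 lc_e_Cert_tree lc_e_rc_19_3 lc_e_rc_23_2 lc_e_rc_4_1 lc_e_rc_4_1 lc_e_rc_24_2 lc_e_Cert_tree lc_e_Cert_tree lc_e_rc_22_0 lc_e_rc_23_2 lc_e_rc_22_0 lc_e_rc_22_0 lc_e_Cert_tree lc_e_rc_23_2 lc_e_rc_19_3) (@D3.rec (fun _ => (Cert rels S Gen.e)) lc_e_rc_23_2 lc_e_rc_23_0 lc_e_rc_29_0 lc_e_rc_24_2 lc_e_rc_19_3 lc_e_Cert_tree lc_e_Cert_tree lc_e_rc_22_0 lc_e_Cert_tree lc_e_rc_10_3 lc_e_rc_10_1 lc_e_rc_22_0 lc_e_rc_23_2 lc_e_rc_23_2 lc_e_rc_22_0 lc_e_Cert_tree lc_e_rc_23_2 lc_e_rc_19_3 lc_e_rc_10_3 lc_e_Cert_tree lc_e_rc_10_3)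
def ce_e_3 : D2 → D3 → (Cert rels S Gen.e) := @D2.rec (fun _ => D3 → (Cert rels S Gen.e)) (@D3.rec (fun _ => (Cert rels S Gen.e)) lc_e_rc_10_3 lc_e_rc_23_2 lc_e_rc_24_2 lc_e_rc_23_2 lc_e_rc_28_0 lc_e_rc_24_2 lc_e_rc_28_0 lc_e_Cert_tree lc_e_rc_22_0 lc_e_Cert_tree lc_e_rc_22_0 lc_e_Cert_tree lc_e_Cert_tree lc_e_Cert_tree lc_e_rc_22_0 lc_e_rc_23_0 lc_e_Cert_tree lc_e_Cert_tree lc_e_rc_22_0 lc_e_rc_24_0 lc_e_Cert_tree) (@D3.rec (fun _ => (Cert rels S Gen.e)) lc_e_Cert_tree lc_e_Cert_tree lc_e_rc_22_0 lc_e_Cert_tree lc_e_rc_22_1 lc_e_rc_22_0 lc_e_rc_23_2 lc_e_rc_24_2 lc_e_rc_24_2 lc_e_rc_23_2 lc_e_rc_24_2 lc_e_rc_19_3 lc_e_rc_23_2 lc_e_rc_24_2 lc_e_rc_24_2 lc_e_rc_10_1 lc_e_rc_23_2 lc_e_Cert_tree lc_e_Cert_tree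 lc_e_rc_22_0 lc_e_rc_19_1) (@D3.rec (fun _ => (Cert rels S Gen.e)) lc_e_rc_15_1 lc_e_rc_15_1 lc_e_rc_19_3 lc_e_rc_19_3 lc_e_Cert_tree lc_e_rc_22_0 lc_e_rc_24_2 lc_e_rc_15_3 lc_e_rc_22_0 lc_e_rc_23_2 lc_e_Cert_tree lc_e_Cert_tree lc_e_rc_22_0 lc_e_rc_15_1 lc_e_rc_19_1 lc_e_Cert_tree lc_e_rc_22_0 lc_e_rc_28_0 lc_e_rc_19_5 lc_e_rc_22_0 lc_e_rc_15_1) (@D3.rec (fun _ => (Cert rels S Gen.e)) lc_e_rc_19_1 lc_e_rc_15_3 lc_e_rc_22_0 lc_e_rc_23_2 lc_e_rc_24_2 lc_e_Cert_tree lc_e_rc_19_1 lc_e_rc_15_1 lc_e_rc_24_2 lc_e_rc_15_1 lc_e_rc_23_2 lc_e_rc_23_0 lc_e_Cert_tree lc_e_rc_22_0 lc_e_rc_4_1 lc_e_Cert_tree lc_e_rc_22_0 lc_e_rc_23_0 lc_e_Cert_tree lc_e_rc_22_0 lc_e_Cert_tree) (@D3.rec (fun _ => (Cert rels S Gen.e)) lc_e_rc_22_0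 lc_e_rc_15_3 lc_e_rc_23_0 lc_e_rc_19_3 lc_e_rc_4_3 lc_e_rc_19_5 lc_e_rc_22_0 lc_e_rc_19_1 lc_e_rc_10_3 lc_e_Cert_tree lc_e_rc_22_0 lc_e_rc_23_2 lc_e_rc_24_2 lc_e_rc_23_2 lc_e_rc_24_2 lc_e_rc_4_3 lc_e_Cert_tree lc_e_Cert_tree lc_e_rc_22_0 lc_e_rc_22_1 lc_e_rc_4_1) (@D3.rec (fun _ => (Cert rels S Gen.e)) lc_e_rc_23_2 lc_e_rc_28_0 lc_e_rc_22_0 lc_e_rc_28_0 lc_e_rc_28_0 lc_e_rc_22_0 lc_e_rc_4_3 lc_e_rc_19_3 lc_e_rc_19_3 lc_e_rc_19_3 lc_e_rc_24_0 lc_e_rc_15_1 lc_e_rc_24_2 lc_e_rc_19_3 lc_e_rc_24_2 lc_e_rc_23_2 lc_e_Cert_tree lc_e_rc_22_0 lc_e_Cert_tree lc_e_rc_15_1 lc_e_rc_19_3) (@D3.rec (fun _ => (Cert rels S Gen.e)) lc_e_rc_15_1 lc_e_rc_15_1 lc_e_rc_23_2 lc_e_rc_24_2 lc_e_rc_15_1 lc_e_rc_24_2 lc_e_rc_22_0 lc_e_rc_23_2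 lc_e_rc_22_0 lc_e_rc_28_0 lc_e_rc_10_3 lc_e_Cert_tree lc_e_Cert_tree lc_e_rc_22_0 lc_e_rc_24_2 lc_e_rc_4_1 lc_e_Cert_tree lc_e_rc_15_1 lc_e_rc_23_0 lc_e_Cert_tree lc_e_Cert_tree) (@D3.rec (fun _ => (Cert rels S Gen.e)) lc_e_rc_22_0 lc_e_rc_19_3 lc_e_rc_23_2 lc_e_rc_23_2 lc_e_Cert_tree lc_e_Cert_tree lc_e_Cert_tree lc_e_rc_22_0 lc_e_rc_19_1 lc_e_rc_19_3 lc_e_Cert_tree lc_e_rc_19_3 lc_e_rc_10_3 lc_e_rc_15_1 lc_e_rc_23_2 lc_e_rc_19_1 lc_e_rc_24_2 lc_e_Cert_tree lc_e_rc_22_0 lc_e_rc_4_3 lc_e_rc_10_3) (@D3.rec (fun _ => (Cert rels S Gen.e)) lc_e_rc_15_1 lc_e_rc_23_2 lc_e_rc_4_1 lc_e_rc_15_1 lc_e_rc_24_2 lc_e_rc_15_1 lc_e_rc_23_2 lc_e_rc_22_0 lc_e_rc_15_1 lc_e_rc_10_3 lc_e_rc_22_0 lc_e_rc_24_2 lc_e_Cert_tree lc_e_rc_22_0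 lc_e_rc_23_2 lc_e_rc_22_0 lc_e_rc_15_1 lc_e_rc_29_0 lc_e_rc_29_0 lc_e_Cert_tree lc_e_rc_19_3) (@D3.rec (fun _ => (Cert rels S Gen.e)) lc_e_rc_29_0 lc_e_rc_29_0 lc_e_rc_19_3 lc_e_rc_23_2 lc_e_rc_24_2 lc_e_Cert_tree lc_e_rc_28_0 lc_e_rc_24_2 lc_e_rc_28_0 lc_e_rc_23_2 lc_e_Cert_tree lc_e_rc_22_0 lc_e_rc_23_2 lc_e_rc_15_1 lc_e_rc_23_2 lc_e_Cert_tree lc_e_rc_10_3 lc_e_rc_22_0 lc_e_rc_28_0 lc_e_rc_28_0 lc_e_rc_24_2) (@D3.rec (fun _ => (Cert rels S Gen.e)) lc_e_rc_22_0 lc_e_Cert_tree lc_e_rc_22_0 lc_e_rc_24_2 lc_e_rc_28_0 lc_e_rc_22_0 lc_e_rc_23_2 lc_e_Cert_tree lc_e_rc_10_1 lc_e_rc_10_1 lc_e_Cert_tree lc_e_rc_28_0 lc_e_rc_22_1 lc_e_rc_24_2 lc_e_rc_10_1 lc_e_rc_28_0 lc_e_rc_23_2 lc_e_rc_28_0 lc_e_Cert_tree lc_e_rc_10_3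 lc_e_rc_22_0) (@D3.rec (fun _ => (Cert rels S Gen.e)) lc_e_rc_24_2 lc_e_rc_24_2 lc_e_rc_24_2 lc_e_rc_22_0 lc_e_rc_23_0 lc_e_rc_22_0 lc_e_rc_23_2 lc_e_rc_22_0 lc_e_rc_24_2 lc_e_rc_29_0 lc_e_rc_22_0 lc_e_rc_24_0 lc_e_rc_24_2 lc_e_rc_15_1 lc_e_rc_24_2 lc_e_rc_29_0 lc_e_Cert_tree lc_e_rc_22_0 lc_e_rc_19_1 lc_e_rc_24_2 lc_e_rc_22_0) (@D3.rec (fun _ => (Cert rels S Gen.e)) lc_e_rc_29_0 lc_e_Cert_tree lc_e_rc_22_0 lc_e_rc_24_2 lc_e_rc_22_0 lc_e_rc_23_2 lc_e_rc_24_2 lc_e_rc_19_3 lc_e_rc_24_2 lc_e_rc_19_3 lc_e_Cert_tree lc_e_rc_23_2 lc_e_rc_22_0 lc_e_rc_22_0 lc_e_Cert_tree lc_e_rc_23_2 lc_e_rc_22_0 lc_e_rc_23_2 lc_e_rc_15_3 lc_e_Cert_tree lc_e_rc_4_1) (@D3.rec (fun _ => (Cert rels S Gen.e)) lc_e_rc_22_0 lc_e_rc_15_1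 lc_e_rc_19_3 lc_e_Cert_tree lc_e_rc_22_0 lc_e_rc_24_2 lc_e_rc_24_2 lc_e_Cert_tree lc_e_rc_22_0 lc_e_rc_23_2 lc_e_rc_24_2 lc_e_rc_19_3 lc_e_Cert_tree lc_e_rc_22_0 lc_e_rc_23_2 lc_e_rc_23_0 lc_e_rc_23_2 lc_e_Cert_tree lc_e_rc_22_0 lc_e_rc_28_0 lc_e_rc_19_3)
def ce_e_4 : D2 → D3 → (Cert rels S Gen.e) := @D2.rec (fun _ => D3 → (Cert rels S Gen.e)) (@D3.rec (fun _ => (Cert rels S Gen.e)) lc_e_rc_19_1 lc_e_rc_29_0 lc_e_rc_19_3 lc_e_rc_24_0 lc_e_Cert_tree lc_e_Cert_tree lc_e_rc_24_2 lc_e_Cert_tree lc_e_rc_22_0 lc_e_rc_23_2 lc_e_rc_23_0 lc_e_rc_15_3 lc_e_rc_4_3 lc_e_Cert_tree lc_e_rc_22_0 lc_e_rc_23_2 lc_e_rc_15_3 lc_e_rc_23_0 lc_e_rc_24_2 lc_e_rc_23_0 lc_e_rc_22_0) (@D3.rec (fun _ => (Cert rels S Gen.e)) lc_e_rc_23_2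 lc_e_rc_19_3 lc_e_rc_24_2 lc_e_rc_19_3 lc_e_rc_22_0 lc_e_rc_19_1 lc_e_rc_19_3 lc_e_rc_23_2 lc_e_rc_24_2 lc_e_rc_28_0 lc_e_rc_28_0 lc_e_rc_15_1 lc_e_rc_23_2 lc_e_rc_24_2 lc_e_rc_15_3 lc_e_rc_22_0 lc_e_rc_23_0 lc_e_rc_24_2 lc_e_rc_24_2 lc_e_rc_22_0 lc_e_rc_22_0) (@D3.rec (fun _ => (Cert rels S Gen.e)) lc_e_rc_23_2 lc_e_rc_23_0 lc_e_Cert_tree lc_e_rc_22_0 lc_e_rc_28_0 lc_e_rc_19_3 lc_e_rc_19_3 lc_e_rc_23_2 lc_e_rc_23_2 lc_e_rc_15_1 lc_e_rc_23_2 lc_e_rc_24_2 lc_e_Cert_tree lc_e_rc_22_0 lc_e_rc_19_3 lc_e_rc_24_2 lc_e_rc_15_1 lc_e_Cert_tree lc_e_rc_22_0 lc_e_rc_23_2 lc_e_rc_19_3) (@D3.rec (fun _ => (Cert rels S Gen.e)) lc_e_rc_10_3 lc_e_rc_22_0 lc_e_rc_28_0 lc_e_rc_19_3 lc_e_Cert_tree lc_e_Cert_tree lc_e_rc_22_0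 lc_e_rc_23_2 lc_e_rc_24_2 lc_e_rc_19_3 lc_e_rc_23_2 lc_e_rc_24_2 lc_e_rc_24_2 lc_e_rc_15_1 lc_e_rc_23_2 lc_e_rc_24_2 lc_e_rc_19_3 lc_e_Cert_tree lc_e_rc_22_0 lc_e_rc_23_2 lc_e_rc_23_0) (@D3.rec (fun _ => (Cert rels S Gen.e)) lc_e_rc_24_0 lc_e_rc_19_1 lc_e_rc_22_0 lc_e_rc_24_2 lc_e_rc_24_2 lc_e_rc_23_2 lc_e_rc_24_2 lc_e_rc_28_0 lc_e_rc_28_0 lc_e_rc_22_0 lc_e_rc_24_2 lc_e_rc_24_2 lc_e_rc_19_3 lc_e_rc_24_2 lc_e_Cert_tree lc_e_rc_22_0 lc_e_Cert_tree lc_e_Cert_tree lc_e_rc_22_0 lc_e_rc_23_2 lc_e_rc_28_0) (@D3.rec (fun _ => (Cert rels S Gen.e)) lc_e_rc_22_0 lc_e_rc_10_3 lc_e_rc_15_1 lc_e_rc_29_0 lc_e_rc_4_3 lc_e_rc_24_2 lc_e_rc_15_1 lc_e_rc_24_2 lc_e_Cert_tree lc_e_rc_22_0 lc_e_rc_23_2 lc_e_rc_4_3 lc_e_rc_22_0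 lc_e_rc_28_0 lc_e_rc_4_3 lc_e_rc_22_0 lc_e_rc_24_2 lc_e_rc_24_2 lc_e_rc_23_2 lc_e_Cert_tree lc_e_rc_22_0) (@D3.rec (fun _ => (Cert rels S Gen.e)) lc_e_rc_23_2 lc_e_rc_10_1 lc_e_rc_22_0 lc_e_rc_22_0 lc_e_Cert_tree lc_e_rc_23_2 lc_e_rc_24_2 lc_e_rc_23_2 lc_e_rc_24_2 lc_e_rc_4_1 lc_e_rc_29_0 lc_e_rc_22_0 lc_e_rc_29_0 lc_e_rc_23_2 lc_e_rc_22_0 lc_e_Cert_tree lc_e_rc_22_0 lc_e_rc_24_2 lc_e_rc_15_3 lc_e_rc_22_0 lc_e_rc_4_1) (@D3.rec (fun _ => (Cert rels S Gen.e)) lc_e_Cert_tree lc_e_Cert_tree lc_e_rc_22_0 lc_e_rc_23_0 lc_e_rc_23_0 lc_e_rc_22_0 lc_e_rc_23_0 lc_e_rc_10_1 lc_e_rc_22_0 lc_e_rc_22_0 lc_e_rc_24_0 lc_e_rc_15_3 lc_e_rc_22_0 lc_e_rc_29_0 lc_e_Cert_tree lc_e_rc_22_0 lc_e_rc_22_0 lc_e_rc_15_3 lc_e_rc_24_2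 lc_e_rc_15_1 lc_e_rc_29_0) (@D3.rec (fun _ => (Cert rels S Gen.e)) lc_e_rc_23_2 lc_e_rc_22_0 lc_e_rc_28_0 lc_e_rc_23_2 lc_e_rc_10_3 lc_e_rc_24_0 lc_e_rc_19_1 lc_e_rc_23_2 lc_e_rc_15_1 lc_e_rc_4_1 lc_e_rc_24_0 lc_e_Cert_tree lc_e_rc_22_0 lc_e_Cert_tree lc_e_rc_22_0 lc_e_Cert_tree lc_e_rc_15_1 lc_e_rc_15_1 lc_e_Cert_tree lc_e_Cert_tree lc_e_rc_22_0) (@D3.rec (fun _ => (Cert rels S Gen.e)) lc_e_rc_4_3 lc_e_rc_19_1 lc_e_rc_22_0 lc_e_rc_28_0 lc_e_rc_22_0 lc_e_rc_23_2 lc_e_rc_24_2 lc_e_rc_15_1 lc_e_Cert_tree lc_e_rc_22_0 lc_e_rc_19_3 lc_e_rc_10_3 lc_e_rc_23_2 lc_e_rc_15_1 lc_e_Cert_tree lc_e_rc_22_0 lc_e_rc_4_1 lc_e_rc_4_1 lc_e_Cert_tree lc_e_rc_22_0 lc_e_rc_23_0) (@D3.rec (fun _ => (Cert rels S Gen.e)) lc_e_rc_10_3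 lc_e_rc_28_0 lc_e_Cert_tree lc_e_rc_22_0 lc_e_rc_22_0 lc_e_rc_4_3 lc_e_rc_29_0 lc_e_rc_29_0 lc_e_rc_22_0 lc_e_rc_24_2 lc_e_rc_19_3 lc_e_rc_22_0 lc_e_rc_28_0 lc_e_rc_19_3 lc_e_rc_24_2 lc_e_rc_28_0 lc_e_rc_22_0 lc_e_rc_10_3 lc_e_rc_4_3 lc_e_rc_23_2 lc_e_rc_4_3) (@D3.rec (fun _ => (Cert rels S Gen.e)) lc_e_rc_15_1 lc_e_rc_23_2 lc_e_rc_10_3 lc_e_rc_4_3 lc_e_rc_22_0 lc_e_rc_23_2 lc_e_rc_23_2 lc_e_rc_24_2 lc_e_rc_23_2 lc_e_rc_10_3 lc_e_rc_4_3 lc_e_Cert_tree lc_e_rc_22_0 lc_e_rc_22_0 lc_e_rc_10_1 lc_e_rc_10_3 lc_e_rc_19_3 lc_e_rc_23_2 lc_e_rc_28_0 lc_e_rc_15_1 lc_e_rc_24_2) (@D3.rec (fun _ => (Cert rels S Gen.e)) lc_e_rc_24_2 lc_e_rc_15_1 lc_e_rc_24_2 lc_e_rc_22_0 lc_e_rc_22_0 lc_e_rc_23_0 lc_e_rc_24_0 lc_e_rc_23_2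 lc_e_rc_15_1 lc_e_rc_23_2 lc_e_rc_10_3 lc_e_rc_22_0 lc_e_rc_28_0 lc_e_Cert_tree lc_e_rc_15_1 lc_e_rc_22_0 lc_e_rc_24_2 lc_e_rc_24_2 lc_e_rc_28_0 lc_e_rc_22_0 lc_e_rc_15_1) (@D3.rec (fun _ => (Cert rels S Gen.e)) lc_e_rc_22_0 lc_e_Cert_tree lc_e_rc_22_0 lc_e_rc_19_3 lc_e_rc_4_3 lc_e_rc_23_2 lc_e_rc_24_0 lc_e_rc_15_1 lc_e_rc_22_0 lc_e_rc_10_3 lc_e_rc_4_3 lc_e_rc_22_0 lc_e_rc_10_1 lc_e_Cert_tree lc_e_rc_22_0 lc_e_rc_4_3 lc_e_rc_19_3 lc_e_rc_4_1 lc_e_rc_15_1 lc_e_rc_23_2 lc_e_rc_19_3)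
def ce_e_5 : D2 → D3 → (Cert rels S Gen.e) := @D2.rec (fun _ => D3 → (Cert rels S Gen.e)) (@D3.rec (fun _ => (Cert rels S Gen.e)) lc_e_rc_4_3 lc_e_rc_22_0 lc_e_rc_15_1 lc_e_rc_23_2 lc_e_rc_15_1 lc_e_rc_4_1 lc_e_rc_28_0 lc_e_rc_23_2 lc_e_Cert_tree lc_e_rc_22_0 lc_e_rc_4_3 lc_e_rc_10_1 lc_e_rc_4_3 lc_e_rc_15_1 lc_e_rc_24_2 lc_e_rc_15_1 lc_e_rc_10_1 lc_e_rc_10_1 lc_e_rc_29_0 lc_e_rc_28_0 lc_e_Cert_tree) (@D3.rec (fun _ => (Cert rels S Gen.e)) lc_e_rc_22_0 lc_e_rc_23_2 lc_e_rc_23_2 lc_e_rc_23_2 lc_e_rc_24_2 lc_e_rc_4_1 lc_e_rc_10_1 lc_e_rc_22_0 lc_e_rc_23_2 lc_e_rc_10_3 lc_e_rc_23_2 lc_e_Cert_tree lc_e_rc_22_0 lc_e_rc_15_1 lc_e_Cert_tree lc_e_rc_15_1 lc_e_rc_22_0 lc_e_rc_23_2 lc_e_rc_23_2 lc_e_Cert_tree lc_e_rc_4_3)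 (@D3.rec (fun _ => (Cert rels S Gen.e)) lc_e_Cert_tree lc_e_rc_22_0 lc_e_rc_24_2 lc_e_rc_10_3 lc_e_rc_22_0 lc_e_rc_24_0 lc_e_rc_28_0 lc_e_rc_22_0 lc_e_rc_10_1 lc_e_Cert_tree lc_e_rc_22_0 lc_e_rc_28_0 lc_e_rc_24_2 lc_e_rc_28_0 lc_e_rc_29_0 lc_e_rc_22_0 lc_e_rc_24_2 lc_e_rc_24_2 lc_e_rc_15_1 lc_e_rc_15_1 lc_e_rc_4_1) (@D3.rec (fun _ => (Cert rels S Gen.e)) lc_e_rc_23_2 lc_e_rc_24_2 lc_e_rc_28_0 lc_e_rc_10_1 lc_e_rc_19_3 lc_e_rc_19_3 lc_e_Cert_tree lc_e_rc_29_0 lc_e_rc_22_0 lc_e_rc_23_2 lc_e_rc_23_0 lc_e_rc_15_3 lc_e_Cert_tree lc_e_rc_29_0 lc_e_rc_22_0 lc_e_rc_23_2 lc_e_rc_19_3 lc_e_rc_24_2 lc_e_rc_19_3 lc_e_rc_23_2 lc_e_rc_24_2) (@D3.rec (fun _ => (Cert rels S Gen.e)) lc_e_rc_24_0 lc_e_rc_15_1 lc_e_rc_4_3 lc_e_rc_24_2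 lc_e_rc_15_3 lc_e_rc_22_0 lc_e_rc_22_0 lc_e_rc_19_3 lc_e_rc_10_3 lc_e_rc_22_0 lc_e_rc_19_3 lc_e_rc_19_3 lc_e_rc_15_1 lc_e_rc_22_0 lc_e_rc_23_2 lc_e_rc_4_3 lc_e_Cert_tree lc_e_rc_22_0 lc_e_rc_23_2 lc_e_rc_24_2 lc_e_rc_23_2) (@D3.rec (fun _ => (Cert rels S Gen.e)) lc_e_rc_24_2 lc_e_rc_24_2 lc_e_rc_23_0 lc_e_rc_22_0 lc_e_rc_24_2 lc_e_rc_24_2 lc_e_rc_23_2 lc_e_rc_24_2 lc_e_rc_28_0 lc_e_rc_28_0 lc_e_rc_19_3 lc_e_rc_19_3 lc_e_rc_22_0 lc_e_rc_19_3 lc_e_rc_10_1 lc_e_rc_4_1 lc_e_rc_15_1 lc_e_rc_24_2 lc_e_rc_15_1 lc_e_rc_28_0 lc_e_Cert_tree) (@D3.rec (fun _ => (Cert rels S Gen.e)) lc_e_rc_22_0 lc_e_rc_28_0 lc_e_Cert_tree lc_e_rc_22_0 lc_e_rc_23_2 lc_e_rc_23_0 lc_e_Cert_tree lc_e_rc_22_0 lc_e_rc_23_2 lc_e_rc_23_2 lc_e_rc_24_2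 lc_e_rc_28_0 lc_e_rc_24_2 lc_e_rc_28_0 lc_e_rc_4_3 lc_e_rc_28_0 lc_e_Cert_tree lc_e_rc_22_0 lc_e_rc_23_2 lc_e_rc_10_3 lc_e_rc_23_2) (@D3.rec (fun _ => (Cert rels S Gen.e)) lc_e_rc_23_2 lc_e_rc_29_0 lc_e_rc_29_0 lc_e_rc_19_3 lc_e_rc_23_2 lc_e_rc_15_1 lc_e_rc_23_2 lc_e_rc_23_0 lc_e_rc_19_3 lc_e_rc_24_0 lc_e_rc_15_1 lc_e_rc_23_2 lc_e_rc_24_2 lc_e_rc_15_1 lc_e_rc_10_1 lc_e_rc_15_1 lc_e_rc_15_1 lc_e_rc_28_0 lc_e_rc_22_0 lc_e_rc_24_2 lc_e_rc_4_1) (@D3.rec (fun _ => (Cert rels S Gen.e)) lc_e_rc_4_3 lc_e_rc_24_2 lc_e_rc_15_1 lc_e_rc_24_2 lc_e_rc_15_3 lc_e_rc_22_0 lc_e_rc_19_3 lc_e_rc_15_1 lc_e_rc_15_1 lc_e_rc_23_2 lc_e_rc_10_1 lc_e_rc_19_1 lc_e_rc_23_2 lc_e_rc_23_2 lc_e_Cert_tree lc_e_rc_22_0 lc_e_rc_10_3 lc_e_rc_23_2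 lc_e_rc_24_2 lc_e_rc_19_3 lc_e_rc_4_1) (@D3.rec (fun _ => (Cert rels S Gen.e)) lc_e_rc_19_1 lc_e_rc_22_0 lc_e_rc_19_1 lc_e_rc_19_3 lc_e_rc_23_2 lc_e_rc_28_0 lc_e_rc_19_3 lc_e_rc_4_3 lc_e_rc_23_0 lc_e_rc_22_0 lc_e_rc_10_3 lc_e_rc_22_0 lc_e_rc_22_1 lc_e_rc_10_1 lc_e_rc_19_3 lc_e_rc_23_2 lc_e_rc_24_2 lc_e_Cert_tree lc_e_rc_15_1 lc_e_rc_15_1 lc_e_rc_24_2) (@D3.rec (fun _ => (Cert rels S Gen.e)) lc_e_rc_4_1 lc_e_rc_23_2 lc_e_rc_15_1 lc_e_rc_10_3 lc_e_rc_22_0 lc_e_rc_23_2 lc_e_rc_23_2 lc_e_rc_23_2 lc_e_rc_24_2 lc_e_rc_28_0 lc_e_rc_28_0 lc_e_rc_24_0 lc_e_rc_4_1 lc_e_rc_24_2 lc_e_rc_10_1 lc_e_rc_23_2 lc_e_rc_19_3 lc_e_rc_19_3 lc_e_rc_19_3 lc_e_rc_15_1 lc_e_rc_24_2) (@D3.rec (fun _ => (Cert rels S Gen.e)) lc_e_rc_15_1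 lc_e_rc_22_0 lc_e_rc_10_3 lc_e_rc_22_0 lc_e_rc_22_0 lc_e_rc_15_3 lc_e_rc_19_3 lc_e_rc_19_3 lc_e_rc_19_3 lc_e_rc_23_0 lc_e_rc_15_1 lc_e_rc_28_0 lc_e_rc_10_1 lc_e_rc_15_1 lc_e_rc_28_0 lc_e_rc_22_0 lc_e_rc_23_2 lc_e_rc_23_2 lc_e_rc_4_1 lc_e_rc_10_1 lc_e_rc_15_3) (@D3.rec (fun _ => (Cert rels S Gen.e)) lc_e_rc_24_2 lc_e_rc_15_1 lc_e_rc_24_2 lc_e_rc_10_3 lc_e_rc_22_0 lc_e_rc_23_2 lc_e_rc_23_0 lc_e_Cert_tree lc_e_rc_22_0 lc_e_rc_28_0 lc_e_rc_29_0 lc_e_rc_10_3 lc_e_rc_24_2 lc_e_Cert_tree lc_e_rc_22_0 lc_e_rc_29_0 lc_e_rc_15_1 lc_e_rc_22_0 lc_e_rc_22_0 lc_e_rc_23_2 lc_e_rc_23_2) (@D3.rec (fun _ => (Cert rels S Gen.e)) lc_e_rc_4_1 lc_e_rc_4_3 lc_e_rc_22_0 lc_e_rc_23_2 lc_e_rc_24_2 lc_e_rc_10_1 lc_e_rc_24_2 lc_e_rc_19_1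 lc_e_rc_10_1 lc_e_rc_28_0 lc_e_rc_22_1 lc_e_rc_23_2 lc_e_rc_15_1 lc_e_rc_24_0 lc_e_rc_24_2 lc_e_rc_15_1 lc_e_Cert_tree lc_e_rc_22_0 lc_e_rc_19_1 lc_e_rc_22_0 lc_e_rc_22_0)
def ce_e_6 : D2 → D3 → (Cert rels S Gen.e) := @D2.rec (fun _ => D3 → (Cert rels S Gen.e)) (@D3.rec (fun _ => (Cert rels S Gen.e)) lc_e_rc_4_1 lc_e_rc_4_3 lc_e_Cert_tree lc_e_rc_22_0 lc_e_rc_22_0 lc_e_rc_19_1 lc_e_rc_10_1 lc_e_rc_10_1 lc_e_rc_24_2 lc_e_rc_28_0 lc_e_rc_24_2 lc_e_rc_22_0 lc_e_rc_23_2 lc_e_Cert_tree lc_e_rc_22_0 lc_e_rc_15_1 lc_e_rc_10_1 lc_e_rc_22_0 lc_e_rc_4_3 lc_e_rc_23_2 lc_e_Cert_tree) (@D3.rec (fun _ => (Cert rels S Gen.e)) lc_e_rc_22_0 lc_e_rc_15_1 lc_e_rc_10_1 lc_e_rc_10_1 lc_e_rc_24_2 lc_e_rc_10_1 lc_e_rc_15_1 lc_e_rc_19_3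 lc_e_rc_10_1 lc_e_rc_15_1 lc_e_rc_10_1 lc_e_rc_4_1 lc_e_rc_10_1 lc_e_rc_10_1 lc_e_rc_10_1 lc_e_rc_10_1 lc_e_rc_10_1 lc_e_rc_15_1 lc_e_rc_10_3 lc_e_rc_10_1 lc_e_Cert_tree) (@D3.rec (fun _ => (Cert rels S Gen.e)) lc_e_rc_19_1 lc_e_rc_22_0 lc_e_rc_15_1 lc_e_rc_23_2 lc_e_rc_28_0 lc_e_rc_10_1 lc_e_rc_15_1 lc_e_rc_15_1 lc_e_rc_10_1 lc_e_rc_23_2 lc_e_rc_4_1 lc_e_rc_23_2 lc_e_rc_22_0 lc_e_rc_24_2 lc_e_rc_24_2 lc_e_rc_15_1 lc_e_rc_15_1 lc_e_rc_22_0 lc_e_rc_23_2 lc_e_rc_4_1 lc_e_rc_15_1) (@D3.rec (fun _ => (Cert rels S Gen.e)) lc_e_rc_22_0 lc_e_rc_22_0 lc_e_rc_15_1 lc_e_rc_23_2 lc_e_rc_15_1 lc_e_rc_19_3 lc_e_rc_23_2 lc_e_rc_4_1 lc_e_rc_4_1 lc_e_rc_10_1 lc_e_rc_22_0 lc_e_rc_10_1 lc_e_rc_4_1 lc_e_rc_15_1 lc_e_rc_10_3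 lc_e_rc_19_1 lc_e_rc_29_0 lc_e_rc_10_3 lc_e_rc_22_0 lc_e_rc_10_1 lc_e_rc_23_2) (@D3.rec (fun _ => (Cert rels S Gen.e)) lc_e_rc_28_0 lc_e_rc_15_1 lc_e_rc_23_2 lc_e_rc_19_1 lc_e_rc_23_2 lc_e_rc_15_1 lc_e_rc_22_0 lc_e_rc_22_0 lc_e_rc_23_0 lc_e_rc_4_1 lc_e_rc_19_3 lc_e_rc_22_0 lc_e_rc_23_2 lc_e_rc_4_1 lc_e_rc_22_0 lc_e_rc_28_0 lc_e_rc_19_5 lc_e_rc_22_0 lc_e_rc_24_2 lc_e_rc_19_1 lc_e_rc_23_2) (@D3.rec (fun _ => (Cert rels S Gen.e)) lc_e_rc_10_3 lc_e_rc_23_2 lc_e_rc_10_1 lc_e_rc_22_0 lc_e_rc_23_2 lc_e_rc_10_3 lc_e_rc_10_1 lc_e_rc_23_2 lc_e_rc_24_2 lc_e_rc_28_0 lc_e_rc_24_2 lc_e_rc_28_0 lc_e_rc_22_0 lc_e_rc_4_3 lc_e_rc_19_3 lc_e_rc_23_2 lc_e_rc_15_1 lc_e_rc_4_3 lc_e_rc_19_1 lc_e_rc_15_1 lc_e_rc_24_2) (@D3.rec (fun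 _ => (Cert rels S Gen.e)) lc_e_rc_10_1 lc_e_rc_15_1 lc_e_rc_4_3 lc_e_rc_23_0 lc_e_rc_28_0 lc_e_rc_22_0 lc_e_rc_24_2 lc_e_rc_15_1 lc_e_rc_4_1 lc_e_rc_23_2 lc_e_rc_19_3 lc_e_rc_19_1 lc_e_rc_23_2 lc_e_rc_28_0 lc_e_rc_22_0 lc_e_rc_10_3 lc_e_rc_19_3 lc_e_rc_23_2 lc_e_rc_24_2 lc_e_rc_23_0 lc_e_rc_23_0) (@D3.rec (fun _ => (Cert rels S Gen.e)) lc_e_rc_10_1 lc_e_rc_29_0 lc_e_rc_19_3 lc_e_rc_19_3 lc_e_rc_15_1 lc_e_rc_10_1 lc_e_rc_15_1 lc_e_rc_28_0 lc_e_rc_15_1 lc_e_rc_22_0 lc_e_rc_28_0 lc_e_rc_22_0 lc_e_rc_28_0 lc_e_rc_23_2 lc_e_rc_28_0 lc_e_rc_15_1 lc_e_rc_22_0 lc_e_rc_23_2 lc_e_rc_23_2 lc_e_rc_19_3 lc_e_rc_23_2) (@D3.rec (fun _ => (Cert rels S Gen.e)) lc_e_rc_23_2 lc_e_rc_10_1 lc_e_rc_4_3 lc_e_rc_22_0 lc_e_rc_23_2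 lc_e_rc_23_2 lc_e_rc_28_0 lc_e_rc_4_3 lc_e_rc_15_1 lc_e_rc_23_2 lc_e_rc_28_0 lc_e_rc_28_0 lc_e_rc_10_1 lc_e_rc_10_1 lc_e_rc_15_1 lc_e_rc_10_1 lc_e_rc_23_2 lc_e_rc_4_1 lc_e_rc_23_2 lc_e_rc_4_3 lc_e_rc_15_1) (@D3.rec (fun _ => (Cert rels S Gen.e)) lc_e_rc_29_0 lc_e_rc_15_1 lc_e_rc_10_1 lc_e_rc_10_1 lc_e_rc_4_1 lc_e_rc_23_2 lc_e_rc_23_2 lc_e_rc_23_0 lc_e_rc_22_0 lc_e_rc_23_2 lc_e_rc_15_1 lc_e_rc_24_0 lc_e_rc_10_1 lc_e_rc_10_1 lc_e_rc_15_1 lc_e_rc_10_1 lc_e_rc_19_1 lc_e_rc_28_0 lc_e_rc_22_0 lc_e_rc_23_2 lc_e_rc_22_0) (@D3.rec (fun _ => (Cert rels S Gen.e)) lc_e_rc_15_1 lc_e_rc_15_1 lc_e_rc_10_1 lc_e_rc_10_3 lc_e_rc_23_2 lc_e_rc_23_2 lc_e_rc_10_1 lc_e_rc_19_1 lc_e_rc_23_2 lc_e_rc_15_1 lc_e_rc_24_2 lc_e_rc_23_2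 lc_e_rc_10_1 lc_e_rc_15_1 lc_e_rc_10_1 lc_e_rc_19_3 lc_e_rc_15_1 lc_e_rc_10_1 lc_e_rc_23_2 lc_e_rc_15_1 lc_e_rc_24_2) (@D3.rec (fun _ => (Cert rels S Gen.e)) lc_e_rc_19_1 lc_e_rc_4_1 lc_e_rc_29_0 lc_e_rc_22_0 lc_e_rc_4_1 lc_e_rc_22_0 lc_e_rc_23_2 lc_e_rc_24_2 lc_e_rc_10_1 lc_e_rc_15_1 lc_e_rc_10_1 lc_e_rc_10_1 lc_e_rc_19_1 lc_e_rc_15_1 lc_e_rc_29_0 lc_e_rc_22_0 lc_e_rc_22_0 lc_e_rc_24_2 lc_e_rc_10_1 lc_e_rc_15_3 lc_e_rc_22_0) (@D3.rec (fun _ => (Cert rels S Gen.e)) lc_e_rc_10_1 lc_e_rc_10_1 lc_e_rc_22_0 lc_e_rc_10_1 lc_e_rc_10_1 lc_e_rc_10_1 lc_e_rc_22_0 lc_e_rc_10_1 lc_e_rc_10_1 lc_e_rc_24_2 lc_e_rc_19_1 lc_e_rc_10_1 lc_e_rc_4_1 lc_e_rc_4_1 lc_e_rc_10_1 lc_e_rc_19_1 lc_e_rc_23_2 lc_e_rc_19_1 lc_e_rc_29_0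 lc_e_rc_10_1 lc_e_rc_19_1) (@D3.rec (fun _ => (Cert rels S Gen.e)) lc_e_rc_4_3 lc_e_rc_23_2 lc_e_rc_28_0 lc_e_rc_28_0 lc_e_rc_22_0 lc_e_rc_10_1 lc_e_rc_15_1 lc_e_rc_24_2 lc_e_rc_15_1 lc_e_rc_23_2 lc_e_rc_10_1 lc_e_rc_10_1 lc_e_rc_10_1 lc_e_rc_23_2 lc_e_rc_4_3 lc_e_rc_23_2 lc_e_rc_10_1 lc_e_rc_23_2 lc_e_rc_10_1 lc_e_rc_15_1 lc_e_rc_10_1)
def ce_e : Pt → (Cert rels S Gen.e) := @Pt.rec (fun _ => (Cert rels S Gen.e)) (@D1.rec (fun _ => D2 → D3 → (Cert rels S Gen.e)) ce_e_0 ce_e_1 ce_e_2 ce_e_3 ce_e_4 ce_e_5 ce_e_6)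
def isSeed_e (p : Pt) : Bool := false

end

end Cfsg.Agent.Helper28.S1683
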