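import Cfsg.Agent.Lib.Helper28.S1683.Tree

set_option autoImplicit false
set_option maxRecDepth 100000
set_option linter.all false

namespace Cfsg.Agent.Helper28.S1683

open Cfsg.Agent.Helper28
open Cfsg.Spor.He (Gen)

noncomputable section

def lv_f_0 : D2 → D3 → Nat := @D2.rec (fun _ => D3 → Nat) (@D3.rec (fun _ => Nat) 1 2 2 3 3 0 0 4 0 0 0 1 0 0 1 0 0 1 0 0 0) (@D3.rec (fun _ => Nat) 1 1 0 0 0 1 1 0 0 0 1 1 0 10 1 0 10 1 1 5 0) (@D3.rec (fun _ => Nat) 0 1 0 1 0 0 1 2 5 0 0 1 0 1 0 0 1 41 6 9 1) (@D3.rec (fun _ => Nat) 10 10 0 11 1 8 10 0 1 0 0 1 0 2 0 1 2 2 3 1 1) (@D3.rec (fun _ => Nat) 0 35 40 3 0 6 0 1 0 0 1 0 41 0 1 2 3 1 1 0 39) (@D3.rec (fun _ => Nat) 43 45 7 11 11 11 12 0 12 10 1 12 4 0 0 1 0 2 0 1 0)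 (@D3.rec (fun _ => Nat) 1 2 2 3 1 3 3 0 1 33 2 34 3 36 32 37 1 45 40 44 38) (@D3.rec (fun _ => Nat) 1 7 48 0 0 1 0 39 0 0 1 0 1 2 3 1 41 43 45 1 46) (@D3.rec (fun _ => Nat) 2 47 45 6 1 52 11 0 11 14 0 13 0 0 1 0 0 12 6 0 1) (@D3.rec (fun _ => Nat) 0 1 2 2 3 1 3 1 14 2 15 0 1 7 32 3 3 36 42 0 4) (@D3.rec (fun _ => Nat) 0 1 2 33 3 36 0 46 38 36 42 45 45 40 44 46 37 50 43 49 47) (@D3.rec (fun _ => Nat) 0 0 1 0 1 2 3 1 41 0 0 1 0 0 1 2 2 3 12 1 7) (@D3.rec (fun _ => Nat) 49 7 0 43 44 2 7 7 49 48 51 53 0 0 0 1 0 0 0 0 0) (@D3.rec (fun _ => Nat) 1 0 0 0 0 0 1 0 0 1 2 3 1 0 1 0 19 7 1 9 12)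
def lv_f_1 : D2 → D3 → Nat := @D2.rec (fun _ => D3 → Nat) (@D3.rec (fun _ => Nat) 8 0 1 8 33 3 35 44 0 2 0 3 3 0 0 0 0 1 2 9 36) (@D3.rec (fun _ => Nat) 0 34 0 4 37 44 40 0 42 0 0 1 0 0 0 1 35 3 3 4 39) (@D3.rec (fun _ => Nat) 3 1 48 39 0 45 44 40 48 49 48 43 0 1 43 0 1 0 2 43 47) (@D3.rec (fun _ => Nat) 1 8 8 0 0 0 1 0 0 1 2 2 3 0 1 0 1 0 2 11 3) (@D3.rec (fun _ => Nat) 3 12 12 9 47 47 0 1 0 0 0 54 48 0 0 1 43 0 0 1 45) (@D3.rec (fun _ => Nat) 0 1 2 3 0 1 0 1 0 0 0 1 50 49 0 1 0 0 1 2 3) (@D3.rec (fun _ => Nat) 1 0 1 0 0 0 0 1 0 0 1 0 0 1 2 2 3 0 1 0 1) (@D3.rec (fun _ => Nat) 5 2 0 0 22 0 50 1 0 5 1 0 49 11 0 17 12 0 0 51 0) (@D3.rec (fun _ => Nat) 1 2 8 8 33 0 36 0 0 0 1 46 3 3 4 0 4 1 4 0 4) (@D3.rec (fun _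 => Nat) 36 3 0 1 0 0 1 49 0 0 1 1 2 3 3 3 39 9 0 36 0) (@D3.rec (fun _ => Nat) 9 1 48 0 39 0 1 39 0 38 0 44 44 44 0 1 44 47 46 0 1) (@D3.rec (fun _ => Nat) 46 48 1 2 3 46 1 46 1 51 48 0 1 2 38 4 14 13 0 53 1) (@D3.rec (fun _ => Nat) 45 46 45 47 45 0 0 1 0 2 46 1 2 2 3 0 1 3 3 45 47) (@D3.rec (fun _ => Nat) 8 0 1 45 0 0 1 0 0 1 2 6 3 48 1 0 1 5 2 0 3)
def lv_f_2 : D2 → D3 → Nat := @D2.rec (fun _ => D3 → Nat) (@D3.rec (fun _ => Nat) 3 13 17 0 12 1 2 0 54 1 50 2 5 13 1 3 14 13 13 4 0) (@D3.rec (fun _ => Nat) 4 14 0 14 0 0 1 2 3 0 1 0 1 0 1 0 43 1 1 2 3) (@D3.rec (fun _ => Nat) 0 45 1 0 1 2 8 3 0 0 1 5 2 0 0 49 4 1 2 50 52) (@D3.rec (fun _ => Nat) 1 0 5 1 45 48 0 1 1 3 45 47 52 50 49 54 0 1 45 0 1) (@D3.rec (fun _ =>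 Nat) 45 1 5 2 0 0 21 46 0 1 41 5 1 0 1 49 0 0 1 0 51) (@D3.rec (fun _ => Nat) 1 48 2 20 1 0 1 2 2 3 50 1 1 2 3 3 0 47 50 1 14) (@D3.rec (fun _ => Nat) 0 1 13 2 0 51 47 47 1 0 1 22 22 0 1 49 50 50 1 0 45) (@D3.rec (fun _ => Nat) 0 51 1 48 49 50 15 13 13 50 13 1 16 0 16 35 12 0 1 43 0) (@D3.rec (fun _ => Nat) 1 52 50 1 2 12 3 3 38 10 0 10 0 40 0 1 40 0 48 1 44) (@D3.rec (fun _ => Nat) 46 1 49 1 2 3 4 0 4 4 53 0 4 1 16 0 18 17 47 0 1) (@D3.rec (fun _ => Nat) 0 0 5 36 46 40 4 1 2 46 44 0 1 1 3 53 51 51 0 1 0) (@D3.rec (fun _ => Nat) 0 1 5 15 3 3 4 16 0 39 3 14 0 15 0 0 1 52 0 9 50) (@D3.rec (fun _ => Nat) 1 0 0 0 1 0 47 41 1 39 1 43 51 57 0 1 46 44 44 1 50) (@D3.rec (fun _ => Nat) 1 7 0 51 51 0 0 46 46 49 49 49 1 2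 39 0 1 51 51 0 1)
def lv_f_3 : D2 → D3 → Nat := @D2.rec (fun _ => D3 → Nat) (@D3.rec (fun _ => Nat) 50 1 2 2 3 49 1 3 46 46 48 44 0 3 3 45 16 0 49 1 2) (@D3.rec (fun _ => Nat) 4 0 4 47 53 47 1 2 3 1 0 49 1 54 51 1 1 2 54 9 48) (@D3.rec (fun _ => Nat) 1 6 2 14 3 14 15 54 14 1 4 0 4 15 15 56 18 49 0 14 1) (@D3.rec (fun _ => Nat) 2 3 17 1 52 54 6 3 15 13 13 4 16 14 13 0 13 5 49 5 46) (@D3.rec (fun _ => Nat) 56 1 0 15 48 0 46 1 0 54 0 1 0 1 5 52 56 53 4 1 48) (@D3.rec (fun _ => Nat) 1 5 1 3 51 59 1 46 2 17 49 54 1 49 49 1 2 7 46 48 1) (@D3.rec (fun _ => Nat) 1 45 2 0 49 49 0 1 15 1 0 2 3 3 0 47 48 1 0 45 48) (@D3.rec (fun _ => Nat) 50 0 1 16 0 47 49 49 52 0 49 0 52 50 1 0 2 0 51 1 45) (@D3.rec (fun _ => Nat) 45 2 20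 3 49 49 1 55 1 23 23 24 0 0 1 2 0 1 49 50 21) (@D3.rec (fun _ => Nat) 1 47 50 1 2 2 3 50 1 52 3 3 52 22 1 2 3 3 4 2 50) (@D3.rec (fun _ => Nat) 52 4 57 3 1 45 52 0 1 47 2 49 1 53 55 21 1 14 24 57 53) (@D3.rec (fun _ => Nat) 0 24 1 54 0 0 1 47 0 51 49 1 2 3 53 18 0 18 13 48 48) (@D3.rec (fun _ => Nat) 17 0 19 18 0 1 0 0 14 37 48 42 40 1 48 44 42 1 51 13 3) (@D3.rec (fun _ => Nat) 3 4 14 0 38 3 51 0 0 1 50 51 0 0 1 0 1 0 49 1 50)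
def lv_f_4 : D2 → D3 → Nat := @D2.rec (fun _ => D3 → Nat) (@D3.rec (fun _ => Nat) 7 55 39 0 0 0 6 0 0 1 0 36 55 0 0 1 0 0 19 0 0) (@D3.rec (fun _ => Nat) 1 0 5 49 47 47 0 1 2 3 1 0 1 0 0 46 40 2 48 48 50) (@D3.rec (fun _ => Nat) 1 4 17 51 51 51 0 1 1 0 1 0 17 5 0 18 16 0 0 1 40) (@D3.rec (fun _ => Nat) 60 55 1 51 0 0 0 1 48 51 1 2 3 0 1 49 51 0 0 1 0) (@D3.rec (fun _ => Nat) 0 0 37 1 34 1 2 3 1 45 47 43 50 48 50 60 58 0 57 1 48) (@D3.rec (fun _ => Nat) 46 54 8 51 1 0 50 52 0 0 1 54 40 1 48 48 53 50 38 0 53) (@D3.rec (fun _ => Nat) 1 58 60 1 52 46 45 3 48 50 4 46 46 53 46 47 16 18 54 49 1) (@D3.rec (fun _ => Nat) 4 0 4 47 15 49 51 0 49 1 2 3 49 5 0 5 58 1 0 52 47) (@D3.rec (fun _ => Nat) 52 48 53 49 58 49 1 51 52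 48 2 3 55 57 56 54 3 48 4 17 16) (@D3.rec (fun _ => Nat) 5 0 5 54 52 1 52 15 53 16 0 53 1 3 54 59 4 19 16 16 52) (@D3.rec (fun _ => Nat) 52 51 0 52 1 53 59 49 50 0 17 46 48 17 2 3 1 53 0 1 52) (@D3.rec (fun _ => Nat) 54 1 53 53 57 49 1 55 1 0 52 56 56 57 48 0 46 2 52 17 51) (@D3.rec (fun _ => Nat) 51 51 2 48 46 50 1 1 0 1 3 3 4 4 57 51 16 3 1 48 1) (@D3.rec (fun _ => Nat) 45 48 48 0 52 1 47 18 56 1 47 47 49 52 49 54 0 51 53 1 0)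
def lv_f_5 : D2 → D3 → Nat := @D2.rec (fun _ => D3 → Nat) (@D3.rec (fun _ => Nat) 53 52 57 1 54 55 2 1 0 53 1 47 52 3 52 51 50 56 23 23 0) (@D3.rec (fun _ => Nat) 0 1 1 2 56 1 50 50 54 21 52 3 3 50 4 54 4 52 48 0 2) (@D3.rec (fun _ => Nat) 55 56 4 57 57 59 59 57 1 2 3 55 52 56 49 59 52 24 56 1 1) (@D3.rec (fun _ => Nat) 1 47 1 52 0 0 0 20 0 1 0 35 0 17 0 1 0 19 54 1 47) (@D3.rec (fun _ => Nat) 1 0 1 0 0 46 48 4 53 5 0 48 53 0 1 41 56 0 1 50 1) (@D3.rec (fun _ => Nat) 2 3 0 36 1 35 1 2 3 1 41 58 59 1 8 55 39 51 0 1 54) (@D3.rec (fun _ => Nat) 39 1 0 0 1 35 0 0 1 1 2 3 37 1 55 55 0 0 1 0 1) (@D3.rec (fun _ => Nat) 1 1 1 0 1 0 1 0 47 49 0 1 5 49 0 47 1 5 1 1 50) (@D3.rec (fun _ => Nat) 49 56 6 18 48 19 53 53 40 1 0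 0 1 1 17 5 0 1 0 44 18) (@D3.rec (fun _ => Nat) 51 58 1 50 1 39 53 57 0 53 1 44 1 0 48 1 57 2 58 53 51) (@D3.rec (fun _ => Nat) 55 1 51 0 0 1 50 1 2 3 1 51 0 1 37 1 37 0 54 49 50) (@D3.rec (fun _ => Nat) 51 62 56 60 54 1 56 49 50 50 0 1 52 53 51 0 1 1 50 50 55) (@D3.rec (fun _ => Nat) 48 40 52 55 51 1 63 54 52 45 4 54 51 54 51 5 0 5 51 1 1) (@D3.rec (fun _ => Nat) 3 57 50 1 0 57 58 1 55 53 53 49 56 51 49 3 56 55 55 55 55)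
def lv_f_6 : D2 → D3 → Nat := @D2.rec (fun _ => D3 → Nat) (@D3.rec (fun _ => Nat) 4 51 17 50 17 58 0 1 55 57 52 20 1 56 57 17 55 57 52 52 57) (@D3.rec (fun _ => Nat) 54 1 50 50 50 1 55 58 1 53 59 58 60 55 57 10 58 53 1 54 53) (@D3.rec (fun _ => Nat) 57 49 50 1 51 58 49 49 0 1 4 51 58 18 18 57 54 50 1 51 56) (@D3.rec (fun _ => Nat) 51 55 54 1 51 53 1 51 53 55 53 1 55 55 55 50 25 0 54 1 1) (@D3.rec (fun _ => Nat) 56 58 50 52 54 4 4 57 54 52 54 53 1 56 56 57 59 3 24 57 1) (@D3.rec (fun _ => Nat) 57 1 0 0 1 0 36 1 2 3 38 1 49 1 54 1 51 1 0 52 3) (@D3.rec (fun _ => Nat) 54 49 1 0 4 1 1 53 52 1 50 53 1 38 55 56 50 1 59 14 38) (@D3.rec (fun _ => Nat) 1 36 36 0 50 41 52 54 1 54 52 52 1 1 51 38 54 1 1 16 55) (@D3.rec (fun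 _ => Nat) 42 55 0 0 1 1 1 54 50 1 1 49 1 52 1 45 1 43 53 50 58) (@D3.rec (fun _ => Nat) 49 55 55 53 0 1 1 54 58 1 59 1 48 55 1 49 2 53 1 52 53) (@D3.rec (fun _ => Nat) 57 55 54 1 36 1 38 55 1 38 51 1 51 52 56 61 1 54 1 56 59) (@D3.rec (fun _ => Nat) 59 40 54 54 53 53 1 60 1 53 55 51 58 52 56 58 19 58 1 55 56) (@D3.rec (fun _ => Nat) 53 56 54 54 59 53 53 50 1 18 56 54 55 53 58 56 1 53 51 60 57) (@D3.rec (fun _ => Nat) 1 1 53 40 1 1 1 58 37 1 52 53 53 52 1 1 62 1 54 50 55)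
def lv_f : Pt → Nat := @Pt.rec (fun _ => Nat) (@D1.rec (fun _ => D2 → D3 → Nat) lv_f_0 lv_f_1 lv_f_2 lv_f_3 lv_f_4 lv_f_5 lv_f_6)
abbrev lc_f_Cert_tree : Cert rels S Gen.f := Cert.tree
abbrev lc_f_rc_11_1 : Cert rels S Gen.f := rc_11_1
abbrev lc_f_rc_11_3 : Cert rels S Gen.f := rc_11_3
abbrev lc_f_rc_16_1 : Cert rels S Gen.f := rc_16_1
abbrev lc_f_rc_16_3 : Cert rels S Gen.f := rc_16_3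
abbrev lc_f_rc_20_1 : Cert rels S Gen.f := rc_20_1
abbrev lc_f_rc_20_3 : Cert rels S Gen.f := rc_20_3
abbrev lc_f_rc_20_5 : Cert rels S Gen.f := rc_20_5
abbrev lc_f_rc_23_1 : Cert rels S Gen.f := rc_23_1
abbrev lc_f_rc_23_3 : Cert rels S Gen.f := rc_23_3
abbrev lc_f_rc_25_0 : Cert rels S Gen.f := rc_25_0
abbrev lc_f_rc_25_1 : Cert rels S Gen.f := rc_25_1
abbrev lc_f_rc_26_0 : Cert rels S Gen.f := rc_26_0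
abbrev lc_f_rc_26_2 : Cert rels S Gen.f := rc_26_2
abbrev lc_f_rc_26_4 : Cert rels S Gen.f := rc_26_4
abbrev lc_f_rc_26_6 : Cert rels S Gen.f := rc_26_6
abbrev lc_f_rc_28_2 : Cert rels S Gen.f := rc_28_2
abbrev lc_f_rc_28_4 : Cert rels S Gen.f := rc_28_4
abbrev lc_f_rc_31_10 : Cert rels S Gen.f := rc_31_10
abbrev lc_f_rc_31_14 : Cert rels S Gen.f := rc_31_14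
abbrev lc_f_rc_31_2 : Cert rels S Gen.f := rc_31_2
abbrev lc_f_rc_31_6 : Cert rels S Gen.f := rc_31_6
abbrev lc_f_rc_5_1 : Cert rels S Gen.f := rc_5_1
abbrev lc_f_rc_5_3 : Cert rels S Gen.f := rc_5_3
abbrev lc_f_sc_4_0 : Cert rels S Gen.f := sc_4_0
def ce_f_0 : D2 → D3 → (Cert rels S Gen.f) := @D2.rec (fun _ => D3 → (Cert rels S Gen.f)) (@D3.rec (fun _ => (Cert rels S Gen.f)) lc_f_sc_4_0 lc_f_rc_11_1 lc_f_rc_28_2 lc_f_rc_16_1 lc_f_rc_28_2 lc_f_Cert_tree lc_f_Cert_tree lc_f_rc_28_2 lc_f_Cert_tree lc_f_Cert_tree lc_f_Cert_tree lc_f_rc_25_0 lc_f_Cert_tree lc_f_Cert_tree lc_f_rc_25_0 lc_f_Cert_tree lc_f_Cert_tree lc_f_rc_25_0 lc_f_Cert_tree lc_f_Cert_tree lc_f_Cert_tree) (@D3.rec (fun _ => (Cert rels S Gen.f)) lc_f_rc_25_0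 lc_f_rc_25_0 lc_f_Cert_tree lc_f_Cert_tree lc_f_Cert_tree lc_f_rc_25_0 lc_f_rc_25_0 lc_f_Cert_tree lc_f_Cert_tree lc_f_Cert_tree lc_f_rc_25_0 lc_f_rc_25_0 lc_f_Cert_tree lc_f_rc_11_3 lc_f_rc_25_0 lc_f_Cert_tree lc_f_rc_23_3 lc_f_rc_25_0 lc_f_rc_25_0 lc_f_rc_20_3 lc_f_Cert_tree) (@D3.rec (fun _ => (Cert rels S Gen.f)) lc_f_Cert_tree lc_f_rc_25_0 lc_f_Cert_tree lc_f_rc_25_0 lc_f_Cert_tree lc_f_Cert_tree lc_f_rc_25_0 lc_f_rc_20_3 lc_f_rc_20_3 lc_f_Cert_tree lc_f_Cert_tree lc_f_rc_25_0 lc_f_Cert_tree lc_f_rc_25_0 lc_f_Cert_tree lc_f_Cert_tree lc_f_rc_25_0 lc_f_rc_5_3 lc_f_rc_20_3 lc_f_rc_11_1 lc_f_rc_25_0) (@D3.rec (fun _ => (Cert rels S Gen.f)) lc_f_rc_16_1 lc_f_rc_23_1 lc_f_Cert_tree lc_f_rc_28_2 lc_f_rc_25_0 lc_f_rc_23_1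 lc_f_rc_28_4 lc_f_Cert_tree lc_f_rc_25_0 lc_f_Cert_tree lc_f_Cert_tree lc_f_rc_25_0 lc_f_Cert_tree lc_f_rc_20_3 lc_f_Cert_tree lc_f_rc_25_0 lc_f_rc_28_2 lc_f_rc_20_3 lc_f_rc_25_0 lc_f_rc_25_0 lc_f_rc_25_0) (@D3.rec (fun _ => (Cert rels S Gen.f)) lc_f_Cert_tree lc_f_rc_11_3 lc_f_rc_31_2 lc_f_rc_23_1 lc_f_Cert_tree lc_f_rc_16_1 lc_f_Cert_tree lc_f_rc_25_0 lc_f_Cert_tree lc_f_Cert_tree lc_f_rc_25_0 lc_f_Cert_tree lc_f_rc_5_3 lc_f_Cert_tree lc_f_rc_25_0 lc_f_rc_28_2 lc_f_rc_25_0 lc_f_rc_25_0 lc_f_rc_25_0 lc_f_Cert_tree lc_f_rc_5_3) (@D3.rec (fun _ => (Cert rels S Gen.f)) lc_f_rc_16_1 lc_f_rc_26_6 lc_f_rc_16_1 lc_f_rc_16_1 lc_f_rc_23_1 lc_f_rc_28_2 lc_f_rc_11_1 lc_f_Cert_tree lc_f_rc_23_1 lc_f_rc_28_2 lc_f_rc_25_0 lc_f_rc_20_1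 lc_f_rc_20_3 lc_f_Cert_tree lc_f_Cert_tree lc_f_rc_25_0 lc_f_Cert_tree lc_f_rc_20_3 lc_f_Cert_tree lc_f_rc_25_0 lc_f_Cert_tree) (@D3.rec (fun _ => (Cert rels S Gen.f)) lc_f_rc_25_0 lc_f_rc_28_2 lc_f_rc_20_3 lc_f_rc_25_0 lc_f_rc_25_0 lc_f_rc_16_1 lc_f_rc_23_1 lc_f_Cert_tree lc_f_rc_25_0 lc_f_rc_23_3 lc_f_rc_20_3 lc_f_rc_11_3 lc_f_rc_23_1 lc_f_rc_11_1 lc_f_rc_23_1 lc_f_rc_20_3 lc_f_rc_25_0 lc_f_rc_26_2 lc_f_rc_5_3 lc_f_rc_16_1 lc_f_rc_31_6) (@D3.rec (fun _ => (Cert rels S Gen.f)) lc_f_rc_25_0 lc_f_rc_11_1 lc_f_rc_31_10 lc_f_Cert_tree lc_f_Cert_tree lc_f_rc_25_0 lc_f_Cert_tree lc_f_rc_11_1 lc_f_Cert_tree lc_f_Cert_tree lc_f_rc_25_0 lc_f_Cert_tree lc_f_rc_25_0 lc_f_rc_28_2 lc_f_rc_25_0 lc_f_rc_25_0 lc_f_rc_5_3 lc_f_rc_16_3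 lc_f_rc_26_6 lc_f_rc_25_0 lc_f_rc_26_2) (@D3.rec (fun _ => (Cert rels S Gen.f)) lc_f_rc_20_3 lc_f_rc_16_1 lc_f_rc_26_6 lc_f_rc_20_3 lc_f_rc_25_0 lc_f_rc_16_3 lc_f_rc_11_1 lc_f_Cert_tree lc_f_rc_23_1 lc_f_rc_11_1 lc_f_Cert_tree lc_f_rc_11_1 lc_f_Cert_tree lc_f_Cert_tree lc_f_rc_25_0 lc_f_Cert_tree lc_f_Cert_tree lc_f_rc_20_3 lc_f_rc_20_3 lc_f_Cert_tree lc_f_rc_25_0) (@D3.rec (fun _ => (Cert rels S Gen.f)) lc_f_Cert_tree lc_f_rc_25_0 lc_f_rc_28_2 lc_f_rc_20_3 lc_f_rc_25_0 lc_f_rc_25_0 lc_f_rc_16_1 lc_f_rc_25_0 lc_f_rc_26_2 lc_f_rc_20_3 lc_f_rc_26_6 lc_f_Cert_tree lc_f_rc_25_0 lc_f_rc_20_3 lc_f_rc_20_3 lc_f_rc_16_1 lc_f_rc_23_1 lc_f_rc_20_3 lc_f_rc_5_3 lc_f_Cert_tree lc_f_rc_16_1) (@D3.rec (fun _ => (Cert rels S Gen.f))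 lc_f_Cert_tree lc_f_rc_25_0 lc_f_rc_20_3 lc_f_rc_11_1 lc_f_rc_16_1 lc_f_rc_20_3 lc_f_Cert_tree lc_f_rc_16_1 lc_f_rc_16_1 lc_f_rc_20_3 lc_f_rc_28_2 lc_f_rc_26_2 lc_f_rc_23_1 lc_f_rc_11_1 lc_f_rc_16_3 lc_f_rc_23_3 lc_f_rc_20_3 lc_f_rc_11_3 lc_f_rc_28_2 lc_f_rc_5_1 lc_f_rc_31_14) (@D3.rec (fun _ => (Cert rels S Gen.f)) lc_f_Cert_tree lc_f_Cert_tree lc_f_rc_25_0 lc_f_Cert_tree lc_f_rc_25_0 lc_f_rc_28_2 lc_f_rc_25_0 lc_f_rc_25_0 lc_f_rc_16_1 lc_f_Cert_tree lc_f_Cert_tree lc_f_rc_25_0 lc_f_Cert_tree lc_f_Cert_tree lc_f_rc_25_0 lc_f_rc_28_2 lc_f_rc_20_3 lc_f_rc_25_0 lc_f_rc_20_1 lc_f_rc_25_0 lc_f_rc_20_3) (@D3.rec (fun _ => (Cert rels S Gen.f)) lc_f_rc_16_3 lc_f_rc_20_3 lc_f_Cert_tree lc_f_rc_11_1 lc_f_rc_26_6 lc_f_rc_20_3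 lc_f_rc_16_1 lc_f_rc_23_1 lc_f_rc_28_2 lc_f_rc_28_2 lc_f_rc_16_1 lc_f_rc_26_6 lc_f_Cert_tree lc_f_Cert_tree lc_f_Cert_tree lc_f_rc_25_0 lc_f_Cert_tree lc_f_Cert_tree lc_f_Cert_tree lc_f_Cert_tree lc_f_Cert_tree) (@D3.rec (fun _ => (Cert rels S Gen.f)) lc_f_rc_25_0 lc_f_Cert_tree lc_f_Cert_tree lc_f_Cert_tree lc_f_Cert_tree lc_f_Cert_tree lc_f_rc_25_0 lc_f_Cert_tree lc_f_Cert_tree lc_f_rc_25_0 lc_f_rc_28_2 lc_f_rc_25_0 lc_f_rc_25_0 lc_f_Cert_tree lc_f_rc_25_0 lc_f_Cert_tree lc_f_rc_5_3 lc_f_rc_16_1 lc_f_rc_25_0 lc_f_rc_11_3 lc_f_rc_20_3)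
def ce_f_1 : D2 → D3 → (Cert rels S Gen.f) := @D2.rec (fun _ => D3 → (Cert rels S Gen.f)) (@D3.rec (fun _ => (Cert rels S Gen.f)) lc_f_rc_11_1 lc_f_Cert_tree lc_f_rc_25_0 lc_f_rc_20_3 lc_f_rc_20_1 lc_f_rc_16_1 lc_f_rc_20_3 lc_f_rc_26_2 lc_f_Cert_tree lc_f_rc_20_3 lc_f_Cert_tree lc_f_rc_16_1 lc_f_rc_23_1 lc_f_Cert_tree lc_f_Cert_tree lc_f_Cert_tree lc_f_Cert_tree lc_f_rc_25_0 lc_f_rc_20_3 lc_f_rc_16_1 lc_f_rc_20_3) (@D3.rec (fun _ => (Cert rels S Gen.f)) lc_f_Cert_tree lc_f_rc_16_1 lc_f_Cert_tree lc_f_rc_16_1 lc_f_rc_16_1 lc_f_rc_28_2 lc_f_rc_16_1 lc_f_Cert_tree lc_f_rc_11_1 lc_f_Cert_tree lc_f_Cert_tree lc_f_rc_25_0 lc_f_Cert_tree lc_f_Cert_tree lc_f_Cert_tree lc_f_rc_25_0 lc_f_rc_20_3 lc_f_rc_16_1 lc_f_rc_28_4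 lc_f_rc_11_1 lc_f_rc_11_3) (@D3.rec (fun _ => (Cert rels S Gen.f)) lc_f_rc_28_2 lc_f_rc_25_0 lc_f_rc_16_3 lc_f_rc_11_1 lc_f_Cert_tree lc_f_rc_23_1 lc_f_rc_23_3 lc_f_rc_11_3 lc_f_rc_11_3 lc_f_rc_11_1 lc_f_rc_11_1 lc_f_rc_28_2 lc_f_Cert_tree lc_f_rc_25_0 lc_f_rc_31_6 lc_f_Cert_tree lc_f_rc_25_0 lc_f_Cert_tree lc_f_rc_20_3 lc_f_rc_5_1 lc_f_rc_5_3) (@D3.rec (fun _ => (Cert rels S Gen.f)) lc_f_rc_25_0 lc_f_rc_20_3 lc_f_rc_5_1 lc_f_Cert_tree lc_f_Cert_tree lc_f_Cert_tree lc_f_rc_25_0 lc_f_Cert_tree lc_f_Cert_tree lc_f_rc_25_0 lc_f_rc_28_2 lc_f_rc_20_3 lc_f_rc_25_0 lc_f_Cert_tree lc_f_rc_25_0 lc_f_Cert_tree lc_f_rc_25_0 lc_f_Cert_tree lc_f_rc_20_3 lc_f_rc_20_1 lc_f_rc_16_1) (@D3.rec (fun _ => (Cert rels S Gen.f)) lc_f_rc_23_1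 lc_f_rc_16_1 lc_f_rc_23_1 lc_f_rc_16_1 lc_f_rc_11_1 lc_f_rc_28_2 lc_f_Cert_tree lc_f_rc_25_0 lc_f_Cert_tree lc_f_Cert_tree lc_f_Cert_tree lc_f_rc_16_1 lc_f_rc_28_2 lc_f_Cert_tree lc_f_Cert_tree lc_f_rc_25_0 lc_f_rc_16_1 lc_f_Cert_tree lc_f_Cert_tree lc_f_rc_25_0 lc_f_rc_11_1) (@D3.rec (fun _ => (Cert rels S Gen.f)) lc_f_Cert_tree lc_f_rc_25_0 lc_f_rc_28_2 lc_f_rc_25_0 lc_f_Cert_tree lc_f_rc_25_0 lc_f_Cert_tree lc_f_rc_25_0 lc_f_Cert_tree lc_f_Cert_tree lc_f_Cert_tree lc_f_rc_25_0 lc_f_rc_28_2 lc_f_rc_11_3 lc_f_Cert_tree lc_f_rc_25_0 lc_f_Cert_tree lc_f_Cert_tree lc_f_rc_25_0 lc_f_rc_28_2 lc_f_rc_25_0) (@D3.rec (fun _ => (Cert rels S Gen.f)) lc_f_rc_25_0 lc_f_Cert_tree lc_f_rc_25_0 lc_f_Cert_tree lc_f_Cert_tree lc_f_Cert_tree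 lc_f_Cert_tree lc_f_rc_25_0 lc_f_Cert_tree lc_f_Cert_tree lc_f_rc_25_0 lc_f_Cert_tree lc_f_Cert_tree lc_f_rc_25_0 lc_f_rc_28_2 lc_f_rc_20_3 lc_f_rc_25_0 lc_f_Cert_tree lc_f_rc_25_0 lc_f_Cert_tree lc_f_rc_25_0) (@D3.rec (fun _ => (Cert rels S Gen.f)) lc_f_rc_26_2 lc_f_rc_20_3 lc_f_Cert_tree lc_f_Cert_tree lc_f_rc_5_3 lc_f_Cert_tree lc_f_rc_16_3 lc_f_rc_25_0 lc_f_Cert_tree lc_f_rc_26_6 lc_f_rc_25_0 lc_f_Cert_tree lc_f_rc_26_4 lc_f_rc_20_3 lc_f_Cert_tree lc_f_rc_5_3 lc_f_rc_23_1 lc_f_Cert_tree lc_f_Cert_tree lc_f_rc_31_6 lc_f_Cert_tree) (@D3.rec (fun _ => (Cert rels S Gen.f)) lc_f_rc_25_0 lc_f_rc_20_3 lc_f_rc_16_1 lc_f_rc_28_4 lc_f_rc_16_1 lc_f_Cert_tree lc_f_rc_16_1 lc_f_Cert_tree lc_f_Cert_tree lc_f_Cert_tree lc_f_rc_25_0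 lc_f_rc_23_3 lc_f_rc_16_1 lc_f_rc_23_1 lc_f_rc_28_2 lc_f_Cert_tree lc_f_rc_28_2 lc_f_rc_25_0 lc_f_rc_11_1 lc_f_Cert_tree lc_f_rc_16_1) (@D3.rec (fun _ => (Cert rels S Gen.f)) lc_f_rc_31_10 lc_f_rc_28_2 lc_f_Cert_tree lc_f_rc_25_0 lc_f_Cert_tree lc_f_Cert_tree lc_f_rc_25_0 lc_f_rc_11_3 lc_f_Cert_tree lc_f_Cert_tree lc_f_rc_25_0 lc_f_rc_25_0 lc_f_rc_20_3 lc_f_rc_28_4 lc_f_rc_16_1 lc_f_rc_23_1 lc_f_rc_16_1 lc_f_rc_11_1 lc_f_Cert_tree lc_f_rc_11_3 lc_f_Cert_tree) (@D3.rec (fun _ => (Cert rels S Gen.f)) lc_f_rc_28_2 lc_f_rc_25_0 lc_f_rc_11_1 lc_f_Cert_tree lc_f_rc_16_3 lc_f_Cert_tree lc_f_rc_25_0 lc_f_rc_28_2 lc_f_Cert_tree lc_f_rc_11_1 lc_f_Cert_tree lc_f_rc_28_2 lc_f_rc_5_3 lc_f_rc_16_3 lc_f_Cert_tree lc_f_rc_25_0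 lc_f_rc_28_2 lc_f_rc_16_1 lc_f_rc_11_3 lc_f_Cert_tree lc_f_rc_25_0) (@D3.rec (fun _ => (Cert rels S Gen.f)) lc_f_rc_16_3 lc_f_rc_16_1 lc_f_rc_25_0 lc_f_rc_28_2 lc_f_rc_25_0 lc_f_rc_11_3 lc_f_rc_25_0 lc_f_rc_11_1 lc_f_rc_25_0 lc_f_rc_28_4 lc_f_rc_28_2 lc_f_Cert_tree lc_f_rc_25_0 lc_f_rc_20_3 lc_f_rc_11_3 lc_f_rc_11_1 lc_f_rc_5_1 lc_f_rc_5_1 lc_f_Cert_tree lc_f_rc_16_3 lc_f_rc_25_0) (@D3.rec (fun _ => (Cert rels S Gen.f)) lc_f_rc_16_1 lc_f_rc_16_1 lc_f_rc_28_2 lc_f_rc_11_1 lc_f_rc_11_1 lc_f_Cert_tree lc_f_Cert_tree lc_f_rc_25_0 lc_f_Cert_tree lc_f_rc_20_3 lc_f_rc_5_1 lc_f_rc_25_0 lc_f_rc_28_2 lc_f_rc_20_3 lc_f_rc_25_0 lc_f_Cert_tree lc_f_rc_25_0 lc_f_rc_16_1 lc_f_rc_23_1 lc_f_rc_5_3 lc_f_rc_5_3) (@D3.rec (fun _ =>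 (Cert rels S Gen.f)) lc_f_rc_16_1 lc_f_Cert_tree lc_f_rc_25_0 lc_f_rc_26_6 lc_f_Cert_tree lc_f_Cert_tree lc_f_rc_25_0 lc_f_Cert_tree lc_f_Cert_tree lc_f_rc_25_0 lc_f_rc_28_2 lc_f_rc_20_3 lc_f_rc_25_0 lc_f_rc_28_2 lc_f_rc_25_0 lc_f_Cert_tree lc_f_rc_25_0 lc_f_rc_26_2 lc_f_rc_20_3 lc_f_Cert_tree lc_f_rc_16_1)
def ce_f_2 : D2 → D3 → (Cert rels S Gen.f) := @D2.rec (fun _ => D3 → (Cert rels S Gen.f)) (@D3.rec (fun _ => (Cert rels S Gen.f)) lc_f_rc_23_1 lc_f_rc_28_2 lc_f_rc_28_2 lc_f_Cert_tree lc_f_rc_28_2 lc_f_rc_25_0 lc_f_rc_20_3 lc_f_Cert_tree lc_f_rc_16_3 lc_f_rc_25_0 lc_f_rc_31_10 lc_f_rc_20_3 lc_f_rc_26_6 lc_f_rc_28_4 lc_f_rc_25_0 lc_f_rc_16_1 lc_f_rc_28_2 lc_f_rc_16_1 lc_f_rc_23_1 lc_f_rc_11_1 lc_f_Cert_tree) (@D3.rec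 (fun _ => (Cert rels S Gen.f)) lc_f_rc_16_1 lc_f_rc_11_1 lc_f_Cert_tree lc_f_rc_16_1 lc_f_Cert_tree lc_f_Cert_tree lc_f_rc_25_0 lc_f_rc_28_2 lc_f_rc_25_0 lc_f_Cert_tree lc_f_rc_25_0 lc_f_Cert_tree lc_f_rc_25_0 lc_f_Cert_tree lc_f_rc_25_0 lc_f_Cert_tree lc_f_rc_28_2 lc_f_rc_25_0 lc_f_rc_25_0 lc_f_rc_28_2 lc_f_rc_25_0) (@D3.rec (fun _ => (Cert rels S Gen.f)) lc_f_Cert_tree lc_f_rc_16_1 lc_f_rc_25_0 lc_f_Cert_tree lc_f_rc_25_0 lc_f_rc_28_2 lc_f_rc_20_3 lc_f_rc_25_0 lc_f_Cert_tree lc_f_Cert_tree lc_f_rc_25_0 lc_f_rc_26_2 lc_f_rc_20_3 lc_f_Cert_tree lc_f_Cert_tree lc_f_rc_11_1 lc_f_rc_28_2 lc_f_rc_25_0 lc_f_rc_20_3 lc_f_rc_26_2 lc_f_rc_11_3) (@D3.rec (fun _ => (Cert rels S Gen.f)) lc_f_rc_25_0 lc_f_Cert_tree lc_f_rc_26_6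 lc_f_rc_25_0 lc_f_rc_23_3 lc_f_rc_11_3 lc_f_Cert_tree lc_f_rc_25_0 lc_f_rc_25_0 lc_f_rc_28_4 lc_f_rc_11_3 lc_f_rc_5_3 lc_f_rc_28_2 lc_f_rc_16_3 lc_f_rc_11_3 lc_f_rc_20_1 lc_f_Cert_tree lc_f_rc_25_0 lc_f_rc_16_1 lc_f_Cert_tree lc_f_rc_25_0) (@D3.rec (fun _ => (Cert rels S Gen.f)) lc_f_rc_5_1 lc_f_rc_25_0 lc_f_rc_26_2 lc_f_rc_20_3 lc_f_Cert_tree lc_f_Cert_tree lc_f_rc_5_1 lc_f_rc_11_3 lc_f_Cert_tree lc_f_rc_25_0 lc_f_rc_31_6 lc_f_rc_26_6 lc_f_rc_25_0 lc_f_Cert_tree lc_f_rc_25_0 lc_f_rc_28_2 lc_f_Cert_tree lc_f_Cert_tree lc_f_rc_25_0 lc_f_Cert_tree lc_f_rc_16_1) (@D3.rec (fun _ => (Cert rels S Gen.f)) lc_f_rc_25_0 lc_f_rc_11_1 lc_f_rc_20_3 lc_f_rc_11_3 lc_f_rc_25_0 lc_f_Cert_tree lc_f_rc_25_0 lc_f_rc_28_2 lc_f_rc_20_3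 lc_f_rc_25_0 lc_f_rc_28_2 lc_f_rc_25_0 lc_f_rc_25_0 lc_f_rc_20_3 lc_f_rc_16_1 lc_f_rc_23_1 lc_f_Cert_tree lc_f_rc_23_3 lc_f_rc_16_3 lc_f_rc_25_0 lc_f_rc_16_1) (@D3.rec (fun _ => (Cert rels S Gen.f)) lc_f_Cert_tree lc_f_rc_25_0 lc_f_rc_16_1 lc_f_rc_20_3 lc_f_Cert_tree lc_f_rc_28_4 lc_f_rc_16_1 lc_f_rc_16_3 lc_f_rc_25_0 lc_f_Cert_tree lc_f_rc_25_0 lc_f_rc_16_1 lc_f_rc_5_3 lc_f_Cert_tree lc_f_rc_25_0 lc_f_rc_28_2 lc_f_rc_11_1 lc_f_rc_20_3 lc_f_rc_25_0 lc_f_Cert_tree lc_f_rc_5_3) (@D3.rec (fun _ => (Cert rels S Gen.f)) lc_f_Cert_tree lc_f_rc_26_0 lc_f_rc_25_0 lc_f_rc_16_1 lc_f_rc_26_6 lc_f_rc_16_3 lc_f_rc_5_1 lc_f_rc_23_1 lc_f_rc_28_2 lc_f_rc_5_3 lc_f_rc_28_2 lc_f_rc_25_0 lc_f_rc_11_1 lc_f_Cert_tree lc_f_rc_5_3 lc_f_rc_31_10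 lc_f_rc_28_2 lc_f_Cert_tree lc_f_rc_25_0 lc_f_rc_28_2 lc_f_Cert_tree) (@D3.rec (fun _ => (Cert rels S Gen.f)) lc_f_rc_25_0 lc_f_rc_20_3 lc_f_rc_16_3 lc_f_rc_25_0 lc_f_rc_20_3 lc_f_rc_28_4 lc_f_rc_16_1 lc_f_rc_23_1 lc_f_rc_16_1 lc_f_rc_11_1 lc_f_Cert_tree lc_f_rc_16_1 lc_f_Cert_tree lc_f_rc_16_3 lc_f_Cert_tree lc_f_rc_25_0 lc_f_rc_28_2 lc_f_Cert_tree lc_f_rc_11_3 lc_f_rc_25_0 lc_f_rc_11_3) (@D3.rec (fun _ => (Cert rels S Gen.f)) lc_f_rc_5_3 lc_f_rc_25_0 lc_f_rc_26_6 lc_f_rc_25_0 lc_f_rc_28_2 lc_f_rc_25_0 lc_f_rc_11_1 lc_f_Cert_tree lc_f_rc_16_1 lc_f_rc_16_1 lc_f_rc_11_3 lc_f_Cert_tree lc_f_rc_16_1 lc_f_rc_25_0 lc_f_rc_5_1 lc_f_Cert_tree lc_f_rc_5_1 lc_f_rc_26_6 lc_f_rc_16_3 lc_f_Cert_tree lc_f_rc_25_0) (@D3.rec (fun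 _ => (Cert rels S Gen.f)) lc_f_Cert_tree lc_f_Cert_tree lc_f_rc_16_1 lc_f_rc_5_1 lc_f_rc_16_1 lc_f_rc_16_3 lc_f_rc_28_2 lc_f_rc_25_0 lc_f_rc_20_3 lc_f_rc_26_2 lc_f_rc_20_1 lc_f_Cert_tree lc_f_rc_25_0 lc_f_rc_25_0 lc_f_rc_28_4 lc_f_rc_16_1 lc_f_rc_20_3 lc_f_rc_16_1 lc_f_Cert_tree lc_f_rc_25_0 lc_f_Cert_tree) (@D3.rec (fun _ => (Cert rels S Gen.f)) lc_f_Cert_tree lc_f_rc_25_0 lc_f_rc_16_1 lc_f_rc_20_3 lc_f_rc_16_1 lc_f_rc_23_1 lc_f_rc_28_2 lc_f_rc_20_3 lc_f_Cert_tree lc_f_rc_28_2 lc_f_rc_28_2 lc_f_rc_16_1 lc_f_Cert_tree lc_f_rc_16_1 lc_f_Cert_tree lc_f_Cert_tree lc_f_rc_25_0 lc_f_rc_26_6 lc_f_Cert_tree lc_f_rc_16_1 lc_f_rc_11_1) (@D3.rec (fun _ => (Cert rels S Gen.f)) lc_f_rc_25_0 lc_f_Cert_tree lc_f_Cert_tree lc_f_Cert_tree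 lc_f_rc_25_0 lc_f_Cert_tree lc_f_rc_16_3 lc_f_rc_16_1 lc_f_rc_25_0 lc_f_rc_5_1 lc_f_rc_25_0 lc_f_rc_28_4 lc_f_rc_5_3 lc_f_rc_20_5 lc_f_Cert_tree lc_f_rc_25_0 lc_f_rc_5_3 lc_f_rc_5_1 lc_f_rc_20_3 lc_f_rc_25_0 lc_f_rc_11_1) (@D3.rec (fun _ => (Cert rels S Gen.f)) lc_f_rc_25_0 lc_f_rc_20_3 lc_f_Cert_tree lc_f_rc_28_2 lc_f_rc_20_3 lc_f_Cert_tree lc_f_Cert_tree lc_f_rc_23_1 lc_f_rc_20_3 lc_f_rc_11_3 lc_f_rc_11_3 lc_f_rc_28_2 lc_f_rc_25_0 lc_f_rc_20_3 lc_f_rc_16_1 lc_f_Cert_tree lc_f_rc_25_0 lc_f_rc_5_3 lc_f_rc_5_1 lc_f_Cert_tree lc_f_rc_25_0)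
def ce_f_3 : D2 → D3 → (Cert rels S Gen.f) := @D2.rec (fun _ => D3 → (Cert rels S Gen.f)) (@D3.rec (fun _ => (Cert rels S Gen.f)) lc_f_rc_31_2 lc_f_rc_25_0 lc_f_rc_28_2 lc_f_rc_20_3 lc_f_rc_25_0 lc_f_rc_26_6 lc_f_rc_25_0 lc_f_rc_16_1 lc_f_rc_5_1 lc_f_rc_5_1 lc_f_rc_5_1 lc_f_rc_20_3 lc_f_Cert_tree lc_f_rc_16_1 lc_f_rc_23_1 lc_f_rc_5_1 lc_f_rc_5_3 lc_f_Cert_tree lc_f_rc_26_2 lc_f_rc_25_0 lc_f_rc_20_3) (@D3.rec (fun _ => (Cert rels S Gen.f)) lc_f_rc_11_1 lc_f_Cert_tree lc_f_rc_16_1 lc_f_rc_11_1 lc_f_rc_20_3 lc_f_rc_5_3 lc_f_rc_25_0 lc_f_rc_28_2 lc_f_rc_25_0 lc_f_rc_25_0 lc_f_Cert_tree lc_f_rc_16_1 lc_f_rc_25_0 lc_f_rc_11_1 lc_f_rc_26_2 lc_f_rc_25_0 lc_f_rc_25_0 lc_f_rc_20_3 lc_f_rc_5_1 lc_f_rc_23_1 lc_f_rc_28_2) (@D3.rec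 (fun _ => (Cert rels S Gen.f)) lc_f_rc_25_0 lc_f_rc_16_1 lc_f_rc_20_3 lc_f_rc_23_1 lc_f_rc_16_1 lc_f_rc_20_3 lc_f_rc_28_4 lc_f_rc_16_3 lc_f_rc_20_3 lc_f_rc_25_0 lc_f_rc_11_1 lc_f_Cert_tree lc_f_rc_16_1 lc_f_rc_16_1 lc_f_rc_20_1 lc_f_rc_31_10 lc_f_rc_28_2 lc_f_rc_11_3 lc_f_Cert_tree lc_f_rc_16_1 lc_f_rc_25_0) (@D3.rec (fun _ => (Cert rels S Gen.f)) lc_f_rc_20_3 lc_f_rc_16_1 lc_f_rc_23_1 lc_f_rc_25_0 lc_f_rc_11_1 lc_f_rc_20_3 lc_f_rc_16_1 lc_f_rc_16_1 lc_f_rc_28_2 lc_f_rc_16_1 lc_f_rc_20_3 lc_f_rc_11_1 lc_f_rc_20_1 lc_f_rc_16_1 lc_f_rc_11_1 lc_f_Cert_tree lc_f_rc_16_1 lc_f_rc_5_1 lc_f_rc_11_3 lc_f_rc_11_1 lc_f_rc_5_3) (@D3.rec (fun _ => (Cert rels S Gen.f)) lc_f_rc_16_3 lc_f_rc_25_0 lc_f_Cert_tree lc_f_rc_20_1 lc_f_rc_5_1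 lc_f_Cert_tree lc_f_rc_5_1 lc_f_rc_25_0 lc_f_Cert_tree lc_f_rc_28_2 lc_f_Cert_tree lc_f_rc_25_0 lc_f_Cert_tree lc_f_rc_25_0 lc_f_rc_26_2 lc_f_rc_5_3 lc_f_rc_16_3 lc_f_rc_16_1 lc_f_rc_23_3 lc_f_rc_25_0 lc_f_rc_5_1) (@D3.rec (fun _ => (Cert rels S Gen.f)) lc_f_rc_25_0 lc_f_rc_26_6 lc_f_rc_25_0 lc_f_rc_28_4 lc_f_rc_28_2 lc_f_rc_5_3 lc_f_rc_25_0 lc_f_rc_20_3 lc_f_rc_20_3 lc_f_rc_20_3 lc_f_rc_26_2 lc_f_rc_31_10 lc_f_rc_25_0 lc_f_rc_5_1 lc_f_rc_26_2 lc_f_rc_25_0 lc_f_rc_20_3 lc_f_rc_23_1 lc_f_rc_23_3 lc_f_rc_16_3 lc_f_rc_25_0) (@D3.rec (fun _ => (Cert rels S Gen.f)) lc_f_rc_25_0 lc_f_rc_11_1 lc_f_rc_20_3 lc_f_Cert_tree lc_f_rc_28_4 lc_f_rc_16_1 lc_f_Cert_tree lc_f_rc_25_0 lc_f_rc_28_2 lc_f_rc_25_0 lc_f_Cert_tree lc_f_rc_20_3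 lc_f_rc_16_1 lc_f_rc_23_1 lc_f_Cert_tree lc_f_rc_5_1 lc_f_rc_16_1 lc_f_rc_25_0 lc_f_Cert_tree lc_f_rc_20_3 lc_f_rc_5_3) (@D3.rec (fun _ => (Cert rels S Gen.f)) lc_f_rc_11_3 lc_f_Cert_tree lc_f_rc_25_0 lc_f_rc_20_3 lc_f_Cert_tree lc_f_rc_20_3 lc_f_rc_16_1 lc_f_rc_5_3 lc_f_rc_20_1 lc_f_Cert_tree lc_f_rc_20_3 lc_f_Cert_tree lc_f_rc_11_3 lc_f_rc_31_6 lc_f_rc_25_0 lc_f_Cert_tree lc_f_rc_20_3 lc_f_Cert_tree lc_f_rc_5_3 lc_f_rc_25_0 lc_f_rc_20_1) (@D3.rec (fun _ => (Cert rels S Gen.f)) lc_f_rc_5_1 lc_f_rc_20_3 lc_f_rc_23_3 lc_f_rc_16_1 lc_f_rc_16_3 lc_f_rc_16_3 lc_f_rc_25_0 lc_f_rc_16_1 lc_f_rc_25_0 lc_f_rc_16_1 lc_f_rc_5_1 lc_f_rc_26_6 lc_f_Cert_tree lc_f_Cert_tree lc_f_rc_25_0 lc_f_rc_20_3 lc_f_Cert_tree lc_f_rc_25_0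 lc_f_rc_28_2 lc_f_rc_25_1 lc_f_rc_11_1) (@D3.rec (fun _ => (Cert rels S Gen.f)) lc_f_rc_25_0 lc_f_rc_31_6 lc_f_rc_5_1 lc_f_rc_25_0 lc_f_rc_28_2 lc_f_rc_20_3 lc_f_rc_25_0 lc_f_rc_28_2 lc_f_rc_25_0 lc_f_rc_20_3 lc_f_rc_16_1 lc_f_rc_23_1 lc_f_rc_16_3 lc_f_rc_16_1 lc_f_rc_25_0 lc_f_rc_20_3 lc_f_rc_16_1 lc_f_rc_23_1 lc_f_rc_28_2 lc_f_rc_20_3 lc_f_rc_26_0) (@D3.rec (fun _ => (Cert rels S Gen.f)) lc_f_rc_28_2 lc_f_rc_11_1 lc_f_rc_11_3 lc_f_rc_28_2 lc_f_rc_25_0 lc_f_rc_20_3 lc_f_rc_16_3 lc_f_Cert_tree lc_f_rc_25_0 lc_f_rc_28_2 lc_f_rc_20_3 lc_f_rc_26_6 lc_f_rc_25_0 lc_f_rc_26_0 lc_f_rc_28_2 lc_f_rc_23_1 lc_f_rc_25_0 lc_f_rc_28_4 lc_f_rc_11_1 lc_f_rc_11_3 lc_f_rc_16_1) (@D3.rec (fun _ => (Cert rels S Gen.f)) lc_f_Cert_tree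 lc_f_rc_26_2 lc_f_rc_25_0 lc_f_rc_20_5 lc_f_Cert_tree lc_f_Cert_tree lc_f_rc_25_0 lc_f_rc_5_3 lc_f_Cert_tree lc_f_rc_11_3 lc_f_rc_26_0 lc_f_rc_25_0 lc_f_rc_28_2 lc_f_rc_25_0 lc_f_rc_26_6 lc_f_rc_11_1 lc_f_Cert_tree lc_f_rc_5_1 lc_f_rc_16_1 lc_f_rc_31_2 lc_f_rc_16_1) (@D3.rec (fun _ => (Cert rels S Gen.f)) lc_f_rc_11_1 lc_f_Cert_tree lc_f_rc_11_1 lc_f_rc_28_2 lc_f_Cert_tree lc_f_rc_25_0 lc_f_Cert_tree lc_f_Cert_tree lc_f_rc_16_1 lc_f_rc_5_1 lc_f_rc_16_1 lc_f_rc_25_0 lc_f_rc_23_3 lc_f_rc_25_0 lc_f_rc_11_1 lc_f_rc_20_1 lc_f_rc_28_4 lc_f_rc_25_0 lc_f_rc_20_3 lc_f_rc_20_3 lc_f_rc_16_1) (@D3.rec (fun _ => (Cert rels S Gen.f)) lc_f_rc_23_1 lc_f_rc_28_2 lc_f_rc_20_3 lc_f_Cert_tree lc_f_rc_28_2 lc_f_rc_28_2 lc_f_rc_25_0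 lc_f_Cert_tree lc_f_Cert_tree lc_f_rc_25_0 lc_f_rc_26_6 lc_f_rc_11_1 lc_f_Cert_tree lc_f_Cert_tree lc_f_rc_25_0 lc_f_Cert_tree lc_f_rc_25_0 lc_f_Cert_tree lc_f_rc_28_2 lc_f_rc_25_0 lc_f_rc_11_1)
def ce_f_4 : D2 → D3 → (Cert rels S Gen.f) := @D2.rec (fun _ => D3 → (Cert rels S Gen.f)) (@D3.rec (fun _ => (Cert rels S Gen.f)) lc_f_rc_20_3 lc_f_rc_28_4 lc_f_rc_20_3 lc_f_Cert_tree lc_f_Cert_tree lc_f_Cert_tree lc_f_rc_11_1 lc_f_Cert_tree lc_f_Cert_tree lc_f_rc_25_0 lc_f_Cert_tree lc_f_rc_5_3 lc_f_rc_20_3 lc_f_Cert_tree lc_f_Cert_tree lc_f_rc_25_0 lc_f_Cert_tree lc_f_Cert_tree lc_f_rc_26_2 lc_f_Cert_tree lc_f_Cert_tree) (@D3.rec (fun _ => (Cert rels S Gen.f)) lc_f_rc_25_0 lc_f_Cert_tree lc_f_rc_11_1 lc_f_rc_11_1 lc_f_rc_16_3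 lc_f_rc_28_2 lc_f_Cert_tree lc_f_rc_25_0 lc_f_rc_28_2 lc_f_rc_25_0 lc_f_rc_25_0 lc_f_Cert_tree lc_f_rc_25_0 lc_f_Cert_tree lc_f_Cert_tree lc_f_rc_16_1 lc_f_rc_20_3 lc_f_rc_20_3 lc_f_rc_26_6 lc_f_rc_26_2 lc_f_rc_25_0) (@D3.rec (fun _ => (Cert rels S Gen.f)) lc_f_rc_25_0 lc_f_rc_20_3 lc_f_rc_28_2 lc_f_rc_23_1 lc_f_rc_28_4 lc_f_rc_20_3 lc_f_Cert_tree lc_f_rc_25_0 lc_f_rc_25_0 lc_f_Cert_tree lc_f_rc_25_0 lc_f_Cert_tree lc_f_rc_16_1 lc_f_rc_20_3 lc_f_Cert_tree lc_f_rc_28_2 lc_f_rc_16_1 lc_f_Cert_tree lc_f_Cert_tree lc_f_rc_25_0 lc_f_rc_20_3) (@D3.rec (fun _ => (Cert rels S Gen.f)) lc_f_rc_11_3 lc_f_rc_28_2 lc_f_rc_25_0 lc_f_rc_5_1 lc_f_Cert_tree lc_f_Cert_tree lc_f_Cert_tree lc_f_rc_25_0 lc_f_rc_28_2 lc_f_rc_16_3 lc_f_rc_25_0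 lc_f_rc_28_2 lc_f_rc_25_0 lc_f_Cert_tree lc_f_rc_25_0 lc_f_rc_31_2 lc_f_rc_11_1 lc_f_Cert_tree lc_f_Cert_tree lc_f_rc_25_0 lc_f_Cert_tree) (@D3.rec (fun _ => (Cert rels S Gen.f)) lc_f_Cert_tree lc_f_Cert_tree lc_f_rc_26_4 lc_f_rc_25_0 lc_f_rc_31_6 lc_f_rc_25_0 lc_f_rc_28_2 lc_f_rc_25_0 lc_f_rc_25_0 lc_f_rc_16_3 lc_f_rc_26_4 lc_f_rc_28_2 lc_f_rc_23_1 lc_f_rc_20_3 lc_f_rc_31_6 lc_f_rc_11_3 lc_f_rc_20_5 lc_f_Cert_tree lc_f_rc_20_5 lc_f_rc_25_0 lc_f_rc_28_4) (@D3.rec (fun _ => (Cert rels S Gen.f)) lc_f_rc_23_1 lc_f_rc_5_3 lc_f_rc_16_1 lc_f_rc_11_1 lc_f_rc_25_0 lc_f_Cert_tree lc_f_rc_5_3 lc_f_rc_5_3 lc_f_Cert_tree lc_f_Cert_tree lc_f_rc_25_0 lc_f_rc_11_1 lc_f_rc_28_2 lc_f_rc_25_0 lc_f_rc_16_1 lc_f_rc_23_1 lc_f_rc_20_1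 lc_f_rc_11_1 lc_f_rc_20_3 lc_f_Cert_tree lc_f_rc_16_3) (@D3.rec (fun _ => (Cert rels S Gen.f)) lc_f_rc_25_0 lc_f_rc_11_1 lc_f_rc_16_1 lc_f_rc_25_0 lc_f_rc_11_1 lc_f_rc_20_3 lc_f_rc_28_4 lc_f_rc_16_1 lc_f_rc_26_2 lc_f_rc_5_1 lc_f_rc_11_1 lc_f_rc_16_1 lc_f_rc_11_1 lc_f_rc_11_3 lc_f_rc_5_1 lc_f_rc_16_1 lc_f_rc_5_1 lc_f_rc_5_1 lc_f_rc_16_3 lc_f_rc_5_1 lc_f_rc_25_0) (@D3.rec (fun _ => (Cert rels S Gen.f)) lc_f_rc_11_1 lc_f_Cert_tree lc_f_rc_16_1 lc_f_rc_16_1 lc_f_rc_5_1 lc_f_rc_26_6 lc_f_rc_25_1 lc_f_Cert_tree lc_f_rc_23_3 lc_f_rc_25_0 lc_f_rc_20_3 lc_f_rc_16_1 lc_f_rc_5_1 lc_f_rc_5_1 lc_f_Cert_tree lc_f_rc_11_1 lc_f_rc_16_3 lc_f_rc_25_0 lc_f_Cert_tree lc_f_rc_5_1 lc_f_rc_5_1) (@D3.rec (fun _ => (Cert rels S Gen.f))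 lc_f_rc_20_3 lc_f_rc_5_1 lc_f_rc_28_2 lc_f_rc_11_3 lc_f_rc_11_3 lc_f_rc_28_2 lc_f_rc_25_0 lc_f_rc_20_3 lc_f_rc_26_2 lc_f_rc_28_2 lc_f_rc_20_3 lc_f_rc_16_1 lc_f_rc_28_2 lc_f_rc_16_3 lc_f_rc_16_1 lc_f_rc_31_6 lc_f_rc_16_1 lc_f_rc_31_10 lc_f_rc_11_1 lc_f_rc_25_1 lc_f_rc_16_1) (@D3.rec (fun _ => (Cert rels S Gen.f)) lc_f_rc_5_1 lc_f_Cert_tree lc_f_rc_11_1 lc_f_rc_5_3 lc_f_rc_5_3 lc_f_rc_25_0 lc_f_rc_28_4 lc_f_rc_16_1 lc_f_rc_11_1 lc_f_rc_16_1 lc_f_Cert_tree lc_f_rc_5_3 lc_f_rc_25_0 lc_f_rc_16_1 lc_f_rc_5_3 lc_f_rc_5_3 lc_f_rc_11_1 lc_f_rc_16_1 lc_f_rc_20_1 lc_f_rc_23_1 lc_f_rc_25_1) (@D3.rec (fun _ => (Cert rels S Gen.f)) lc_f_rc_16_1 lc_f_rc_28_2 lc_f_Cert_tree lc_f_rc_28_2 lc_f_rc_25_0 lc_f_rc_5_3 lc_f_rc_20_3 lc_f_rc_11_1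 lc_f_rc_5_1 lc_f_Cert_tree lc_f_rc_20_1 lc_f_rc_5_3 lc_f_rc_28_2 lc_f_rc_23_1 lc_f_rc_28_2 lc_f_rc_25_0 lc_f_rc_25_0 lc_f_rc_20_3 lc_f_Cert_tree lc_f_rc_25_0 lc_f_rc_5_3) (@D3.rec (fun _ => (Cert rels S Gen.f)) lc_f_rc_31_6 lc_f_rc_25_0 lc_f_rc_11_1 lc_f_rc_16_1 lc_f_rc_28_2 lc_f_rc_31_6 lc_f_rc_25_0 lc_f_rc_25_0 lc_f_rc_25_0 lc_f_Cert_tree lc_f_rc_5_3 lc_f_rc_25_1 lc_f_rc_16_3 lc_f_rc_5_3 lc_f_rc_11_1 lc_f_Cert_tree lc_f_rc_23_1 lc_f_rc_20_3 lc_f_rc_5_3 lc_f_rc_16_1 lc_f_rc_16_3) (@D3.rec (fun _ => (Cert rels S Gen.f)) lc_f_rc_26_2 lc_f_rc_28_2 lc_f_rc_20_3 lc_f_rc_28_2 lc_f_rc_20_3 lc_f_rc_16_3 lc_f_rc_25_0 lc_f_rc_25_0 lc_f_Cert_tree lc_f_rc_25_0 lc_f_rc_16_1 lc_f_rc_23_1 lc_f_rc_28_2 lc_f_rc_11_1 lc_f_rc_16_1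 lc_f_rc_16_1 lc_f_rc_31_10 lc_f_rc_28_2 lc_f_rc_25_0 lc_f_rc_16_1 lc_f_rc_25_0) (@D3.rec (fun _ => (Cert rels S Gen.f)) lc_f_rc_23_1 lc_f_rc_16_1 lc_f_rc_5_3 lc_f_Cert_tree lc_f_rc_25_0 lc_f_rc_25_0 lc_f_rc_28_2 lc_f_rc_16_1 lc_f_rc_16_1 lc_f_rc_25_0 lc_f_rc_16_1 lc_f_rc_23_1 lc_f_rc_28_2 lc_f_rc_5_1 lc_f_rc_16_1 lc_f_rc_28_2 lc_f_Cert_tree lc_f_rc_28_2 lc_f_rc_31_10 lc_f_rc_25_0 lc_f_Cert_tree)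
def ce_f_5 : D2 → D3 → (Cert rels S Gen.f) := @D2.rec (fun _ => D3 → (Cert rels S Gen.f)) (@D3.rec (fun _ => (Cert rels S Gen.f)) lc_f_rc_5_3 lc_f_rc_23_1 lc_f_rc_5_3 lc_f_rc_25_0 lc_f_rc_16_1 lc_f_rc_28_4 lc_f_rc_20_3 lc_f_rc_25_0 lc_f_Cert_tree lc_f_rc_5_3 lc_f_rc_25_0 lc_f_rc_23_1 lc_f_rc_28_2 lc_f_rc_16_1 lc_f_rc_26_0 lc_f_rc_11_1 lc_f_rc_11_1 lc_f_rc_11_3 lc_f_rc_11_1 lc_f_rc_28_4 lc_f_Cert_tree) (@D3.rec (fun _ => (Cert rels S Gen.f)) lc_f_Cert_tree lc_f_rc_25_0 lc_f_rc_25_0 lc_f_rc_20_3 lc_f_rc_28_4 lc_f_rc_25_0 lc_f_rc_16_1 lc_f_rc_23_1 lc_f_rc_16_3 lc_f_rc_16_1 lc_f_rc_5_1 lc_f_rc_16_1 lc_f_rc_23_1 lc_f_rc_16_1 lc_f_rc_11_1 lc_f_rc_16_1 lc_f_rc_16_1 lc_f_rc_31_10 lc_f_rc_11_1 lc_f_Cert_tree lc_f_rc_20_3)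 (@D3.rec (fun _ => (Cert rels S Gen.f)) lc_f_rc_31_6 lc_f_rc_28_2 lc_f_rc_11_1 lc_f_rc_11_3 lc_f_rc_11_1 lc_f_rc_5_3 lc_f_rc_28_4 lc_f_rc_5_1 lc_f_rc_25_0 lc_f_rc_20_3 lc_f_rc_23_1 lc_f_rc_28_2 lc_f_rc_11_1 lc_f_rc_26_4 lc_f_rc_5_1 lc_f_rc_20_1 lc_f_rc_11_3 lc_f_rc_28_2 lc_f_rc_5_3 lc_f_rc_25_0 lc_f_rc_25_0) (@D3.rec (fun _ => (Cert rels S Gen.f)) lc_f_rc_25_0 lc_f_rc_28_2 lc_f_rc_25_0 lc_f_rc_26_2 lc_f_Cert_tree lc_f_Cert_tree lc_f_Cert_tree lc_f_rc_28_2 lc_f_Cert_tree lc_f_rc_25_0 lc_f_Cert_tree lc_f_rc_5_1 lc_f_Cert_tree lc_f_rc_28_2 lc_f_Cert_tree lc_f_rc_25_0 lc_f_Cert_tree lc_f_rc_28_2 lc_f_rc_5_3 lc_f_rc_25_0 lc_f_rc_26_2) (@D3.rec (fun _ => (Cert rels S Gen.f)) lc_f_rc_25_0 lc_f_Cert_tree lc_f_rc_25_0 lc_f_Cert_tree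 lc_f_Cert_tree lc_f_rc_16_1 lc_f_rc_28_2 lc_f_rc_20_3 lc_f_rc_16_1 lc_f_rc_20_3 lc_f_Cert_tree lc_f_rc_26_6 lc_f_rc_31_2 lc_f_Cert_tree lc_f_rc_25_0 lc_f_rc_20_3 lc_f_rc_5_1 lc_f_Cert_tree lc_f_rc_25_0 lc_f_rc_28_2 lc_f_rc_25_0) (@D3.rec (fun _ => (Cert rels S Gen.f)) lc_f_rc_28_2 lc_f_rc_25_0 lc_f_Cert_tree lc_f_rc_26_4 lc_f_rc_25_0 lc_f_rc_31_6 lc_f_rc_25_0 lc_f_rc_28_2 lc_f_rc_25_0 lc_f_rc_25_0 lc_f_rc_20_3 lc_f_rc_20_3 lc_f_rc_20_1 lc_f_rc_25_0 lc_f_rc_16_1 lc_f_rc_31_10 lc_f_rc_16_1 lc_f_rc_28_4 lc_f_Cert_tree lc_f_rc_25_0 lc_f_rc_11_1) (@D3.rec (fun _ => (Cert rels S Gen.f)) lc_f_rc_28_2 lc_f_rc_25_0 lc_f_Cert_tree lc_f_Cert_tree lc_f_rc_25_0 lc_f_rc_11_1 lc_f_Cert_tree lc_f_Cert_tree lc_f_rc_25_0 lc_f_rc_25_0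 lc_f_rc_28_2 lc_f_rc_25_0 lc_f_rc_26_4 lc_f_rc_25_0 lc_f_rc_5_3 lc_f_rc_28_4 lc_f_Cert_tree lc_f_Cert_tree lc_f_rc_25_0 lc_f_Cert_tree lc_f_rc_25_0) (@D3.rec (fun _ => (Cert rels S Gen.f)) lc_f_rc_25_0 lc_f_rc_25_0 lc_f_rc_25_0 lc_f_Cert_tree lc_f_rc_25_0 lc_f_Cert_tree lc_f_rc_25_0 lc_f_Cert_tree lc_f_rc_20_1 lc_f_rc_26_2 lc_f_Cert_tree lc_f_rc_25_0 lc_f_rc_26_2 lc_f_rc_16_1 lc_f_Cert_tree lc_f_rc_16_1 lc_f_rc_25_0 lc_f_rc_26_6 lc_f_rc_25_0 lc_f_rc_25_0 lc_f_rc_5_1) (@D3.rec (fun _ => (Cert rels S Gen.f)) lc_f_rc_20_3 lc_f_rc_26_2 lc_f_rc_16_1 lc_f_rc_28_2 lc_f_rc_23_3 lc_f_rc_28_2 lc_f_rc_11_3 lc_f_rc_16_1 lc_f_rc_20_3 lc_f_rc_25_0 lc_f_Cert_tree lc_f_Cert_tree lc_f_rc_25_0 lc_f_rc_25_0 lc_f_rc_11_1 lc_f_rc_16_1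 lc_f_Cert_tree lc_f_rc_25_0 lc_f_Cert_tree lc_f_rc_16_1 lc_f_rc_11_1) (@D3.rec (fun _ => (Cert rels S Gen.f)) lc_f_rc_20_3 lc_f_rc_20_1 lc_f_rc_25_0 lc_f_rc_11_1 lc_f_rc_25_0 lc_f_rc_28_4 lc_f_rc_28_2 lc_f_rc_11_3 lc_f_Cert_tree lc_f_rc_11_3 lc_f_rc_25_0 lc_f_rc_23_3 lc_f_rc_25_0 lc_f_Cert_tree lc_f_rc_23_1 lc_f_rc_25_0 lc_f_rc_16_1 lc_f_rc_20_3 lc_f_rc_16_1 lc_f_rc_5_1 lc_f_rc_25_0) (@D3.rec (fun _ => (Cert rels S Gen.f)) lc_f_rc_11_3 lc_f_rc_25_0 lc_f_rc_25_0 lc_f_Cert_tree lc_f_Cert_tree lc_f_rc_25_0 lc_f_rc_31_6 lc_f_rc_25_0 lc_f_rc_28_2 lc_f_rc_25_0 lc_f_rc_25_0 lc_f_rc_26_4 lc_f_Cert_tree lc_f_rc_25_0 lc_f_rc_11_1 lc_f_rc_25_0 lc_f_rc_20_3 lc_f_Cert_tree lc_f_rc_25_1 lc_f_rc_20_1 lc_f_rc_28_2) (@D3.rec (fun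 _ => (Cert rels S Gen.f)) lc_f_rc_23_3 lc_f_rc_11_1 lc_f_rc_16_1 lc_f_rc_20_3 lc_f_rc_11_1 lc_f_rc_25_0 lc_f_rc_16_3 lc_f_rc_20_3 lc_f_rc_20_3 lc_f_rc_11_1 lc_f_Cert_tree lc_f_rc_25_0 lc_f_rc_5_3 lc_f_rc_16_1 lc_f_rc_20_1 lc_f_Cert_tree lc_f_rc_25_0 lc_f_rc_25_0 lc_f_rc_5_1 lc_f_rc_20_1 lc_f_rc_28_4) (@D3.rec (fun _ => (Cert rels S Gen.f)) lc_f_rc_28_2 lc_f_rc_16_1 lc_f_rc_28_2 lc_f_rc_11_3 lc_f_rc_5_3 lc_f_rc_25_0 lc_f_rc_20_3 lc_f_rc_25_0 lc_f_rc_23_1 lc_f_rc_16_1 lc_f_rc_11_1 lc_f_rc_16_1 lc_f_rc_28_2 lc_f_rc_5_3 lc_f_rc_5_1 lc_f_rc_5_1 lc_f_Cert_tree lc_f_rc_11_1 lc_f_rc_5_1 lc_f_rc_25_0 lc_f_rc_25_0) (@D3.rec (fun _ => (Cert rels S Gen.f)) lc_f_rc_16_1 lc_f_rc_20_3 lc_f_rc_5_1 lc_f_rc_25_0 lc_f_Cert_tree lc_f_rc_11_1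 lc_f_rc_28_2 lc_f_rc_25_0 lc_f_rc_28_2 lc_f_rc_28_2 lc_f_rc_16_1 lc_f_rc_16_1 lc_f_rc_28_2 lc_f_rc_16_1 lc_f_rc_28_2 lc_f_rc_16_1 lc_f_rc_11_1 lc_f_rc_31_6 lc_f_rc_23_3 lc_f_rc_16_3 lc_f_rc_28_2)
def ce_f_6 : D2 → D3 → (Cert rels S Gen.f) := @D2.rec (fun _ => D3 → (Cert rels S Gen.f)) (@D3.rec (fun _ => (Cert rels S Gen.f)) lc_f_rc_11_1 lc_f_rc_5_1 lc_f_rc_11_1 lc_f_rc_5_1 lc_f_rc_23_1 lc_f_rc_5_3 lc_f_Cert_tree lc_f_rc_25_0 lc_f_rc_11_1 lc_f_rc_28_4 lc_f_rc_28_2 lc_f_rc_11_1 lc_f_rc_25_0 lc_f_rc_11_1 lc_f_rc_5_3 lc_f_rc_11_1 lc_f_rc_11_1 lc_f_rc_16_1 lc_f_rc_11_1 lc_f_rc_16_1 lc_f_rc_11_3) (@D3.rec (fun _ => (Cert rels S Gen.f)) lc_f_rc_16_1 lc_f_rc_25_0 lc_f_rc_11_1 lc_f_rc_5_3 lc_f_rc_11_1 lc_f_rc_25_0 lc_f_rc_28_2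 lc_f_rc_20_1 lc_f_rc_25_0 lc_f_rc_16_1 lc_f_rc_11_3 lc_f_rc_5_1 lc_f_rc_11_1 lc_f_rc_11_1 lc_f_rc_5_1 lc_f_rc_20_3 lc_f_rc_11_3 lc_f_rc_25_1 lc_f_rc_25_0 lc_f_rc_11_1 lc_f_rc_23_3) (@D3.rec (fun _ => (Cert rels S Gen.f)) lc_f_rc_11_1 lc_f_rc_31_10 lc_f_rc_16_1 lc_f_rc_25_0 lc_f_rc_28_4 lc_f_rc_31_2 lc_f_rc_11_1 lc_f_rc_28_2 lc_f_Cert_tree lc_f_rc_25_0 lc_f_rc_11_1 lc_f_rc_5_1 lc_f_rc_20_1 lc_f_rc_25_0 lc_f_rc_25_0 lc_f_rc_5_3 lc_f_rc_11_1 lc_f_rc_16_1 lc_f_rc_25_0 lc_f_rc_5_1 lc_f_rc_5_1) (@D3.rec (fun _ => (Cert rels S Gen.f)) lc_f_rc_5_1 lc_f_rc_20_1 lc_f_rc_11_1 lc_f_rc_25_0 lc_f_rc_16_1 lc_f_rc_31_6 lc_f_rc_25_0 lc_f_rc_5_3 lc_f_rc_5_1 lc_f_rc_31_6 lc_f_rc_11_1 lc_f_rc_25_0 lc_f_rc_5_3 lc_f_rc_5_1 lc_f_rc_11_3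 lc_f_rc_25_0 lc_f_rc_11_1 lc_f_Cert_tree lc_f_rc_11_1 lc_f_rc_25_0 lc_f_rc_25_0) (@D3.rec (fun _ => (Cert rels S Gen.f)) lc_f_rc_28_4 lc_f_rc_16_1 lc_f_rc_31_10 lc_f_rc_11_1 lc_f_rc_25_0 lc_f_rc_11_1 lc_f_rc_16_1 lc_f_rc_16_1 lc_f_rc_20_3 lc_f_rc_20_3 lc_f_rc_23_1 lc_f_rc_16_1 lc_f_rc_25_0 lc_f_rc_11_1 lc_f_rc_31_6 lc_f_rc_28_4 lc_f_rc_11_1 lc_f_rc_23_1 lc_f_rc_11_1 lc_f_rc_11_1 lc_f_rc_25_0) (@D3.rec (fun _ => (Cert rels S Gen.f)) lc_f_rc_16_3 lc_f_rc_25_0 lc_f_Cert_tree lc_f_Cert_tree lc_f_rc_25_0 lc_f_Cert_tree lc_f_rc_11_1 lc_f_rc_25_0 lc_f_rc_28_2 lc_f_rc_25_0 lc_f_rc_26_4 lc_f_rc_25_0 lc_f_rc_5_3 lc_f_rc_25_0 lc_f_rc_5_3 lc_f_rc_25_0 lc_f_rc_5_3 lc_f_rc_25_0 lc_f_Cert_tree lc_f_rc_5_3 lc_f_rc_28_2) (@D3.rec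 (fun _ => (Cert rels S Gen.f)) lc_f_rc_11_3 lc_f_rc_16_1 lc_f_rc_25_0 lc_f_Cert_tree lc_f_rc_28_4 lc_f_rc_25_0 lc_f_rc_25_0 lc_f_rc_5_1 lc_f_rc_5_3 lc_f_rc_25_0 lc_f_rc_16_1 lc_f_rc_11_1 lc_f_rc_25_0 lc_f_rc_28_4 lc_f_rc_11_3 lc_f_rc_16_1 lc_f_rc_23_1 lc_f_rc_25_0 lc_f_rc_11_1 lc_f_rc_20_3 lc_f_rc_5_3) (@D3.rec (fun _ => (Cert rels S Gen.f)) lc_f_rc_25_0 lc_f_rc_11_1 lc_f_rc_20_3 lc_f_Cert_tree lc_f_rc_16_1 lc_f_rc_11_1 lc_f_rc_16_1 lc_f_rc_20_1 lc_f_rc_25_0 lc_f_rc_5_1 lc_f_rc_28_2 lc_f_rc_28_2 lc_f_rc_25_0 lc_f_rc_25_0 lc_f_rc_28_4 lc_f_rc_16_1 lc_f_rc_16_1 lc_f_rc_25_0 lc_f_rc_25_0 lc_f_rc_20_3 lc_f_rc_16_1) (@D3.rec (fun _ => (Cert rels S Gen.f)) lc_f_rc_20_3 lc_f_rc_11_1 lc_f_Cert_tree lc_f_Cert_tree lc_f_rc_25_0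 lc_f_rc_25_0 lc_f_rc_25_0 lc_f_rc_5_3 lc_f_rc_28_2 lc_f_rc_25_0 lc_f_rc_25_0 lc_f_rc_28_4 lc_f_rc_25_0 lc_f_rc_16_1 lc_f_rc_25_0 lc_f_rc_11_1 lc_f_rc_25_0 lc_f_rc_5_1 lc_f_rc_16_1 lc_f_rc_20_3 lc_f_rc_16_1) (@D3.rec (fun _ => (Cert rels S Gen.f)) lc_f_rc_11_1 lc_f_rc_25_1 lc_f_rc_11_1 lc_f_rc_20_3 lc_f_Cert_tree lc_f_rc_25_0 lc_f_rc_25_0 lc_f_rc_20_3 lc_f_rc_31_2 lc_f_rc_25_0 lc_f_rc_23_3 lc_f_rc_25_0 lc_f_rc_11_1 lc_f_rc_31_6 lc_f_rc_25_0 lc_f_rc_11_1 lc_f_rc_20_3 lc_f_rc_11_1 lc_f_rc_25_0 lc_f_rc_16_1 lc_f_rc_23_1) (@D3.rec (fun _ => (Cert rels S Gen.f)) lc_f_rc_16_1 lc_f_rc_11_1 lc_f_rc_5_3 lc_f_rc_25_0 lc_f_rc_16_1 lc_f_rc_25_0 lc_f_rc_11_1 lc_f_rc_11_1 lc_f_rc_25_0 lc_f_rc_16_1 lc_f_rc_28_4 lc_f_rc_25_0 lc_f_rc_20_1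 lc_f_rc_16_1 lc_f_rc_26_2 lc_f_rc_20_3 lc_f_rc_25_0 lc_f_rc_11_1 lc_f_rc_25_0 lc_f_rc_5_1 lc_f_rc_26_6) (@D3.rec (fun _ => (Cert rels S Gen.f)) lc_f_rc_20_1 lc_f_rc_11_1 lc_f_rc_11_1 lc_f_rc_16_1 lc_f_rc_5_1 lc_f_rc_25_0 lc_f_rc_25_0 lc_f_rc_11_1 lc_f_rc_25_0 lc_f_rc_20_3 lc_f_rc_11_1 lc_f_rc_11_1 lc_f_rc_16_1 lc_f_rc_16_1 lc_f_rc_5_1 lc_f_rc_11_1 lc_f_rc_25_1 lc_f_rc_11_1 lc_f_rc_25_0 lc_f_rc_20_1 lc_f_rc_11_1) (@D3.rec (fun _ => (Cert rels S Gen.f)) lc_f_rc_11_1 lc_f_rc_11_1 lc_f_rc_11_1 lc_f_rc_11_1 lc_f_rc_11_1 lc_f_rc_11_1 lc_f_rc_25_0 lc_f_rc_11_1 lc_f_rc_25_0 lc_f_rc_23_1 lc_f_rc_11_1 lc_f_rc_11_1 lc_f_rc_5_1 lc_f_rc_5_1 lc_f_rc_11_1 lc_f_rc_11_1 lc_f_rc_25_0 lc_f_rc_20_1 lc_f_rc_5_1 lc_f_rc_16_1 lc_f_rc_16_1)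 (@D3.rec (fun _ => (Cert rels S Gen.f)) lc_f_rc_25_0 lc_f_rc_25_0 lc_f_rc_11_1 lc_f_rc_5_1 lc_f_rc_25_0 lc_f_rc_25_0 lc_f_rc_25_0 lc_f_rc_31_6 lc_f_rc_16_1 lc_f_rc_25_0 lc_f_rc_5_1 lc_f_rc_11_1 lc_f_rc_5_1 lc_f_rc_20_3 lc_f_rc_25_0 lc_f_rc_25_0 lc_f_rc_31_6 lc_f_rc_25_0 lc_f_rc_11_1 lc_f_rc_16_1 lc_f_rc_11_1)
def ce_f : Pt → (Cert rels S Gen.f) := @Pt.rec (fun _ => (Cert rels S Gen.f)) (@D1.rec (fun _ => D2 → D3 → (Cert rels S Gen.f)) ce_f_0 ce_f_1 ce_f_2 ce_f_3 ce_f_4 ce_f_5 ce_f_6)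
def isSeed_f (p : Pt) : Bool := false

end

end Cfsg.Agent.Helper28.S1683
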