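import Cfsg.Agent.Lib.Helper28.S1683.Tree

set_option autoImplicit false
set_option maxRecDepth 100000
set_option linter.all false

namespace Cfsg.Agent.Helper28.S1683

open Cfsg.Agent.Helper28
open Cfsg.Spor.He (Gen)

noncomputable section

def lv_g_0 : D2 → D3 → Nat := @D2.rec (fun _ => D3 → Nat) (@D3.rec (fun _ => Nat) 0 0 1 0 1 2 38 1 3 3 3 3 37 37 37 4 4 4 4 10 4) (@D3.rec (fun _ => Nat) 5 4 36 0 36 37 38 5 0 5 6 5 5 0 9 9 10 0 4 5 35) (@D3.rec (fun _ => Nat) 0 35 0 0 1 0 36 0 39 6 0 9 0 0 1 0 5 0 6 0 8) (@D3.rec (fun _ => Nat) 14 0 1 11 11 12 1 0 36 0 0 0 1 0 0 4 1 0 1 2 33) (@D3.rec (fun _ => Nat) 1 35 0 34 1 40 0 7 0 0 0 1 0 0 4 1 1 2 44 1 44) (@D3.rec (fun _ => Nat) 43 1 7 0 11 1 15 0 16 1 12 12 13 0 0 0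 1 33 0 0 1) (@D3.rec (fun _ => Nat) 4 1 32 1 2 0 34 1 4 1 0 2 3 1 32 0 3 35 36 36 1) (@D3.rec (fun _ => Nat) 4 41 0 0 0 0 1 44 0 0 0 1 4 1 1 2 0 43 1 4 1) (@D3.rec (fun _ => Nat) 46 47 45 0 3 0 14 0 13 1 0 17 0 0 0 1 0 13 12 0 0) (@D3.rec (fun _ => Nat) 1 4 1 33 1 2 36 14 1 0 1 2 13 0 7 34 3 0 36 0 37) (@D3.rec (fun _ => Nat) 1 4 0 2 47 0 1 46 48 42 1 38 47 37 39 48 39 0 41 46 1) (@D3.rec (fun _ => Nat) 0 0 0 1 4 1 1 2 42 0 0 0 1 0 4 1 11 1 2 2 48) (@D3.rec (fun _ => Nat) 49 0 0 43 1 45 52 47 1 48 51 1 0 0 0 0 1 0 2 0 0) (@D3.rec (fun _ => Nat) 0 1 0 0 0 0 0 1 0 4 1 1 2 0 0 1 13 14 8 1 0)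
def lv_g_1 : D2 → D3 → Nat := @D2.rec (fun _ => D3 → Nat) (@D3.rec (fun _ => Nat) 1 12 9 0 8 33 42 38 0 0 2 0 0 1 2 3 3 0 0 0 0) (@D3.rec (fun _ => Nat) 1 9 0 5 0 1 35 0 37 0 0 0 1 0 2 4 36 46 1 49 49) (@D3.rec (fun _ => Nat) 1 38 48 49 49 47 49 44 0 50 1 43 0 44 1 0 0 1 45 1 2) (@D3.rec (fun _ => Nat) 43 45 47 0 0 0 0 1 0 4 1 0 1 2 2 0 0 1 12 2 13) (@D3.rec (fun _ => Nat) 13 3 3 48 47 1 0 0 1 0 2 53 46 41 0 0 1 45 0 0 1) (@D3.rec (fun _ => Nat) 0 4 1 1 2 2 0 0 1 3 3 0 0 0 0 45 1 0 4 1 1) (@D3.rec (fun _ => Nat) 2 0 0 1 0 0 0 48 1 0 0 1 50 4 1 0 1 2 2 0 4) (@D3.rec (fun _ => Nat) 1 0 2 12 0 0 45 13 1 1 4 0 0 0 11 0 0 1 2 17 12) (@D3.rec (fun _ => Nat) 0 0 0 1 8 0 44 46 0 0 0 1 0 3 1 3 3 3 0 0 0) (@D3.rec (fun _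 => Nat) 1 1 2 4 3 3 0 4 0 4 0 4 0 1 37 0 1 47 0 0 1) (@D3.rec (fun _ => Nat) 1 35 48 0 41 38 37 1 0 48 46 1 0 45 42 42 1 47 48 48 46) (@D3.rec (fun _ => Nat) 1 0 4 1 1 2 2 46 48 1 48 3 46 39 40 48 46 48 51 50 50) (@D3.rec (fun _ => Nat) 48 48 43 47 1 0 0 0 1 44 2 4 1 0 1 2 2 45 45 3 3) (@D3.rec (fun _ => Nat) 46 0 0 1 0 0 54 1 51 4 1 49 1 6 2 0 4 1 0 2 0)
def lv_g_2 : D2 → D3 → Nat := @D2.rec (fun _ => D3 → Nat) (@D3.rec (fun _ => Nat) 13 1 2 3 3 14 16 0 54 0 1 12 1 2 4 12 12 3 13 13 0) (@D3.rec (fun _ => Nat) 13 4 55 4 0 0 4 1 1 2 2 47 0 1 0 44 43 43 45 1 1) (@D3.rec (fun _ => Nat) 45 47 49 52 47 1 48 1 8 0 4 1 0 2 13 3 3 3 0 0 46) (@D3.rec (fun _ => Nat) 47 1 1 4 49 52 45 46 4 1 47 0 50 1 54 1 0 3 1 2 2) (@D3.rec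 (fun _ => Nat) 0 4 1 0 2 14 0 46 54 43 1 1 4 0 47 1 0 0 0 1 51) (@D3.rec (fun _ => Nat) 3 1 0 2 2 51 4 1 0 1 2 2 53 14 55 0 1 48 48 50 14) (@D3.rec (fun _ => Nat) 0 5 1 49 2 47 1 3 0 14 0 0 0 1 48 1 53 15 5 14 0) (@D3.rec (fun _ => Nat) 47 0 0 1 48 1 0 13 1 15 13 13 0 0 0 1 1 2 14 3 3) (@D3.rec (fun _ => Nat) 40 41 16 14 0 1 36 0 1 49 0 1 0 43 37 38 1 47 46 44 47) (@D3.rec (fun _ => Nat) 48 44 1 48 1 1 0 0 38 1 4 0 4 5 0 41 0 1 0 0 0) (@D3.rec (fun _ => Nat) 1 0 1 38 15 3 3 3 16 44 48 40 38 4 1 16 0 18 43 52 1) (@D3.rec (fun _ => Nat) 0 4 1 16 38 44 1 2 38 38 1 47 53 49 0 0 0 1 0 1 50) (@D3.rec (fun _ => Nat) 37 0 0 0 0 1 0 0 38 37 41 1 48 49 48 0 44 1 0 42 50) (@D3.rec (fun _ => Nat) 46 46 7 1 0 2 38 3 0 49 0 48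 47 39 39 51 52 53 52 49 47)
def lv_g_3 : D2 → D3 → Nat := @D2.rec (fun _ => D3 → Nat) (@D3.rec (fun _ => Nat) 1 4 1 46 1 2 2 46 46 49 48 0 44 0 45 1 2 3 3 47 18) (@D3.rec (fun _ => Nat) 47 0 47 4 53 4 45 1 1 52 1 50 3 1 47 2 52 48 59 54 46) (@D3.rec (fun _ => Nat) 52 1 17 2 55 13 1 3 15 17 51 0 13 1 2 3 14 4 55 4 14) (@D3.rec (fun _ => Nat) 14 57 16 47 1 45 1 14 14 3 18 14 0 14 49 47 15 51 0 50 0) (@D3.rec (fun _ => Nat) 0 0 1 54 52 53 49 54 52 0 0 55 1 4 1 50 2 43 47 47 48) (@D3.rec (fun _ => Nat) 47 1 4 1 47 44 56 0 49 0 17 13 49 49 51 51 16 54 46 50 48) (@D3.rec (fun _ => Nat) 5 1 51 2 49 1 16 49 13 13 53 0 0 0 1 1 15 5 13 56 53) (@D3.rec (fun _ => Nat) 54 46 45 51 16 0 0 57 1 0 2 56 2 0 52 1 47 3 52 54 0) (@D3.rec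 (fun _ => Nat) 1 55 2 0 1 48 21 54 56 0 23 1 56 57 0 46 15 51 1 0 52) (@D3.rec (fun _ => Nat) 47 1 50 4 1 51 1 2 2 53 0 54 1 3 52 46 53 3 1 52 48) (@D3.rec (fun _ => Nat) 16 55 55 1 4 18 54 56 52 1 0 3 22 49 4 1 14 1 0 57 0) (@D3.rec (fun _ => Nat) 1 1 22 15 58 59 54 0 1 49 47 17 1 1 49 0 0 37 1 42 18) (@D3.rec (fun _ => Nat) 0 40 0 1 0 47 1 0 1 39 15 3 3 3 14 50 42 4 45 40 39) (@D3.rec (fun _ => Nat) 42 1 2 39 39 1 53 0 0 0 1 53 0 0 0 1 37 47 47 47 50)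
def lv_g_4 : D2 → D3 → Nat := @D2.rec (fun _ => D3 → Nat) (@D3.rec (fun _ => Nat) 46 7 0 39 37 49 1 53 0 0 1 2 0 0 43 53 1 41 1 53 54) (@D3.rec (fun _ => Nat) 49 49 1 49 50 1 0 4 1 1 2 51 0 1 35 17 50 46 46 16 51) (@D3.rec (fun _ => Nat) 40 0 17 55 1 55 40 3 2 41 50 1 18 18 0 2 3 39 39 0 50) (@D3.rec (fun _ => Nat) 50 50 50 51 55 0 0 57 1 0 48 1 1 0 53 1 53 0 0 0 1) (@D3.rec (fun _ => Nat) 0 39 36 35 1 4 1 1 2 45 1 1 0 41 50 50 48 38 48 48 1) (@D3.rec (fun _ => Nat) 54 1 48 8 53 2 0 1 3 38 40 39 39 39 0 0 1 1 0 55 52) (@D3.rec (fun _ => Nat) 55 49 49 60 47 48 46 46 46 50 46 46 49 49 46 55 47 1 51 15 17) (@D3.rec (fun _ => Nat) 49 53 47 1 2 46 4 53 4 47 16 54 49 48 0 48 0 58 1 56 53) (@D3.rec (fun _ => Nat) 53 51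 51 48 46 45 47 52 47 48 51 48 48 55 57 54 15 3 57 51 15) (@D3.rec (fun _ => Nat) 52 0 15 50 0 56 1 3 51 18 53 59 51 53 47 47 14 14 0 54 1) (@D3.rec (fun _ => Nat) 50 49 49 52 51 51 0 0 0 1 52 46 1 52 1 1 56 53 55 53 51) (@D3.rec (fun _ => Nat) 53 55 0 51 51 1 3 1 2 2 50 3 47 45 50 46 50 0 1 0 1) (@D3.rec (fun _ => Nat) 49 47 49 16 48 52 3 3 52 51 18 3 1 0 60 0 1 1 4 17 15) (@D3.rec (fun _ => Nat) 54 60 52 54 54 54 47 49 56 54 0 52 1 52 54 1 52 2 0 54 1)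
def lv_g_5 : D2 → D3 → Nat := @D2.rec (fun _ => D3 → Nat) (@D3.rec (fun _ => Nat) 3 55 57 4 3 1 50 3 4 53 57 52 1 51 51 1 54 53 0 1 56) (@D3.rec (fun _ => Nat) 56 0 54 49 1 54 0 56 1 48 54 52 52 3 57 54 54 1 52 53 59) (@D3.rec (fun _ => Nat) 46 46 55 54 55 48 57 57 57 53 53 1 4 54 52 0 1 1 54 52 54) (@D3.rec (fun _ => Nat) 14 1 47 52 9 21 0 1 0 0 1 2 42 1 43 49 0 1 0 3 1) (@D3.rec (fun _ => Nat) 2 0 0 1 36 14 17 44 42 44 41 2 3 38 0 50 0 0 59 1 50) (@D3.rec (fun _ => Nat) 1 1 0 37 34 1 4 1 1 2 52 50 50 57 48 8 0 1 39 39 40) (@D3.rec (fun _ => Nat) 40 40 50 51 0 51 52 55 0 4 1 1 2 2 59 1 41 44 55 1 3) (@D3.rec (fun _ => Nat) 2 42 48 49 42 48 0 36 47 43 53 4 1 50 52 47 0 1 4 36 50) (@D3.rec (fun _ => Nat) 53 40 48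 1 17 17 50 55 41 4 41 43 40 3 18 44 0 56 1 3 4) (@D3.rec (fun _ => Nat) 0 57 56 52 40 1 54 60 53 59 53 53 0 1 47 50 1 55 56 0 1) (@D3.rec (fun _ => Nat) 0 55 1 0 54 52 1 4 1 1 2 39 40 36 1 41 0 37 52 0 1) (@D3.rec (fun _ => Nat) 50 62 54 60 41 58 54 49 39 50 3 3 0 1 56 40 40 3 0 0 1) (@D3.rec (fun _ => Nat) 1 52 1 53 53 53 57 49 49 53 48 54 51 53 55 48 53 47 53 53 55) (@D3.rec (fun _ => Nat) 55 58 0 58 1 56 1 58 53 51 51 48 48 49 49 51 50 50 53 59 47)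
def lv_g_6 : D2 → D3 → Nat := @D2.rec (fun _ => D3 → Nat) (@D3.rec (fun _ => Nat) 19 50 57 15 19 0 55 58 1 54 1 16 53 47 47 16 56 54 1 51 49) (@D3.rec (fun _ => Nat) 52 54 1 1 1 52 53 58 53 56 54 58 57 60 1 59 10 3 59 59 55) (@D3.rec (fun _ => Nat) 50 47 52 47 1 51 1 49 57 53 20 61 0 1 1 56 51 54 47 54 1) (@D3.rec (fun _ => Nat) 51 59 55 4 3 1 3 4 53 4 54 59 55 57 59 57 1 51 55 56 54) (@D3.rec (fun _ => Nat) 1 55 1 52 54 56 54 55 56 54 54 51 54 48 48 55 59 52 1 59 50) (@D3.rec (fun _ => Nat) 22 52 54 53 0 1 2 4 1 1 2 2 41 41 59 43 53 57 1 52 1) (@D3.rec (fun _ => Nat) 52 53 55 1 1 54 35 48 42 42 3 4 41 1 59 1 49 48 1 56 56) (@D3.rec (fun _ => Nat) 57 1 48 36 52 0 1 55 41 39 50 50 50 51 1 51 54 54 53 53 1) (@D3.rec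 (fun _ => Nat) 44 58 43 44 52 3 2 55 50 51 50 1 37 52 53 49 52 45 1 54 50) (@D3.rec (fun _ => Nat) 19 52 60 38 39 40 42 51 48 56 1 41 4 1 56 58 53 1 44 54 56) (@D3.rec (fun _ => Nat) 1 1 54 54 1 54 50 39 39 0 1 38 54 1 53 63 4 1 4 1 1) (@D3.rec (fun _ => Nat) 60 52 49 49 55 53 55 1 59 53 53 50 50 49 64 59 19 1 55 61 57) (@D3.rec (fun _ => Nat) 55 56 54 53 59 53 57 52 53 1 58 4 55 55 58 56 58 54 51 60 57) (@D3.rec (fun _ => Nat) 50 4 1 2 2 54 54 4 50 37 55 1 52 54 41 42 41 55 53 1 54)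
def lv_g : Pt → Nat := @Pt.rec (fun _ => Nat) (@D1.rec (fun _ => D2 → D3 → Nat) lv_g_0 lv_g_1 lv_g_2 lv_g_3 lv_g_4 lv_g_5 lv_g_6)
abbrev lc_g_Cert_tree : Cert rels S Gen.g := Cert.tree
abbrev lc_g_rc_12_1 : Cert rels S Gen.g := rc_12_1
abbrev lc_g_rc_12_3 : Cert rels S Gen.g := rc_12_3
abbrev lc_g_rc_17_1 : Cert rels S Gen.g := rc_17_1
abbrev lc_g_rc_17_3 : Cert rels S Gen.g := rc_17_3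
abbrev lc_g_rc_21_1 : Cert rels S Gen.g := rc_21_1
abbrev lc_g_rc_21_3 : Cert rels S Gen.g := rc_21_3
abbrev lc_g_rc_21_5 : Cert rels S Gen.g := rc_21_5
abbrev lc_g_rc_24_1 : Cert rels S Gen.g := rc_24_1
abbrev lc_g_rc_24_3 : Cert rels S Gen.g := rc_24_3
abbrev lc_g_rc_26_1 : Cert rels S Gen.g := rc_26_1
abbrev lc_g_rc_26_3 : Cert rels S Gen.g := rc_26_3
abbrev lc_g_rc_26_7 : Cert rels S Gen.g := rc_26_7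
abbrev lc_g_rc_27_0 : Cert rels S Gen.g := rc_27_0
abbrev lc_g_rc_27_1 : Cert rels S Gen.g := rc_27_1
abbrev lc_g_rc_28_1 : Cert rels S Gen.g := rc_28_1
abbrev lc_g_rc_28_3 : Cert rels S Gen.g := rc_28_3
abbrev lc_g_rc_31_11 : Cert rels S Gen.g := rc_31_11
abbrev lc_g_rc_31_15 : Cert rels S Gen.g := rc_31_15
abbrev lc_g_rc_31_3 : Cert rels S Gen.g := rc_31_3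
abbrev lc_g_rc_31_7 : Cert rels S Gen.g := rc_31_7
abbrev lc_g_rc_6_1 : Cert rels S Gen.g := rc_6_1
abbrev lc_g_rc_6_3 : Cert rels S Gen.g := rc_6_3
def ce_g_0 : D2 → D3 → (Cert rels S Gen.g) := @D2.rec (fun _ => D3 → (Cert rels S Gen.g)) (@D3.rec (fun _ => (Cert rels S Gen.g)) lc_g_Cert_tree lc_g_Cert_tree lc_g_rc_27_0 lc_g_Cert_tree lc_g_rc_27_0 lc_g_rc_21_3 lc_g_rc_31_15 lc_g_rc_27_0 lc_g_rc_21_3 lc_g_rc_17_1 lc_g_rc_24_1 lc_g_rc_28_3 lc_g_rc_21_5 lc_g_rc_17_3 lc_g_rc_17_3 lc_g_rc_17_1 lc_g_rc_24_1 lc_g_rc_28_3 lc_g_rc_12_1 lc_g_rc_6_3 lc_g_rc_17_1) (@D3.rec (fun _ => (Cert rels S Gen.g)) lc_g_rc_17_3 lc_g_rc_28_3 lc_g_rc_21_5 lc_g_Cert_tree lc_g_rc_21_5 lc_g_rc_21_5 lc_g_rc_17_1 lc_g_rc_12_1 lc_g_Cert_tree lc_g_rc_17_1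 lc_g_rc_17_3 lc_g_rc_28_3 lc_g_rc_6_1 lc_g_Cert_tree lc_g_rc_12_3 lc_g_rc_31_3 lc_g_rc_24_1 lc_g_Cert_tree lc_g_rc_17_1 lc_g_rc_21_3 lc_g_rc_21_5) (@D3.rec (fun _ => (Cert rels S Gen.g)) lc_g_Cert_tree lc_g_rc_21_5 lc_g_Cert_tree lc_g_Cert_tree lc_g_rc_27_0 lc_g_Cert_tree lc_g_rc_21_5 lc_g_Cert_tree lc_g_rc_21_3 lc_g_rc_6_1 lc_g_Cert_tree lc_g_rc_12_3 lc_g_Cert_tree lc_g_Cert_tree lc_g_rc_27_0 lc_g_Cert_tree lc_g_rc_17_1 lc_g_Cert_tree lc_g_rc_21_3 lc_g_Cert_tree lc_g_rc_12_1) (@D3.rec (fun _ => (Cert rels S Gen.g)) lc_g_rc_6_3 lc_g_Cert_tree lc_g_rc_27_0 lc_g_rc_24_1 lc_g_rc_28_3 lc_g_rc_28_3 lc_g_rc_27_0 lc_g_Cert_tree lc_g_rc_21_5 lc_g_Cert_tree lc_g_Cert_tree lc_g_Cert_tree lc_g_rc_27_0 lc_g_Cert_tree lc_g_Cert_tree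 lc_g_rc_24_3 lc_g_rc_27_0 lc_g_Cert_tree lc_g_rc_27_0 lc_g_rc_28_3 lc_g_rc_24_3) (@D3.rec (fun _ => (Cert rels S Gen.g)) lc_g_rc_27_0 lc_g_rc_12_3 lc_g_Cert_tree lc_g_rc_12_3 lc_g_rc_27_0 lc_g_rc_17_1 lc_g_Cert_tree lc_g_rc_12_1 lc_g_Cert_tree lc_g_Cert_tree lc_g_Cert_tree lc_g_rc_27_0 lc_g_Cert_tree lc_g_Cert_tree lc_g_rc_24_3 lc_g_rc_27_0 lc_g_rc_27_0 lc_g_rc_28_3 lc_g_rc_21_3 lc_g_rc_27_0 lc_g_rc_17_3) (@D3.rec (fun _ => (Cert rels S Gen.g)) lc_g_rc_17_3 lc_g_rc_27_0 lc_g_rc_17_1 lc_g_Cert_tree lc_g_rc_28_1 lc_g_rc_27_0 lc_g_rc_6_1 lc_g_Cert_tree lc_g_rc_17_3 lc_g_rc_27_0 lc_g_rc_28_3 lc_g_rc_21_3 lc_g_rc_21_1 lc_g_Cert_tree lc_g_Cert_tree lc_g_Cert_tree lc_g_rc_27_0 lc_g_rc_26_7 lc_g_Cert_tree lc_g_Cert_tree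 lc_g_rc_27_0) (@D3.rec (fun _ => (Cert rels S Gen.g)) lc_g_rc_24_3 lc_g_rc_27_0 lc_g_rc_21_1 lc_g_rc_27_0 lc_g_rc_28_3 lc_g_Cert_tree lc_g_rc_26_3 lc_g_rc_27_0 lc_g_rc_28_1 lc_g_rc_27_0 lc_g_Cert_tree lc_g_rc_21_3 lc_g_rc_28_1 lc_g_rc_27_0 lc_g_rc_24_1 lc_g_Cert_tree lc_g_rc_28_3 lc_g_rc_17_1 lc_g_rc_12_3 lc_g_rc_17_1 lc_g_rc_27_0) (@D3.rec (fun _ => (Cert rels S Gen.g)) lc_g_rc_28_3 lc_g_rc_12_1 lc_g_Cert_tree lc_g_Cert_tree lc_g_Cert_tree lc_g_Cert_tree lc_g_rc_27_0 lc_g_rc_17_3 lc_g_Cert_tree lc_g_Cert_tree lc_g_Cert_tree lc_g_rc_27_0 lc_g_rc_24_3 lc_g_rc_27_0 lc_g_rc_27_0 lc_g_rc_28_3 lc_g_Cert_tree lc_g_rc_17_3 lc_g_rc_27_0 lc_g_rc_28_1 lc_g_rc_27_0) (@D3.rec (fun _ => (Cert rels S Gen.g)) lc_g_rc_17_1 lc_g_rc_17_1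 lc_g_rc_21_3 lc_g_Cert_tree lc_g_rc_28_3 lc_g_Cert_tree lc_g_rc_12_3 lc_g_Cert_tree lc_g_rc_12_1 lc_g_rc_27_0 lc_g_Cert_tree lc_g_rc_17_1 lc_g_Cert_tree lc_g_Cert_tree lc_g_Cert_tree lc_g_rc_27_0 lc_g_Cert_tree lc_g_rc_21_3 lc_g_rc_21_3 lc_g_Cert_tree lc_g_Cert_tree) (@D3.rec (fun _ => (Cert rels S Gen.g)) lc_g_rc_27_0 lc_g_rc_24_3 lc_g_rc_27_0 lc_g_rc_21_1 lc_g_rc_27_0 lc_g_rc_28_3 lc_g_rc_6_3 lc_g_rc_12_3 lc_g_rc_27_0 lc_g_Cert_tree lc_g_rc_27_0 lc_g_rc_21_3 lc_g_rc_6_3 lc_g_Cert_tree lc_g_rc_21_3 lc_g_rc_17_1 lc_g_rc_28_1 lc_g_Cert_tree lc_g_rc_12_3 lc_g_Cert_tree lc_g_rc_6_1) (@D3.rec (fun _ => (Cert rels S Gen.g)) lc_g_rc_27_0 lc_g_rc_28_3 lc_g_Cert_tree lc_g_rc_21_3 lc_g_rc_17_3 lc_g_Cert_tree lc_g_rc_27_0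 lc_g_rc_17_1 lc_g_rc_17_3 lc_g_rc_6_3 lc_g_rc_27_0 lc_g_rc_17_3 lc_g_rc_6_3 lc_g_rc_12_1 lc_g_rc_17_3 lc_g_rc_17_1 lc_g_rc_24_3 lc_g_Cert_tree lc_g_rc_31_7 lc_g_rc_17_1 lc_g_rc_27_0) (@D3.rec (fun _ => (Cert rels S Gen.g)) lc_g_Cert_tree lc_g_Cert_tree lc_g_Cert_tree lc_g_rc_27_0 lc_g_rc_24_3 lc_g_rc_27_0 lc_g_rc_27_0 lc_g_rc_28_3 lc_g_rc_12_3 lc_g_Cert_tree lc_g_Cert_tree lc_g_Cert_tree lc_g_rc_27_0 lc_g_Cert_tree lc_g_rc_24_3 lc_g_rc_27_0 lc_g_rc_21_1 lc_g_rc_27_0 lc_g_rc_21_3 lc_g_rc_28_3 lc_g_rc_17_3) (@D3.rec (fun _ => (Cert rels S Gen.g)) lc_g_rc_17_3 lc_g_Cert_tree lc_g_Cert_tree lc_g_rc_12_3 lc_g_rc_27_0 lc_g_rc_6_3 lc_g_rc_17_3 lc_g_rc_21_3 lc_g_rc_27_0 lc_g_rc_21_1 lc_g_rc_17_1 lc_g_rc_27_0 lc_g_Cert_tree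 lc_g_Cert_tree lc_g_Cert_tree lc_g_Cert_tree lc_g_rc_27_0 lc_g_Cert_tree lc_g_rc_21_3 lc_g_Cert_tree lc_g_Cert_tree) (@D3.rec (fun _ => (Cert rels S Gen.g)) lc_g_Cert_tree lc_g_rc_27_0 lc_g_Cert_tree lc_g_Cert_tree lc_g_Cert_tree lc_g_Cert_tree lc_g_Cert_tree lc_g_rc_27_0 lc_g_Cert_tree lc_g_rc_24_3 lc_g_rc_27_0 lc_g_rc_27_0 lc_g_rc_28_3 lc_g_Cert_tree lc_g_Cert_tree lc_g_rc_27_0 lc_g_rc_17_1 lc_g_rc_17_1 lc_g_rc_12_3 lc_g_rc_27_0 lc_g_Cert_tree)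
def ce_g_1 : D2 → D3 → (Cert rels S Gen.g) := @D2.rec (fun _ => D3 → (Cert rels S Gen.g)) (@D3.rec (fun _ => (Cert rels S Gen.g)) lc_g_rc_27_0 lc_g_rc_21_3 lc_g_rc_12_1 lc_g_Cert_tree lc_g_rc_21_3 lc_g_rc_17_1 lc_g_rc_12_1 lc_g_rc_12_1 lc_g_Cert_tree lc_g_Cert_tree lc_g_rc_21_3 lc_g_Cert_tree lc_g_Cert_tree lc_g_rc_27_0 lc_g_rc_21_3 lc_g_rc_17_1 lc_g_rc_24_1 lc_g_Cert_tree lc_g_Cert_tree lc_g_Cert_tree lc_g_Cert_tree) (@D3.rec (fun _ => (Cert rels S Gen.g)) lc_g_rc_27_0 lc_g_rc_17_1 lc_g_Cert_tree lc_g_rc_17_1 lc_g_Cert_tree lc_g_rc_27_0 lc_g_rc_12_1 lc_g_Cert_tree lc_g_rc_12_1 lc_g_Cert_tree lc_g_Cert_tree lc_g_Cert_tree lc_g_rc_27_0 lc_g_Cert_tree lc_g_rc_21_3 lc_g_rc_17_1 lc_g_rc_24_3 lc_g_rc_31_3 lc_g_rc_27_0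 lc_g_rc_17_3 lc_g_rc_17_3) (@D3.rec (fun _ => (Cert rels S Gen.g)) lc_g_rc_27_0 lc_g_rc_24_1 lc_g_rc_17_3 lc_g_rc_17_3 lc_g_rc_21_1 lc_g_rc_12_1 lc_g_rc_21_3 lc_g_rc_31_11 lc_g_Cert_tree lc_g_rc_17_3 lc_g_rc_27_0 lc_g_rc_12_1 lc_g_Cert_tree lc_g_rc_6_1 lc_g_rc_27_0 lc_g_Cert_tree lc_g_Cert_tree lc_g_rc_27_0 lc_g_rc_6_3 lc_g_rc_27_0 lc_g_rc_21_3) (@D3.rec (fun _ => (Cert rels S Gen.g)) lc_g_rc_6_1 lc_g_rc_12_1 lc_g_rc_21_3 lc_g_Cert_tree lc_g_Cert_tree lc_g_Cert_tree lc_g_Cert_tree lc_g_rc_27_0 lc_g_Cert_tree lc_g_rc_24_3 lc_g_rc_27_0 lc_g_Cert_tree lc_g_rc_27_0 lc_g_rc_21_3 lc_g_rc_28_3 lc_g_Cert_tree lc_g_Cert_tree lc_g_rc_27_0 lc_g_rc_21_1 lc_g_rc_21_3 lc_g_rc_17_1) (@D3.rec (fun _ => (Cert rels S Gen.g)) lc_g_rc_24_1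 lc_g_rc_17_1 lc_g_rc_24_1 lc_g_rc_12_1 lc_g_rc_12_1 lc_g_rc_27_0 lc_g_Cert_tree lc_g_Cert_tree lc_g_rc_27_0 lc_g_Cert_tree lc_g_rc_21_3 lc_g_rc_21_1 lc_g_rc_21_1 lc_g_rc_31_7 lc_g_Cert_tree lc_g_Cert_tree lc_g_rc_27_0 lc_g_rc_12_3 lc_g_Cert_tree lc_g_Cert_tree lc_g_rc_27_0) (@D3.rec (fun _ => (Cert rels S Gen.g)) lc_g_Cert_tree lc_g_rc_24_3 lc_g_rc_27_0 lc_g_rc_27_0 lc_g_rc_21_3 lc_g_rc_28_3 lc_g_Cert_tree lc_g_Cert_tree lc_g_rc_27_0 lc_g_rc_17_1 lc_g_rc_24_1 lc_g_Cert_tree lc_g_Cert_tree lc_g_Cert_tree lc_g_Cert_tree lc_g_rc_17_3 lc_g_rc_27_0 lc_g_Cert_tree lc_g_rc_24_3 lc_g_rc_27_0 lc_g_rc_27_0) (@D3.rec (fun _ => (Cert rels S Gen.g)) lc_g_rc_28_3 lc_g_Cert_tree lc_g_Cert_tree lc_g_rc_27_0 lc_g_Cert_tree lc_g_Cert_tree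 lc_g_Cert_tree lc_g_rc_12_3 lc_g_rc_27_0 lc_g_Cert_tree lc_g_Cert_tree lc_g_rc_27_0 lc_g_rc_12_3 lc_g_rc_24_3 lc_g_rc_27_0 lc_g_Cert_tree lc_g_rc_27_0 lc_g_rc_21_3 lc_g_rc_28_3 lc_g_Cert_tree lc_g_rc_24_3) (@D3.rec (fun _ => (Cert rels S Gen.g)) lc_g_rc_27_0 lc_g_Cert_tree lc_g_rc_21_3 lc_g_rc_21_3 lc_g_Cert_tree lc_g_Cert_tree lc_g_rc_21_1 lc_g_rc_17_3 lc_g_rc_27_0 lc_g_rc_27_0 lc_g_rc_24_1 lc_g_Cert_tree lc_g_Cert_tree lc_g_Cert_tree lc_g_rc_21_3 lc_g_Cert_tree lc_g_Cert_tree lc_g_rc_27_0 lc_g_rc_21_3 lc_g_rc_6_3 lc_g_rc_24_1) (@D3.rec (fun _ => (Cert rels S Gen.g)) lc_g_Cert_tree lc_g_Cert_tree lc_g_Cert_tree lc_g_rc_27_0 lc_g_rc_17_1 lc_g_Cert_tree lc_g_rc_17_1 lc_g_rc_17_1 lc_g_Cert_tree lc_g_Cert_tree lc_g_Cert_tree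 lc_g_rc_27_0 lc_g_Cert_tree lc_g_rc_28_1 lc_g_rc_27_0 lc_g_rc_17_1 lc_g_rc_24_1 lc_g_rc_28_3 lc_g_Cert_tree lc_g_Cert_tree lc_g_Cert_tree) (@D3.rec (fun _ => (Cert rels S Gen.g)) lc_g_rc_27_0 lc_g_rc_27_0 lc_g_rc_21_3 lc_g_rc_28_3 lc_g_rc_17_1 lc_g_rc_24_1 lc_g_Cert_tree lc_g_rc_12_1 lc_g_Cert_tree lc_g_rc_17_1 lc_g_Cert_tree lc_g_rc_28_3 lc_g_Cert_tree lc_g_rc_27_0 lc_g_rc_31_7 lc_g_Cert_tree lc_g_rc_27_0 lc_g_rc_12_3 lc_g_Cert_tree lc_g_Cert_tree lc_g_rc_27_0) (@D3.rec (fun _ => (Cert rels S Gen.g)) lc_g_rc_27_0 lc_g_rc_24_1 lc_g_rc_12_1 lc_g_Cert_tree lc_g_rc_31_11 lc_g_rc_28_1 lc_g_rc_6_3 lc_g_rc_27_0 lc_g_Cert_tree lc_g_rc_12_3 lc_g_rc_21_1 lc_g_rc_27_0 lc_g_Cert_tree lc_g_rc_17_3 lc_g_rc_28_1 lc_g_rc_27_0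 lc_g_rc_27_0 lc_g_rc_17_1 lc_g_rc_17_1 lc_g_rc_12_1 lc_g_rc_12_1) (@D3.rec (fun _ => (Cert rels S Gen.g)) lc_g_rc_27_0 lc_g_Cert_tree lc_g_rc_24_3 lc_g_rc_27_0 lc_g_rc_27_0 lc_g_rc_21_3 lc_g_rc_28_3 lc_g_rc_12_1 lc_g_rc_17_1 lc_g_rc_27_0 lc_g_rc_17_1 lc_g_rc_24_1 lc_g_rc_12_1 lc_g_rc_17_1 lc_g_rc_6_3 lc_g_rc_12_1 lc_g_rc_12_1 lc_g_rc_21_1 lc_g_rc_21_1 lc_g_rc_17_1 lc_g_rc_28_3) (@D3.rec (fun _ => (Cert rels S Gen.g)) lc_g_rc_12_1 lc_g_rc_24_1 lc_g_rc_17_1 lc_g_rc_12_1 lc_g_rc_27_0 lc_g_Cert_tree lc_g_Cert_tree lc_g_Cert_tree lc_g_rc_27_0 lc_g_rc_6_1 lc_g_rc_21_3 lc_g_rc_24_3 lc_g_rc_27_0 lc_g_Cert_tree lc_g_rc_27_0 lc_g_rc_21_3 lc_g_rc_28_3 lc_g_rc_17_1 lc_g_rc_6_3 lc_g_rc_17_1 lc_g_rc_24_1) (@D3.rec (fun _ => (Cert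 rels S Gen.g)) lc_g_rc_12_1 lc_g_Cert_tree lc_g_Cert_tree lc_g_rc_27_0 lc_g_Cert_tree lc_g_Cert_tree lc_g_rc_12_3 lc_g_rc_27_0 lc_g_rc_12_3 lc_g_rc_24_3 lc_g_rc_27_0 lc_g_rc_21_1 lc_g_rc_27_0 lc_g_rc_21_3 lc_g_rc_28_3 lc_g_Cert_tree lc_g_rc_24_3 lc_g_rc_27_0 lc_g_Cert_tree lc_g_rc_21_3 lc_g_Cert_tree)
def ce_g_2 : D2 → D3 → (Cert rels S Gen.g) := @D2.rec (fun _ => D3 → (Cert rels S Gen.g)) (@D3.rec (fun _ => (Cert rels S Gen.g)) lc_g_rc_28_1 lc_g_rc_27_0 lc_g_rc_21_3 lc_g_rc_17_1 lc_g_rc_24_1 lc_g_rc_28_3 lc_g_rc_28_3 lc_g_Cert_tree lc_g_rc_17_3 lc_g_Cert_tree lc_g_rc_27_0 lc_g_rc_28_3 lc_g_rc_27_0 lc_g_rc_21_3 lc_g_rc_24_1 lc_g_rc_17_1 lc_g_rc_24_1 lc_g_rc_17_1 lc_g_rc_28_3 lc_g_rc_12_1 lc_g_Cert_tree) (@D3.rec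 (fun _ => (Cert rels S Gen.g)) lc_g_rc_17_1 lc_g_rc_12_1 lc_g_rc_17_3 lc_g_rc_17_1 lc_g_Cert_tree lc_g_Cert_tree lc_g_rc_24_3 lc_g_rc_27_0 lc_g_rc_27_0 lc_g_rc_21_3 lc_g_rc_28_3 lc_g_rc_6_3 lc_g_Cert_tree lc_g_rc_27_0 lc_g_Cert_tree lc_g_rc_27_1 lc_g_rc_27_1 lc_g_rc_28_3 lc_g_rc_17_1 lc_g_rc_27_0 lc_g_rc_27_0) (@D3.rec (fun _ => (Cert rels S Gen.g)) lc_g_rc_12_3 lc_g_rc_6_3 lc_g_rc_12_3 lc_g_rc_17_1 lc_g_rc_17_1 lc_g_rc_27_0 lc_g_rc_21_5 lc_g_rc_27_0 lc_g_rc_21_3 lc_g_Cert_tree lc_g_rc_24_3 lc_g_rc_27_0 lc_g_Cert_tree lc_g_rc_21_3 lc_g_rc_21_3 lc_g_rc_17_1 lc_g_rc_24_1 lc_g_rc_28_3 lc_g_Cert_tree lc_g_Cert_tree lc_g_rc_21_1) (@D3.rec (fun _ => (Cert rels S Gen.g)) lc_g_rc_17_3 lc_g_rc_27_0 lc_g_rc_27_0 lc_g_rc_24_1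 lc_g_rc_12_1 lc_g_rc_21_3 lc_g_rc_12_1 lc_g_rc_17_3 lc_g_rc_28_3 lc_g_rc_27_0 lc_g_rc_12_3 lc_g_Cert_tree lc_g_rc_17_3 lc_g_rc_27_0 lc_g_rc_17_3 lc_g_rc_27_0 lc_g_Cert_tree lc_g_rc_27_1 lc_g_rc_27_0 lc_g_rc_21_3 lc_g_rc_28_3) (@D3.rec (fun _ => (Cert rels S Gen.g)) lc_g_Cert_tree lc_g_rc_24_3 lc_g_rc_27_0 lc_g_Cert_tree lc_g_rc_21_3 lc_g_rc_12_1 lc_g_Cert_tree lc_g_rc_12_3 lc_g_rc_28_1 lc_g_rc_6_1 lc_g_rc_27_0 lc_g_rc_27_0 lc_g_rc_24_1 lc_g_Cert_tree lc_g_rc_17_1 lc_g_rc_27_0 lc_g_Cert_tree lc_g_Cert_tree lc_g_Cert_tree lc_g_rc_27_0 lc_g_rc_17_3) (@D3.rec (fun _ => (Cert rels S Gen.g)) lc_g_rc_27_1 lc_g_rc_27_0 lc_g_Cert_tree lc_g_rc_21_3 lc_g_rc_28_3 lc_g_rc_17_1 lc_g_rc_24_3 lc_g_rc_27_0 lc_g_Cert_tree lc_g_rc_27_0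 lc_g_rc_21_3 lc_g_rc_28_3 lc_g_rc_28_3 lc_g_rc_21_3 lc_g_rc_28_3 lc_g_Cert_tree lc_g_rc_27_0 lc_g_rc_6_3 lc_g_rc_28_3 lc_g_rc_17_1 lc_g_rc_17_1) (@D3.rec (fun _ => (Cert rels S Gen.g)) lc_g_Cert_tree lc_g_rc_17_1 lc_g_rc_27_0 lc_g_rc_28_1 lc_g_rc_21_3 lc_g_rc_17_3 lc_g_rc_27_0 lc_g_rc_17_1 lc_g_Cert_tree lc_g_rc_24_1 lc_g_Cert_tree lc_g_Cert_tree lc_g_Cert_tree lc_g_rc_27_0 lc_g_rc_17_1 lc_g_rc_27_0 lc_g_rc_12_3 lc_g_rc_21_1 lc_g_rc_17_1 lc_g_rc_21_3 lc_g_Cert_tree) (@D3.rec (fun _ => (Cert rels S Gen.g)) lc_g_rc_28_3 lc_g_Cert_tree lc_g_Cert_tree lc_g_rc_27_0 lc_g_rc_31_7 lc_g_rc_27_0 lc_g_Cert_tree lc_g_rc_28_1 lc_g_rc_27_0 lc_g_rc_6_1 lc_g_rc_24_1 lc_g_rc_28_3 lc_g_Cert_tree lc_g_Cert_tree lc_g_Cert_tree lc_g_rc_27_0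 lc_g_rc_27_0 lc_g_rc_21_3 lc_g_rc_28_3 lc_g_rc_17_1 lc_g_rc_24_1) (@D3.rec (fun _ => (Cert rels S Gen.g)) lc_g_rc_24_3 lc_g_rc_21_3 lc_g_rc_6_3 lc_g_rc_28_3 lc_g_Cert_tree lc_g_rc_27_0 lc_g_rc_31_7 lc_g_Cert_tree lc_g_rc_27_0 lc_g_rc_12_3 lc_g_Cert_tree lc_g_rc_27_0 lc_g_Cert_tree lc_g_rc_31_7 lc_g_rc_28_1 lc_g_rc_6_1 lc_g_rc_27_0 lc_g_rc_21_1 lc_g_rc_12_3 lc_g_rc_12_3 lc_g_rc_17_1) (@D3.rec (fun _ => (Cert rels S Gen.g)) lc_g_rc_12_3 lc_g_rc_12_1 lc_g_rc_27_0 lc_g_rc_12_1 lc_g_rc_27_0 lc_g_rc_27_0 lc_g_Cert_tree lc_g_Cert_tree lc_g_rc_12_3 lc_g_rc_27_0 lc_g_rc_12_1 lc_g_Cert_tree lc_g_rc_17_1 lc_g_rc_17_1 lc_g_Cert_tree lc_g_rc_12_3 lc_g_Cert_tree lc_g_rc_27_0 lc_g_Cert_tree lc_g_Cert_tree lc_g_Cert_tree) (@D3.rec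 (fun _ => (Cert rels S Gen.g)) lc_g_rc_27_0 lc_g_Cert_tree lc_g_rc_27_0 lc_g_rc_12_1 lc_g_rc_21_3 lc_g_rc_17_1 lc_g_rc_24_1 lc_g_rc_28_3 lc_g_rc_21_3 lc_g_rc_12_1 lc_g_rc_12_1 lc_g_rc_17_1 lc_g_rc_17_3 lc_g_rc_28_3 lc_g_rc_27_0 lc_g_rc_6_1 lc_g_Cert_tree lc_g_rc_6_1 lc_g_rc_21_1 lc_g_rc_21_1 lc_g_rc_27_0) (@D3.rec (fun _ => (Cert rels S Gen.g)) lc_g_Cert_tree lc_g_rc_17_1 lc_g_rc_27_0 lc_g_rc_21_3 lc_g_rc_28_3 lc_g_rc_6_1 lc_g_rc_27_0 lc_g_rc_21_3 lc_g_rc_21_3 lc_g_rc_24_1 lc_g_rc_27_0 lc_g_rc_12_3 lc_g_rc_21_1 lc_g_rc_24_1 lc_g_Cert_tree lc_g_Cert_tree lc_g_Cert_tree lc_g_rc_27_0 lc_g_Cert_tree lc_g_rc_27_0 lc_g_rc_12_1) (@D3.rec (fun _ => (Cert rels S Gen.g)) lc_g_rc_6_1 lc_g_Cert_tree lc_g_Cert_tree lc_g_Cert_tree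 lc_g_Cert_tree lc_g_rc_27_0 lc_g_Cert_tree lc_g_Cert_tree lc_g_rc_24_1 lc_g_rc_31_7 lc_g_rc_17_1 lc_g_rc_27_0 lc_g_rc_21_3 lc_g_rc_21_5 lc_g_rc_24_1 lc_g_Cert_tree lc_g_rc_6_1 lc_g_rc_27_0 lc_g_Cert_tree lc_g_rc_24_1 lc_g_rc_12_1) (@D3.rec (fun _ => (Cert rels S Gen.g)) lc_g_rc_6_1 lc_g_rc_12_1 lc_g_rc_21_3 lc_g_rc_27_0 lc_g_Cert_tree lc_g_rc_21_3 lc_g_rc_21_3 lc_g_rc_24_1 lc_g_Cert_tree lc_g_rc_12_1 lc_g_Cert_tree lc_g_rc_24_1 lc_g_rc_12_1 lc_g_rc_17_1 lc_g_rc_17_1 lc_g_rc_31_3 lc_g_rc_28_3 lc_g_rc_17_1 lc_g_rc_12_3 lc_g_rc_21_3 lc_g_rc_27_1)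
def ce_g_3 : D2 → D3 → (Cert rels S Gen.g) := @D2.rec (fun _ => D3 → (Cert rels S Gen.g)) (@D3.rec (fun _ => (Cert rels S Gen.g)) lc_g_rc_27_0 lc_g_rc_24_3 lc_g_rc_27_0 lc_g_rc_6_1 lc_g_rc_27_0 lc_g_rc_21_3 lc_g_rc_28_3 lc_g_rc_17_1 lc_g_rc_6_1 lc_g_rc_24_3 lc_g_rc_6_1 lc_g_Cert_tree lc_g_rc_21_3 lc_g_Cert_tree lc_g_rc_6_1 lc_g_rc_27_0 lc_g_rc_21_3 lc_g_rc_17_1 lc_g_rc_24_1 lc_g_rc_6_1 lc_g_rc_6_3) (@D3.rec (fun _ => (Cert rels S Gen.g)) lc_g_rc_12_1 lc_g_Cert_tree lc_g_rc_17_1 lc_g_rc_12_1 lc_g_rc_12_3 lc_g_rc_17_1 lc_g_rc_12_1 lc_g_rc_27_0 lc_g_rc_27_0 lc_g_rc_24_3 lc_g_rc_27_0 lc_g_rc_17_1 lc_g_rc_27_1 lc_g_rc_27_0 lc_g_rc_12_1 lc_g_rc_28_3 lc_g_rc_28_3 lc_g_rc_27_1 lc_g_rc_6_3 lc_g_rc_24_1 lc_g_rc_6_1) (@D3.rec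 (fun _ => (Cert rels S Gen.g)) lc_g_rc_17_1 lc_g_rc_27_0 lc_g_rc_24_1 lc_g_rc_21_3 lc_g_rc_6_3 lc_g_rc_21_3 lc_g_rc_27_0 lc_g_rc_17_1 lc_g_rc_21_3 lc_g_rc_28_3 lc_g_rc_12_3 lc_g_Cert_tree lc_g_rc_17_1 lc_g_rc_27_0 lc_g_rc_21_3 lc_g_rc_17_1 lc_g_rc_24_1 lc_g_rc_12_1 lc_g_rc_21_3 lc_g_rc_17_1 lc_g_rc_17_1) (@D3.rec (fun _ => (Cert rels S Gen.g)) lc_g_rc_21_1 lc_g_rc_12_1 lc_g_rc_28_1 lc_g_rc_6_1 lc_g_rc_27_0 lc_g_rc_21_1 lc_g_rc_27_0 lc_g_rc_17_1 lc_g_rc_21_3 lc_g_rc_17_1 lc_g_rc_28_3 lc_g_rc_12_1 lc_g_Cert_tree lc_g_rc_17_1 lc_g_rc_27_0 lc_g_rc_21_1 lc_g_rc_17_1 lc_g_rc_6_1 lc_g_Cert_tree lc_g_rc_6_1 lc_g_Cert_tree) (@D3.rec (fun _ => (Cert rels S Gen.g)) lc_g_Cert_tree lc_g_Cert_tree lc_g_rc_27_0 lc_g_rc_28_1 lc_g_rc_6_1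 lc_g_rc_24_1 lc_g_rc_12_1 lc_g_rc_21_1 lc_g_rc_6_3 lc_g_Cert_tree lc_g_Cert_tree lc_g_rc_26_7 lc_g_rc_27_0 lc_g_rc_24_3 lc_g_rc_27_0 lc_g_rc_27_1 lc_g_rc_21_3 lc_g_rc_21_3 lc_g_rc_6_1 lc_g_rc_6_1 lc_g_rc_6_1) (@D3.rec (fun _ => (Cert rels S Gen.g)) lc_g_rc_6_3 lc_g_rc_27_0 lc_g_rc_24_1 lc_g_rc_27_0 lc_g_rc_21_1 lc_g_rc_24_1 lc_g_rc_6_3 lc_g_Cert_tree lc_g_rc_21_3 lc_g_Cert_tree lc_g_rc_21_3 lc_g_rc_12_1 lc_g_rc_12_3 lc_g_rc_6_1 lc_g_rc_17_3 lc_g_rc_28_3 lc_g_rc_6_1 lc_g_rc_28_1 lc_g_rc_28_1 lc_g_rc_28_3 lc_g_rc_17_1) (@D3.rec (fun _ => (Cert rels S Gen.g)) lc_g_rc_17_1 lc_g_rc_27_0 lc_g_rc_28_1 lc_g_rc_21_3 lc_g_rc_17_3 lc_g_rc_27_0 lc_g_rc_21_3 lc_g_rc_17_1 lc_g_rc_24_1 lc_g_rc_28_3 lc_g_rc_28_3 lc_g_Cert_tree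 lc_g_Cert_tree lc_g_Cert_tree lc_g_rc_27_0 lc_g_rc_27_0 lc_g_rc_6_1 lc_g_rc_17_1 lc_g_rc_21_3 lc_g_rc_6_3 lc_g_rc_21_3) (@D3.rec (fun _ => (Cert rels S Gen.g)) lc_g_rc_12_3 lc_g_rc_21_3 lc_g_rc_12_1 lc_g_rc_21_3 lc_g_rc_21_3 lc_g_Cert_tree lc_g_Cert_tree lc_g_rc_24_3 lc_g_rc_27_0 lc_g_Cert_tree lc_g_rc_21_3 lc_g_rc_21_1 lc_g_rc_21_3 lc_g_Cert_tree lc_g_rc_24_3 lc_g_rc_27_0 lc_g_rc_21_1 lc_g_rc_17_1 lc_g_rc_6_3 lc_g_rc_6_3 lc_g_Cert_tree) (@D3.rec (fun _ => (Cert rels S Gen.g)) lc_g_rc_27_0 lc_g_rc_24_3 lc_g_rc_21_3 lc_g_Cert_tree lc_g_rc_27_0 lc_g_rc_31_11 lc_g_rc_6_3 lc_g_rc_12_1 lc_g_rc_6_3 lc_g_Cert_tree lc_g_rc_6_3 lc_g_rc_27_0 lc_g_rc_28_1 lc_g_rc_6_3 lc_g_Cert_tree lc_g_rc_21_3 lc_g_rc_21_3 lc_g_rc_6_3 lc_g_rc_27_0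 lc_g_Cert_tree lc_g_rc_17_3) (@D3.rec (fun _ => (Cert rels S Gen.g)) lc_g_rc_12_1 lc_g_rc_27_0 lc_g_rc_6_1 lc_g_rc_24_3 lc_g_rc_27_0 lc_g_rc_21_1 lc_g_rc_27_0 lc_g_rc_21_3 lc_g_rc_28_3 lc_g_rc_21_3 lc_g_Cert_tree lc_g_rc_24_3 lc_g_rc_27_0 lc_g_rc_17_1 lc_g_rc_28_3 lc_g_rc_21_1 lc_g_rc_31_11 lc_g_rc_28_1 lc_g_rc_27_0 lc_g_rc_28_3 lc_g_rc_17_1) (@D3.rec (fun _ => (Cert rels S Gen.g)) lc_g_rc_24_1 lc_g_rc_28_3 lc_g_rc_28_1 lc_g_rc_27_0 lc_g_rc_28_3 lc_g_rc_17_1 lc_g_rc_21_1 lc_g_rc_31_3 lc_g_rc_17_1 lc_g_rc_27_0 lc_g_Cert_tree lc_g_rc_17_1 lc_g_rc_6_3 lc_g_rc_17_3 lc_g_rc_12_1 lc_g_rc_27_0 lc_g_rc_28_3 lc_g_rc_27_0 lc_g_Cert_tree lc_g_rc_17_3 lc_g_Cert_tree) (@D3.rec (fun _ => (Cert rels S Gen.g)) lc_g_rc_27_0 lc_g_rc_27_0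 lc_g_rc_6_3 lc_g_rc_24_1 lc_g_rc_17_1 lc_g_rc_17_1 lc_g_rc_12_3 lc_g_Cert_tree lc_g_rc_27_0 lc_g_rc_12_1 lc_g_rc_28_1 lc_g_rc_17_3 lc_g_rc_27_0 lc_g_rc_27_0 lc_g_rc_12_1 lc_g_Cert_tree lc_g_Cert_tree lc_g_rc_12_3 lc_g_rc_27_0 lc_g_rc_17_3 lc_g_rc_6_1) (@D3.rec (fun _ => (Cert rels S Gen.g)) lc_g_Cert_tree lc_g_rc_12_3 lc_g_Cert_tree lc_g_rc_27_0 lc_g_Cert_tree lc_g_rc_17_1 lc_g_rc_27_0 lc_g_Cert_tree lc_g_rc_27_0 lc_g_rc_12_1 lc_g_rc_21_3 lc_g_rc_17_1 lc_g_rc_24_1 lc_g_rc_28_3 lc_g_rc_21_3 lc_g_rc_27_0 lc_g_rc_27_0 lc_g_rc_28_3 lc_g_rc_24_1 lc_g_rc_6_3 lc_g_rc_28_3) (@D3.rec (fun _ => (Cert rels S Gen.g)) lc_g_rc_6_1 lc_g_rc_27_0 lc_g_rc_21_3 lc_g_rc_21_3 lc_g_rc_24_1 lc_g_rc_27_0 lc_g_rc_21_3 lc_g_Cert_tree lc_g_Cert_tree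 lc_g_Cert_tree lc_g_rc_27_0 lc_g_rc_24_1 lc_g_Cert_tree lc_g_Cert_tree lc_g_Cert_tree lc_g_rc_27_0 lc_g_rc_24_1 lc_g_rc_21_5 lc_g_rc_24_1 lc_g_rc_28_3 lc_g_rc_12_1)
def ce_g_4 : D2 → D3 → (Cert rels S Gen.g) := @D2.rec (fun _ => D3 → (Cert rels S Gen.g)) (@D3.rec (fun _ => (Cert rels S Gen.g)) lc_g_rc_21_3 lc_g_rc_21_3 lc_g_Cert_tree lc_g_rc_21_3 lc_g_rc_21_3 lc_g_rc_6_3 lc_g_rc_27_0 lc_g_rc_17_3 lc_g_Cert_tree lc_g_Cert_tree lc_g_rc_27_0 lc_g_rc_21_3 lc_g_Cert_tree lc_g_Cert_tree lc_g_rc_24_3 lc_g_rc_21_1 lc_g_rc_27_0 lc_g_rc_12_1 lc_g_rc_27_0 lc_g_rc_12_1 lc_g_rc_12_3) (@D3.rec (fun _ => (Cert rels S Gen.g)) lc_g_rc_6_3 lc_g_rc_27_1 lc_g_rc_27_0 lc_g_rc_12_3 lc_g_rc_12_1 lc_g_rc_27_0 lc_g_Cert_tree lc_g_rc_24_3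 lc_g_rc_27_0 lc_g_rc_27_0 lc_g_rc_28_3 lc_g_rc_17_3 lc_g_Cert_tree lc_g_rc_27_0 lc_g_rc_17_1 lc_g_rc_21_3 lc_g_rc_27_1 lc_g_rc_21_3 lc_g_rc_17_1 lc_g_rc_21_3 lc_g_rc_6_1) (@D3.rec (fun _ => (Cert rels S Gen.g)) lc_g_rc_17_1 lc_g_Cert_tree lc_g_rc_21_3 lc_g_rc_28_3 lc_g_rc_27_0 lc_g_rc_21_3 lc_g_rc_17_3 lc_g_rc_27_1 lc_g_rc_28_3 lc_g_rc_24_3 lc_g_rc_17_3 lc_g_rc_27_0 lc_g_rc_17_1 lc_g_rc_24_1 lc_g_Cert_tree lc_g_rc_21_3 lc_g_rc_17_1 lc_g_rc_17_1 lc_g_rc_24_1 lc_g_Cert_tree lc_g_rc_27_1) (@D3.rec (fun _ => (Cert rels S Gen.g)) lc_g_rc_17_1 lc_g_rc_24_1 lc_g_rc_28_3 lc_g_rc_12_3 lc_g_rc_12_3 lc_g_Cert_tree lc_g_Cert_tree lc_g_rc_17_3 lc_g_rc_27_0 lc_g_Cert_tree lc_g_rc_17_3 lc_g_rc_27_0 lc_g_rc_27_0 lc_g_Cert_tree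 lc_g_rc_24_1 lc_g_rc_27_0 lc_g_rc_17_1 lc_g_Cert_tree lc_g_Cert_tree lc_g_Cert_tree lc_g_rc_27_0) (@D3.rec (fun _ => (Cert rels S Gen.g)) lc_g_Cert_tree lc_g_rc_12_3 lc_g_rc_17_3 lc_g_rc_17_3 lc_g_rc_27_0 lc_g_rc_24_3 lc_g_rc_27_0 lc_g_rc_27_0 lc_g_rc_28_3 lc_g_rc_21_1 lc_g_rc_27_0 lc_g_rc_27_0 lc_g_Cert_tree lc_g_rc_27_0 lc_g_rc_17_1 lc_g_rc_24_1 lc_g_rc_12_1 lc_g_rc_17_1 lc_g_rc_24_1 lc_g_rc_28_3 lc_g_rc_27_0) (@D3.rec (fun _ => (Cert rels S Gen.g)) lc_g_rc_6_3 lc_g_rc_27_0 lc_g_rc_17_1 lc_g_rc_17_1 lc_g_rc_12_1 lc_g_rc_21_3 lc_g_Cert_tree lc_g_rc_27_0 lc_g_rc_17_1 lc_g_rc_21_3 lc_g_rc_26_1 lc_g_rc_17_1 lc_g_rc_24_1 lc_g_rc_28_3 lc_g_Cert_tree lc_g_Cert_tree lc_g_rc_27_0 lc_g_rc_27_0 lc_g_Cert_tree lc_g_rc_26_1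 lc_g_rc_24_1) (@D3.rec (fun _ => (Cert rels S Gen.g)) lc_g_rc_24_1 lc_g_rc_17_1 lc_g_rc_24_1 lc_g_rc_12_1 lc_g_rc_21_1 lc_g_rc_24_1 lc_g_rc_21_3 lc_g_rc_17_1 lc_g_rc_21_3 lc_g_rc_6_1 lc_g_rc_12_1 lc_g_rc_17_1 lc_g_rc_12_1 lc_g_rc_21_1 lc_g_rc_6_1 lc_g_rc_28_3 lc_g_rc_21_3 lc_g_rc_27_0 lc_g_rc_31_11 lc_g_rc_6_1 lc_g_rc_6_1) (@D3.rec (fun _ => (Cert rels S Gen.g)) lc_g_rc_12_3 lc_g_rc_17_1 lc_g_rc_17_1 lc_g_rc_27_0 lc_g_rc_21_3 lc_g_rc_24_1 lc_g_rc_12_1 lc_g_rc_12_3 lc_g_rc_17_1 lc_g_rc_6_1 lc_g_rc_6_1 lc_g_rc_17_1 lc_g_rc_6_1 lc_g_rc_12_1 lc_g_Cert_tree lc_g_rc_12_1 lc_g_Cert_tree lc_g_rc_21_5 lc_g_rc_27_0 lc_g_rc_6_1 lc_g_rc_6_1) (@D3.rec (fun _ => (Cert rels S Gen.g)) lc_g_rc_27_1 lc_g_rc_27_1 lc_g_rc_27_1 lc_g_rc_21_1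 lc_g_rc_12_3 lc_g_rc_21_3 lc_g_rc_6_1 lc_g_rc_12_1 lc_g_rc_17_1 lc_g_rc_27_0 lc_g_rc_27_1 lc_g_rc_17_1 lc_g_rc_24_1 lc_g_rc_17_3 lc_g_rc_31_3 lc_g_rc_21_1 lc_g_rc_17_1 lc_g_rc_17_1 lc_g_rc_12_1 lc_g_rc_17_3 lc_g_rc_17_1) (@D3.rec (fun _ => (Cert rels S Gen.g)) lc_g_rc_12_1 lc_g_Cert_tree lc_g_rc_12_1 lc_g_rc_31_7 lc_g_Cert_tree lc_g_rc_17_1 lc_g_rc_27_0 lc_g_rc_17_1 lc_g_rc_12_1 lc_g_rc_17_1 lc_g_rc_24_1 lc_g_rc_6_3 lc_g_rc_24_3 lc_g_rc_31_11 lc_g_rc_17_1 lc_g_rc_24_1 lc_g_rc_12_1 lc_g_rc_17_1 lc_g_Cert_tree lc_g_rc_27_1 lc_g_rc_27_0) (@D3.rec (fun _ => (Cert rels S Gen.g)) lc_g_rc_12_3 lc_g_rc_21_1 lc_g_rc_17_1 lc_g_rc_24_1 lc_g_rc_28_3 lc_g_rc_6_3 lc_g_Cert_tree lc_g_Cert_tree lc_g_Cert_tree lc_g_rc_27_0 lc_g_rc_6_3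 lc_g_rc_28_1 lc_g_rc_27_0 lc_g_rc_28_1 lc_g_rc_27_0 lc_g_rc_27_0 lc_g_rc_17_1 lc_g_rc_12_3 lc_g_rc_6_3 lc_g_rc_21_1 lc_g_rc_6_1) (@D3.rec (fun _ => (Cert rels S Gen.g)) lc_g_rc_17_1 lc_g_rc_6_3 lc_g_Cert_tree lc_g_rc_17_1 lc_g_rc_24_3 lc_g_rc_27_0 lc_g_rc_27_1 lc_g_rc_27_0 lc_g_rc_28_3 lc_g_rc_21_3 lc_g_rc_17_1 lc_g_rc_17_1 lc_g_rc_12_3 lc_g_rc_27_0 lc_g_rc_21_1 lc_g_rc_21_3 lc_g_rc_21_1 lc_g_Cert_tree lc_g_rc_27_0 lc_g_Cert_tree lc_g_rc_27_0) (@D3.rec (fun _ => (Cert rels S Gen.g)) lc_g_rc_17_3 lc_g_rc_31_7 lc_g_rc_27_0 lc_g_rc_6_1 lc_g_rc_17_1 lc_g_rc_24_1 lc_g_rc_28_3 lc_g_rc_28_1 lc_g_rc_17_1 lc_g_rc_24_1 lc_g_rc_28_3 lc_g_rc_28_1 lc_g_rc_27_0 lc_g_Cert_tree lc_g_rc_17_3 lc_g_Cert_tree lc_g_rc_27_0 lc_g_rc_27_0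 lc_g_rc_28_3 lc_g_rc_6_1 lc_g_rc_28_3) (@D3.rec (fun _ => (Cert rels S Gen.g)) lc_g_rc_6_3 lc_g_rc_6_3 lc_g_rc_21_1 lc_g_rc_12_3 lc_g_rc_28_3 lc_g_rc_12_3 lc_g_rc_21_1 lc_g_rc_28_1 lc_g_rc_17_1 lc_g_rc_6_1 lc_g_Cert_tree lc_g_rc_12_1 lc_g_rc_27_0 lc_g_rc_6_3 lc_g_rc_6_3 lc_g_rc_27_0 lc_g_rc_24_3 lc_g_rc_21_3 lc_g_Cert_tree lc_g_rc_24_3 lc_g_rc_27_0)
def ce_g_5 : D2 → D3 → (Cert rels S Gen.g) := @D2.rec (fun _ => D3 → (Cert rels S Gen.g)) (@D3.rec (fun _ => (Cert rels S Gen.g)) lc_g_rc_17_1 lc_g_rc_6_1 lc_g_rc_6_1 lc_g_rc_28_1 lc_g_rc_17_1 lc_g_rc_27_0 lc_g_rc_28_3 lc_g_rc_28_3 lc_g_rc_12_1 lc_g_rc_17_1 lc_g_rc_6_3 lc_g_rc_6_3 lc_g_rc_27_0 lc_g_rc_28_1 lc_g_rc_12_3 lc_g_rc_27_0 lc_g_rc_27_0 lc_g_rc_31_3 lc_g_Cert_tree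 lc_g_rc_27_0 lc_g_rc_12_1) (@D3.rec (fun _ => (Cert rels S Gen.g)) lc_g_rc_12_1 lc_g_Cert_tree lc_g_rc_27_0 lc_g_rc_28_3 lc_g_rc_27_0 lc_g_rc_6_1 lc_g_Cert_tree lc_g_rc_24_3 lc_g_rc_27_0 lc_g_rc_12_1 lc_g_rc_21_1 lc_g_rc_17_1 lc_g_rc_24_1 lc_g_rc_17_1 lc_g_rc_12_3 lc_g_rc_17_1 lc_g_rc_24_3 lc_g_rc_27_0 lc_g_rc_28_3 lc_g_rc_24_3 lc_g_rc_6_3) (@D3.rec (fun _ => (Cert rels S Gen.g)) lc_g_rc_17_1 lc_g_rc_24_1 lc_g_rc_27_1 lc_g_rc_17_3 lc_g_rc_28_1 lc_g_rc_21_3 lc_g_rc_21_5 lc_g_rc_6_1 lc_g_rc_6_1 lc_g_rc_21_1 lc_g_rc_28_1 lc_g_rc_27_0 lc_g_rc_12_1 lc_g_rc_21_3 lc_g_rc_17_3 lc_g_Cert_tree lc_g_rc_27_0 lc_g_rc_27_0 lc_g_rc_17_1 lc_g_rc_12_1 lc_g_rc_31_11) (@D3.rec (fun _ => (Cert rels S Gen.g)) lc_g_rc_28_1 lc_g_rc_27_0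 lc_g_rc_28_3 lc_g_rc_17_1 lc_g_rc_21_3 lc_g_rc_21_3 lc_g_Cert_tree lc_g_rc_27_0 lc_g_Cert_tree lc_g_Cert_tree lc_g_rc_27_0 lc_g_rc_21_3 lc_g_rc_12_1 lc_g_rc_27_0 lc_g_rc_12_3 lc_g_rc_6_3 lc_g_Cert_tree lc_g_rc_27_0 lc_g_Cert_tree lc_g_rc_27_1 lc_g_rc_27_0) (@D3.rec (fun _ => (Cert rels S Gen.g)) lc_g_rc_28_3 lc_g_Cert_tree lc_g_Cert_tree lc_g_rc_27_0 lc_g_rc_17_1 lc_g_rc_21_3 lc_g_rc_21_3 lc_g_rc_24_3 lc_g_rc_24_1 lc_g_rc_21_3 lc_g_rc_21_3 lc_g_rc_21_3 lc_g_rc_17_1 lc_g_rc_24_1 lc_g_Cert_tree lc_g_rc_12_1 lc_g_Cert_tree lc_g_Cert_tree lc_g_rc_12_3 lc_g_rc_27_0 lc_g_rc_17_3) (@D3.rec (fun _ => (Cert rels S Gen.g)) lc_g_rc_27_0 lc_g_rc_27_0 lc_g_Cert_tree lc_g_rc_17_3 lc_g_rc_17_3 lc_g_rc_27_0 lc_g_rc_24_3 lc_g_rc_27_0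 lc_g_rc_27_0 lc_g_rc_28_3 lc_g_rc_27_1 lc_g_rc_12_1 lc_g_rc_24_1 lc_g_rc_21_5 lc_g_rc_6_1 lc_g_rc_17_1 lc_g_Cert_tree lc_g_rc_27_0 lc_g_rc_17_1 lc_g_rc_26_1 lc_g_rc_17_1) (@D3.rec (fun _ => (Cert rels S Gen.g)) lc_g_rc_24_1 lc_g_rc_28_3 lc_g_rc_27_0 lc_g_rc_27_1 lc_g_Cert_tree lc_g_rc_27_1 lc_g_rc_17_1 lc_g_rc_17_3 lc_g_Cert_tree lc_g_rc_24_3 lc_g_rc_27_0 lc_g_rc_27_0 lc_g_rc_21_3 lc_g_rc_28_3 lc_g_rc_17_3 lc_g_rc_27_0 lc_g_rc_12_3 lc_g_rc_24_3 lc_g_rc_21_5 lc_g_rc_27_0 lc_g_rc_27_1) (@D3.rec (fun _ => (Cert rels S Gen.g)) lc_g_rc_28_3 lc_g_rc_12_1 lc_g_rc_6_1 lc_g_rc_24_3 lc_g_rc_12_1 lc_g_rc_31_7 lc_g_Cert_tree lc_g_rc_12_1 lc_g_rc_24_1 lc_g_rc_21_3 lc_g_rc_17_3 lc_g_rc_24_3 lc_g_rc_27_0 lc_g_rc_17_1 lc_g_rc_17_1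 lc_g_rc_17_1 lc_g_Cert_tree lc_g_rc_27_0 lc_g_rc_24_1 lc_g_rc_17_1 lc_g_rc_6_3) (@D3.rec (fun _ => (Cert rels S Gen.g)) lc_g_rc_17_1 lc_g_rc_21_3 lc_g_rc_24_3 lc_g_rc_27_0 lc_g_rc_17_1 lc_g_rc_24_1 lc_g_rc_12_1 lc_g_rc_17_1 lc_g_rc_12_3 lc_g_rc_28_1 lc_g_rc_24_3 lc_g_rc_24_1 lc_g_rc_12_3 lc_g_rc_28_3 lc_g_rc_12_1 lc_g_rc_17_1 lc_g_Cert_tree lc_g_rc_27_1 lc_g_rc_27_0 lc_g_rc_17_1 lc_g_rc_12_1) (@D3.rec (fun _ => (Cert rels S Gen.g)) lc_g_Cert_tree lc_g_rc_31_11 lc_g_rc_12_1 lc_g_rc_6_1 lc_g_rc_28_3 lc_g_rc_27_0 lc_g_rc_24_1 lc_g_rc_17_1 lc_g_rc_12_3 lc_g_rc_24_1 lc_g_rc_17_1 lc_g_rc_17_3 lc_g_Cert_tree lc_g_rc_27_0 lc_g_rc_24_1 lc_g_rc_6_3 lc_g_rc_27_0 lc_g_rc_21_3 lc_g_rc_6_1 lc_g_Cert_tree lc_g_rc_27_0) (@D3.rec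 (fun _ => (Cert rels S Gen.g)) lc_g_Cert_tree lc_g_rc_12_1 lc_g_rc_27_0 lc_g_Cert_tree lc_g_rc_17_3 lc_g_rc_17_3 lc_g_rc_27_0 lc_g_rc_24_3 lc_g_rc_27_0 lc_g_rc_27_0 lc_g_rc_28_3 lc_g_rc_6_3 lc_g_rc_21_1 lc_g_rc_12_1 lc_g_rc_27_0 lc_g_rc_12_3 lc_g_Cert_tree lc_g_rc_21_3 lc_g_rc_21_3 lc_g_Cert_tree lc_g_rc_27_0) (@D3.rec (fun _ => (Cert rels S Gen.g)) lc_g_rc_6_1 lc_g_rc_12_1 lc_g_rc_12_1 lc_g_rc_21_1 lc_g_rc_17_1 lc_g_rc_17_3 lc_g_rc_24_1 lc_g_rc_21_3 lc_g_rc_21_3 lc_g_rc_28_3 lc_g_rc_17_1 lc_g_rc_28_3 lc_g_Cert_tree lc_g_rc_27_0 lc_g_rc_21_1 lc_g_rc_17_1 lc_g_rc_17_1 lc_g_rc_28_1 lc_g_Cert_tree lc_g_Cert_tree lc_g_rc_27_0) (@D3.rec (fun _ => (Cert rels S Gen.g)) lc_g_rc_27_0 lc_g_rc_21_3 lc_g_rc_27_0 lc_g_rc_12_1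 lc_g_rc_24_1 lc_g_rc_24_1 lc_g_rc_21_3 lc_g_rc_17_1 lc_g_rc_27_0 lc_g_rc_24_1 lc_g_rc_12_1 lc_g_rc_17_1 lc_g_rc_27_0 lc_g_rc_28_1 lc_g_rc_28_1 lc_g_rc_12_1 lc_g_rc_17_1 lc_g_rc_12_1 lc_g_rc_17_1 lc_g_rc_17_1 lc_g_rc_12_1) (@D3.rec (fun _ => (Cert rels S Gen.g)) lc_g_rc_31_11 lc_g_rc_21_3 lc_g_Cert_tree lc_g_rc_12_1 lc_g_rc_27_0 lc_g_rc_12_1 lc_g_rc_27_0 lc_g_rc_17_1 lc_g_rc_17_1 lc_g_rc_21_1 lc_g_rc_17_1 lc_g_rc_17_1 lc_g_rc_17_1 lc_g_rc_6_1 lc_g_rc_21_3 lc_g_rc_17_1 lc_g_rc_12_1 lc_g_rc_17_1 lc_g_rc_21_3 lc_g_rc_17_3 lc_g_rc_21_1)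
def ce_g_6 : D2 → D3 → (Cert rels S Gen.g) := @D2.rec (fun _ => D3 → (Cert rels S Gen.g)) (@D3.rec (fun _ => (Cert rels S Gen.g)) lc_g_rc_12_1 lc_g_rc_12_1 lc_g_rc_21_1 lc_g_rc_12_1 lc_g_rc_28_3 lc_g_Cert_tree lc_g_rc_6_3 lc_g_rc_6_1 lc_g_rc_27_0 lc_g_rc_27_0 lc_g_rc_27_0 lc_g_rc_12_1 lc_g_rc_24_3 lc_g_rc_12_1 lc_g_rc_17_1 lc_g_rc_12_1 lc_g_rc_12_1 lc_g_rc_12_1 lc_g_rc_27_0 lc_g_rc_17_1 lc_g_rc_12_1) (@D3.rec (fun _ => (Cert rels S Gen.g)) lc_g_rc_17_1 lc_g_rc_17_1 lc_g_rc_27_0 lc_g_rc_27_0 lc_g_rc_27_0 lc_g_rc_17_1 lc_g_rc_17_1 lc_g_rc_12_1 lc_g_rc_31_7 lc_g_rc_17_1 lc_g_rc_12_1 lc_g_rc_6_3 lc_g_rc_6_3 lc_g_rc_6_1 lc_g_rc_27_0 lc_g_rc_6_3 lc_g_rc_21_3 lc_g_rc_17_1 lc_g_rc_17_3 lc_g_rc_6_3 lc_g_rc_28_3) (@D3.rec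 (fun _ => (Cert rels S Gen.g)) lc_g_rc_21_1 lc_g_rc_17_1 lc_g_rc_17_1 lc_g_rc_28_3 lc_g_rc_27_0 lc_g_rc_21_1 lc_g_rc_27_0 lc_g_rc_31_7 lc_g_rc_12_1 lc_g_rc_17_1 lc_g_rc_28_3 lc_g_rc_21_5 lc_g_Cert_tree lc_g_rc_27_0 lc_g_rc_27_0 lc_g_rc_17_1 lc_g_rc_12_1 lc_g_rc_17_1 lc_g_rc_28_1 lc_g_rc_17_1 lc_g_rc_27_0) (@D3.rec (fun _ => (Cert rels S Gen.g)) lc_g_rc_6_1 lc_g_rc_24_3 lc_g_rc_24_3 lc_g_rc_28_1 lc_g_rc_17_1 lc_g_rc_27_0 lc_g_rc_28_3 lc_g_rc_12_1 lc_g_rc_6_1 lc_g_rc_12_1 lc_g_rc_12_1 lc_g_rc_12_1 lc_g_rc_6_1 lc_g_rc_6_3 lc_g_rc_6_3 lc_g_rc_28_1 lc_g_rc_27_0 lc_g_rc_6_3 lc_g_rc_12_1 lc_g_rc_6_3 lc_g_rc_12_1) (@D3.rec (fun _ => (Cert rels S Gen.g)) lc_g_rc_27_0 lc_g_rc_12_1 lc_g_rc_27_0 lc_g_rc_24_3 lc_g_rc_26_1 lc_g_rc_12_1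 lc_g_rc_26_3 lc_g_rc_12_1 lc_g_rc_17_3 lc_g_rc_28_3 lc_g_rc_31_7 lc_g_rc_21_3 lc_g_rc_28_3 lc_g_rc_12_1 lc_g_rc_17_1 lc_g_rc_21_1 lc_g_rc_12_1 lc_g_rc_24_1 lc_g_rc_27_0 lc_g_rc_17_1 lc_g_rc_28_3) (@D3.rec (fun _ => (Cert rels S Gen.g)) lc_g_rc_17_1 lc_g_rc_28_3 lc_g_rc_12_1 lc_g_rc_12_3 lc_g_Cert_tree lc_g_rc_27_0 lc_g_rc_21_3 lc_g_rc_24_3 lc_g_rc_27_0 lc_g_rc_27_0 lc_g_rc_21_3 lc_g_rc_28_3 lc_g_rc_12_1 lc_g_rc_12_1 lc_g_rc_12_3 lc_g_rc_12_1 lc_g_rc_12_1 lc_g_rc_12_3 lc_g_rc_27_0 lc_g_rc_12_1 lc_g_rc_27_0) (@D3.rec (fun _ => (Cert rels S Gen.g)) lc_g_rc_17_1 lc_g_rc_6_1 lc_g_rc_6_3 lc_g_rc_27_0 lc_g_rc_27_0 lc_g_rc_6_1 lc_g_rc_17_1 lc_g_rc_24_3 lc_g_rc_24_1 lc_g_rc_28_1 lc_g_rc_17_1 lc_g_rc_12_1 lc_g_rc_28_3 lc_g_rc_27_0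 lc_g_rc_12_3 lc_g_rc_27_0 lc_g_rc_24_1 lc_g_rc_6_1 lc_g_rc_27_0 lc_g_rc_17_1 lc_g_rc_6_3) (@D3.rec (fun _ => (Cert rels S Gen.g)) lc_g_rc_6_1 lc_g_rc_27_0 lc_g_rc_21_1 lc_g_rc_21_3 lc_g_rc_17_1 lc_g_Cert_tree lc_g_rc_27_0 lc_g_rc_21_1 lc_g_rc_17_1 lc_g_rc_17_1 lc_g_rc_21_3 lc_g_rc_24_1 lc_g_rc_28_3 lc_g_rc_28_3 lc_g_rc_27_0 lc_g_rc_17_1 lc_g_rc_17_1 lc_g_rc_17_1 lc_g_rc_17_1 lc_g_rc_17_1 lc_g_rc_27_0) (@D3.rec (fun _ => (Cert rels S Gen.g)) lc_g_rc_24_1 lc_g_rc_21_3 lc_g_rc_12_1 lc_g_rc_24_1 lc_g_rc_6_3 lc_g_rc_27_1 lc_g_rc_28_3 lc_g_rc_6_3 lc_g_rc_27_0 lc_g_rc_28_3 lc_g_rc_28_3 lc_g_rc_27_0 lc_g_rc_6_1 lc_g_rc_17_1 lc_g_rc_17_1 lc_g_rc_6_1 lc_g_rc_17_1 lc_g_rc_17_1 lc_g_rc_27_0 lc_g_rc_6_3 lc_g_rc_6_1) (@D3.rec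 (fun _ => (Cert rels S Gen.g)) lc_g_rc_12_1 lc_g_rc_27_0 lc_g_rc_17_3 lc_g_rc_21_1 lc_g_rc_24_1 lc_g_rc_28_3 lc_g_rc_24_1 lc_g_rc_21_1 lc_g_rc_6_3 lc_g_rc_17_1 lc_g_rc_27_0 lc_g_rc_28_3 lc_g_rc_12_1 lc_g_rc_27_0 lc_g_rc_6_1 lc_g_rc_6_1 lc_g_rc_17_1 lc_g_rc_27_0 lc_g_rc_24_1 lc_g_rc_31_7 lc_g_rc_17_1) (@D3.rec (fun _ => (Cert rels S Gen.g)) lc_g_rc_27_0 lc_g_rc_27_0 lc_g_rc_17_1 lc_g_rc_17_1 lc_g_rc_27_0 lc_g_rc_17_1 lc_g_rc_21_1 lc_g_rc_17_1 lc_g_rc_28_3 lc_g_Cert_tree lc_g_rc_27_0 lc_g_rc_28_3 lc_g_rc_6_3 lc_g_rc_27_0 lc_g_rc_12_1 lc_g_rc_21_3 lc_g_rc_17_1 lc_g_rc_27_0 lc_g_rc_17_1 lc_g_rc_27_0 lc_g_rc_27_0) (@D3.rec (fun _ => (Cert rels S Gen.g)) lc_g_rc_24_1 lc_g_rc_12_1 lc_g_rc_12_1 lc_g_rc_17_1 lc_g_rc_12_1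 lc_g_rc_17_1 lc_g_rc_17_1 lc_g_rc_27_0 lc_g_rc_21_1 lc_g_rc_17_1 lc_g_rc_12_1 lc_g_rc_12_1 lc_g_rc_21_1 lc_g_rc_17_1 lc_g_rc_31_11 lc_g_rc_6_1 lc_g_rc_28_3 lc_g_rc_27_0 lc_g_rc_6_1 lc_g_rc_17_3 lc_g_rc_12_1) (@D3.rec (fun _ => (Cert rels S Gen.g)) lc_g_rc_31_7 lc_g_rc_12_1 lc_g_rc_12_1 lc_g_rc_6_1 lc_g_rc_12_1 lc_g_rc_6_1 lc_g_rc_21_3 lc_g_rc_12_1 lc_g_rc_12_1 lc_g_rc_27_0 lc_g_rc_17_1 lc_g_rc_12_1 lc_g_rc_6_3 lc_g_rc_17_1 lc_g_rc_12_1 lc_g_rc_12_1 lc_g_rc_12_1 lc_g_rc_17_1 lc_g_rc_6_3 lc_g_rc_17_1 lc_g_rc_17_1) (@D3.rec (fun _ => (Cert rels S Gen.g)) lc_g_rc_31_3 lc_g_rc_24_3 lc_g_rc_27_0 lc_g_rc_21_3 lc_g_rc_28_3 lc_g_rc_6_1 lc_g_rc_17_1 lc_g_rc_12_1 lc_g_rc_17_1 lc_g_rc_28_3 lc_g_rc_6_3 lc_g_rc_27_0 lc_g_rc_17_1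 lc_g_rc_24_1 lc_g_rc_12_1 lc_g_rc_12_1 lc_g_rc_17_1 lc_g_rc_24_1 lc_g_rc_12_1 lc_g_rc_27_0 lc_g_rc_6_1)
def ce_g : Pt → (Cert rels S Gen.g) := @Pt.rec (fun _ => (Cert rels S Gen.g)) (@D1.rec (fun _ => D2 → D3 → (Cert rels S Gen.g)) ce_g_0 ce_g_1 ce_g_2 ce_g_3 ce_g_4 ce_g_5 ce_g_6)
def isSeed_g (p : Pt) : Bool := false

end

end Cfsg.Agent.Helper28.S1683
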