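import Cfsg.Agent.Lib.Helper28.S1683.Tree

set_option autoImplicit false
set_option maxRecDepth 100000
set_option linter.all false

namespace Cfsg.Agent.Helper28.S1683

open Cfsg.Agent.Helper28
open Cfsg.Spor.He (Gen)

noncomputable section

def lv_a_0 : D2 → D3 → Nat := @D2.rec (fun _ => D3 → Nat) (@D3.rec (fun _ => Nat) 1 2 2 3 3 4 4 4 4 4 5 5 4 5 5 5 5 5 0 4 5) (@D3.rec (fun _ => Nat) 5 6 0 4 6 6 6 0 6 6 6 6 1 2 2 4 5 5 6 7 1) (@D3.rec (fun _ => Nat) 2 2 5 5 5 7 7 7 7 1 2 2 7 7 7 7 7 7 7 2 2) (@D3.rec (fun _ => Nat) 3 3 3 5 5 6 6 2 2 3 3 3 3 3 8 6 6 8 6 7 8) (@D3.rec (fun _ => Nat) 8 8 8 8 8 8 2 2 3 3 3 3 3 8 8 8 8 9 8 8 8) (@D3.rec (fun _ => Nat) 8 8 8 3 3 3 13 4 4 14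 11 6 6 3 3 3 3 3 14 4 4) (@D3.rec (fun _ => Nat) 4 4 6 4 5 8 35 36 9 9 7 7 9 9 7 9 10 9 0 9 9) (@D3.rec (fun _ => Nat) 10 9 9 3 3 3 3 3 4 43 4 4 4 4 4 5 4 43 42 9 9) (@D3.rec (fun _ => Nat) 9 9 9 10 10 9 16 4 4 14 17 14 5 5 5 5 5 19 18 11 4) (@D3.rec (fun _ => Nat) 4 4 4 6 4 5 7 12 12 5 5 5 6 5 5 5 35 8 0 7 35) (@D3.rec (fun _ => Nat) 36 34 10 10 8 10 8 8 9 10 10 9 10 1 10 10 11 10 10 10 10) (@D3.rec (fun _ => Nat) 41 4 4 4 4 4 4 5 4 8 5 5 5 45 43 43 5 5 5 6 5) (@D3.rec (fun _ => Nat) 47 6 5 45 43 10 11 11 11 10 10 10 15 5 5 5 5 5 16 15 17) (@D3.rec (fun _ => Nat) 17 17 17 0 5 6 6 6 6 6 6 6 7 6 6 6 17 18 15 15 5)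
def lv_a_1 : D2 → D3 → Nat := @D2.rec (fun _ => D3 → Nat) (@D3.rec (fun _ => Nat) 5 5 6 5 5 5 8 10 8 15 15 6 6 6 6 6 6 6 7 6 36) (@D3.rec (fun _ => Nat) 6 6 6 37 7 45 1 2 11 8 9 8 9 37 36 36 37 11 11 0 11) (@D3.rec (fun _ => Nat) 11 12 48 28 9 11 10 12 11 11 11 44 44 42 42 5 5 5 5 5 5) (@D3.rec (fun _ => Nat) 6 5 6 5 0 6 6 6 45 6 6 6 6 6 7 43 45 45 43 45 6) (@D3.rec (fun _ => Nat) 6 6 6 6 47 50 6 6 6 44 47 12 49 18 17 17 17 0 6 6 6) (@D3.rec (fun _ => Nat) 6 6 6 6 18 7 6 6 6 16 18 18 0 17 17 17 17 16 19 19 19) (@D3.rec (fun _ => Nat) 19 19 16 16 1 2 19 2 2 9 9 9 7 7 7 7 7 8 50 7 7) (@D3.rec (fun _ => Nat) 7 7 7 7 8 18 7 7 7 7 8 19 18 16 16 6 6 6 6 6 6) (@D3.rec (fun _ =>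 Nat) 6 7 6 6 6 6 7 12 7 8 8 8 14 17 16 14 17 15 0 5 7) (@D3.rec (fun _ => Nat) 7 7 7 7 7 7 7 0 7 7 52 7 7 7 8 8 8 0 9 39 7) (@D3.rec (fun _ => Nat) 9 10 46 9 5 7 7 7 37 29 8 45 2 43 3 42 3 11 47 8 8) (@D3.rec (fun _ => Nat) 8 37 9 9 9 38 44 38 37 37 37 38 38 36 36 12 1 13 27 9 10) (@D3.rec (fun _ => Nat) 11 12 44 12 12 44 46 46 46 44 46 6 6 6 6 6 7 6 6 6 6) (@D3.rec (fun _ => Nat) 6 6 6 6 1 45 2 2 10 10 10 8 10 10 8 48 47 47 7 7 7)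
def lv_a_2 : D2 → D3 → Nat := @D2.rec (fun _ => D3 → Nat) (@D3.rec (fun _ => Nat) 7 7 7 7 7 7 8 45 46 45 45 45 47 47 47 45 45 45 47 0 7) (@D3.rec (fun _ => Nat) 7 0 7 7 49 45 7 7 7 44 45 46 48 45 45 18 17 17 17 17 17) (@D3.rec (fun _ => Nat) 1 19 2 7 7 7 7 7 7 7 7 7 7 7 7 16 18 20 8 20 7) (@D3.rec (fun _ => Nat) 7 7 7 8 45 16 16 16 18 18 1 2 17 49 17 60 17 17 47 16 49) (@D3.rec (fun _ => Nat) 18 18 18 19 19 19 21 16 17 18 43 18 49 2 2 2 44 43 3 3 48) (@D3.rec (fun _ => Nat) 19 19 3 3 47 7 7 7 9 7 7 11 8 8 55 8 50 8 8 8 49) (@D3.rec (fun _ => Nat) 46 8 8 8 8 8 8 55 8 8 8 9 9 9 20 18 48 8 9 8 9) (@D3.rec (fun _ => Nat) 17 53 50 19 18 20 16 16 15 16 16 14 0 5 7 7 7 7 7 7 7)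 (@D3.rec (fun _ => Nat) 7 7 7 7 7 7 8 8 8 12 8 7 8 5 7 7 7 8 48 46 48) (@D3.rec (fun _ => Nat) 9 9 9 9 10 9 17 15 17 17 17 15 17 53 1 2 15 2 4 6 6) (@D3.rec (fun _ => Nat) 6 8 8 8 8 8 8 9 8 46 8 8 44 8 38 1 56 15 44 57 44) (@D3.rec (fun _ => Nat) 8 49 48 8 9 8 8 8 7 9 9 1 56 13 9 9 9 9 39 11 8) (@D3.rec (fun _ => Nat) 10 51 9 9 9 9 3 37 8 39 39 39 30 7 9 9 3 3 43 44 10) (@D3.rec (fun _ => Nat) 46 10 10 39 10 11 10 38 46 37 38 48 47 38 36 40 28 13 12 13 44)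
def lv_a_3 : D2 → D3 → Nat := @D2.rec (fun _ => D3 → Nat) (@D3.rec (fun _ => Nat) 44 46 46 44 46 46 48 44 44 44 46 7 7 7 7 7 7 7 7 7 8) (@D3.rec (fun _ => Nat) 0 7 7 0 7 7 7 7 7 2 2 49 46 46 3 3 9 8 12 10 46) (@D3.rec (fun _ => Nat) 49 49 47 47 8 8 8 8 8 8 0 8 8 8 8 51 8 50 8 8 8) (@D3.rec (fun _ => Nat) 9 9 9 46 46 47 45 47 47 47 49 49 49 45 45 44 45 1 2 50 44) (@D3.rec (fun _ => Nat) 8 8 8 8 1 2 47 59 8 50 49 52 51 45 45 8 8 53 46 46 54) (@D3.rec (fun _ => Nat) 46 47 45 46 51 18 18 19 19 19 19 19 2 49 3 8 8 8 8 9 9) (@D3.rec (fun _ => Nat) 8 8 8 8 8 8 20 8 8 8 17 20 9 9 9 45 8 9 8 9 45) (@D3.rec (fun _ => Nat) 18 18 18 20 20 2 3 3 3 17 53 19 52 19 19 50 19 18 51 18 18)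 (@D3.rec (fun _ => Nat) 45 18 18 21 47 57 21 21 21 21 21 21 18 19 19 18 18 3 3 3 3) (@D3.rec (fun _ => Nat) 45 45 49 44 44 50 53 56 49 56 4 4 4 7 10 11 11 9 57 9 52) (@D3.rec (fun _ => Nat) 9 59 56 57 57 9 48 55 48 48 52 58 9 56 56 50 14 17 0 10 10) (@D3.rec (fun _ => Nat) 10 10 10 9 58 59 9 10 52 0 51 48 50 52 54 8 16 15 15 16 15) (@D3.rec (fun _ => Nat) 1 2 7 2 6 6 6 8 8 8 8 8 8 9 8 8 8 8 8 8 9) (@D3.rec (fun _ => Nat) 8 8 8 7 9 9 14 10 10 10 10 8 10 10 10 10 8 7 9 9 9)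
def lv_a_4 : D2 → D3 → Nat := @D2.rec (fun _ => D3 → Nat) (@D3.rec (fun _ => Nat) 9 9 10 10 10 17 16 14 17 17 17 16 16 14 44 55 43 2 2 48 49) (@D3.rec (fun _ => Nat) 3 16 18 49 4 4 7 7 7 50 8 9 9 9 9 9 54 53 51 9 51) (@D3.rec (fun _ => Nat) 42 9 39 57 53 18 43 45 45 9 51 42 51 9 10 9 9 8 8 8 10) (@D3.rec (fun _ => Nat) 58 58 51 13 0 16 11 11 11 41 11 11 11 37 41 56 50 48 50 50 52) (@D3.rec (fun _ => Nat) 0 16 11 11 11 11 11 11 11 5 5 43 9 39 31 31 57 5 8 48 51) (@D3.rec (fun _ => Nat) 45 45 10 10 56 39 11 11 11 40 11 11 11 11 53 46 58 52 49 36 40) (@D3.rec (fun _ => Nat) 40 14 14 14 48 48 48 48 48 48 45 46 46 46 46 8 8 8 8 8 8) (@D3.rec (fun _ => Nat) 0 8 8 8 8 8 51 8 8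 8 9 9 9 1 2 44 8 8 8 8 1) (@D3.rec (fun _ => Nat) 53 44 8 8 8 3 3 49 4 50 12 12 12 8 55 49 49 53 0 17 9) (@D3.rec (fun _ => Nat) 1 2 48 56 9 9 58 56 57 50 58 54 9 10 47 49 49 53 51 52 50) (@D3.rec (fun _ => Nat) 47 48 5 54 54 47 2 47 48 3 50 44 44 54 9 59 9 2 3 59 46) (@D3.rec (fun _ => Nat) 9 53 0 4 51 51 51 53 53 50 9 9 50 56 50 48 23 19 19 19 49) (@D3.rec (fun _ => Nat) 3 4 9 9 9 50 9 20 17 17 22 22 22 0 10 10 10 10 10 9 9) (@D3.rec (fun _ => Nat) 10 45 47 18 18 18 18 20 20 20 3 3 3 49 19 4 19 49 19 19 56)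
def lv_a_5 : D2 → D3 → Nat := @D2.rec (fun _ => D3 → Nat) (@D3.rec (fun _ => Nat) 49 50 58 19 55 56 52 49 51 51 18 21 20 20 52 51 57 58 49 25 18) (@D3.rec (fun _ => Nat) 18 18 56 20 58 50 4 4 4 6 54 55 57 56 55 5 57 5 50 6 9) (@D3.rec (fun _ => Nat) 9 9 55 9 57 56 59 53 53 50 55 56 56 54 1 46 53 11 11 18 58) (@D3.rec (fun _ => Nat) 57 56 56 1 55 57 8 9 16 16 16 18 2 2 3 3 9 8 7 7 7) (@D3.rec (fun _ => Nat) 8 9 9 9 9 9 9 9 9 9 10 9 9 8 8 10 54 10 10 10 10) (@D3.rec (fun _ => Nat) 10 10 0 10 10 10 10 10 10 12 9 57 8 58 11 11 11 11 12 12 11) (@D3.rec (fun _ => Nat) 11 11 17 17 17 19 56 17 17 17 17 17 17 19 19 59 0 43 17 43 43) (@D3.rec (fun _ => Nat) 44 3 48 18 47 18 18 17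 45 44 8 52 8 50 54 10 10 10 11 10 48) (@D3.rec (fun _ => Nat) 49 44 10 46 40 43 54 17 42 44 0 45 55 45 59 50 50 9 43 10 17) (@D3.rec (fun _ => Nat) 58 6 6 52 9 9 55 1 54 50 53 15 15 53 11 11 11 11 55 37 51) (@D3.rec (fun _ => Nat) 49 37 54 0 50 55 50 50 52 52 52 1 18 52 36 15 11 11 53 10 52) (@D3.rec (fun _ => Nat) 39 32 53 60 9 9 57 52 49 50 41 41 50 12 13 40 13 40 46 57 57) (@D3.rec (fun _ => Nat) 54 52 49 57 38 38 15 46 48 48 46 46 46 51 9 1 54 45 9 9 9) (@D3.rec (fun _ => Nat) 10 2 50 50 50 56 9 9 55 51 9 9 9 4 49 54 0 10 4 59 51)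
def lv_a_6 : D2 → D3 → Nat := @D2.rec (fun _ => D3 → Nat) (@D3.rec (fun _ => Nat) 49 1 49 50 25 2 56 56 3 3 58 51 55 0 47 50 57 52 52 56 0) (@D3.rec (fun _ => Nat) 57 53 3 49 49 56 3 59 59 56 0 56 1 58 57 58 56 50 60 53 55) (@D3.rec (fun _ => Nat) 10 50 52 51 48 21 49 4 55 19 49 1 47 50 11 11 52 47 20 18 4) (@D3.rec (fun _ => Nat) 52 57 19 19 53 59 60 51 53 59 52 54 56 54 20 51 49 49 20 55 20) (@D3.rec (fun _ => Nat) 54 5 5 7 56 61 55 55 56 52 7 52 54 55 13 57 53 50 48 57 58) (@D3.rec (fun _ => Nat) 57 56 10 10 10 10 54 18 18 18 18 18 3 3 9 49 9 9 9 8 8) (@D3.rec (fun _ => Nat) 55 10 10 55 10 11 10 10 20 9 10 57 9 9 55 54 12 12 12 12 1) (@D3.rec (fun _ => Nat) 39 54 12 12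 10 50 12 12 12 58 51 19 19 19 19 54 53 53 42 16 16) (@D3.rec (fun _ => Nat) 40 61 1 21 2 44 40 49 18 18 18 18 38 57 52 47 57 48 55 51 44) (@D3.rec (fun _ => Nat) 49 52 60 19 1 2 42 53 16 50 45 58 48 59 54 48 18 18 55 56 56) (@D3.rec (fun _ => Nat) 56 62 1 52 54 55 58 18 51 13 50 13 50 52 62 33 41 52 42 54 61) (@D3.rec (fun _ => Nat) 57 51 58 48 47 46 53 50 57 53 57 50 10 56 1 56 51 3 55 1 54) (@D3.rec (fun _ => Nat) 54 1 54 53 1 53 53 53 52 62 56 52 53 51 55 53 51 6 51 56 61) (@D3.rec (fun _ => Nat) 59 54 50 37 10 11 55 60 12 12 53 53 53 55 2 50 17 2 53 55 54)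
def lv_a : Pt → Nat := @Pt.rec (fun _ => Nat) (@D1.rec (fun _ => D2 → D3 → Nat) lv_a_0 lv_a_1 lv_a_2 lv_a_3 lv_a_4 lv_a_5 lv_a_6)
abbrev lc_a_Cert_tree : Cert rels S Gen.a := Cert.tree
abbrev lc_a_rc_0_0 : Cert rels S Gen.a := rc_0_0
abbrev lc_a_rc_0_1 : Cert rels S Gen.a := rc_0_1
abbrev lc_a_rc_1_0 : Cert rels S Gen.a := rc_1_0
abbrev lc_a_rc_1_2 : Cert rels S Gen.a := rc_1_2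
abbrev lc_a_rc_1_4 : Cert rels S Gen.a := rc_1_4
abbrev lc_a_rc_1_6 : Cert rels S Gen.a := rc_1_6
abbrev lc_a_rc_29_3 : Cert rels S Gen.a := rc_29_3
abbrev lc_a_rc_29_6 : Cert rels S Gen.a := rc_29_6
abbrev lc_a_rc_29_9 : Cert rels S Gen.a := rc_29_9
abbrev lc_a_rc_2_0 : Cert rels S Gen.a := rc_2_0
abbrev lc_a_rc_2_2 : Cert rels S Gen.a := rc_2_2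
abbrev lc_a_rc_30_0 : Cert rels S Gen.a := rc_30_0
abbrev lc_a_rc_3_0 : Cert rels S Gen.a := rc_3_0
abbrev lc_a_rc_3_2 : Cert rels S Gen.a := rc_3_2
abbrev lc_a_rc_4_0 : Cert rels S Gen.a := rc_4_0
abbrev lc_a_rc_4_2 : Cert rels S Gen.a := rc_4_2
abbrev lc_a_rc_5_0 : Cert rels S Gen.a := rc_5_0
abbrev lc_a_rc_5_2 : Cert rels S Gen.a := rc_5_2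
abbrev lc_a_rc_6_0 : Cert rels S Gen.a := rc_6_0
abbrev lc_a_rc_6_2 : Cert rels S Gen.a := rc_6_2
abbrev lc_a_sc_0_0 : Cert rels S Gen.a := sc_0_0
abbrev lc_a_sc_5_2 : Cert rels S Gen.a := sc_5_2
def ce_a_0 : D2 → D3 → (Cert rels S Gen.a) := @D2.rec (fun _ => D3 → (Cert rels S Gen.a)) (@D3.rec (fun _ => (Cert rels S Gen.a)) lc_a_sc_0_0 lc_a_sc_5_2 lc_a_rc_6_2 lc_a_rc_2_2 lc_a_rc_6_2 lc_a_rc_30_0 lc_a_rc_3_2 lc_a_rc_6_2 lc_a_rc_3_2 lc_a_rc_30_0 lc_a_rc_4_2 lc_a_rc_5_2 lc_a_rc_30_0 lc_a_rc_4_2 lc_a_rc_5_2 lc_a_rc_2_2 lc_a_rc_4_2 lc_a_rc_5_2 lc_a_Cert_tree lc_a_rc_30_0 lc_a_rc_4_2) (@D3.rec (fun _ => (Cert rels S Gen.a)) lc_a_rc_5_2 lc_a_rc_5_2 lc_a_Cert_tree lc_a_rc_30_0 lc_a_rc_2_2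 lc_a_rc_2_2 lc_a_rc_5_2 lc_a_Cert_tree lc_a_rc_3_2 lc_a_rc_2_2 lc_a_rc_2_2 lc_a_rc_5_2 lc_a_rc_0_0 lc_a_rc_3_2 lc_a_rc_5_2 lc_a_rc_30_0 lc_a_rc_4_2 lc_a_rc_5_2 lc_a_rc_5_2 lc_a_rc_3_2 lc_a_rc_0_0) (@D3.rec (fun _ => (Cert rels S Gen.a)) lc_a_rc_3_2 lc_a_rc_5_2 lc_a_rc_4_2 lc_a_rc_5_2 lc_a_rc_6_2 lc_a_rc_3_2 lc_a_rc_2_2 lc_a_rc_3_2 lc_a_rc_3_2 lc_a_rc_0_0 lc_a_rc_3_2 lc_a_rc_5_2 lc_a_rc_4_2 lc_a_rc_5_2 lc_a_rc_6_2 lc_a_rc_3_2 lc_a_rc_2_2 lc_a_rc_3_2 lc_a_rc_3_2 lc_a_rc_3_2 lc_a_rc_5_2) (@D3.rec (fun _ => (Cert rels S Gen.a)) lc_a_rc_2_2 lc_a_rc_4_2 lc_a_rc_6_2 lc_a_rc_4_2 lc_a_rc_5_2 lc_a_rc_3_2 lc_a_rc_6_2 lc_a_rc_3_2 lc_a_rc_5_2 lc_a_rc_2_2 lc_a_rc_4_2 lc_a_rc_5_2 lc_a_rc_6_2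 lc_a_rc_3_2 lc_a_rc_4_2 lc_a_rc_5_2 lc_a_rc_6_2 lc_a_rc_5_2 lc_a_rc_6_2 lc_a_rc_6_2 lc_a_rc_5_2) (@D3.rec (fun _ => (Cert rels S Gen.a)) lc_a_rc_6_2 lc_a_rc_3_2 lc_a_rc_2_2 lc_a_rc_4_2 lc_a_rc_6_2 lc_a_rc_2_2 lc_a_rc_3_2 lc_a_rc_5_2 lc_a_rc_2_2 lc_a_rc_4_2 lc_a_rc_5_2 lc_a_rc_6_2 lc_a_rc_3_2 lc_a_rc_4_2 lc_a_rc_5_2 lc_a_rc_6_2 lc_a_rc_6_2 lc_a_rc_6_2 lc_a_rc_5_2 lc_a_rc_6_2 lc_a_rc_3_2) (@D3.rec (fun _ => (Cert rels S Gen.a)) lc_a_rc_4_2 lc_a_rc_6_2 lc_a_rc_2_2 lc_a_rc_2_2 lc_a_rc_4_2 lc_a_rc_6_2 lc_a_rc_29_6 lc_a_rc_3_2 lc_a_rc_2_2 lc_a_rc_4_2 lc_a_rc_4_2 lc_a_rc_3_2 lc_a_rc_3_2 lc_a_rc_2_2 lc_a_rc_4_2 lc_a_rc_5_2 lc_a_rc_6_2 lc_a_rc_3_2 lc_a_rc_29_3 lc_a_rc_2_2 lc_a_rc_2_2)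 (@D3.rec (fun _ => (Cert rels S Gen.a)) lc_a_rc_5_2 lc_a_rc_6_2 lc_a_rc_2_0 lc_a_rc_6_2 lc_a_rc_4_2 lc_a_rc_30_0 lc_a_rc_29_9 lc_a_rc_0_0 lc_a_rc_5_2 lc_a_rc_6_2 lc_a_rc_3_2 lc_a_rc_3_2 lc_a_rc_5_2 lc_a_rc_6_2 lc_a_rc_3_2 lc_a_rc_30_0 lc_a_rc_6_2 lc_a_rc_2_2 lc_a_Cert_tree lc_a_rc_2_2 lc_a_rc_2_2) (@D3.rec (fun _ => (Cert rels S Gen.a)) lc_a_rc_6_2 lc_a_rc_29_3 lc_a_rc_3_2 lc_a_rc_2_2 lc_a_rc_4_2 lc_a_rc_5_2 lc_a_rc_6_2 lc_a_rc_3_2 lc_a_rc_3_2 lc_a_rc_30_0 lc_a_rc_2_2 lc_a_rc_2_2 lc_a_rc_5_2 lc_a_rc_6_2 lc_a_rc_6_2 lc_a_rc_4_2 lc_a_rc_2_2 lc_a_rc_29_3 lc_a_rc_29_3 lc_a_rc_5_2 lc_a_rc_6_2) (@D3.rec (fun _ => (Cert rels S Gen.a)) lc_a_rc_3_2 lc_a_rc_3_2 lc_a_rc_3_2 lc_a_rc_3_2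 lc_a_rc_6_2 lc_a_rc_3_2 lc_a_rc_29_6 lc_a_rc_3_2 lc_a_rc_2_2 lc_a_rc_0_0 lc_a_rc_2_0 lc_a_rc_1_2 lc_a_rc_2_2 lc_a_rc_4_2 lc_a_rc_5_2 lc_a_rc_6_2 lc_a_rc_3_2 lc_a_rc_0_1 lc_a_rc_30_0 lc_a_rc_3_2 lc_a_rc_2_2) (@D3.rec (fun _ => (Cert rels S Gen.a)) lc_a_rc_2_2 lc_a_rc_5_2 lc_a_rc_6_2 lc_a_rc_2_0 lc_a_rc_6_2 lc_a_rc_4_0 lc_a_rc_30_0 lc_a_rc_5_2 lc_a_rc_6_2 lc_a_rc_30_0 lc_a_rc_2_2 lc_a_rc_3_2 lc_a_rc_4_2 lc_a_rc_3_2 lc_a_rc_3_2 lc_a_rc_30_0 lc_a_rc_4_2 lc_a_rc_30_0 lc_a_Cert_tree lc_a_rc_30_0 lc_a_rc_1_4) (@D3.rec (fun _ => (Cert rels S Gen.a)) lc_a_rc_2_2 lc_a_rc_4_2 lc_a_rc_3_2 lc_a_rc_3_2 lc_a_rc_2_2 lc_a_rc_3_2 lc_a_rc_6_2 lc_a_rc_2_2 lc_a_rc_30_0 lc_a_rc_4_2 lc_a_rc_6_2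 lc_a_rc_29_9 lc_a_rc_3_2 lc_a_rc_0_0 lc_a_rc_0_0 lc_a_rc_3_2 lc_a_rc_3_2 lc_a_rc_3_2 lc_a_rc_2_2 lc_a_rc_4_2 lc_a_rc_6_2) (@D3.rec (fun _ => (Cert rels S Gen.a)) lc_a_rc_29_6 lc_a_rc_3_2 lc_a_rc_2_2 lc_a_rc_2_2 lc_a_rc_5_2 lc_a_rc_6_2 lc_a_rc_6_2 lc_a_rc_4_0 lc_a_rc_2_2 lc_a_rc_30_0 lc_a_rc_4_2 lc_a_rc_5_2 lc_a_rc_6_2 lc_a_rc_2_0 lc_a_rc_0_1 lc_a_rc_0_1 lc_a_rc_3_2 lc_a_rc_2_2 lc_a_rc_3_2 lc_a_rc_4_2 lc_a_rc_3_2) (@D3.rec (fun _ => (Cert rels S Gen.a)) lc_a_rc_29_3 lc_a_rc_3_2 lc_a_rc_3_2 lc_a_rc_29_6 lc_a_rc_29_6 lc_a_rc_3_2 lc_a_rc_2_2 lc_a_rc_4_2 lc_a_rc_6_2 lc_a_rc_2_2 lc_a_rc_4_2 lc_a_rc_6_2 lc_a_rc_3_2 lc_a_rc_2_2 lc_a_rc_4_2 lc_a_rc_5_2 lc_a_rc_6_2 lc_a_rc_3_2 lc_a_rc_2_0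 lc_a_rc_30_0 lc_a_rc_4_2) (@D3.rec (fun _ => (Cert rels S Gen.a)) lc_a_rc_5_2 lc_a_rc_6_2 lc_a_rc_30_0 lc_a_Cert_tree lc_a_rc_30_0 lc_a_rc_2_2 lc_a_rc_2_2 lc_a_rc_2_2 lc_a_rc_4_2 lc_a_rc_5_2 lc_a_rc_6_2 lc_a_rc_6_2 lc_a_rc_6_2 lc_a_rc_2_2 lc_a_rc_5_2 lc_a_rc_6_2 lc_a_rc_30_0 lc_a_rc_0_0 lc_a_rc_29_6 lc_a_rc_29_6 lc_a_rc_30_0)
def ce_a_1 : D2 → D3 → (Cert rels S Gen.a) := @D2.rec (fun _ => D3 → (Cert rels S Gen.a)) (@D3.rec (fun _ => (Cert rels S Gen.a)) lc_a_rc_2_2 lc_a_rc_3_2 lc_a_rc_4_0 lc_a_rc_3_2 lc_a_rc_3_2 lc_a_rc_30_0 lc_a_rc_30_0 lc_a_rc_29_6 lc_a_rc_30_0 lc_a_rc_30_0 lc_a_rc_30_0 lc_a_rc_2_2 lc_a_rc_4_2 lc_a_rc_6_2 lc_a_rc_3_2 lc_a_rc_2_2 lc_a_rc_4_2 lc_a_rc_5_2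 lc_a_rc_30_0 lc_a_rc_2_2 lc_a_rc_29_9) (@D3.rec (fun _ => (Cert rels S Gen.a)) lc_a_rc_6_2 lc_a_rc_2_2 lc_a_rc_2_0 lc_a_rc_5_2 lc_a_rc_30_0 lc_a_rc_0_1 lc_a_rc_0_0 lc_a_rc_3_2 lc_a_rc_0_0 lc_a_rc_30_0 lc_a_rc_4_2 lc_a_rc_3_0 lc_a_rc_6_2 lc_a_rc_3_2 lc_a_rc_3_2 lc_a_rc_5_2 lc_a_rc_0_0 lc_a_rc_2_2 lc_a_rc_6_2 lc_a_Cert_tree lc_a_rc_2_2) (@D3.rec (fun _ => (Cert rels S Gen.a)) lc_a_rc_6_2 lc_a_rc_4_2 lc_a_rc_29_3 lc_a_rc_3_0 lc_a_rc_30_0 lc_a_rc_3_2 lc_a_rc_3_2 lc_a_rc_2_2 lc_a_rc_2_2 lc_a_rc_4_2 lc_a_rc_6_2 lc_a_rc_29_9 lc_a_rc_2_0 lc_a_rc_29_6 lc_a_rc_29_6 lc_a_rc_4_2 lc_a_rc_5_2 lc_a_rc_6_2 lc_a_rc_3_2 lc_a_rc_2_2 lc_a_rc_3_2) (@D3.rec (fun _ => (Cert rels S Gen.a)) lc_a_rc_4_0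 lc_a_rc_3_2 lc_a_rc_3_2 lc_a_rc_3_2 lc_a_Cert_tree lc_a_rc_4_2 lc_a_rc_5_2 lc_a_rc_6_2 lc_a_rc_4_2 lc_a_rc_5_2 lc_a_rc_6_2 lc_a_rc_5_2 lc_a_rc_6_2 lc_a_rc_6_2 lc_a_rc_6_2 lc_a_rc_30_0 lc_a_rc_5_2 lc_a_rc_6_2 lc_a_rc_3_2 lc_a_rc_2_0 lc_a_rc_2_2) (@D3.rec (fun _ => (Cert rels S Gen.a)) lc_a_rc_4_2 lc_a_rc_2_2 lc_a_rc_4_2 lc_a_rc_2_2 lc_a_rc_29_6 lc_a_rc_0_1 lc_a_rc_4_2 lc_a_rc_5_2 lc_a_rc_6_2 lc_a_rc_3_2 lc_a_rc_2_0 lc_a_rc_3_2 lc_a_rc_29_6 lc_a_rc_30_0 lc_a_rc_29_6 lc_a_rc_0_1 lc_a_rc_0_1 lc_a_Cert_tree lc_a_rc_2_2 lc_a_rc_2_2 lc_a_rc_2_2) (@D3.rec (fun _ => (Cert rels S Gen.a)) lc_a_rc_4_2 lc_a_rc_5_2 lc_a_rc_6_2 lc_a_rc_6_2 lc_a_rc_6_2 lc_a_rc_6_0 lc_a_rc_2_2 lc_a_rc_5_2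 lc_a_rc_6_2 lc_a_rc_0_0 lc_a_rc_4_2 lc_a_rc_5_2 lc_a_Cert_tree lc_a_rc_3_2 lc_a_rc_4_2 lc_a_rc_5_2 lc_a_rc_6_2 lc_a_rc_4_2 lc_a_rc_5_2 lc_a_rc_6_2 lc_a_rc_6_2) (@D3.rec (fun _ => (Cert rels S Gen.a)) lc_a_rc_6_2 lc_a_rc_0_0 lc_a_rc_5_2 lc_a_rc_6_2 lc_a_rc_0_0 lc_a_rc_3_2 lc_a_rc_0_1 lc_a_rc_5_2 lc_a_rc_6_2 lc_a_rc_4_2 lc_a_rc_5_2 lc_a_rc_6_2 lc_a_rc_3_2 lc_a_rc_2_2 lc_a_rc_2_2 lc_a_rc_3_2 lc_a_rc_2_2 lc_a_rc_0_1 lc_a_rc_29_9 lc_a_rc_2_2 lc_a_rc_5_2) (@D3.rec (fun _ => (Cert rels S Gen.a)) lc_a_rc_6_2 lc_a_rc_3_2 lc_a_rc_3_2 lc_a_rc_3_2 lc_a_rc_3_2 lc_a_rc_29_3 lc_a_rc_3_2 lc_a_rc_2_2 lc_a_rc_2_2 lc_a_rc_6_2 lc_a_rc_6_2 lc_a_rc_0_1 lc_a_rc_30_0 lc_a_rc_30_0 lc_a_rc_30_0 lc_a_rc_2_2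 lc_a_rc_4_2 lc_a_rc_6_2 lc_a_rc_3_2 lc_a_rc_2_2 lc_a_rc_4_2) (@D3.rec (fun _ => (Cert rels S Gen.a)) lc_a_rc_5_2 lc_a_rc_30_0 lc_a_rc_2_2 lc_a_rc_6_2 lc_a_rc_2_2 lc_a_rc_2_0 lc_a_rc_30_0 lc_a_rc_3_2 lc_a_rc_30_0 lc_a_rc_4_2 lc_a_rc_3_0 lc_a_rc_6_2 lc_a_rc_30_0 lc_a_rc_4_2 lc_a_rc_3_2 lc_a_rc_30_0 lc_a_rc_4_2 lc_a_rc_4_2 lc_a_Cert_tree lc_a_rc_30_0 lc_a_rc_4_2) (@D3.rec (fun _ => (Cert rels S Gen.a)) lc_a_rc_6_2 lc_a_rc_6_2 lc_a_rc_6_2 lc_a_rc_5_2 lc_a_rc_2_2 lc_a_rc_4_2 lc_a_rc_5_2 lc_a_Cert_tree lc_a_rc_3_2 lc_a_rc_2_2 lc_a_rc_29_6 lc_a_rc_5_2 lc_a_rc_3_2 lc_a_rc_6_2 lc_a_rc_30_0 lc_a_rc_3_2 lc_a_rc_6_2 lc_a_Cert_tree lc_a_rc_0_1 lc_a_rc_29_6 lc_a_rc_2_2) (@D3.rec (fun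 _ => (Cert rels S Gen.a)) lc_a_rc_5_2 lc_a_rc_4_2 lc_a_rc_29_6 lc_a_rc_0_1 lc_a_rc_30_0 lc_a_rc_4_2 lc_a_rc_5_2 lc_a_rc_6_2 lc_a_rc_0_1 lc_a_rc_2_2 lc_a_rc_30_0 lc_a_rc_0_1 lc_a_rc_3_2 lc_a_rc_30_0 lc_a_rc_4_2 lc_a_rc_6_2 lc_a_rc_6_2 lc_a_rc_3_2 lc_a_rc_29_3 lc_a_rc_4_2 lc_a_rc_5_2) (@D3.rec (fun _ => (Cert rels S Gen.a)) lc_a_rc_6_2 lc_a_rc_4_2 lc_a_rc_4_2 lc_a_rc_6_2 lc_a_rc_6_2 lc_a_rc_6_2 lc_a_rc_29_3 lc_a_rc_30_0 lc_a_rc_5_2 lc_a_rc_6_2 lc_a_rc_30_0 lc_a_rc_4_2 lc_a_rc_5_2 lc_a_rc_30_0 lc_a_rc_30_0 lc_a_rc_29_9 lc_a_rc_0_0 lc_a_rc_0_0 lc_a_Cert_tree lc_a_rc_30_0 lc_a_rc_5_2) (@D3.rec (fun _ => (Cert rels S Gen.a)) lc_a_rc_2_2 lc_a_rc_2_2 lc_a_rc_29_6 lc_a_rc_3_2 lc_a_rc_2_2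 lc_a_rc_0_0 lc_a_rc_4_2 lc_a_rc_5_2 lc_a_rc_6_2 lc_a_rc_3_2 lc_a_rc_2_0 lc_a_rc_5_2 lc_a_rc_6_2 lc_a_rc_5_2 lc_a_rc_6_2 lc_a_rc_6_2 lc_a_rc_6_0 lc_a_rc_2_2 lc_a_rc_4_2 lc_a_rc_2_2 lc_a_rc_4_2) (@D3.rec (fun _ => (Cert rels S Gen.a)) lc_a_rc_2_2 lc_a_rc_4_2 lc_a_rc_5_2 lc_a_rc_6_2 lc_a_rc_0_0 lc_a_rc_1_6 lc_a_rc_5_2 lc_a_rc_6_2 lc_a_rc_3_2 lc_a_rc_5_2 lc_a_rc_6_2 lc_a_rc_30_0 lc_a_rc_6_2 lc_a_rc_3_2 lc_a_rc_6_2 lc_a_rc_30_0 lc_a_rc_5_2 lc_a_rc_6_2 lc_a_rc_3_2 lc_a_rc_3_2 lc_a_rc_2_2)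
def ce_a_2 : D2 → D3 → (Cert rels S Gen.a) := @D2.rec (fun _ => D3 → (Cert rels S Gen.a)) (@D3.rec (fun _ => (Cert rels S Gen.a)) lc_a_rc_5_2 lc_a_rc_6_2 lc_a_rc_3_2 lc_a_rc_2_2 lc_a_rc_6_2 lc_a_rc_5_2 lc_a_rc_3_2 lc_a_rc_1_6 lc_a_rc_30_0 lc_a_rc_5_2 lc_a_rc_6_2 lc_a_rc_5_2 lc_a_rc_6_2 lc_a_rc_6_2 lc_a_rc_6_2 lc_a_rc_2_2 lc_a_rc_4_2 lc_a_rc_0_1 lc_a_rc_4_2 lc_a_Cert_tree lc_a_rc_3_2) (@D3.rec (fun _ => (Cert rels S Gen.a)) lc_a_rc_2_2 lc_a_Cert_tree lc_a_rc_3_2 lc_a_rc_2_2 lc_a_rc_29_9 lc_a_rc_29_6 lc_a_rc_5_2 lc_a_rc_6_2 lc_a_rc_6_2 lc_a_rc_3_2 lc_a_rc_29_3 lc_a_rc_0_0 lc_a_rc_5_2 lc_a_rc_3_2 lc_a_rc_5_2 lc_a_rc_0_1 lc_a_rc_2_2 lc_a_rc_2_2 lc_a_rc_5_2 lc_a_rc_6_2 lc_a_rc_6_2)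 (@D3.rec (fun _ => (Cert rels S Gen.a)) lc_a_rc_0_0 lc_a_rc_1_2 lc_a_rc_5_2 lc_a_rc_3_2 lc_a_rc_2_2 lc_a_rc_2_2 lc_a_rc_3_2 lc_a_rc_2_2 lc_a_rc_30_0 lc_a_rc_2_2 lc_a_rc_5_2 lc_a_rc_6_2 lc_a_rc_3_2 lc_a_rc_3_2 lc_a_rc_3_2 lc_a_rc_6_2 lc_a_rc_6_2 lc_a_rc_6_0 lc_a_rc_3_2 lc_a_rc_1_2 lc_a_rc_3_2) (@D3.rec (fun _ => (Cert rels S Gen.a)) lc_a_rc_2_2 lc_a_rc_2_2 lc_a_rc_6_2 lc_a_rc_6_0 lc_a_rc_29_6 lc_a_rc_3_2 lc_a_rc_4_2 lc_a_rc_5_2 lc_a_rc_5_2 lc_a_rc_6_2 lc_a_rc_0_0 lc_a_rc_3_2 lc_a_rc_29_3 lc_a_rc_29_3 lc_a_rc_4_2 lc_a_rc_1_0 lc_a_rc_3_2 lc_a_rc_5_2 lc_a_rc_0_1 lc_a_rc_30_0 lc_a_rc_0_1) (@D3.rec (fun _ => (Cert rels S Gen.a)) lc_a_rc_2_2 lc_a_rc_0_0 lc_a_rc_0_0 lc_a_rc_3_2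 lc_a_rc_3_2 lc_a_rc_3_2 lc_a_rc_3_2 lc_a_rc_29_6 lc_a_rc_30_0 lc_a_rc_2_2 lc_a_rc_0_0 lc_a_rc_0_0 lc_a_rc_29_6 lc_a_rc_3_2 lc_a_rc_5_2 lc_a_rc_6_2 lc_a_rc_0_1 lc_a_rc_29_3 lc_a_rc_5_2 lc_a_rc_6_2 lc_a_rc_3_2) (@D3.rec (fun _ => (Cert rels S Gen.a)) lc_a_rc_5_2 lc_a_rc_0_1 lc_a_rc_3_2 lc_a_rc_3_2 lc_a_rc_29_3 lc_a_rc_3_2 lc_a_rc_5_2 lc_a_rc_6_2 lc_a_rc_0_0 lc_a_rc_6_2 lc_a_rc_3_2 lc_a_rc_6_0 lc_a_rc_5_2 lc_a_rc_3_2 lc_a_rc_6_2 lc_a_rc_4_2 lc_a_rc_30_0 lc_a_rc_3_2 lc_a_rc_2_2 lc_a_rc_5_2 lc_a_rc_0_1) (@D3.rec (fun _ => (Cert rels S Gen.a)) lc_a_rc_29_3 lc_a_rc_2_2 lc_a_rc_2_2 lc_a_rc_3_2 lc_a_rc_3_2 lc_a_rc_2_2 lc_a_rc_6_2 lc_a_rc_30_0 lc_a_rc_5_2 lc_a_rc_4_2 lc_a_rc_5_2 lc_a_rc_2_2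 lc_a_rc_4_2 lc_a_rc_6_2 lc_a_rc_5_2 lc_a_rc_29_9 lc_a_rc_30_0 lc_a_rc_3_2 lc_a_rc_2_2 lc_a_rc_3_2 lc_a_rc_3_2) (@D3.rec (fun _ => (Cert rels S Gen.a)) lc_a_rc_30_0 lc_a_rc_29_3 lc_a_rc_29_3 lc_a_rc_6_2 lc_a_rc_0_0 lc_a_rc_6_2 lc_a_rc_30_0 lc_a_rc_4_2 lc_a_rc_3_0 lc_a_rc_30_0 lc_a_rc_4_2 lc_a_rc_4_0 lc_a_Cert_tree lc_a_rc_30_0 lc_a_rc_4_2 lc_a_rc_6_2 lc_a_rc_6_2 lc_a_rc_6_2 lc_a_rc_5_2 lc_a_rc_2_2 lc_a_rc_4_2) (@D3.rec (fun _ => (Cert rels S Gen.a)) lc_a_rc_5_2 lc_a_rc_3_2 lc_a_rc_2_2 lc_a_rc_5_2 lc_a_rc_3_2 lc_a_rc_6_2 lc_a_rc_30_0 lc_a_rc_3_0 lc_a_rc_6_2 lc_a_rc_29_6 lc_a_rc_30_0 lc_a_rc_2_2 lc_a_rc_30_0 lc_a_rc_30_0 lc_a_rc_4_2 lc_a_rc_5_2 lc_a_rc_6_2 lc_a_rc_30_0 lc_a_rc_29_6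 lc_a_rc_29_6 lc_a_rc_29_3) (@D3.rec (fun _ => (Cert rels S Gen.a)) lc_a_rc_4_2 lc_a_rc_5_2 lc_a_rc_6_2 lc_a_rc_4_2 lc_a_rc_6_2 lc_a_rc_6_2 lc_a_rc_1_6 lc_a_rc_30_0 lc_a_rc_4_2 lc_a_rc_6_2 lc_a_rc_29_3 lc_a_rc_30_0 lc_a_rc_4_2 lc_a_rc_29_6 lc_a_rc_0_0 lc_a_rc_3_2 lc_a_rc_1_6 lc_a_rc_6_2 lc_a_rc_0_1 lc_a_rc_4_2 lc_a_rc_5_2) (@D3.rec (fun _ => (Cert rels S Gen.a)) lc_a_rc_6_2 lc_a_rc_3_2 lc_a_rc_6_2 lc_a_rc_3_2 lc_a_rc_3_2 lc_a_rc_2_2 lc_a_rc_6_2 lc_a_rc_6_2 lc_a_rc_3_2 lc_a_rc_29_3 lc_a_rc_3_2 lc_a_rc_2_2 lc_a_rc_5_2 lc_a_rc_5_2 lc_a_rc_2_2 lc_a_rc_0_0 lc_a_rc_30_0 lc_a_rc_29_3 lc_a_rc_3_0 lc_a_rc_30_0 lc_a_rc_3_0) (@D3.rec (fun _ => (Cert rels S Gen.a)) lc_a_rc_3_2 lc_a_rc_4_2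 lc_a_rc_2_2 lc_a_rc_3_2 lc_a_rc_5_2 lc_a_rc_4_2 lc_a_rc_6_2 lc_a_rc_3_2 lc_a_rc_30_0 lc_a_rc_4_2 lc_a_rc_6_2 lc_a_rc_0_0 lc_a_rc_30_0 lc_a_rc_0_0 lc_a_rc_2_2 lc_a_rc_4_2 lc_a_rc_5_2 lc_a_rc_6_2 lc_a_rc_30_0 lc_a_rc_2_2 lc_a_rc_3_2) (@D3.rec (fun _ => (Cert rels S Gen.a)) lc_a_rc_2_2 lc_a_rc_30_0 lc_a_rc_2_2 lc_a_rc_4_2 lc_a_rc_5_2 lc_a_rc_6_2 lc_a_rc_30_0 lc_a_rc_3_2 lc_a_rc_5_2 lc_a_rc_30_0 lc_a_rc_3_2 lc_a_rc_2_2 lc_a_rc_3_2 lc_a_rc_30_0 lc_a_rc_4_2 lc_a_rc_5_2 lc_a_rc_4_2 lc_a_rc_6_2 lc_a_rc_30_0 lc_a_rc_29_3 lc_a_rc_3_2) (@D3.rec (fun _ => (Cert rels S Gen.a)) lc_a_rc_0_1 lc_a_rc_3_2 lc_a_rc_3_2 lc_a_rc_6_2 lc_a_rc_3_2 lc_a_rc_3_2 lc_a_rc_3_2 lc_a_rc_6_2 lc_a_rc_3_2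 lc_a_rc_30_0 lc_a_rc_30_0 lc_a_rc_0_0 lc_a_rc_29_6 lc_a_rc_3_2 lc_a_rc_3_2 lc_a_rc_0_0 lc_a_rc_5_2 lc_a_rc_3_2 lc_a_rc_3_2 lc_a_rc_3_2 lc_a_rc_5_2)
def ce_a_3 : D2 → D3 → (Cert rels S Gen.a) := @D2.rec (fun _ => D3 → (Cert rels S Gen.a)) (@D3.rec (fun _ => (Cert rels S Gen.a)) lc_a_rc_6_2 lc_a_rc_5_2 lc_a_rc_6_2 lc_a_rc_5_2 lc_a_rc_6_2 lc_a_rc_6_2 lc_a_rc_6_0 lc_a_rc_2_2 lc_a_rc_4_2 lc_a_rc_30_0 lc_a_rc_4_2 lc_a_rc_3_2 lc_a_rc_3_2 lc_a_rc_2_2 lc_a_rc_5_2 lc_a_rc_6_2 lc_a_rc_3_2 lc_a_rc_2_2 lc_a_rc_6_2 lc_a_rc_5_2 lc_a_rc_3_2) (@D3.rec (fun _ => (Cert rels S Gen.a)) lc_a_Cert_tree lc_a_rc_3_2 lc_a_rc_2_2 lc_a_Cert_tree lc_a_rc_3_2 lc_a_rc_2_2 lc_a_rc_5_2 lc_a_rc_6_2 lc_a_rc_6_2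 lc_a_rc_5_2 lc_a_rc_6_2 lc_a_rc_4_0 lc_a_rc_5_2 lc_a_rc_6_2 lc_a_rc_3_2 lc_a_rc_5_2 lc_a_rc_4_2 lc_a_rc_3_2 lc_a_rc_0_1 lc_a_rc_4_2 lc_a_rc_0_1) (@D3.rec (fun _ => (Cert rels S Gen.a)) lc_a_rc_0_1 lc_a_rc_0_1 lc_a_rc_3_2 lc_a_rc_3_2 lc_a_rc_2_2 lc_a_rc_3_2 lc_a_rc_6_2 lc_a_rc_2_2 lc_a_rc_3_2 lc_a_rc_5_2 lc_a_Cert_tree lc_a_rc_3_2 lc_a_rc_2_2 lc_a_rc_2_2 lc_a_rc_3_2 lc_a_rc_6_0 lc_a_rc_4_2 lc_a_rc_29_3 lc_a_rc_3_2 lc_a_rc_2_2 lc_a_rc_5_2) (@D3.rec (fun _ => (Cert rels S Gen.a)) lc_a_rc_5_2 lc_a_rc_2_2 lc_a_rc_4_2 lc_a_rc_5_2 lc_a_rc_6_2 lc_a_rc_30_0 lc_a_rc_3_2 lc_a_rc_30_0 lc_a_rc_3_2 lc_a_rc_3_2 lc_a_rc_3_2 lc_a_rc_5_0 lc_a_rc_30_0 lc_a_rc_2_2 lc_a_rc_1_6 lc_a_rc_2_0 lc_a_rc_4_2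 lc_a_rc_0_0 lc_a_rc_3_2 lc_a_rc_5_0 lc_a_rc_0_0) (@D3.rec (fun _ => (Cert rels S Gen.a)) lc_a_rc_4_2 lc_a_rc_5_2 lc_a_rc_6_2 lc_a_rc_3_2 lc_a_rc_0_0 lc_a_rc_3_2 lc_a_rc_1_6 lc_a_rc_1_0 lc_a_rc_3_2 lc_a_rc_30_0 lc_a_rc_29_3 lc_a_rc_5_2 lc_a_rc_2_0 lc_a_rc_29_6 lc_a_rc_4_2 lc_a_rc_3_2 lc_a_rc_3_2 lc_a_rc_2_2 lc_a_rc_4_2 lc_a_rc_5_2 lc_a_rc_30_0) (@D3.rec (fun _ => (Cert rels S Gen.a)) lc_a_rc_0_0 lc_a_rc_5_2 lc_a_rc_5_2 lc_a_rc_5_2 lc_a_rc_30_0 lc_a_rc_4_2 lc_a_rc_5_2 lc_a_rc_3_2 lc_a_rc_3_2 lc_a_rc_3_2 lc_a_rc_3_2 lc_a_rc_3_2 lc_a_rc_5_2 lc_a_rc_29_3 lc_a_rc_3_2 lc_a_rc_5_2 lc_a_rc_3_2 lc_a_rc_4_2 lc_a_rc_3_2 lc_a_rc_2_2 lc_a_rc_5_2) (@D3.rec (fun _ => (Cert rels S Gen.a))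 lc_a_rc_2_2 lc_a_rc_2_2 lc_a_rc_3_2 lc_a_rc_3_2 lc_a_rc_2_2 lc_a_rc_6_2 lc_a_rc_3_2 lc_a_rc_5_2 lc_a_rc_4_2 lc_a_rc_5_2 lc_a_rc_0_0 lc_a_rc_3_2 lc_a_rc_2_2 lc_a_rc_4_2 lc_a_rc_6_2 lc_a_rc_29_3 lc_a_rc_3_2 lc_a_rc_2_2 lc_a_rc_3_2 lc_a_rc_3_2 lc_a_rc_3_2) (@D3.rec (fun _ => (Cert rels S Gen.a)) lc_a_rc_4_2 lc_a_rc_3_2 lc_a_rc_5_2 lc_a_rc_3_2 lc_a_rc_3_2 lc_a_rc_3_2 lc_a_rc_2_2 lc_a_rc_4_2 lc_a_rc_6_2 lc_a_rc_3_2 lc_a_rc_30_0 lc_a_rc_3_2 lc_a_rc_6_2 lc_a_rc_2_2 lc_a_rc_5_2 lc_a_rc_3_2 lc_a_rc_3_2 lc_a_rc_0_1 lc_a_rc_4_2 lc_a_rc_5_2 lc_a_rc_3_2) (@D3.rec (fun _ => (Cert rels S Gen.a)) lc_a_rc_0_0 lc_a_rc_3_2 lc_a_rc_3_2 lc_a_rc_2_2 lc_a_rc_29_3 lc_a_rc_4_2 lc_a_rc_5_2 lc_a_rc_4_2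 lc_a_rc_5_2 lc_a_rc_2_2 lc_a_rc_4_2 lc_a_rc_6_2 lc_a_rc_3_2 lc_a_rc_4_2 lc_a_rc_5_2 lc_a_rc_3_2 lc_a_rc_3_2 lc_a_rc_5_2 lc_a_rc_6_2 lc_a_rc_3_2 lc_a_rc_3_2) (@D3.rec (fun _ => (Cert rels S Gen.a)) lc_a_rc_0_1 lc_a_rc_0_1 lc_a_rc_29_3 lc_a_rc_29_3 lc_a_rc_29_3 lc_a_rc_5_2 lc_a_rc_29_3 lc_a_rc_30_0 lc_a_rc_29_3 lc_a_rc_30_0 lc_a_rc_2_2 lc_a_rc_4_2 lc_a_rc_6_2 lc_a_rc_0_1 lc_a_rc_4_2 lc_a_rc_3_2 lc_a_rc_30_0 lc_a_rc_4_2 lc_a_rc_0_0 lc_a_rc_5_2 lc_a_rc_30_0) (@D3.rec (fun _ => (Cert rels S Gen.a)) lc_a_rc_4_2 lc_a_rc_4_0 lc_a_rc_2_2 lc_a_rc_4_2 lc_a_rc_4_2 lc_a_rc_4_2 lc_a_rc_29_3 lc_a_rc_3_2 lc_a_rc_29_3 lc_a_rc_29_3 lc_a_rc_30_0 lc_a_rc_2_2 lc_a_rc_5_2 lc_a_rc_30_0 lc_a_rc_3_2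 lc_a_rc_30_0 lc_a_rc_4_2 lc_a_rc_4_2 lc_a_Cert_tree lc_a_rc_3_2 lc_a_rc_2_2) (@D3.rec (fun _ => (Cert rels S Gen.a)) lc_a_rc_2_2 lc_a_rc_6_2 lc_a_rc_5_2 lc_a_rc_4_2 lc_a_rc_5_0 lc_a_rc_29_6 lc_a_rc_5_2 lc_a_rc_4_2 lc_a_rc_3_2 lc_a_Cert_tree lc_a_rc_29_3 lc_a_rc_6_2 lc_a_rc_29_6 lc_a_rc_29_3 lc_a_rc_29_3 lc_a_rc_0_1 lc_a_rc_30_0 lc_a_rc_4_2 lc_a_rc_6_2 lc_a_rc_30_0 lc_a_rc_4_2) (@D3.rec (fun _ => (Cert rels S Gen.a)) lc_a_rc_0_0 lc_a_rc_3_2 lc_a_rc_29_3 lc_a_rc_6_2 lc_a_rc_4_2 lc_a_rc_5_2 lc_a_rc_6_2 lc_a_rc_3_2 lc_a_rc_6_2 lc_a_rc_3_2 lc_a_rc_3_2 lc_a_rc_2_2 lc_a_rc_6_2 lc_a_rc_6_0 lc_a_rc_3_2 lc_a_rc_3_2 lc_a_rc_2_2 lc_a_rc_5_2 lc_a_rc_3_2 lc_a_rc_3_2 lc_a_rc_5_2) (@D3.rec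 (fun _ => (Cert rels S Gen.a)) lc_a_rc_4_2 lc_a_rc_6_2 lc_a_rc_3_2 lc_a_rc_30_0 lc_a_rc_4_2 lc_a_rc_6_2 lc_a_rc_3_2 lc_a_rc_2_2 lc_a_rc_4_2 lc_a_rc_5_2 lc_a_rc_6_2 lc_a_rc_3_2 lc_a_rc_2_2 lc_a_rc_4_2 lc_a_rc_5_2 lc_a_rc_6_2 lc_a_rc_5_2 lc_a_rc_30_0 lc_a_rc_4_2 lc_a_rc_5_2 lc_a_rc_3_2)
def ce_a_4 : D2 → D3 → (Cert rels S Gen.a) := @D2.rec (fun _ => D3 → (Cert rels S Gen.a)) (@D3.rec (fun _ => (Cert rels S Gen.a)) lc_a_rc_3_2 lc_a_rc_3_2 lc_a_rc_3_2 lc_a_rc_3_2 lc_a_rc_3_2 lc_a_rc_1_6 lc_a_rc_6_2 lc_a_rc_30_0 lc_a_rc_4_2 lc_a_rc_5_2 lc_a_rc_6_2 lc_a_rc_3_2 lc_a_rc_3_2 lc_a_rc_30_0 lc_a_rc_4_2 lc_a_rc_30_0 lc_a_rc_30_0 lc_a_rc_3_2 lc_a_rc_6_2 lc_a_rc_5_0 lc_a_rc_5_0) (@D3.rec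 (fun _ => (Cert rels S Gen.a)) lc_a_rc_5_2 lc_a_rc_1_6 lc_a_rc_6_2 lc_a_rc_29_3 lc_a_rc_4_2 lc_a_rc_6_2 lc_a_rc_3_2 lc_a_rc_5_2 lc_a_rc_6_2 lc_a_rc_30_0 lc_a_rc_6_2 lc_a_rc_2_2 lc_a_rc_5_2 lc_a_rc_6_2 lc_a_rc_3_2 lc_a_rc_3_2 lc_a_rc_4_2 lc_a_rc_29_3 lc_a_rc_0_0 lc_a_rc_4_2 lc_a_rc_0_0) (@D3.rec (fun _ => (Cert rels S Gen.a)) lc_a_rc_2_2 lc_a_rc_3_2 lc_a_rc_30_0 lc_a_rc_2_2 lc_a_rc_2_2 lc_a_rc_3_2 lc_a_rc_29_3 lc_a_rc_5_2 lc_a_rc_5_2 lc_a_rc_2_2 lc_a_rc_3_2 lc_a_rc_4_2 lc_a_rc_30_0 lc_a_rc_4_2 lc_a_rc_3_2 lc_a_rc_6_2 lc_a_rc_2_2 lc_a_rc_30_0 lc_a_rc_4_2 lc_a_rc_5_2 lc_a_rc_3_2) (@D3.rec (fun _ => (Cert rels S Gen.a)) lc_a_rc_2_2 lc_a_rc_4_2 lc_a_rc_4_2 lc_a_rc_3_2 lc_a_Cert_tree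 lc_a_rc_30_0 lc_a_rc_4_2 lc_a_rc_5_2 lc_a_rc_6_2 lc_a_rc_4_2 lc_a_rc_5_2 lc_a_rc_6_2 lc_a_rc_6_2 lc_a_rc_0_1 lc_a_rc_5_2 lc_a_rc_30_0 lc_a_rc_3_2 lc_a_rc_29_6 lc_a_rc_0_0 lc_a_rc_5_2 lc_a_rc_2_0) (@D3.rec (fun _ => (Cert rels S Gen.a)) lc_a_Cert_tree lc_a_rc_30_0 lc_a_rc_4_2 lc_a_rc_5_2 lc_a_rc_6_2 lc_a_rc_5_2 lc_a_rc_6_2 lc_a_rc_6_2 lc_a_rc_6_2 lc_a_rc_4_2 lc_a_rc_6_2 lc_a_rc_5_2 lc_a_rc_3_2 lc_a_rc_3_2 lc_a_rc_2_2 lc_a_rc_4_2 lc_a_rc_30_0 lc_a_rc_30_0 lc_a_rc_4_2 lc_a_rc_4_2 lc_a_rc_4_2) (@D3.rec (fun _ => (Cert rels S Gen.a)) lc_a_rc_4_2 lc_a_rc_6_2 lc_a_rc_2_2 lc_a_rc_2_2 lc_a_rc_5_2 lc_a_rc_3_2 lc_a_rc_2_2 lc_a_rc_6_2 lc_a_rc_2_2 lc_a_rc_3_2 lc_a_rc_5_2 lc_a_rc_2_2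 lc_a_rc_4_2 lc_a_rc_5_2 lc_a_rc_30_0 lc_a_rc_3_2 lc_a_rc_29_9 lc_a_rc_29_3 lc_a_rc_30_0 lc_a_rc_30_0 lc_a_rc_4_2) (@D3.rec (fun _ => (Cert rels S Gen.a)) lc_a_rc_5_2 lc_a_rc_2_2 lc_a_rc_4_2 lc_a_rc_5_2 lc_a_rc_30_0 lc_a_rc_3_2 lc_a_rc_3_2 lc_a_rc_30_0 lc_a_rc_3_2 lc_a_rc_3_2 lc_a_rc_0_1 lc_a_rc_2_2 lc_a_rc_29_9 lc_a_rc_3_2 lc_a_rc_4_2 lc_a_rc_2_2 lc_a_rc_3_2 lc_a_rc_6_2 lc_a_rc_2_2 lc_a_rc_3_2 lc_a_rc_5_2) (@D3.rec (fun _ => (Cert rels S Gen.a)) lc_a_Cert_tree lc_a_rc_3_2 lc_a_rc_2_2 lc_a_rc_2_2 lc_a_rc_3_2 lc_a_rc_4_2 lc_a_rc_29_9 lc_a_rc_3_2 lc_a_rc_2_2 lc_a_rc_5_2 lc_a_rc_5_2 lc_a_rc_2_2 lc_a_rc_4_2 lc_a_rc_0_0 lc_a_rc_3_2 lc_a_rc_29_3 lc_a_rc_4_2 lc_a_rc_5_2 lc_a_rc_6_2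 lc_a_rc_3_2 lc_a_rc_0_0) (@D3.rec (fun _ => (Cert rels S Gen.a)) lc_a_rc_6_2 lc_a_rc_29_3 lc_a_rc_3_2 lc_a_rc_3_2 lc_a_rc_3_2 lc_a_rc_3_2 lc_a_rc_5_2 lc_a_rc_5_2 lc_a_rc_2_2 lc_a_rc_0_0 lc_a_rc_5_2 lc_a_rc_2_2 lc_a_rc_4_2 lc_a_rc_30_0 lc_a_rc_4_2 lc_a_rc_3_2 lc_a_rc_0_1 lc_a_rc_30_0 lc_a_Cert_tree lc_a_rc_5_2 lc_a_rc_2_2) (@D3.rec (fun _ => (Cert rels S Gen.a)) lc_a_rc_0_0 lc_a_rc_3_2 lc_a_rc_1_6 lc_a_rc_29_9 lc_a_rc_4_2 lc_a_rc_5_2 lc_a_rc_30_0 lc_a_rc_30_0 lc_a_rc_29_3 lc_a_rc_4_2 lc_a_rc_3_2 lc_a_rc_30_0 lc_a_rc_5_2 lc_a_rc_2_2 lc_a_rc_30_0 lc_a_rc_4_2 lc_a_rc_1_6 lc_a_rc_5_2 lc_a_rc_3_2 lc_a_rc_4_2 lc_a_rc_3_2) (@D3.rec (fun _ => (Cert rels S Gen.a)) lc_a_rc_3_2 lc_a_rc_3_2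 lc_a_rc_0_1 lc_a_rc_5_2 lc_a_rc_6_2 lc_a_rc_3_2 lc_a_rc_3_2 lc_a_rc_0_1 lc_a_rc_29_3 lc_a_rc_6_2 lc_a_rc_3_2 lc_a_rc_4_2 lc_a_rc_6_2 lc_a_rc_2_2 lc_a_rc_6_2 lc_a_rc_4_2 lc_a_rc_5_2 lc_a_rc_3_2 lc_a_rc_2_2 lc_a_rc_0_0 lc_a_rc_3_2) (@D3.rec (fun _ => (Cert rels S Gen.a)) lc_a_rc_2_2 lc_a_rc_5_2 lc_a_Cert_tree lc_a_rc_30_0 lc_a_rc_0_1 lc_a_rc_0_1 lc_a_rc_5_2 lc_a_rc_4_2 lc_a_rc_5_2 lc_a_rc_30_0 lc_a_rc_2_2 lc_a_rc_2_2 lc_a_rc_30_0 lc_a_rc_6_2 lc_a_rc_4_2 lc_a_rc_3_2 lc_a_rc_3_2 lc_a_rc_5_2 lc_a_rc_6_2 lc_a_rc_2_2 lc_a_rc_29_3) (@D3.rec (fun _ => (Cert rels S Gen.a)) lc_a_rc_3_2 lc_a_rc_2_2 lc_a_rc_5_2 lc_a_rc_4_2 lc_a_rc_4_2 lc_a_rc_29_3 lc_a_rc_5_2 lc_a_rc_5_2 lc_a_rc_30_0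 lc_a_rc_5_2 lc_a_rc_2_2 lc_a_rc_4_2 lc_a_rc_6_2 lc_a_Cert_tree lc_a_rc_3_2 lc_a_rc_2_2 lc_a_rc_2_2 lc_a_rc_6_2 lc_a_rc_5_2 lc_a_rc_4_2 lc_a_rc_5_2) (@D3.rec (fun _ => (Cert rels S Gen.a)) lc_a_rc_4_2 lc_a_rc_29_3 lc_a_rc_3_0 lc_a_rc_3_2 lc_a_rc_2_2 lc_a_rc_5_2 lc_a_rc_3_2 lc_a_rc_2_2 lc_a_rc_4_2 lc_a_rc_5_2 lc_a_rc_2_2 lc_a_rc_4_2 lc_a_rc_6_2 lc_a_rc_30_0 lc_a_rc_0_1 lc_a_rc_2_2 lc_a_rc_4_2 lc_a_rc_3_2 lc_a_rc_2_2 lc_a_rc_5_2 lc_a_rc_6_2)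
def ce_a_5 : D2 → D3 → (Cert rels S Gen.a) := @D2.rec (fun _ => D3 → (Cert rels S Gen.a)) (@D3.rec (fun _ => (Cert rels S Gen.a)) lc_a_rc_30_0 lc_a_rc_4_2 lc_a_rc_30_0 lc_a_rc_5_2 lc_a_rc_2_2 lc_a_rc_5_0 lc_a_rc_5_2 lc_a_rc_5_2 lc_a_rc_29_3 lc_a_rc_4_2 lc_a_rc_5_2 lc_a_rc_3_2 lc_a_rc_6_2 lc_a_rc_2_2 lc_a_rc_29_3 lc_a_rc_29_6 lc_a_rc_6_2 lc_a_rc_3_2 lc_a_rc_0_0 lc_a_rc_4_2 lc_a_rc_2_2) (@D3.rec (fun _ => (Cert rels S Gen.a)) lc_a_rc_4_2 lc_a_rc_5_2 lc_a_rc_29_3 lc_a_rc_5_2 lc_a_rc_6_2 lc_a_rc_30_0 lc_a_rc_2_2 lc_a_rc_4_2 lc_a_rc_6_2 lc_a_rc_30_0 lc_a_rc_30_0 lc_a_rc_30_0 lc_a_rc_4_2 lc_a_rc_30_0 lc_a_rc_29_3 lc_a_rc_3_2 lc_a_rc_29_3 lc_a_rc_2_2 lc_a_rc_29_3 lc_a_rc_30_0 lc_a_rc_5_2)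 (@D3.rec (fun _ => (Cert rels S Gen.a)) lc_a_rc_2_2 lc_a_rc_4_2 lc_a_rc_6_0 lc_a_rc_0_0 lc_a_rc_29_3 lc_a_rc_4_2 lc_a_rc_5_0 lc_a_rc_4_2 lc_a_rc_5_2 lc_a_rc_3_2 lc_a_rc_2_2 lc_a_rc_30_0 lc_a_rc_3_2 lc_a_rc_3_2 lc_a_rc_0_0 lc_a_rc_29_3 lc_a_rc_29_3 lc_a_rc_2_2 lc_a_rc_3_2 lc_a_rc_0_0 lc_a_rc_29_6) (@D3.rec (fun _ => (Cert rels S Gen.a)) lc_a_rc_2_2 lc_a_rc_4_2 lc_a_rc_5_2 lc_a_rc_0_0 lc_a_rc_30_0 lc_a_rc_30_0 lc_a_rc_3_2 lc_a_rc_0_1 lc_a_rc_4_2 lc_a_rc_5_2 lc_a_rc_6_2 lc_a_rc_3_2 lc_a_rc_3_2 lc_a_rc_6_2 lc_a_rc_4_2 lc_a_rc_5_2 lc_a_rc_3_2 lc_a_rc_29_3 lc_a_rc_3_2 lc_a_rc_5_2 lc_a_rc_6_2) (@D3.rec (fun _ => (Cert rels S Gen.a)) lc_a_rc_6_0 lc_a_rc_2_2 lc_a_rc_5_2 lc_a_rc_6_2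 lc_a_rc_3_2 lc_a_rc_3_2 lc_a_rc_4_2 lc_a_rc_3_2 lc_a_rc_2_2 lc_a_rc_4_2 lc_a_rc_3_2 lc_a_rc_6_2 lc_a_rc_2_2 lc_a_rc_4_2 lc_a_rc_5_2 lc_a_rc_3_2 lc_a_rc_30_0 lc_a_rc_4_2 lc_a_rc_5_2 lc_a_rc_6_2 lc_a_rc_5_2) (@D3.rec (fun _ => (Cert rels S Gen.a)) lc_a_rc_6_2 lc_a_rc_6_2 lc_a_Cert_tree lc_a_rc_4_2 lc_a_rc_5_2 lc_a_rc_6_2 lc_a_rc_5_2 lc_a_rc_6_2 lc_a_rc_6_2 lc_a_rc_6_0 lc_a_rc_3_2 lc_a_rc_3_2 lc_a_rc_4_2 lc_a_rc_30_0 lc_a_rc_2_2 lc_a_rc_2_2 lc_a_rc_2_2 lc_a_rc_6_2 lc_a_rc_2_2 lc_a_rc_5_2 lc_a_rc_2_2) (@D3.rec (fun _ => (Cert rels S Gen.a)) lc_a_rc_4_2 lc_a_rc_5_2 lc_a_rc_2_2 lc_a_rc_4_2 lc_a_rc_5_2 lc_a_rc_3_2 lc_a_rc_29_3 lc_a_rc_4_2 lc_a_rc_5_2 lc_a_rc_5_2 lc_a_rc_6_2 lc_a_rc_6_2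 lc_a_rc_3_2 lc_a_rc_6_2 lc_a_rc_2_2 lc_a_rc_3_2 lc_a_Cert_tree lc_a_rc_3_2 lc_a_rc_5_2 lc_a_rc_30_0 lc_a_rc_5_2) (@D3.rec (fun _ => (Cert rels S Gen.a)) lc_a_rc_5_2 lc_a_rc_5_2 lc_a_rc_0_1 lc_a_rc_4_2 lc_a_rc_29_6 lc_a_rc_2_2 lc_a_rc_5_2 lc_a_rc_3_2 lc_a_rc_3_2 lc_a_rc_30_0 lc_a_rc_2_2 lc_a_rc_30_0 lc_a_rc_6_2 lc_a_rc_0_1 lc_a_rc_29_3 lc_a_rc_3_2 lc_a_rc_2_2 lc_a_rc_6_2 lc_a_rc_4_2 lc_a_rc_5_2 lc_a_rc_29_9) (@D3.rec (fun _ => (Cert rels S Gen.a)) lc_a_rc_30_0 lc_a_rc_3_2 lc_a_rc_2_2 lc_a_rc_3_2 lc_a_rc_30_0 lc_a_rc_30_0 lc_a_rc_6_2 lc_a_rc_2_2 lc_a_rc_30_0 lc_a_rc_5_2 lc_a_Cert_tree lc_a_rc_3_2 lc_a_rc_30_0 lc_a_rc_5_2 lc_a_rc_29_9 lc_a_rc_4_2 lc_a_rc_30_0 lc_a_rc_3_2 lc_a_rc_3_2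 lc_a_rc_2_2 lc_a_rc_0_1) (@D3.rec (fun _ => (Cert rels S Gen.a)) lc_a_rc_30_0 lc_a_rc_4_2 lc_a_rc_5_2 lc_a_rc_0_0 lc_a_rc_5_2 lc_a_rc_6_2 lc_a_rc_4_2 lc_a_rc_0_0 lc_a_rc_29_3 lc_a_rc_3_0 lc_a_rc_2_2 lc_a_rc_4_2 lc_a_rc_5_2 lc_a_rc_29_3 lc_a_rc_3_2 lc_a_rc_5_2 lc_a_rc_6_2 lc_a_rc_3_2 lc_a_rc_3_2 lc_a_rc_4_2 lc_a_rc_4_2) (@D3.rec (fun _ => (Cert rels S Gen.a)) lc_a_rc_3_0 lc_a_rc_5_2 lc_a_rc_30_0 lc_a_Cert_tree lc_a_rc_29_6 lc_a_rc_29_9 lc_a_rc_29_6 lc_a_rc_5_2 lc_a_rc_4_2 lc_a_rc_2_2 lc_a_rc_5_2 lc_a_rc_0_0 lc_a_rc_2_0 lc_a_rc_0_1 lc_a_rc_5_2 lc_a_rc_5_2 lc_a_rc_3_2 lc_a_rc_3_2 lc_a_rc_30_0 lc_a_rc_2_2 lc_a_rc_3_2) (@D3.rec (fun _ => (Cert rels S Gen.a)) lc_a_rc_30_0 lc_a_rc_2_2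 lc_a_rc_29_6 lc_a_rc_3_0 lc_a_rc_4_2 lc_a_rc_5_2 lc_a_rc_29_6 lc_a_rc_3_2 lc_a_rc_3_2 lc_a_rc_29_3 lc_a_rc_2_2 lc_a_rc_4_2 lc_a_rc_3_2 lc_a_rc_2_2 lc_a_rc_3_2 lc_a_rc_2_2 lc_a_rc_2_2 lc_a_rc_4_2 lc_a_rc_29_6 lc_a_rc_30_0 lc_a_rc_1_4) (@D3.rec (fun _ => (Cert rels S Gen.a)) lc_a_rc_6_2 lc_a_rc_30_0 lc_a_rc_3_2 lc_a_rc_29_3 lc_a_rc_4_2 lc_a_rc_5_2 lc_a_rc_3_2 lc_a_rc_30_0 lc_a_rc_4_2 lc_a_rc_29_3 lc_a_rc_0_1 lc_a_rc_3_2 lc_a_rc_3_2 lc_a_rc_1_6 lc_a_rc_2_2 lc_a_rc_0_0 lc_a_rc_29_3 lc_a_rc_29_3 lc_a_rc_4_2 lc_a_rc_5_2 lc_a_rc_5_2) (@D3.rec (fun _ => (Cert rels S Gen.a)) lc_a_rc_2_2 lc_a_rc_3_2 lc_a_rc_1_2 lc_a_rc_29_6 lc_a_rc_29_6 lc_a_rc_29_3 lc_a_rc_6_2 lc_a_rc_5_2 lc_a_rc_0_1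 lc_a_rc_3_2 lc_a_rc_2_2 lc_a_rc_2_2 lc_a_rc_2_2 lc_a_rc_2_2 lc_a_rc_6_2 lc_a_rc_2_2 lc_a_Cert_tree lc_a_rc_2_2 lc_a_rc_0_1 lc_a_rc_30_0 lc_a_rc_4_2)
def ce_a_6 : D2 → D3 → (Cert rels S Gen.a) := @D2.rec (fun _ => D3 → (Cert rels S Gen.a)) (@D3.rec (fun _ => (Cert rels S Gen.a)) lc_a_rc_29_3 lc_a_rc_0_0 lc_a_rc_29_6 lc_a_rc_0_0 lc_a_rc_4_2 lc_a_rc_3_2 lc_a_rc_30_0 lc_a_rc_29_3 lc_a_rc_6_2 lc_a_rc_30_0 lc_a_rc_30_0 lc_a_rc_6_2 lc_a_rc_6_2 lc_a_Cert_tree lc_a_rc_4_2 lc_a_rc_6_2 lc_a_rc_29_3 lc_a_rc_29_3 lc_a_rc_2_0 lc_a_rc_30_0 lc_a_Cert_tree) (@D3.rec (fun _ => (Cert rels S Gen.a)) lc_a_rc_30_0 lc_a_rc_2_2 lc_a_rc_6_2 lc_a_rc_0_1 lc_a_rc_4_2 lc_a_rc_29_3 lc_a_rc_2_2 lc_a_rc_29_3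 lc_a_rc_2_2 lc_a_rc_30_0 lc_a_Cert_tree lc_a_rc_30_0 lc_a_rc_0_0 lc_a_rc_29_3 lc_a_rc_0_0 lc_a_rc_30_0 lc_a_rc_30_0 lc_a_rc_30_0 lc_a_rc_29_3 lc_a_rc_29_3 lc_a_rc_6_2) (@D3.rec (fun _ => (Cert rels S Gen.a)) lc_a_rc_3_2 lc_a_rc_30_0 lc_a_rc_4_2 lc_a_rc_5_2 lc_a_rc_5_2 lc_a_rc_3_2 lc_a_rc_29_6 lc_a_rc_2_2 lc_a_rc_29_3 lc_a_rc_5_2 lc_a_rc_1_2 lc_a_rc_0_0 lc_a_rc_29_3 lc_a_rc_29_3 lc_a_rc_2_2 lc_a_rc_3_2 lc_a_rc_30_0 lc_a_rc_0_0 lc_a_rc_5_2 lc_a_rc_29_6 lc_a_rc_2_2) (@D3.rec (fun _ => (Cert rels S Gen.a)) lc_a_rc_4_2 lc_a_rc_3_2 lc_a_rc_2_2 lc_a_rc_5_2 lc_a_rc_6_2 lc_a_rc_29_6 lc_a_rc_5_2 lc_a_rc_0_1 lc_a_rc_30_0 lc_a_rc_0_0 lc_a_rc_29_3 lc_a_rc_29_3 lc_a_rc_3_2 lc_a_rc_3_2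 lc_a_rc_3_2 lc_a_rc_3_2 lc_a_rc_6_2 lc_a_rc_30_0 lc_a_rc_2_2 lc_a_rc_30_0 lc_a_rc_5_2) (@D3.rec (fun _ => (Cert rels S Gen.a)) lc_a_rc_6_2 lc_a_rc_3_2 lc_a_rc_2_2 lc_a_rc_0_0 lc_a_rc_30_0 lc_a_rc_29_3 lc_a_rc_4_2 lc_a_rc_29_3 lc_a_rc_4_2 lc_a_rc_3_2 lc_a_rc_0_1 lc_a_rc_30_0 lc_a_rc_5_2 lc_a_rc_29_3 lc_a_rc_2_2 lc_a_rc_5_2 lc_a_rc_29_6 lc_a_rc_4_2 lc_a_rc_29_3 lc_a_rc_29_6 lc_a_rc_5_2) (@D3.rec (fun _ => (Cert rels S Gen.a)) lc_a_rc_30_0 lc_a_rc_5_2 lc_a_rc_2_2 lc_a_rc_4_2 lc_a_rc_5_2 lc_a_rc_6_2 lc_a_rc_29_6 lc_a_rc_5_2 lc_a_rc_6_2 lc_a_rc_6_2 lc_a_rc_3_2 lc_a_rc_6_0 lc_a_rc_4_2 lc_a_rc_5_2 lc_a_rc_4_2 lc_a_rc_0_0 lc_a_rc_2_2 lc_a_rc_5_2 lc_a_rc_6_2 lc_a_rc_2_2 lc_a_rc_6_2)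 (@D3.rec (fun _ => (Cert rels S Gen.a)) lc_a_rc_29_3 lc_a_rc_3_2 lc_a_rc_2_2 lc_a_rc_0_0 lc_a_rc_6_2 lc_a_rc_4_0 lc_a_rc_5_2 lc_a_rc_2_2 lc_a_rc_29_9 lc_a_rc_3_2 lc_a_rc_2_2 lc_a_rc_30_0 lc_a_rc_5_2 lc_a_rc_6_2 lc_a_rc_29_9 lc_a_rc_3_2 lc_a_rc_3_2 lc_a_rc_5_2 lc_a_rc_6_2 lc_a_rc_3_2 lc_a_rc_0_0) (@D3.rec (fun _ => (Cert rels S Gen.a)) lc_a_rc_3_2 lc_a_rc_29_3 lc_a_rc_3_2 lc_a_rc_3_2 lc_a_rc_2_2 lc_a_rc_3_2 lc_a_rc_2_2 lc_a_rc_3_2 lc_a_rc_2_2 lc_a_rc_29_6 lc_a_rc_30_0 lc_a_rc_4_2 lc_a_rc_5_2 lc_a_rc_5_2 lc_a_rc_6_2 lc_a_rc_29_6 lc_a_rc_29_3 lc_a_rc_29_3 lc_a_rc_3_2 lc_a_rc_3_2 lc_a_rc_6_2) (@D3.rec (fun _ => (Cert rels S Gen.a)) lc_a_rc_3_2 lc_a_rc_29_9 lc_a_rc_0_0 lc_a_rc_0_0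 lc_a_rc_5_2 lc_a_rc_4_2 lc_a_rc_3_2 lc_a_rc_3_2 lc_a_rc_4_2 lc_a_rc_5_2 lc_a_rc_5_2 lc_a_rc_6_2 lc_a_rc_5_2 lc_a_rc_29_3 lc_a_rc_30_0 lc_a_rc_29_3 lc_a_rc_29_3 lc_a_rc_30_0 lc_a_rc_0_1 lc_a_rc_3_2 lc_a_rc_2_2) (@D3.rec (fun _ => (Cert rels S Gen.a)) lc_a_rc_29_3 lc_a_rc_3_2 lc_a_rc_29_6 lc_a_rc_2_0 lc_a_rc_0_0 lc_a_rc_5_2 lc_a_rc_4_2 lc_a_rc_6_2 lc_a_rc_29_3 lc_a_rc_5_2 lc_a_rc_2_2 lc_a_rc_5_2 lc_a_rc_29_3 lc_a_rc_30_0 lc_a_rc_29_6 lc_a_rc_29_3 lc_a_rc_3_2 lc_a_rc_6_2 lc_a_rc_29_3 lc_a_rc_29_3 lc_a_rc_4_2) (@D3.rec (fun _ => (Cert rels S Gen.a)) lc_a_rc_4_2 lc_a_rc_29_3 lc_a_rc_0_0 lc_a_rc_2_2 lc_a_rc_29_3 lc_a_rc_29_6 lc_a_rc_30_0 lc_a_rc_0_1 lc_a_rc_3_2 lc_a_rc_2_2 lc_a_rc_6_2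 lc_a_rc_5_2 lc_a_rc_29_3 lc_a_rc_2_2 lc_a_rc_29_3 lc_a_rc_3_2 lc_a_rc_2_2 lc_a_rc_29_3 lc_a_rc_2_2 lc_a_rc_29_3 lc_a_rc_30_0) (@D3.rec (fun _ => (Cert rels S Gen.a)) lc_a_rc_30_0 lc_a_rc_1_2 lc_a_rc_29_3 lc_a_rc_4_2 lc_a_rc_0_1 lc_a_rc_29_3 lc_a_rc_29_3 lc_a_rc_6_2 lc_a_rc_29_6 lc_a_rc_2_2 lc_a_rc_29_3 lc_a_rc_29_6 lc_a_rc_3_2 lc_a_rc_30_0 lc_a_rc_0_0 lc_a_rc_29_3 lc_a_rc_6_2 lc_a_rc_6_2 lc_a_rc_0_0 lc_a_rc_0_0 lc_a_rc_2_0) (@D3.rec (fun _ => (Cert rels S Gen.a)) lc_a_rc_0_1 lc_a_rc_0_0 lc_a_rc_29_3 lc_a_rc_0_0 lc_a_rc_0_0 lc_a_rc_0_1 lc_a_rc_5_2 lc_a_rc_29_3 lc_a_rc_29_3 lc_a_rc_29_3 lc_a_rc_29_3 lc_a_rc_29_6 lc_a_rc_1_2 lc_a_rc_30_0 lc_a_rc_3_2 lc_a_rc_3_2 lc_a_rc_5_2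 lc_a_rc_30_0 lc_a_rc_0_1 lc_a_rc_29_6 lc_a_rc_30_0) (@D3.rec (fun _ => (Cert rels S Gen.a)) lc_a_rc_29_9 lc_a_rc_1_2 lc_a_rc_2_2 lc_a_rc_3_2 lc_a_rc_5_2 lc_a_rc_5_2 lc_a_rc_30_0 lc_a_rc_0_0 lc_a_rc_2_2 lc_a_rc_5_2 lc_a_rc_1_2 lc_a_rc_29_3 lc_a_rc_2_2 lc_a_rc_3_2 lc_a_rc_5_2 lc_a_rc_29_3 lc_a_rc_29_3 lc_a_rc_5_2 lc_a_rc_29_3 lc_a_rc_30_0 lc_a_rc_0_0)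
def ce_a : Pt → (Cert rels S Gen.a) := @Pt.rec (fun _ => (Cert rels S Gen.a)) (@D1.rec (fun _ => D2 → D3 → (Cert rels S Gen.a)) ce_a_0 ce_a_1 ce_a_2 ce_a_3 ce_a_4 ce_a_5 ce_a_6)
def isSeed_a (p : Pt) : Bool := orB (beqPt p (Pt.mk D1.c1 D2.c11 D3.c18)) (false)

end

end Cfsg.Agent.Helper28.S1683
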