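import Cfsg.Agent.Lib.Helper28.S1683.Certs

set_option autoImplicit false
set_option maxRecDepth 100000
set_option linter.all false

namespace Cfsg.Agent.Helper28.S1683

open Cfsg.Agent.Helper28
open Cfsg.Spor.He (Gen)

noncomputable section

abbrev tl_a_t : Gen × Bool := (Gen.a, true)
abbrev tl_a_f : Gen × Bool := (Gen.a, false)
abbrev tl_b_t : Gen × Bool := (Gen.b, true)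
abbrev tl_b_f : Gen × Bool := (Gen.b, false)
abbrev tl_c_t : Gen × Bool := (Gen.c, true)
abbrev tl_c_f : Gen × Bool := (Gen.c, false)
abbrev tl_d_t : Gen × Bool := (Gen.d, true)
abbrev tl_d_f : Gen × Bool := (Gen.d, false)
abbrev tl_e_t : Gen × Bool := (Gen.e, true)
abbrev tl_e_f : Gen × Bool := (Gen.e, false)
abbrev tl_f_t : Gen × Bool := (Gen.f, true)
abbrev tl_f_f : Gen × Bool := (Gen.f, false)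
abbrev tl_g_t : Gen × Bool := (Gen.g, true)
abbrev tl_g_f : Gen × Bool := (Gen.g, false)
def plet_0 : D2 → D3 → (Gen × Bool) := @D2.rec (fun _ => D3 → (Gen × Bool)) (@D3.rec (fun _ => (Gen × Bool)) tl_a_t tl_b_t tl_g_t tl_c_t tl_g_t tl_d_t tl_d_t tl_g_t tl_d_t tl_c_t tl_e_t tl_f_t tl_c_t tl_e_t tl_f_t tl_c_t tl_e_t tl_f_t tl_b_t tl_d_t tl_e_t) (@D3.rec (fun _ => (Gen × Bool)) tl_f_t tl_f_t tl_b_t tl_d_t tl_e_t tl_f_t tl_f_t tl_b_t tl_d_t tl_e_t tl_f_t tl_f_t tl_a_t tl_d_t tl_f_t tl_c_t tl_e_t tl_f_t tl_f_t tl_d_t tl_a_t) (@D3.rec (fun _ => (Gen × Bool)) tl_d_t tl_f_t tl_e_t tl_f_t tl_g_t tl_d_t tl_f_t tl_d_t tl_d_t tl_a_t tl_d_t tl_f_t tl_e_t tl_f_t tl_g_t tl_d_t tl_f_t tl_d_t tl_d_t tl_d_t tl_f_t) (@D3.rec (fun _ => (Gen × Bool))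 tl_c_t tl_e_t tl_g_t tl_e_t tl_f_t tl_d_t tl_g_t tl_d_t tl_f_t tl_c_t tl_e_t tl_f_t tl_g_t tl_d_t tl_d_t tl_f_t tl_g_t tl_d_t tl_g_t tl_f_t tl_f_t) (@D3.rec (fun _ => (Gen × Bool)) tl_g_t tl_d_t tl_c_t tl_e_t tl_g_t tl_c_t tl_d_t tl_f_t tl_c_t tl_e_t tl_f_t tl_g_t tl_d_t tl_d_t tl_f_t tl_g_t tl_g_t tl_f_t tl_f_t tl_g_t tl_d_t) (@D3.rec (fun _ => (Gen × Bool)) tl_e_t tl_g_t tl_c_t tl_c_t tl_e_t tl_g_t tl_b_t tl_d_t tl_e_t tl_g_t tl_f_t tl_d_t tl_d_t tl_c_t tl_e_t tl_f_t tl_g_t tl_d_t tl_d_t tl_f_t tl_g_t) (@D3.rec (fun _ => (Gen × Bool)) tl_f_t tl_g_t tl_d_t tl_g_t tl_f_t tl_c_t tl_e_t tl_g_t tl_f_t tl_g_t tl_d_t tl_d_t tl_e_t tl_g_t tl_d_t tl_d_t tl_f_t tl_c_t tl_b_t tl_e_t tl_g_t) (@D3.rec (fun _ => (Gen × Bool)) tl_f_t tl_b_t tl_d_t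 tl_c_t tl_e_t tl_f_t tl_g_t tl_d_t tl_d_t tl_e_t tl_f_t tl_g_t tl_f_t tl_g_t tl_g_t tl_f_t tl_c_t tl_e_t tl_g_t tl_f_t tl_g_t) (@D3.rec (fun _ => (Gen × Bool)) tl_d_t tl_d_t tl_d_t tl_d_t tl_f_t tl_d_t tl_b_t tl_d_t tl_e_t tl_g_t tl_d_t tl_e_t tl_c_t tl_e_t tl_f_t tl_g_t tl_d_t tl_d_t tl_d_t tl_b_t tl_f_t) (@D3.rec (fun _ => (Gen × Bool)) tl_g_t tl_f_t tl_g_t tl_d_t tl_g_t tl_f_t tl_c_t tl_f_t tl_g_t tl_d_t tl_g_t tl_d_t tl_f_t tl_d_t tl_d_t tl_c_t tl_e_t tl_d_t tl_b_t tl_d_t tl_e_t) (@D3.rec (fun _ => (Gen × Bool)) tl_g_t tl_f_t tl_d_t tl_d_t tl_c_t tl_e_t tl_g_t tl_c_t tl_c_t tl_e_t tl_g_t tl_b_t tl_d_t tl_a_t tl_e_t tl_d_t tl_d_t tl_d_t tl_c_t tl_e_t tl_g_t) (@D3.rec (fun _ => (Gen × Bool)) tl_b_t tl_d_t tl_f_t tl_g_t tl_f_t tl_g_t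 tl_g_t tl_f_t tl_c_t tl_c_t tl_e_t tl_f_t tl_g_t tl_d_t tl_f_t tl_g_t tl_d_t tl_g_t tl_d_t tl_f_t tl_d_t) (@D3.rec (fun _ => (Gen × Bool)) tl_d_t tl_d_t tl_d_t tl_e_t tl_g_t tl_d_t tl_c_t tl_e_t tl_g_t tl_c_t tl_e_t tl_g_t tl_d_t tl_c_t tl_e_t tl_f_t tl_g_t tl_d_t tl_d_t tl_c_t tl_e_t) (@D3.rec (fun _ => (Gen × Bool)) tl_f_t tl_g_t tl_d_t tl_b_t tl_d_t tl_e_t tl_f_t tl_g_t tl_d_t tl_f_t tl_g_t tl_g_t tl_f_t tl_c_t tl_f_t tl_g_t tl_c_t tl_c_t tl_f_t tl_g_t tl_d_t)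
def plet_1 : D2 → D3 → (Gen × Bool) := @D2.rec (fun _ => D3 → (Gen × Bool)) (@D3.rec (fun _ => (Gen × Bool)) tl_g_t tl_d_t tl_f_t tl_d_t tl_d_t tl_c_t tl_d_t tl_b_t tl_d_t tl_d_t tl_d_t tl_c_t tl_e_t tl_g_t tl_d_t tl_c_t tl_e_t tl_f_t tl_d_t tl_c_t tl_e_t) (@D3.rec (fun _ => (Gen × Bool)) tl_g_t tl_c_t tl_d_t tl_e_t tl_c_t tl_g_t tl_a_t tl_d_t tl_e_t tl_c_t tl_e_t tl_f_t tl_g_t tl_d_t tl_d_t tl_f_t tl_d_t tl_c_t tl_g_t tl_b_t tl_e_t) (@D3.rec (fun _ => (Gen × Bool)) tl_g_t tl_f_t tl_b_t tl_b_t tl_d_t tl_d_t tl_d_t tl_c_t tl_c_t tl_e_t tl_g_t tl_b_t tl_d_t tl_f_t tl_g_t tl_e_t tl_f_t tl_g_t tl_d_t tl_g_t tl_d_t) (@D3.rec (fun _ => (Gen × Bool)) tl_f_t tl_d_t tl_d_t tl_d_t tl_b_t tl_e_t tl_f_t tl_g_t tl_d_t tl_f_t tl_g_t tl_d_t tl_g_t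 tl_d_t tl_f_t tl_c_t tl_f_t tl_g_t tl_d_t tl_d_t tl_c_t) (@D3.rec (fun _ => (Gen × Bool)) tl_e_t tl_c_t tl_e_t tl_c_t tl_c_t tl_g_t tl_e_t tl_f_t tl_g_t tl_d_t tl_d_t tl_d_t tl_b_t tl_c_t tl_e_t tl_f_t tl_g_t tl_b_t tl_e_t tl_f_t tl_g_t) (@D3.rec (fun _ => (Gen × Bool)) tl_d_t tl_f_t tl_g_t tl_g_t tl_d_t tl_f_t tl_c_t tl_f_t tl_g_t tl_c_t tl_e_t tl_f_t tl_b_t tl_d_t tl_e_t tl_f_t tl_g_t tl_d_t tl_f_t tl_g_t tl_g_t) (@D3.rec (fun _ => (Gen × Bool)) tl_f_t tl_c_t tl_f_t tl_g_t tl_a_t tl_d_t tl_e_t tl_f_t tl_g_t tl_e_t tl_f_t tl_g_t tl_d_t tl_f_t tl_g_t tl_d_t tl_g_t tl_d_t tl_f_t tl_c_t tl_f_t) (@D3.rec (fun _ => (Gen × Bool)) tl_g_t tl_d_t tl_d_t tl_d_t tl_d_t tl_b_t tl_d_t tl_f_t tl_g_t tl_g_t tl_f_t tl_d_t tl_d_t tl_d_t tl_d_t tl_c_t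 tl_e_t tl_g_t tl_d_t tl_c_t tl_e_t) (@D3.rec (fun _ => (Gen × Bool)) tl_f_t tl_d_t tl_c_t tl_g_t tl_c_t tl_d_t tl_c_t tl_d_t tl_c_t tl_e_t tl_f_t tl_g_t tl_c_t tl_e_t tl_g_t tl_c_t tl_e_t tl_f_t tl_b_t tl_d_t tl_e_t) (@D3.rec (fun _ => (Gen × Bool)) tl_g_t tl_g_t tl_d_t tl_f_t tl_c_t tl_e_t tl_f_t tl_b_t tl_d_t tl_e_t tl_f_t tl_f_t tl_d_t tl_g_t tl_c_t tl_e_t tl_g_t tl_b_t tl_d_t tl_e_t tl_g_t) (@D3.rec (fun _ => (Gen × Bool)) tl_g_t tl_f_t tl_b_t tl_d_t tl_c_t tl_e_t tl_f_t tl_g_t tl_d_t tl_b_t tl_d_t tl_g_t tl_d_t tl_c_t tl_e_t tl_f_t tl_g_t tl_d_t tl_b_t tl_e_t tl_f_t) (@D3.rec (fun _ => (Gen × Bool)) tl_g_t tl_d_t tl_f_t tl_g_t tl_g_t tl_d_t tl_f_t tl_c_t tl_f_t tl_g_t tl_c_t tl_e_t tl_f_t tl_d_t tl_c_t tl_b_t tl_a_t tl_e_t tl_d_t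 tl_c_t tl_f_t) (@D3.rec (fun _ => (Gen × Bool)) tl_c_t tl_c_t tl_b_t tl_d_t tl_g_t tl_c_t tl_e_t tl_f_t tl_g_t tl_d_t tl_d_t tl_f_t tl_g_t tl_d_t tl_g_t tl_d_t tl_f_t tl_c_t tl_e_t tl_c_t tl_e_t) (@D3.rec (fun _ => (Gen × Bool)) tl_c_t tl_e_t tl_f_t tl_g_t tl_a_t tl_e_t tl_f_t tl_g_t tl_d_t tl_f_t tl_g_t tl_d_t tl_g_t tl_d_t tl_f_t tl_c_t tl_f_t tl_g_t tl_d_t tl_d_t tl_c_t)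
def plet_2 : D2 → D3 → (Gen × Bool) := @D2.rec (fun _ => D3 → (Gen × Bool)) (@D3.rec (fun _ => (Gen × Bool)) tl_e_t tl_g_t tl_d_t tl_c_t tl_e_t tl_f_t tl_d_t tl_b_t tl_d_t tl_f_t tl_g_t tl_d_t tl_g_t tl_d_t tl_f_t tl_c_t tl_e_t tl_c_t tl_e_t tl_b_t tl_d_t) (@D3.rec (fun _ => (Gen × Bool)) tl_e_t tl_b_t tl_d_t tl_e_t tl_d_t tl_d_t tl_f_t tl_g_t tl_g_t tl_d_t tl_f_t tl_c_t tl_f_t tl_g_t tl_f_t tl_d_t tl_e_t tl_f_t tl_f_t tl_g_t tl_g_t) (@D3.rec (fun _ => (Gen × Bool)) tl_a_t tl_e_t tl_f_t tl_d_t tl_f_t tl_g_t tl_d_t tl_g_t tl_d_t tl_c_t tl_f_t tl_g_t tl_d_t tl_d_t tl_d_t tl_c_t tl_e_t tl_f_t tl_d_t tl_b_t tl_d_t) (@D3.rec (fun _ => (Gen × Bool)) tl_f_t tl_g_t tl_g_t tl_f_t tl_b_t tl_d_t tl_e_t tl_f_t tl_f_t tl_g_t tl_a_t tl_d_t tl_e_t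 tl_g_t tl_e_t tl_g_t tl_d_t tl_f_t tl_g_t tl_d_t tl_f_t) (@D3.rec (fun _ => (Gen × Bool)) tl_c_t tl_f_t tl_g_t tl_d_t tl_d_t tl_d_t tl_d_t tl_b_t tl_d_t tl_f_t tl_g_t tl_g_t tl_f_t tl_d_t tl_f_t tl_g_t tl_c_t tl_e_t tl_f_t tl_g_t tl_d_t) (@D3.rec (fun _ => (Gen × Bool)) tl_f_t tl_g_t tl_d_t tl_d_t tl_f_t tl_d_t tl_f_t tl_g_t tl_d_t tl_g_t tl_d_t tl_f_t tl_f_t tl_d_t tl_c_t tl_e_t tl_g_t tl_d_t tl_c_t tl_f_t tl_d_t) (@D3.rec (fun _ => (Gen × Bool)) tl_d_t tl_f_t tl_g_t tl_d_t tl_d_t tl_c_t tl_g_t tl_c_t tl_f_t tl_e_t tl_f_t tl_c_t tl_e_t tl_g_t tl_f_t tl_g_t tl_e_t tl_d_t tl_f_t tl_d_t tl_d_t) (@D3.rec (fun _ => (Gen × Bool)) tl_c_t tl_e_t tl_f_t tl_g_t tl_c_t tl_g_t tl_c_t tl_e_t tl_g_t tl_c_t tl_e_t tl_f_t tl_b_t tl_d_t tl_e_t tl_g_t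 tl_g_t tl_d_t tl_f_t tl_c_t tl_e_t) (@D3.rec (fun _ => (Gen × Bool)) tl_f_t tl_d_t tl_e_t tl_f_t tl_d_t tl_g_t tl_c_t tl_e_t tl_g_t tl_b_t tl_d_t tl_g_t tl_d_t tl_c_t tl_e_t tl_f_t tl_g_t tl_d_t tl_e_t tl_f_t tl_b_t) (@D3.rec (fun _ => (Gen × Bool)) tl_e_t tl_f_t tl_g_t tl_f_t tl_g_t tl_g_t tl_b_t tl_d_t tl_e_t tl_g_t tl_b_t tl_d_t tl_e_t tl_f_t tl_a_t tl_d_t tl_e_t tl_g_t tl_c_t tl_e_t tl_f_t) (@D3.rec (fun _ => (Gen × Bool)) tl_g_t tl_d_t tl_g_t tl_d_t tl_d_t tl_c_t tl_e_t tl_f_t tl_d_t tl_b_t tl_d_t tl_e_t tl_f_t tl_f_t tl_g_t tl_a_t tl_d_t tl_e_t tl_e_t tl_f_t tl_g_t) (@D3.rec (fun _ => (Gen × Bool)) tl_d_t tl_f_t tl_g_t tl_d_t tl_c_t tl_e_t tl_g_t tl_d_t tl_d_t tl_e_t tl_g_t tl_a_t tl_d_t tl_e_t tl_c_t tl_e_t tl_f_t tl_g_t tl_d_t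 tl_g_t tl_d_t) (@D3.rec (fun _ => (Gen × Bool)) tl_f_t tl_d_t tl_c_t tl_e_t tl_f_t tl_g_t tl_d_t tl_d_t tl_f_t tl_c_t tl_f_t tl_g_t tl_d_t tl_c_t tl_e_t tl_f_t tl_e_t tl_g_t tl_d_t tl_f_t tl_d_t) (@D3.rec (fun _ => (Gen × Bool)) tl_f_t tl_d_t tl_d_t tl_g_t tl_d_t tl_d_t tl_d_t tl_e_t tl_d_t tl_d_t tl_d_t tl_e_t tl_f_t tl_d_t tl_e_t tl_d_t tl_f_t tl_d_t tl_d_t tl_d_t tl_f_t)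
def plet_3 : D2 → D3 → (Gen × Bool) := @D2.rec (fun _ => D3 → (Gen × Bool)) (@D3.rec (fun _ => (Gen × Bool)) tl_g_t tl_f_t tl_g_t tl_d_t tl_g_t tl_d_t tl_f_t tl_c_t tl_e_t tl_c_t tl_e_t tl_d_t tl_d_t tl_c_t tl_e_t tl_g_t tl_d_t tl_c_t tl_e_t tl_f_t tl_d_t) (@D3.rec (fun _ => (Gen × Bool)) tl_b_t tl_d_t tl_e_t tl_b_t tl_d_t tl_e_t tl_f_t tl_g_t tl_g_t tl_f_t tl_g_t tl_d_t tl_f_t tl_g_t tl_d_t tl_f_t tl_f_t tl_d_t tl_c_t tl_e_t tl_d_t) (@D3.rec (fun _ => (Gen × Bool)) tl_f_t tl_g_t tl_d_t tl_d_t tl_c_t tl_e_t tl_g_t tl_c_t tl_e_t tl_f_t tl_b_t tl_d_t tl_e_t tl_g_t tl_d_t tl_c_t tl_e_t tl_b_t tl_d_t tl_e_t tl_f_t) (@D3.rec (fun _ => (Gen × Bool)) tl_d_t tl_c_t tl_e_t tl_f_t tl_g_t tl_d_t tl_g_t tl_c_t tl_d_t tl_c_t tl_d_t tl_b_t tl_d_t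 tl_e_t tl_b_t tl_d_t tl_e_t tl_a_t tl_d_t tl_e_t tl_c_t) (@D3.rec (fun _ => (Gen × Bool)) tl_e_t tl_f_t tl_g_t tl_d_t tl_a_t tl_d_t tl_e_t tl_f_t tl_d_t tl_c_t tl_e_t tl_f_t tl_g_t tl_f_t tl_g_t tl_d_t tl_d_t tl_d_t tl_e_t tl_f_t tl_d_t) (@D3.rec (fun _ => (Gen × Bool)) tl_f_t tl_g_t tl_f_t tl_g_t tl_c_t tl_e_t tl_f_t tl_d_t tl_d_t tl_d_t tl_d_t tl_d_t tl_f_t tl_d_t tl_d_t tl_f_t tl_d_t tl_e_t tl_d_t tl_c_t tl_f_t) (@D3.rec (fun _ => (Gen × Bool)) tl_f_t tl_g_t tl_d_t tl_d_t tl_c_t tl_g_t tl_e_t tl_f_t tl_e_t tl_f_t tl_d_t tl_d_t tl_c_t tl_e_t tl_g_t tl_g_t tl_d_t tl_f_t tl_d_t tl_d_t tl_d_t) (@D3.rec (fun _ => (Gen × Bool)) tl_e_t tl_d_t tl_f_t tl_d_t tl_d_t tl_d_t tl_c_t tl_e_t tl_g_t tl_d_t tl_d_t tl_d_t tl_d_t tl_c_t tl_f_t tl_g_t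 tl_d_t tl_c_t tl_e_t tl_f_t tl_d_t) (@D3.rec (fun _ => (Gen × Bool)) tl_g_t tl_d_t tl_d_t tl_c_t tl_g_t tl_c_t tl_f_t tl_e_t tl_f_t tl_c_t tl_e_t tl_g_t tl_d_t tl_e_t tl_f_t tl_d_t tl_d_t tl_f_t tl_g_t tl_d_t tl_d_t) (@D3.rec (fun _ => (Gen × Bool)) tl_f_t tl_g_t tl_d_t tl_f_t tl_g_t tl_d_t tl_g_t tl_d_t tl_f_t tl_d_t tl_c_t tl_e_t tl_g_t tl_c_t tl_f_t tl_d_t tl_c_t tl_e_t tl_g_t tl_d_t tl_c_t) (@D3.rec (fun _ => (Gen × Bool)) tl_e_t tl_b_t tl_e_t tl_g_t tl_f_t tl_e_t tl_b_t tl_d_t tl_f_t tl_g_t tl_d_t tl_c_t tl_f_t tl_b_t tl_b_t tl_g_t tl_f_t tl_g_t tl_b_t tl_d_t tl_e_t) (@D3.rec (fun _ => (Gen × Bool)) tl_g_t tl_g_t tl_f_t tl_e_t tl_c_t tl_e_t tl_f_t tl_e_t tl_g_t tl_b_t tl_e_t tl_f_t tl_g_t tl_g_t tl_b_t tl_b_t tl_d_t tl_e_t tl_g_t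 tl_d_t tl_e_t) (@D3.rec (fun _ => (Gen × Bool)) tl_a_t tl_d_t tl_e_t tl_g_t tl_e_t tl_f_t tl_g_t tl_d_t tl_g_t tl_d_t tl_d_t tl_c_t tl_e_t tl_f_t tl_d_t tl_d_t tl_e_t tl_f_t tl_d_t tl_d_t tl_c_t) (@D3.rec (fun _ => (Gen × Bool)) tl_e_t tl_g_t tl_d_t tl_d_t tl_e_t tl_g_t tl_d_t tl_c_t tl_e_t tl_f_t tl_g_t tl_d_t tl_c_t tl_e_t tl_f_t tl_g_t tl_f_t tl_c_t tl_e_t tl_f_t tl_d_t)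
def plet_4 : D2 → D3 → (Gen × Bool) := @D2.rec (fun _ => D3 → (Gen × Bool)) (@D3.rec (fun _ => (Gen × Bool)) tl_d_t tl_d_t tl_d_t tl_d_t tl_d_t tl_d_t tl_g_t tl_c_t tl_e_t tl_f_t tl_g_t tl_d_t tl_d_t tl_c_t tl_e_t tl_f_t tl_g_t tl_d_t tl_g_t tl_c_t tl_e_t) (@D3.rec (fun _ => (Gen × Bool)) tl_f_t tl_d_t tl_g_t tl_b_t tl_e_t tl_g_t tl_d_t tl_f_t tl_g_t tl_g_t tl_f_t tl_c_t tl_f_t tl_g_t tl_d_t tl_e_t tl_d_t tl_d_t tl_c_t tl_e_t tl_e_t) (@D3.rec (fun _ => (Gen × Bool)) tl_f_t tl_d_t tl_d_t tl_e_t tl_g_t tl_d_t tl_d_t tl_f_t tl_f_t tl_c_t tl_f_t tl_g_t tl_c_t tl_e_t tl_d_t tl_d_t tl_c_t tl_c_t tl_e_t tl_f_t tl_d_t) (@D3.rec (fun _ => (Gen × Bool)) tl_c_t tl_e_t tl_f_t tl_d_t tl_b_t tl_d_t tl_e_t tl_f_t tl_g_t tl_d_t tl_f_t tl_g_t tl_g_t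 tl_c_t tl_f_t tl_g_t tl_d_t tl_c_t tl_e_t tl_f_t tl_g_t) (@D3.rec (fun _ => (Gen × Bool)) tl_b_t tl_d_t tl_e_t tl_f_t tl_g_t tl_f_t tl_g_t tl_g_t tl_f_t tl_e_t tl_g_t tl_g_t tl_d_t tl_d_t tl_c_t tl_e_t tl_b_t tl_d_t tl_e_t tl_f_t tl_g_t) (@D3.rec (fun _ => (Gen × Bool)) tl_e_t tl_g_t tl_c_t tl_c_t tl_f_t tl_d_t tl_c_t tl_g_t tl_c_t tl_e_t tl_f_t tl_c_t tl_e_t tl_f_t tl_c_t tl_e_t tl_g_t tl_g_t tl_d_t tl_c_t tl_e_t) (@D3.rec (fun _ => (Gen × Bool)) tl_f_t tl_c_t tl_e_t tl_f_t tl_d_t tl_d_t tl_d_t tl_c_t tl_d_t tl_d_t tl_b_t tl_e_t tl_b_t tl_d_t tl_e_t tl_c_t tl_e_t tl_g_t tl_c_t tl_e_t tl_f_t) (@D3.rec (fun _ => (Gen × Bool)) tl_b_t tl_d_t tl_e_t tl_g_t tl_d_t tl_e_t tl_b_t tl_d_t tl_e_t tl_f_t tl_d_t tl_c_t tl_e_t tl_a_t tl_d_t tl_e_t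 tl_e_t tl_f_t tl_g_t tl_d_t tl_a_t) (@D3.rec (fun _ => (Gen × Bool)) tl_d_t tl_e_t tl_d_t tl_d_t tl_d_t tl_d_t tl_f_t tl_d_t tl_c_t tl_d_t tl_d_t tl_c_t tl_e_t tl_d_t tl_e_t tl_d_t tl_c_t tl_c_t tl_b_t tl_d_t tl_e_t) (@D3.rec (fun _ => (Gen × Bool)) tl_a_t tl_d_t tl_e_t tl_c_t tl_e_t tl_f_t tl_g_t tl_c_t tl_b_t tl_e_t tl_d_t tl_c_t tl_f_t tl_c_t tl_c_t tl_e_t tl_b_t tl_c_t tl_d_t tl_e_t tl_g_t) (@D3.rec (fun _ => (Gen × Bool)) tl_d_t tl_d_t tl_c_t tl_e_t tl_f_t tl_d_t tl_d_t tl_c_t tl_e_t tl_g_t tl_d_t tl_e_t tl_g_t tl_d_t tl_g_t tl_g_t tl_f_t tl_d_t tl_c_t tl_f_t tl_d_t) (@D3.rec (fun _ => (Gen × Bool)) tl_c_t tl_f_t tl_b_t tl_d_t tl_e_t tl_g_t tl_f_t tl_g_t tl_f_t tl_d_t tl_c_t tl_c_t tl_e_t tl_e_t tl_d_t tl_d_t tl_d_t tl_d_t tl_g_t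 tl_c_t tl_g_t) (@D3.rec (fun _ => (Gen × Bool)) tl_d_t tl_c_t tl_d_t tl_e_t tl_e_t tl_b_t tl_f_t tl_f_t tl_c_t tl_f_t tl_c_t tl_e_t tl_g_t tl_b_t tl_d_t tl_e_t tl_g_t tl_g_t tl_f_t tl_e_t tl_f_t) (@D3.rec (fun _ => (Gen × Bool)) tl_e_t tl_c_t tl_e_t tl_d_t tl_c_t tl_f_t tl_d_t tl_c_t tl_e_t tl_f_t tl_c_t tl_e_t tl_g_t tl_d_t tl_e_t tl_g_t tl_d_t tl_d_t tl_c_t tl_f_t tl_g_t)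
def plet_5 : D2 → D3 → (Gen × Bool) := @D2.rec (fun _ => D3 → (Gen × Bool)) (@D3.rec (fun _ => (Gen × Bool)) tl_c_t tl_e_t tl_c_t tl_f_t tl_c_t tl_g_t tl_d_t tl_f_t tl_b_t tl_e_t tl_f_t tl_c_t tl_g_t tl_c_t tl_b_t tl_g_t tl_b_t tl_d_t tl_b_t tl_g_t tl_c_t) (@D3.rec (fun _ => (Gen × Bool)) tl_e_t tl_f_t tl_f_t tl_d_t tl_g_t tl_f_t tl_c_t tl_e_t tl_g_t tl_c_t tl_d_t tl_c_t tl_e_t tl_c_t tl_b_t tl_d_t tl_e_t tl_g_t tl_b_t tl_d_t tl_d_t) (@D3.rec (fun _ => (Gen × Bool)) tl_c_t tl_e_t tl_b_t tl_d_t tl_e_t tl_d_t tl_c_t tl_e_t tl_f_t tl_d_t tl_e_t tl_g_t tl_b_t tl_d_t tl_a_t tl_e_t tl_g_t tl_g_t tl_d_t tl_f_t tl_f_t) (@D3.rec (fun _ => (Gen × Bool)) tl_f_t tl_g_t tl_f_t tl_a_t tl_d_t tl_d_t tl_d_t tl_g_t tl_e_t tl_f_t tl_g_t tl_d_t tl_d_t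 tl_g_t tl_e_t tl_f_t tl_d_t tl_g_t tl_d_t tl_f_t tl_g_t) (@D3.rec (fun _ => (Gen × Bool)) tl_f_t tl_c_t tl_f_t tl_g_t tl_d_t tl_e_t tl_e_t tl_d_t tl_c_t tl_e_t tl_d_t tl_d_t tl_c_t tl_e_t tl_f_t tl_d_t tl_b_t tl_e_t tl_f_t tl_g_t tl_f_t) (@D3.rec (fun _ => (Gen × Bool)) tl_g_t tl_g_t tl_b_t tl_e_t tl_f_t tl_g_t tl_f_t tl_g_t tl_g_t tl_f_t tl_d_t tl_b_t tl_e_t tl_f_t tl_c_t tl_c_t tl_c_t tl_g_t tl_c_t tl_f_t tl_c_t) (@D3.rec (fun _ => (Gen × Bool)) tl_e_t tl_f_t tl_c_t tl_e_t tl_f_t tl_d_t tl_b_t tl_e_t tl_f_t tl_f_t tl_g_t tl_g_t tl_d_t tl_f_t tl_c_t tl_g_t tl_b_t tl_e_t tl_f_t tl_g_t tl_f_t) (@D3.rec (fun _ => (Gen × Bool)) tl_f_t tl_f_t tl_f_t tl_d_t tl_f_t tl_c_t tl_f_t tl_d_t tl_d_t tl_d_t tl_c_t tl_f_t tl_g_t tl_d_t tl_b_t tl_d_t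 tl_f_t tl_g_t tl_f_t tl_f_t tl_b_t) (@D3.rec (fun _ => (Gen × Bool)) tl_d_t tl_d_t tl_c_t tl_g_t tl_c_t tl_e_t tl_d_t tl_c_t tl_c_t tl_f_t tl_b_t tl_d_t tl_f_t tl_f_t tl_b_t tl_e_t tl_c_t tl_f_t tl_g_t tl_c_t tl_b_t) (@D3.rec (fun _ => (Gen × Bool)) tl_d_t tl_e_t tl_f_t tl_d_t tl_f_t tl_g_t tl_d_t tl_a_t tl_d_t tl_e_t tl_f_t tl_e_t tl_f_t tl_g_t tl_d_t tl_f_t tl_g_t tl_d_t tl_d_t tl_c_t tl_g_t) (@D3.rec (fun _ => (Gen × Bool)) tl_b_t tl_f_t tl_g_t tl_b_t tl_e_t tl_f_t tl_g_t tl_f_t tl_g_t tl_g_t tl_f_t tl_a_t tl_d_t tl_f_t tl_g_t tl_f_t tl_d_t tl_d_t tl_d_t tl_c_t tl_g_t) (@D3.rec (fun _ => (Gen × Bool)) tl_c_t tl_e_t tl_d_t tl_e_t tl_e_t tl_f_t tl_d_t tl_d_t tl_d_t tl_b_t tl_c_t tl_f_t tl_b_t tl_g_t tl_d_t tl_e_t tl_f_t tl_f_t tl_b_t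 tl_d_t tl_g_t) (@D3.rec (fun _ => (Gen × Bool)) tl_g_t tl_c_t tl_g_t tl_b_t tl_e_t tl_f_t tl_d_t tl_c_t tl_e_t tl_c_t tl_b_t tl_d_t tl_d_t tl_b_t tl_e_t tl_a_t tl_d_t tl_e_t tl_e_t tl_f_t tl_f_t) (@D3.rec (fun _ => (Gen × Bool)) tl_c_t tl_d_t tl_e_t tl_f_t tl_g_t tl_d_t tl_g_t tl_f_t tl_c_t tl_d_t tl_c_t tl_c_t tl_c_t tl_c_t tl_d_t tl_c_t tl_b_t tl_e_t tl_c_t tl_e_t tl_e_t)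
def plet_6 : D2 → D3 → (Gen × Bool) := @D2.rec (fun _ => D3 → (Gen × Bool)) (@D3.rec (fun _ => (Gen × Bool)) tl_b_t tl_a_t tl_d_t tl_e_t tl_e_t tl_d_t tl_c_t tl_f_t tl_g_t tl_d_t tl_g_t tl_e_t tl_f_t tl_b_t tl_e_t tl_b_t tl_c_t tl_e_t tl_g_t tl_c_t tl_b_t) (@D3.rec (fun _ => (Gen × Bool)) tl_e_t tl_f_t tl_g_t tl_g_t tl_g_t tl_f_t tl_c_t tl_d_t tl_f_t tl_c_t tl_b_t tl_d_t tl_a_t tl_d_t tl_g_t tl_d_t tl_d_t tl_c_t tl_f_t tl_b_t tl_b_t) (@D3.rec (fun _ => (Gen × Bool)) tl_d_t tl_e_t tl_c_t tl_f_t tl_g_t tl_d_t tl_g_t tl_c_t tl_b_t tl_f_t tl_b_t tl_a_t tl_e_t tl_g_t tl_g_t tl_d_t tl_d_t tl_e_t tl_f_t tl_b_t tl_g_t) (@D3.rec (fun _ => (Gen × Bool)) tl_e_t tl_d_t tl_c_t tl_f_t tl_c_t tl_g_t tl_f_t tl_b_t tl_d_t tl_b_t tl_e_t tl_f_t tl_d_t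 tl_d_t tl_d_t tl_d_t tl_g_t tl_d_t tl_e_t tl_f_t tl_f_t) (@D3.rec (fun _ => (Gen × Bool)) tl_g_t tl_d_t tl_g_t tl_d_t tl_c_t tl_b_t tl_e_t tl_e_t tl_d_t tl_d_t tl_c_t tl_e_t tl_f_t tl_b_t tl_e_t tl_d_t tl_b_t tl_e_t tl_g_t tl_d_t tl_f_t) (@D3.rec (fun _ => (Gen × Bool)) tl_c_t tl_f_t tl_c_t tl_e_t tl_f_t tl_g_t tl_d_t tl_f_t tl_g_t tl_g_t tl_d_t tl_f_t tl_e_t tl_f_t tl_d_t tl_f_t tl_c_t tl_f_t tl_g_t tl_c_t tl_g_t) (@D3.rec (fun _ => (Gen × Bool)) tl_b_t tl_d_t tl_f_t tl_g_t tl_g_t tl_f_t tl_f_t tl_c_t tl_b_t tl_f_t tl_c_t tl_b_t tl_f_t tl_g_t tl_e_t tl_g_t tl_d_t tl_f_t tl_g_t tl_d_t tl_a_t) (@D3.rec (fun _ => (Gen × Bool)) tl_f_t tl_g_t tl_d_t tl_d_t tl_c_t tl_b_t tl_g_t tl_d_t tl_f_t tl_e_t tl_d_t tl_e_t tl_f_t tl_f_t tl_g_t tl_c_t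 tl_e_t tl_f_t tl_f_t tl_d_t tl_g_t) (@D3.rec (fun _ => (Gen × Bool)) tl_d_t tl_b_t tl_a_t tl_e_t tl_f_t tl_f_t tl_f_t tl_d_t tl_c_t tl_f_t tl_f_t tl_g_t tl_f_t tl_b_t tl_f_t tl_d_t tl_f_t tl_d_t tl_g_t tl_d_t tl_c_t) (@D3.rec (fun _ => (Gen × Bool)) tl_b_t tl_c_t tl_b_t tl_b_t tl_a_t tl_f_t tl_f_t tl_d_t tl_e_t tl_f_t tl_g_t tl_f_t tl_b_t tl_g_t tl_f_t tl_d_t tl_d_t tl_g_t tl_f_t tl_c_t tl_e_t) (@D3.rec (fun _ => (Gen × Bool)) tl_g_t tl_g_t tl_a_t tl_f_t tl_g_t tl_f_t tl_d_t tl_c_t tl_f_t tl_c_t tl_g_t tl_f_t tl_b_t tl_g_t tl_b_t tl_d_t tl_f_t tl_g_t tl_f_t tl_g_t tl_g_t) (@D3.rec (fun _ => (Gen × Bool)) tl_d_t tl_b_t tl_b_t tl_e_t tl_b_t tl_e_t tl_f_t tl_g_t tl_f_t tl_c_t tl_b_t tl_b_t tl_d_t tl_c_t tl_a_t tl_e_t tl_e_t tl_g_t tl_f_t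 tl_a_t tl_e_t) (@D3.rec (fun _ => (Gen × Bool)) tl_b_t tl_a_t tl_e_t tl_b_t tl_a_t tl_c_t tl_e_t tl_b_t tl_f_t tl_g_t tl_d_t tl_b_t tl_d_t tl_c_t tl_d_t tl_d_t tl_f_t tl_c_t tl_b_t tl_b_t tl_c_t) (@D3.rec (fun _ => (Gen × Bool)) tl_f_t tl_f_t tl_g_t tl_d_t tl_f_t tl_f_t tl_f_t tl_b_t tl_c_t tl_f_t tl_b_t tl_g_t tl_c_t tl_d_t tl_f_t tl_f_t tl_b_t tl_f_t tl_d_t tl_g_t tl_b_t)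
def plet : Pt → (Gen × Bool) := @Pt.rec (fun _ => (Gen × Bool)) (@D1.rec (fun _ => D2 → D3 → (Gen × Bool)) plet_0 plet_1 plet_2 plet_3 plet_4 plet_5 plet_6)

theorem tree_chk : chkTree fwd inv allPts o plet idx beqPt = true := by decide +kernel

end

end Cfsg.Agent.Helper28.S1683
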